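import Mathlib

set_option autoImplicit false

namespace Cfsg.Agent.Lib.Helper72

/-- class size = index of the centralizer -/
theorem ncard_carrier_eq_index_centralizer {G : Type*} [Group G] (x : G) :
    (ConjClasses.mk x).carrier.ncard = (Subgroup.centralizer ({x} : Set G)).index := by
  rw [← ConjAct.orbit_eq_carrier_conjClasses, ← MulAction.index_stabilizer,
    Subgroup.centralizer_eq_comap_stabilizer]
  exact (Subgroup.index_comap_of_surjective _ (ConjAct.toConjAct (G := G)).surjective).symm

/-- Jordan: a transitive action of a finite group in which every element has a fixed point is on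
a subsingleton. -/
theorem subsingleton_of_forall_exists_fixed {G X : Type*} [Group G] [Finite G] [MulAction G X]
    [Finite X] [MulAction.IsPretransitive G X] (h : ∀ g : G, ∃ x : X, g • x = x) :
    Subsingleton X := by
  classical
  have : Fintype G := Fintype.ofFinite G
  have : Fintype X := Fintype.ofFinite X
  have : Fintype (Quotient (MulAction.orbitRel G X)) := Fintype.ofFinite _
  have hB := MulAction.sum_card_fixedBy_eq_card_orbits_mul_card_group G X
  have hΩ : Fintype.card (Quotient (MulAction.orbitRel G X)) ≤ 1 := by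
    rw [Fintype.card_le_one_iff_subsingleton]
    constructor
    intro a b
    induction a using Quotient.inductionOn with
    | _ a =>
      induction b using Quotient.inductionOn with
      | _ b =>
        apply Quotient.sound
        obtain ⟨g, hg⟩ := MulAction.exists_smul_eq G b a
        exact ⟨g, hg⟩
  have h1 : ∀ g : G, 1 ≤ Fintype.card (MulAction.fixedBy X g) := by
    intro g
    obtain ⟨x, hx⟩ := h g
    exact Fintype.card_pos_iff.mpr ⟨⟨x, hx⟩⟩
  have hone : Fintype.card (MulAction.fixedBy X (1 : G)) = Fintype.card X := by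
    apply Fintype.card_congr
    exact (Equiv.subtypeUnivEquiv (fun x => by simp))
  have hsum : Fintype.card X + (Fintype.card G - 1) ≤
      ∑ g : G, Fintype.card (MulAction.fixedBy X g) := by
    rw [← Finset.add_sum_erase Finset.univ _ (Finset.mem_univ (1 : G)), hone]
    apply Nat.add_le_add_left
    have : (Finset.univ.erase (1 : G)).card = Fintype.card G - 1 := by
      rw [Finset.card_erase_of_mem (Finset.mem_univ _), Finset.card_univ]
    rw [← this]
    have := Finset.card_nsmul_le_sum (Finset.univ.erase (1 : G))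
      (fun g => Fintype.card (MulAction.fixedBy X g)) 1 (fun g _ => h1 g)
    simpa using this
  have hG : 0 < Fintype.card G := Fintype.card_pos
  have : Fintype.card X ≤ 1 := by
    have h2 : Fintype.card (Quotient (MulAction.orbitRel G X)) * Fintype.card G ≤ Fintype.card G := by
      calc _ ≤ 1 * Fintype.card G := Nat.mul_le_mul_right _ hΩ
        _ = _ := one_mul _
    omega
  exact Fintype.card_le_one_iff_subsingleton.mp this

/-- decomposition of an element of a finite group into commuting `p'`-part and `p`-part -/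
theorem exists_coprime_part_decomp {G : Type*} [Group G] [Finite G] (p : ℕ) [hp : Fact p.Prime]
    (g : G) : ∃ y u : G, g = y * u ∧ y ∈ Subgroup.zpowers g ∧ u ∈ Subgroup.zpowers g ∧
      (orderOf y).Coprime p ∧ ∃ k : ℕ, u ^ (p ^ k) = 1 := by
  have hn : orderOf g ≠ 0 := (orderOf_pos g).ne'
  obtain ⟨k, m, hm, hkm⟩ := Nat.exists_eq_pow_mul_and_not_dvd hn p hp.out.ne_one
  have hcop : IsCoprime ((p ^ k : ℕ) : ℤ) (m : ℤ) := by
    rw [Nat.isCoprime_iff_coprime]
    exact Nat.Coprime.pow_left k ((Nat.Prime.coprime_iff_not_dvd hp.out).mpr hm)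
  obtain ⟨a, b, hab⟩ := hcop
  refine ⟨g ^ (a * (p ^ k : ℕ)), g ^ (b * (m : ℤ)), ?_, ⟨_, rfl⟩, ⟨_, rfl⟩, ?_, k, ?_⟩
  · rw [← zpow_add, hab, zpow_one]
  · have h1 : (g ^ (a * ((p ^ k : ℕ) : ℤ))) ^ m = 1 := by
      rw [← zpow_natCast, ← zpow_mul]
      have : a * ((p ^ k : ℕ) : ℤ) * (m : ℤ) = ((orderOf g : ℕ) : ℤ) * a := by
        rw [hkm]; push_cast; ring
      rw [this, zpow_mul, zpow_natCast, pow_orderOf_eq_one, one_zpow]
    have hdvd : orderOf (g ^ (a * ((p ^ k : ℕ) : ℤ))) ∣ m := orderOf_dvd_of_pow_eq_one h1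
    exact Nat.Coprime.coprime_dvd_left hdvd
      ((Nat.Prime.coprime_iff_not_dvd hp.out).mpr hm).symm
  · rw [← zpow_natCast, ← zpow_mul]
    have : b * (m : ℤ) * ((p ^ k : ℕ) : ℤ) = ((orderOf g : ℕ) : ℤ) * b := by
      rw [hkm]; push_cast; ring
    rw [this, zpow_mul, zpow_natCast, pow_orderOf_eq_one, one_zpow]

/-- If the centralizer of `y` has index prime to `p` and `u` is a `p`-element centralizing `y`,
then some Sylow `p`-subgroup contains `u` and is centralized by `y`. -/
theorem exists_sylow_le_centralizer {G : Type*} [Group G] [Finite G] {p : ℕ} [hp : Fact p.Prime]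
    (y u : G) (hidx : ¬ p ∣ (Subgroup.centralizer ({y} : Set G)).index)
    (hu : u ∈ Subgroup.centralizer ({y} : Set G)) (hpu : ∃ k : ℕ, u ^ (p ^ k) = 1) :
    ∃ Q : Sylow p G, u ∈ Q ∧ (Q : Subgroup G) ≤ Subgroup.centralizer ({y} : Set G) := by
  set C := Subgroup.centralizer ({y} : Set G) with hC
  let u' : C := ⟨u, hu⟩
  have hpu' : IsPGroup p (Subgroup.zpowers u') := by
    obtain ⟨k, hk⟩ := hpu
    rintro ⟨g, hg⟩
    obtain ⟨j, rfl⟩ := Subgroup.mem_zpowers_iff.mp hg
    refine ⟨k, ?_⟩
    apply Subtype.ext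
    apply Subtype.ext
    simp only [Subgroup.coe_pow, Subgroup.coe_zpow, Subgroup.coe_one, u']
    rw [← zpow_natCast, ← zpow_mul, mul_comm, zpow_mul, zpow_natCast, hk, one_zpow]
  obtain ⟨Q₀, hQ₀⟩ := hpu'.exists_le_sylow
  have hidx2 : ¬ p ∣ ((Q₀ : Subgroup C).map C.subtype).index := by
    rw [Subgroup.index_map_subtype]
    exact Nat.Prime.not_dvd_mul hp.out Q₀.not_dvd_index hidx
  refine ⟨(Q₀.2.map C.subtype).toSylow hidx2, ?_, ?_⟩
  · rw [IsPGroup.mem_toSylow]
    exact ⟨u', hQ₀ (Subgroup.mem_zpowers u'), rfl⟩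
  · intro x hx
    have hx' : x ∈ (Q₀ : Subgroup C).map C.subtype := hx
    obtain ⟨x', -, rfl⟩ := hx'
    exact x'.2

end Cfsg.Agent.Lib.Helper72
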