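import Mathlib

set_option autoImplicit false

namespace Cfsg.Agent.Lib.Helper72

open scoped commutatorElement

/-- If `P / N` is an elementary abelian `p`-group then the Frattini subgroup lies in `N`. -/
theorem frattini_le_of_elementary_quotient {P : Type*} [Group P] [Finite P] (p : ℕ)
    [hp : Fact p.Prime] (N : Subgroup P) (hpow : ∀ x : P, x ^ p ∈ N)
    (hcomm : ∀ x y : P, ⁅x, y⁆ ∈ N) : frattini P ≤ N := by
  intro x hx
  by_contra hxN
  -- any subgroup containing N is normal
  have hnormal : ∀ M : Subgroup P, N ≤ M → M.Normal := by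
    intro M hM
    constructor
    intro n hn g
    have : g * n * g⁻¹ = ⁅g, n⁆ * n := by rw [commutatorElement_def]; group
    rw [this]
    exact M.mul_mem (hM (hcomm g n)) hn
  obtain ⟨M, ⟨hNM, hxM⟩, hmax⟩ := Set.Finite.exists_maximal
    (s := {M : Subgroup P | N ≤ M ∧ x ∉ M}) (Set.toFinite _) ⟨N, le_refl N, hxN⟩
  have hMn : M.Normal := hnormal M hNM
  have hco : IsCoatom M := by
    refine ⟨fun h => hxM (h ▸ Subgroup.mem_top x), ?_⟩
    intro K hMK
    have hxK : x ∈ K := by
      by_contra hxK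
      exact (lt_irrefl M) (lt_of_lt_of_le hMK (hmax ⟨hNM.trans hMK.le, hxK⟩ hMK.le))
    rw [eq_top_iff]
    intro y _
    by_cases hyM : y ∈ M
    · exact hMK.le hyM
    · have hlt : M < M ⊔ Subgroup.zpowers y := by
        apply lt_of_le_of_ne le_sup_left
        intro heq
        apply hyM
        rw [heq]
        exact Subgroup.mem_sup_right (Subgroup.mem_zpowers y)
      have hxs : x ∈ M ⊔ Subgroup.zpowers y := by
        by_contra hxs
        exact (lt_irrefl M) (lt_of_lt_of_le hlt (hmax ⟨hNM.trans hlt.le, hxs⟩ hlt.le))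
      have hxs' : x ∈ ((M ⊔ Subgroup.zpowers y : Subgroup P) : Set P) := hxs
      rw [Subgroup.normal_mul, Set.mem_mul] at hxs'
      obtain ⟨m, hm, z, hz, hmz⟩ := hxs'
      obtain ⟨i, rfl⟩ := Subgroup.mem_zpowers_iff.mp hz
      have hyiK : y ^ i ∈ K := by
        have : y ^ i = m⁻¹ * x := by rw [← hmz]; group
        rw [this]
        exact K.mul_mem (K.inv_mem (hMK.le hm)) hxK
      have hypK : y ^ p ∈ K := hMK.le (hNM (hpow y))
      -- p does not divide i
      have hpi : ¬ (p : ℤ) ∣ i := by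
        rintro ⟨j, rfl⟩
        apply hxM
        rw [← hmz]
        apply M.mul_mem hm
        rw [zpow_mul, zpow_natCast]
        exact M.zpow_mem (hNM (hpow y)) j
      have hcop : IsCoprime (p : ℤ) i := by
        rw [Prime.coprime_iff_not_dvd (Nat.prime_iff_prime_int.mp hp.out)]
        exact hpi
      obtain ⟨a, b, hab⟩ := hcop
      have : y = (y ^ p) ^ a * (y ^ i) ^ b := by
        rw [← zpow_natCast, ← zpow_mul, ← zpow_mul, ← zpow_add, mul_comm (p : ℤ) a, mul_comm i b,
          hab, zpow_one]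
      rw [this]
      exact K.mul_mem (K.zpow_mem hypK a) (K.zpow_mem hyiK b)
  exact hxM (frattini_le_coatom hco hx)

/-- `p = 2`: squares in `N` and `N` normal suffice. -/
theorem frattini_le_of_sq_mem {P : Type*} [Group P] [Finite P] (N : Subgroup P) [hN : N.Normal]
    (hsq : ∀ x : P, x ^ 2 ∈ N) : frattini P ≤ N := by
  have : Fact (Nat.Prime 2) := ⟨Nat.prime_two⟩
  apply frattini_le_of_elementary_quotient 2 N hsq
  intro x y
  have : ⁅x, y⁆ = (x * y) ^ 2 * (y⁻¹ * (x ^ 2)⁻¹ * y⁻¹⁻¹) * (y ^ 2)⁻¹ := by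
    rw [commutatorElement_def, pow_two, pow_two, pow_two]; group
  rw [this]
  exact N.mul_mem (N.mul_mem (hsq _) (hN.conj_mem _ (N.inv_mem (hsq x)) _)) (N.inv_mem (hsq y))

end Cfsg.Agent.Lib.Helper72
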