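import Mathlib
import Cfsg.Prelude.Def_PLocal
import Cfsg.Prelude.Def_OddOrderLocal
import Cfsg.Agent.Lib.Helper68.HPFormula
import Cfsg.Agent.Lib.Helper68.MetaExists
import Cfsg.Agent.Lib.Helper68.MetaFrat
import Cfsg.Agent.Lib.Helper75.RegularLevel

/-! Finite `p`-groups (`p` odd) with cyclic derived subgroup are regular at level one; consequences
for metacyclic `p`-groups. -/

set_option autoImplicit false
set_option linter.style.haveILetI false

namespace Cfsg.Agent.Lib.Helper72

open scoped commutatorElement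

universe u

/-- In a finite `p`-group with cyclic derived subgroup, `[G', G] ≤ ℧₁(G')`. -/
theorem comm_commutator_le_powerClosure {G : Type*} [Group G] [Finite G] {p : ℕ} [hp : Fact p.Prime]
    (hG : IsPGroup p G) (hc : IsCyclic (commutator G)) :
    ⁅commutator G, (⊤ : Subgroup G)⁆ ≤ Cfsg.powerClosure p 1 (commutator G) := by
  obtain ⟨⟨c, hcG⟩, hgen⟩ := hc.exists_generator
  have hall : ∀ x ∈ commutator G, ∃ j : ℕ, c ^ j = x := by
    intro x hx
    have h1 := hgen ⟨x, hx⟩
    have h2 : x ∈ Subgroup.zpowers c := by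
      obtain ⟨k, hk⟩ := Subgroup.mem_zpowers_iff.mp h1
      have := congrArg Subtype.val hk
      simp only [Subgroup.coe_zpow] at this
      exact Subgroup.mem_zpowers_iff.mpr ⟨k, this⟩
    exact Cfsg.Agent.Lib.Helper68.MC.exists_nat_pow_of_mem_zpowers h2
  rw [Subgroup.commutator_le]
  intro x hx h _
  obtain ⟨j, rfl⟩ := hall x hx
  by_cases hc1 : c = 1
  · subst hc1
    simp only [one_pow, commutatorElement_def, one_mul, inv_one, mul_one, mul_inv_cancel]
    exact Subgroup.one_mem _
  have hconjmem : h * c * h⁻¹ ∈ commutator G := by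
    have : (commutator G).Normal := inferInstance
    exact this.conj_mem c hcG h
  obtain ⟨k, hk⟩ := hall _ hconjmem
  have hk1 : 1 ≤ k := by
    rcases Nat.eq_zero_or_pos k with rfl | hpos
    · exfalso
      rw [pow_zero] at hk
      apply hc1
      have : h * c * h⁻¹ = 1 := hk.symm
      have h2 : c = h⁻¹ * (h * c * h⁻¹) * h := by group
      rw [h2, this]; group
    · exact hpos
  -- `p ∣ k - 1`
  obtain ⟨e, he⟩ := hG h
  have hconj := Cfsg.Agent.Lib.Helper68.MC.conj_pow_pow hk.symm (p ^ e) 1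
  rw [he, pow_one, one_mul, inv_one, mul_one, one_mul] at hconj
  have hce : c ^ (k ^ p ^ e - 1) = 1 := by
    have h1 : 1 ≤ k ^ p ^ e := Nat.one_le_pow _ _ hk1
    have h2 : c ^ (k ^ p ^ e) = c := hconj.symm
    have h3 : c ^ (k ^ p ^ e - 1) * c = c := by
      rw [← pow_succ, Nat.sub_add_cancel h1, h2]
    exact mul_eq_right.mp h3
  have hpc : p ∣ orderOf c := by
    obtain ⟨t, ht⟩ := hG c
    have h1 : orderOf c ∣ p ^ t := orderOf_dvd_of_pow_eq_one ht
    obtain ⟨s, hs, hs'⟩ := (Nat.dvd_prime_pow hp.out).mp h1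
    rcases Nat.eq_zero_or_pos s with rfl | hspos
    · exfalso; apply hc1
      rw [pow_zero] at hs'
      exact orderOf_eq_one_iff.mp hs'
    · rw [hs']
      exact dvd_pow_self p hspos.ne'
  have hpk : p ∣ k - 1 := by
    apply Cfsg.Agent.Lib.Helper68.MC.dvd_sub_one_of_pow_pow hk1 (f := e)
    exact dvd_trans hpc (orderOf_dvd_of_pow_eq_one hce)
  obtain ⟨w, hw⟩ := hpk
  have hkw : k = 1 + p * w := by omega
  -- compute the commutator
  have hconj2 := Cfsg.Agent.Lib.Helper68.MC.conj_pow_pow hk.symm 1 j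
  rw [pow_one, pow_one] at hconj2
  have hcomm : ⁅c ^ j, h⁆ = ((c ^ (w * j)) ^ p)⁻¹ := by
    rw [commutatorElement_def]
    have h1 : c ^ j * h * (c ^ j)⁻¹ * h⁻¹ = c ^ j * (h * c ^ j * h⁻¹)⁻¹ := by group
    rw [h1, hconj2, hkw]
    have h2 : j * (1 + p * w) = j + (w * j) * p := by ring
    rw [h2, pow_add, pow_mul (c) (w * j) p]
    group
  rw [hcomm]
  apply Subgroup.inv_mem
  apply Subgroup.subset_closure
  exact ⟨c ^ (w * j), Subgroup.pow_mem _ hcG _, by rw [pow_one]⟩

/-- Hall–Petrescu at level one in a finite `p`-group (`p` odd) with cyclic derived subgroup. -/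
theorem hp_level_one_of_cyclic_commutator {G : Type*} [Group G] [Finite G] {p : ℕ}
    [hp : Fact p.Prime] (hp2 : p ≠ 2) (hG : IsPGroup p G) (hc : IsCyclic (commutator G)) (x y : G) :
    (y ^ p)⁻¹ * (x ^ p)⁻¹ * (x * y) ^ p ∈ Cfsg.powerClosure p 1 (commutator G) := by
  have hnil : Group.IsNilpotent G := hG.isNilpotent
  obtain ⟨c, hcl⟩ := Subgroup.nilpotent_iff_lowerCentralSeries.mp hnil
  have hp3 : 3 ≤ p := by
    have := hp.out.two_le
    omega
  apply Cfsg.Agent.Lib.Helper68.HP.hall_petrescu_mem hcl x y p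
  intro i hi2 _ g hg
  have hg' : g ∈ commutator G := by
    have h1 : (⊤ : Subgroup G).lowerCentralSeries (i - 1) ≤ (⊤ : Subgroup G).lowerCentralSeries 1 :=
      Subgroup.lowerCentralSeries_antitone _ (by omega)
    have h2 := h1 hg
    rwa [Subgroup.top_lowerCentralSeries_one] at h2
  rcases lt_trichotomy i p with hlt | heq | hgt
  · obtain ⟨k, hk⟩ := hp.out.dvd_choose_self (by omega) hlt
    rw [hk, mul_comm, pow_mul]
    apply Subgroup.subset_closure
    exact ⟨g ^ k, Subgroup.pow_mem _ hg' k, by rw [pow_one]⟩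
  · subst heq
    rw [Nat.choose_self, pow_one]
    have h3 : (⊤ : Subgroup G).lowerCentralSeries (i - 1) ≤ (⊤ : Subgroup G).lowerCentralSeries 2 :=
      Subgroup.lowerCentralSeries_antitone _ (by omega)
    have h4 : (⊤ : Subgroup G).lowerCentralSeries 2 = ⁅commutator G, (⊤ : Subgroup G)⁆ := by
      rw [Subgroup.lowerCentralSeries_succ, Subgroup.top_lowerCentralSeries_one]
    exact comm_commutator_le_powerClosure hG hc (h4 ▸ h3 hg)
  · rw [Nat.choose_eq_zero_of_lt hgt, pow_zero]
    exact Subgroup.one_mem _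

/-- A finite `p`-group, `p` odd, with cyclic derived subgroup is regular at level one. -/
theorem regAt_one_of_cyclic_commutator {G : Type*} [Group G] [Finite G] {p : ℕ}
    [hp : Fact p.Prime] (hp2 : p ≠ 2) (hG : IsPGroup p G) (hc : IsCyclic (commutator G)) :
    Cfsg.Agent.Lib.Helper75.RegAt p 1 G := by
  refine ⟨hG, ?_⟩
  intro a b
  set H : Subgroup G := Subgroup.closure ({a, b} : Set G) with hH
  have ha : a ∈ H := Subgroup.subset_closure (by simp)
  have hb : b ∈ H := Subgroup.subset_closure (by simp)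
  have hcomm : (commutator ↥H).map H.subtype = ⁅H, H⁆ := by
    have h1 : H = (⊤ : Subgroup ↥H).map H.subtype := by
      rw [← MonoidHom.range_eq_map, Subgroup.range_subtype]
    rw [commutator_def, Subgroup.map_commutator, ← h1]
  -- the derived subgroup of `H` is cyclic
  have hcH : IsCyclic (commutator ↥H) := by
    have hle : ∀ z : commutator ↥H, ((z : ↥H) : G) ∈ commutator G := by
      intro z
      have h1 : ((z : ↥H) : G) ∈ (commutator ↥H).map H.subtype :=
        Subgroup.mem_map_of_mem _ z.2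
      rw [hcomm] at h1
      have h2 : ⁅H, H⁆ ≤ commutator G := by
        rw [commutator_def]
        exact Subgroup.commutator_mono le_top le_top
      exact h2 h1
    let f : commutator ↥H →* commutator G :=
      { toFun := fun z => ⟨((z : ↥H) : G), hle z⟩
        map_one' := by ext; simp
        map_mul' := by intro z w; ext; simp }
    have hf : Function.Injective f := by
      intro z w hzw
      have := congrArg Subtype.val hzw
      simp only [f, MonoidHom.coe_mk, OneHom.coe_mk] at this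
      exact Subtype.ext (Subtype.ext this)
    exact isCyclic_of_injective f hf
  have hMle : (Cfsg.powerClosure p 1 (commutator ↥H)).map H.subtype ≤ Cfsg.powerClosure p 1 ⁅H, H⁆ := by
    rw [Subgroup.map_le_iff_le_comap]
    unfold Cfsg.powerClosure
    rw [Subgroup.closure_le]
    rintro _ ⟨x, hx, rfl⟩
    apply Subgroup.subset_closure
    refine ⟨(x : G), ?_, by simp⟩
    rw [← hcomm]
    exact Subgroup.mem_map_of_mem _ hx
  let x : ↥H := ⟨a, ha⟩
  let y : ↥H := ⟨b, hb⟩
  have key := hp_level_one_of_cyclic_commutator hp2 (hG.to_subgroup H) hcH x y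
  refine ⟨((y ^ p)⁻¹ * (x ^ p)⁻¹ * (x * y) ^ p : ↥H), ?_, ?_⟩
  · exact hMle (Subgroup.mem_map_of_mem _ key)
  · simp only [x, y, Subgroup.coe_mul, Subgroup.coe_inv, Subgroup.coe_pow, pow_one]
    group

/-- The derived subgroup of a metacyclic group is cyclic. -/
theorem isCyclic_commutator_of_isMetacyclic {R : Type u} [Group R] (hm : Cfsg.IsMetacyclic R) :
    IsCyclic (commutator R) := by
  obtain ⟨N, hN, hNc, hQc⟩ := hm
  have hle : commutator R ≤ N := by
    letI : CommGroup (R ⧸ N) := IsCyclic.commGroup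
    have := Abelianization.commutator_subset_ker (QuotientGroup.mk' N)
    rwa [QuotientGroup.ker_mk'] at this
  exact isCyclic_of_injective (Subgroup.inclusion hle) (Subgroup.inclusion_injective hle)

/-- A finite metacyclic `p`-group, `p` odd, is regular at level one. -/
theorem regAt_one_of_isMetacyclic {R : Type u} [Group R] [Finite R] {p : ℕ} [hp : Fact p.Prime]
    (hp2 : p ≠ 2) (hR : IsPGroup p R) (hm : Cfsg.IsMetacyclic R) :
    Cfsg.Agent.Lib.Helper75.RegAt p 1 R :=
  regAt_one_of_cyclic_commutator hp2 hR (isCyclic_commutator_of_isMetacyclic hm)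

/-- In a finite metacyclic `p`-group, `p` odd: `x ^ p = y ^ p` implies `(x⁻¹ y) ^ p = 1`. -/
theorem pow_eq_pow_of_isMetacyclic {R : Type u} [Group R] [Finite R] {p : ℕ} [hp : Fact p.Prime]
    (hp2 : p ≠ 2) (hR : IsPGroup p R) (hm : Cfsg.IsMetacyclic R) {x y : R} (h : x ^ p = y ^ p) :
    (x⁻¹ * y) ^ p = 1 := by
  have h1 := Cfsg.Agent.Lib.Helper75.powEqIffAt_of_regAt (regAt_one_of_isMetacyclic hp2 hR hm) x y
  rw [pow_one] at h1
  exact h1.mp h

/-- In a finite metacyclic `p`-group, `p` odd, every element of the Frattini subgroup is a `p`-th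
power. -/
theorem exists_pow_eq_of_mem_frattini_of_isMetacyclic {R : Type u} [Group R] [Finite R] {p : ℕ}
    [hp : Fact p.Prime] (hp2 : p ≠ 2) (hR : IsPGroup p R) (hm : Cfsg.IsMetacyclic R) {g : R}
    (hg : g ∈ frattini R) : ∃ x : R, x ^ p = g := by
  obtain ⟨N, hN, hNc, hQc⟩ := id hm
  obtain ⟨D⟩ := Cfsg.Agent.Lib.Helper68.MC.exists_data hR N hNc hQc
  rw [D.frattini_eq_lev hR] at hg
  have hpm := Cfsg.Agent.Lib.Helper75.powMulPowAt_of_regAt (regAt_one_of_isMetacyclic hp2 hR hm)
  have h1 : Cfsg.Agent.Lib.Helper68.MC.Data.lev R p 1 = Cfsg.powerClosure p 1 (⊤ : Subgroup R) := by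
    unfold Cfsg.Agent.Lib.Helper68.MC.Data.lev Cfsg.powerClosure
    congr 1
    ext z
    constructor
    · rintro ⟨y, rfl⟩
      exact ⟨y, Subgroup.mem_top _, rfl⟩
    · rintro ⟨y, _, rfl⟩
      exact ⟨y, rfl⟩
  rw [h1, hpm.mem_powerClosure] at hg
  obtain ⟨x, _, rfl⟩ := hg
  exact ⟨x, by rw [pow_one]⟩

/-- The Frattini subgroup of a finite metacyclic `p`-group is generated by the `p`-th powers. -/
theorem frattini_eq_closure_pow_of_isMetacyclic {R : Type u} [Group R] [Finite R] {p : ℕ}
    [hp : Fact p.Prime] (hR : IsPGroup p R) (hm : Cfsg.IsMetacyclic R) :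
    frattini R = Subgroup.closure {x : R | ∃ y : R, y ^ p = x} := by
  obtain ⟨N, hN, hNc, hQc⟩ := id hm
  obtain ⟨D⟩ := Cfsg.Agent.Lib.Helper68.MC.exists_data hR N hNc hQc
  rw [D.frattini_eq_lev hR]
  unfold Cfsg.Agent.Lib.Helper68.MC.Data.lev
  simp only [pow_one]

/-- The Frattini quotient of a finite metacyclic `p`-group has order at most `p ^ 2`. -/
theorem index_frattini_le_of_isMetacyclic {R : Type u} [Group R] [Finite R] {p : ℕ}
    [hp : Fact p.Prime] (hR : IsPGroup p R) (hm : Cfsg.IsMetacyclic R) :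
    (frattini R).index ≤ p ^ 2 := by
  obtain ⟨N, hN, hNc, hQc⟩ := id hm
  obtain ⟨D⟩ := Cfsg.Agent.Lib.Helper68.MC.exists_data hR N hNc hQc
  rw [Subgroup.index_eq_card]
  set a' : R ⧸ frattini R := QuotientGroup.mk D.a with ha'
  set b' : R ⧸ frattini R := QuotientGroup.mk D.b with hb'
  have hap : a' ^ p = 1 := Cfsg.Agent.Lib.Helper75.frattini_quotient_pow hR a'
  have hbp : b' ^ p = 1 := Cfsg.Agent.Lib.Helper75.frattini_quotient_pow hR b'
  let f : Fin p × Fin p → R ⧸ frattini R := fun ij => a' ^ (ij.1 : ℕ) * b' ^ (ij.2 : ℕ)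
  have hf : Function.Surjective f := by
    intro q
    obtain ⟨g, rfl⟩ := QuotientGroup.mk_surjective q
    obtain ⟨i, j, rfl⟩ := D.hgen g
    have hppos : 0 < p := hp.out.pos
    refine ⟨(⟨i % p, Nat.mod_lt _ hppos⟩, ⟨j % p, Nat.mod_lt _ hppos⟩), ?_⟩
    simp only [f]
    rw [← pow_eq_pow_mod i hap, ← pow_eq_pow_mod j hbp]
    simp [ha', hb']
  have h1 := Nat.card_le_card_of_surjective f hf
  simpa [Nat.card_prod, pow_two] using h1

end Cfsg.Agent.Lib.Helper72
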