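import Mathlib
import Cfsg.Prelude.Def_OddOrderLocal
import Cfsg.Agent.Lib.Helper03.ClassTwo
import Cfsg.Agent.Lib.Helper05.SolomonPoint
import Cfsg.Agent.Lib.Helper06.NormalRankTwo
import Cfsg.Agent.Lib.Helper68.AbelianIndexP
import Cfsg.Agent.Lib.Helper68.MetaGen
import Cfsg.Agent.Lib.Helper72.Frattini

/-! A finite `p`-group (`p` odd) with Frattini quotient of order at most `p ^ 2` and derived
subgroup contained in the subgroup generated by the `p`-th powers is metacyclic
(Huppert III.11.4, Blackburn). -/

set_option autoImplicit false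
set_option linter.style.haveILetI false

namespace Cfsg.Agent.Lib.Helper72

open scoped commutatorElement

universe u

/-- a subgroup containing the derived subgroup is normal -/
theorem normal_of_commutator_le {R : Type*} [Group R] (H : Subgroup R) (h : commutator R ≤ H) :
    H.Normal := by
  constructor
  intro n hn g
  have h1 : g * n * g⁻¹ = ⁅g, n⁆ * n := by
    rw [commutatorElement_def]; group
  rw [h1]
  exact H.mul_mem (h (Subgroup.commutator_mem_commutator (Subgroup.mem_top g) (Subgroup.mem_top n))) hn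

/-- A finite `p`-group with Frattini quotient of order at most `p ^ 2` and a normal cyclic subgroup
`⟨x⟩` with `x` outside the Frattini subgroup is metacyclic. -/
theorem isMetacyclic_of_normal_zpowers {R : Type u} [Group R] [Finite R] {p : ℕ}
    [hp : Fact p.Prime] (hR : IsPGroup p R) (hidx : (frattini R).index ≤ p ^ 2) (x : R)
    (hx : x ∉ frattini R) (hn : (Subgroup.zpowers x).Normal) : Cfsg.IsMetacyclic R := by
  -- a second generator
  have hy : ∃ y : R, Subgroup.zpowers x ⊔ Subgroup.zpowers y = ⊤ := by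
    set K : Subgroup R := Subgroup.zpowers x ⊔ frattini R with hK
    have hΦK : frattini R ≤ K := le_sup_right
    have hxK : x ∈ K := (le_sup_left : Subgroup.zpowers x ≤ K) (Subgroup.mem_zpowers x)
    have hmul := Subgroup.relIndex_mul_index hΦK
    obtain ⟨k, hk⟩ := hR.index (frattini R)
    have hk2 : k ≤ 2 := by
      rw [hk] at hidx
      exact (Nat.pow_le_pow_iff_right hp.out.one_lt).mp hidx
    obtain ⟨j, hj⟩ := hR.index K
    have hrel : (frattini R).relIndex K ≠ 1 := by
      intro h1
      rw [Subgroup.relIndex_eq_one] at h1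
      exact hx (h1 hxK)
    have hjk : j < k := by
      by_contra hcon
      have hcon : k ≤ j := by omega
      have h2 : p ^ k ∣ p ^ j := pow_dvd_pow p hcon
      rw [hk, hj] at hmul
      have hpos : 0 < p ^ j := pow_pos hp.out.pos j
      have h3 : (frattini R).relIndex K * p ^ j ≤ p ^ j := by
        rw [hmul]; exact Nat.le_of_dvd hpos h2
      have h4 : (frattini R).relIndex K ≤ 1 := by
        by_contra h5
        have h5 : 2 ≤ (frattini R).relIndex K := by omega
        nlinarith
      have h6 : (frattini R).relIndex K ≠ 0 := by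
        intro h0; rw [h0] at hmul; simp at hmul
        exact absurd hmul.symm (pow_pos hp.out.pos k).ne'
      omega
    rcases Nat.eq_zero_or_pos j with rfl | hjpos
    · refine ⟨1, ?_⟩
      rw [pow_zero, Subgroup.index_eq_one] at hj
      have h1 : Subgroup.zpowers x = ⊤ := frattini_nongenerating (hK ▸ hj)
      rw [h1]; simp
    · have hj1 : j = 1 := by omega
      rw [hj1, pow_one] at hj
      have hKtop : K ≠ ⊤ := by
        intro h1
        rw [h1, Subgroup.index_top] at hj
        exact hp.out.one_lt.ne hj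
      obtain ⟨y, hyK⟩ : ∃ y : R, y ∉ K := by
        by_contra hcon
        push Not at hcon
        exact hKtop (eq_top_iff.mpr fun g _ => hcon g)
      refine ⟨y, ?_⟩
      have hlt : K < K ⊔ Subgroup.zpowers y := by
        refine lt_of_le_of_ne le_sup_left ?_
        intro heq
        apply hyK
        rw [heq]
        exact (le_sup_right : Subgroup.zpowers y ≤ K ⊔ Subgroup.zpowers y) (Subgroup.mem_zpowers y)
      have h1 := Cfsg.Agent.Lib.Helper68.eq_top_of_lt_of_index_prime hp.out K _ hj hlt
      apply frattini_nongenerating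
      rw [← h1, hK]
      ac_rfl
  obtain ⟨y, hy⟩ := hy
  refine ⟨Subgroup.zpowers x, hn, inferInstance, ?_⟩
  rw [isCyclic_iff_exists_zpowers_eq_top]
  refine ⟨QuotientGroup.mk' (Subgroup.zpowers x) y, ?_⟩
  have h1 : (Subgroup.zpowers x ⊔ Subgroup.zpowers y).map (QuotientGroup.mk' (Subgroup.zpowers x)) = ⊤ := by
    rw [hy, ← MonoidHom.range_eq_map, MonoidHom.range_eq_top]
    exact QuotientGroup.mk'_surjective _
  rw [Subgroup.map_sup, MonoidHom.map_zpowers, MonoidHom.map_zpowers] at h1
  have h2 : (QuotientGroup.mk' (Subgroup.zpowers x)) x = 1 := by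
    rw [QuotientGroup.mk'_apply, QuotientGroup.eq_one_iff]
    exact Subgroup.mem_zpowers x
  rw [h2, Subgroup.zpowers_one_eq_bot, bot_sup_eq] at h1
  exact h1

/-- The class two case: derived subgroup central of order `p`. -/
theorem isMetacyclic_of_commutator_central_prime {R : Type u} [Group R] [Finite R] {p : ℕ}
    [hp : Fact p.Prime] (hp2 : p ≠ 2) (hR : IsPGroup p R) (hidx : (frattini R).index ≤ p ^ 2)
    (z : R) (hz1 : z ≠ 1) (hzp : z ^ p = 1) (hzc : z ∈ Subgroup.center R)
    (hzpow : z ∈ Subgroup.closure {x : R | ∃ y : R, y ^ p = x})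
    (hcomm : commutator R ≤ Subgroup.zpowers z)
    (hpow : commutator R ≤ Subgroup.closure {x : R | ∃ y : R, y ^ p = x}) :
    Cfsg.IsMetacyclic R := by
  have hp3 : 3 ≤ p := by
    have := hp.out.two_le
    omega
  -- commutators are central of order dividing `p`
  have hcc : ∀ x y : R, ⁅x, y⁆ ∈ Subgroup.center R ∧ ⁅x, y⁆ ^ p = 1 := by
    intro x y
    have h1 : ⁅x, y⁆ ∈ Subgroup.zpowers z :=
      hcomm (Subgroup.commutator_mem_commutator (Subgroup.mem_top x) (Subgroup.mem_top y))
    obtain ⟨k, hk⟩ := Subgroup.mem_zpowers_iff.mp h1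
    constructor
    · rw [← hk]; exact Subgroup.zpow_mem _ hzc k
    · rw [← hk, ← zpow_natCast, ← zpow_mul, mul_comm, zpow_mul, zpow_natCast, hzp, one_zpow]
  -- the `p`-th power map is a homomorphism
  have hmul : ∀ x y : R, (x * y) ^ p = x ^ p * y ^ p := by
    intro x y
    have h1 := Cfsg.Agent.Lib.Helper03.mul_pow_of_central_commutator x y ⁅y, x⁆ (hcc y x).1
      (by rw [commutatorElement_def]; group) p
    obtain ⟨w, hw⟩ := hp.out.dvd_choose_self (k := 2) (by norm_num) (by omega)
    rw [h1, hw, pow_mul, (hcc y x).2, one_pow, mul_one]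
  let π : R →* R :=
    { toFun := fun x => x ^ p
      map_one' := one_pow p
      map_mul' := hmul }
  have hπ : ∀ x, π x = x ^ p := fun _ => rfl
  have hcl : Subgroup.closure {x : R | ∃ y : R, y ^ p = x} ≤ π.range := by
    rw [Subgroup.closure_le]
    rintro _ ⟨y, rfl⟩
    exact ⟨y, rfl⟩
  have hfr : frattini R ≤ π.range := by
    apply frattini_le_of_elementary_quotient p
    · intro x; exact ⟨x, rfl⟩
    · intro x y
      exact hcl (hpow (Subgroup.commutator_mem_commutator (Subgroup.mem_top x) (Subgroup.mem_top y)))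
  -- the largest `k` with `z` a `p ^ k`-th power
  have hP1 : ∃ x : R, x ^ p ^ 1 = z := by
    obtain ⟨x, hx⟩ := hcl hzpow
    exact ⟨x, by rw [pow_one]; exact hx⟩
  obtain ⟨e, he⟩ := (IsPGroup.iff_card.mp hR)
  have hPe : ¬ ∃ x : R, x ^ p ^ e = z := by
    rintro ⟨x, hx⟩
    rw [← he, pow_card_eq_one'] at hx
    exact hz1 hx.symm
  have he1 : 1 ≤ e := by
    rcases Nat.eq_zero_or_pos e with rfl | h
    · exfalso
      rw [pow_zero] at he
      have : Subsingleton R := (Nat.card_eq_one_iff_unique.mp he).1
      exact hz1 (Subsingleton.elim z 1)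
    · exact h
  obtain ⟨k, hk1, ⟨x, hxk⟩, hnk⟩ : ∃ k : ℕ, 1 ≤ k ∧ (∃ x : R, x ^ p ^ k = z) ∧
      ¬ ∃ x : R, x ^ p ^ (k + 1) = z := by
    by_contra hcon
    push Not at hcon
    have hall : ∀ k : ℕ, 1 ≤ k → ∃ x : R, x ^ p ^ k = z := by
      intro k hk
      induction k, hk using Nat.le_induction with
      | base => exact hP1
      | succ k hk ih =>
        exact hcon k hk ih
    exact hPe (hall e he1)
  have hxfr : x ∉ frattini R := by
    intro hx
    obtain ⟨y, hy⟩ := hfr hx
    apply hnk
    refine ⟨y, ?_⟩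
    rw [pow_succ', pow_mul, ← hπ, hy, hxk]
  have hzx : z ∈ Subgroup.zpowers x := by
    rw [← hxk]; exact Subgroup.pow_mem _ (Subgroup.mem_zpowers x) _
  have hnorm : (Subgroup.zpowers x).Normal :=
    normal_of_commutator_le _ (le_trans hcomm (Subgroup.zpowers_le.mpr hzx))
  exact isMetacyclic_of_normal_zpowers hR hidx x hxfr hnorm

/-- Blackburn / Huppert III.11.4: a finite `p`-group (`p` odd) with `|R : Φ(R)| ≤ p ^ 2` whose
derived subgroup lies in the subgroup generated by the `p`-th powers is metacyclic. -/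
theorem isMetacyclic_of_commutator_le_pow_aux (p : ℕ) [hp : Fact p.Prime] (hp2 : p ≠ 2) :
    ∀ (n : ℕ) (R : Type u) [Group R] [Finite R], Nat.card R = n → IsPGroup p R →
      (frattini R).index ≤ p ^ 2 → commutator R ≤ Subgroup.closure {x : R | ∃ y : R, y ^ p = x} →
      Cfsg.IsMetacyclic R := by
  intro n
  induction n using Nat.strong_induction_on with
  | _ n ih =>
  intro R _ _ hcard hR hidx hpow
  by_cases hab : commutator R = ⊥
  · -- abelian case
    by_cases htriv : frattini R = ⊤
    · have h1 : (⊥ : Subgroup R) = ⊤ := frattini_nongenerating (by rw [htriv]; simp)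
      have h2 : Subsingleton (Subgroup R) := subsingleton_of_bot_eq_top h1
      have h3 : Subsingleton R := Subgroup.subsingleton_iff.mp h2
      exact ⟨⊤, inferInstance, inferInstance, inferInstance⟩
    · obtain ⟨x, hx⟩ : ∃ x : R, x ∉ frattini R := by
        by_contra hcon
        push Not at hcon
        exact htriv (eq_top_iff.mpr fun g _ => hcon g)
      exact isMetacyclic_of_normal_zpowers hR hidx x hx
        (normal_of_commutator_le _ (hab ▸ bot_le))
  · -- nonabelian case
    obtain ⟨z, hzN, hz1, hzp, hzc⟩ :=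
      Cfsg.Agent.Lib.Helper06.exists_central_order_p_mem_normal hR (commutator R) hab
    have hzcomm : ∀ g : R, g * z = z * g := fun g => (Subgroup.mem_center_iff.mp hzc g)
    have hzpowcomm : ∀ (t : ℕ) (g : R), Commute (z ^ t) g := fun t g =>
      Commute.pow_left (show Commute z g from (hzcomm g).symm) t
    set Z : Subgroup R := Subgroup.zpowers z with hZ
    have hZn : Z.Normal := by
      constructor
      intro w hw g
      obtain ⟨m, rfl⟩ := Subgroup.mem_zpowers_iff.mp hw
      have h1 : g * z ^ m * g⁻¹ = z ^ m := by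
        have : Commute g (z ^ m) := Commute.zpow_right (show Commute g z from hzcomm g) m
        rw [this.eq]; group
      rw [h1]; exact hw
    have hordz : orderOf z = p := orderOf_eq_prime hzp hz1
    have hcardZ : Nat.card Z = p := by rw [hZ, Nat.card_zpowers, hordz]
    have hmemZ : ∀ w ∈ Z, ∃ t : ℕ, z ^ t = w := fun w hw =>
      Cfsg.Agent.Lib.Helper68.MC.exists_nat_pow_of_mem_zpowers hw
    -- the quotient
    have hcardQ : Nat.card (R ⧸ Z) < n := by
      have h1 := Subgroup.card_eq_card_quotient_mul_card_subgroup Z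
      rw [hcardZ, hcard] at h1
      have hpos : 0 < Nat.card (R ⧸ Z) := Nat.card_pos
      have := hp.out.two_le
      nlinarith
    have hidxQ : (frattini (R ⧸ Z)).index ≤ p ^ 2 := by
      have h1 := frattini_le_comap_frattini_of_surjective (QuotientGroup.mk'_surjective Z)
      have h2 := Subgroup.index_dvd_of_le h1
      rw [Subgroup.index_comap_of_surjective _ (QuotientGroup.mk'_surjective Z)] at h2
      exact le_trans (Nat.le_of_dvd (Nat.pos_of_ne_zero Subgroup.index_ne_zero_of_finite) h2) hidx
    have hpowQ : commutator (R ⧸ Z) ≤ Subgroup.closure {x : R ⧸ Z | ∃ y : R ⧸ Z, y ^ p = x} := by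
      have h1 : commutator (R ⧸ Z) = (commutator R).map (QuotientGroup.mk' Z) := by
        rw [commutator_def, commutator_def, Subgroup.map_commutator,
          Subgroup.map_top_of_surjective _ (QuotientGroup.mk'_surjective Z)]
      rw [h1]
      refine le_trans (Subgroup.map_mono hpow) ?_
      rw [MonoidHom.map_closure]
      apply Subgroup.closure_mono
      rintro _ ⟨_, ⟨y, rfl⟩, rfl⟩
      exact ⟨QuotientGroup.mk' Z y, by simp⟩
    obtain ⟨Nb, hNbn, hNbc, hQc⟩ := ih _ hcardQ (R ⧸ Z) rfl (hR.to_quotient Z) hidxQ hpowQ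
    obtain ⟨⟨abar, habar⟩, hgenN⟩ := hNbc.exists_generator
    obtain ⟨a, rfl⟩ := QuotientGroup.mk_surjective abar
    have hNbmem : ∀ q ∈ Nb, ∃ i : ℕ, (QuotientGroup.mk a : R ⧸ Z) ^ i = q := by
      intro q hq
      have h1 := hgenN ⟨q, hq⟩
      obtain ⟨m, hm⟩ := Subgroup.mem_zpowers_iff.mp h1
      have h2 : (QuotientGroup.mk a : R ⧸ Z) ^ m = q := by
        have := congrArg Subtype.val hm
        simpa using this
      exact Cfsg.Agent.Lib.Helper68.MC.exists_nat_pow_of_mem_zpowers
        (Subgroup.mem_zpowers_iff.mpr ⟨m, h2⟩)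
    obtain ⟨bb, hgenQ⟩ := hQc.exists_generator
    obtain ⟨bbar, rfl⟩ := QuotientGroup.mk_surjective bb
    obtain ⟨b, rfl⟩ := QuotientGroup.mk_surjective bbar
    -- (F1)
    have hF1 : ∀ g : R, ∃ j i t : ℕ, g = b ^ j * a ^ i * z ^ t := by
      intro g
      obtain ⟨j, hj⟩ := Cfsg.Agent.Lib.Helper68.MC.exists_nat_pow_of_mem_zpowers
        (hgenQ (QuotientGroup.mk (QuotientGroup.mk g)))
      rw [← QuotientGroup.mk_pow, QuotientGroup.eq] at hj
      obtain ⟨i, hi⟩ := hNbmem _ hj
      rw [← QuotientGroup.mk_pow, ← QuotientGroup.mk_pow, ← QuotientGroup.mk_inv,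
        ← QuotientGroup.mk_mul, QuotientGroup.eq] at hi
      obtain ⟨t, ht⟩ := hmemZ _ hi
      refine ⟨j, i, t, ?_⟩
      rw [ht]; group
    -- (F2)
    have hF2 : ∀ g : R, ∃ k t : ℕ, g * a * g⁻¹ = a ^ k * z ^ t := by
      intro g
      have h1 := hNbn.conj_mem _ habar (QuotientGroup.mk g)
      obtain ⟨k, hk⟩ := hNbmem _ h1
      rw [← QuotientGroup.mk_pow, ← QuotientGroup.mk_inv, ← QuotientGroup.mk_mul,
        ← QuotientGroup.mk_mul, QuotientGroup.eq] at hk
      obtain ⟨t, ht⟩ := hmemZ _ hk
      refine ⟨k, t, ?_⟩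
      rw [ht]; group
    by_cases hza : z ∈ Subgroup.zpowers a
    · -- `⟨a⟩` is normal with cyclic quotient
      have hnorm : (Subgroup.zpowers a).Normal := by
        rw [← Subgroup.normalizer_eq_top_iff, eq_top_iff]
        intro g _
        apply Cfsg.Agent.Lib.Helper05.mem_normalizer_zpowers_of_conj_mem
        obtain ⟨k, t, hkt⟩ := hF2 g
        rw [hkt]
        exact Subgroup.mul_mem _ (Subgroup.pow_mem _ (Subgroup.mem_zpowers a) k)
          (Subgroup.pow_mem _ hza t)
      refine ⟨Subgroup.zpowers a, hnorm, inferInstance, ?_⟩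
      rw [isCyclic_iff_exists_zpowers_eq_top]
      refine ⟨QuotientGroup.mk b, ?_⟩
      rw [eq_top_iff]
      intro q _
      obtain ⟨g, rfl⟩ := QuotientGroup.mk_surjective q
      obtain ⟨j, i, t, rfl⟩ := hF1 g
      have h1 : (QuotientGroup.mk (b ^ j * a ^ i * z ^ t) : R ⧸ Subgroup.zpowers a)
          = (QuotientGroup.mk b) ^ j := by
        rw [← QuotientGroup.mk_pow, QuotientGroup.eq]
        have : (b ^ j * a ^ i * z ^ t)⁻¹ * b ^ j = ((a ^ i) * z ^ t)⁻¹ := by group
        rw [this]
        exact Subgroup.inv_mem _ (Subgroup.mul_mem _ (Subgroup.pow_mem _ (Subgroup.mem_zpowers a) i)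
          (Subgroup.pow_mem _ hza t))
      rw [h1]
      exact Subgroup.pow_mem _ (Subgroup.mem_zpowers _) j
    · -- `⟨a⟩ ∩ Z = 1`
      have hint : ∀ w : R, w ∈ Subgroup.zpowers a → w ∈ Z → w = 1 := by
        intro w hwa hwZ
        by_contra hw1
        apply hza
        obtain ⟨t, rfl⟩ := hmemZ w hwZ
        have hwp : (z ^ t) ^ p = 1 := by rw [← pow_mul, mul_comm, pow_mul, hzp, one_pow]
        have hordw : orderOf (z ^ t) = p := orderOf_eq_prime hwp hw1
        have hle : Subgroup.zpowers (z ^ t) ≤ Z := Subgroup.zpowers_le.mpr hwZ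
        have heq : Subgroup.zpowers (z ^ t) = Z := by
          apply Subgroup.eq_of_le_of_card_ge hle
          rw [hcardZ, Nat.card_zpowers, hordw]
        have h1 : z ∈ Subgroup.zpowers (z ^ t) := by rw [heq]; exact Subgroup.mem_zpowers z
        exact (Subgroup.zpowers_le.mpr hwa) h1
      obtain ⟨k, t, hbab⟩ := hF2 b
      set u : R := a ^ k * z ^ t with hu
      set c : R := a⁻¹ * u with hc
      have hau : Commute a u := ((Commute.refl a).pow_right k).mul_right (hzpowcomm t a).symm
      have hac : Commute a c := ((Commute.refl a).inv_right).mul_right hau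
      have hzcc : Commute z c := ((hzcomm c).symm : Commute z c)
      have hbub : b * u * b⁻¹ = u ^ k * z ^ t := by
        have h1 : b * u * b⁻¹ = (b * a * b⁻¹) ^ k * (b * z ^ t * b⁻¹) := by
          rw [hu, conj_pow]; group
        rw [h1, hbab]
        have h2 : b * z ^ t * b⁻¹ = z ^ t := by
          rw [(hzpowcomm t b).symm.eq]; group
        rw [h2]
      have hbcb : b * c * b⁻¹ = c ^ k := by
        have h1 : b * c * b⁻¹ = (b * a * b⁻¹)⁻¹ * (b * u * b⁻¹) := by
          rw [hc]; group
        rw [h1, hbab, hbub, hc, (hau.inv_left).mul_pow, inv_pow]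
        have h2 : (a ^ k * z ^ t)⁻¹ = (a ^ k)⁻¹ * (z ^ t)⁻¹ := by
          rw [mul_inv_rev, ((hzpowcomm t (a ^ k)).inv_left.inv_right).eq]
        have h3 : Commute (z ^ t) (u ^ k) := hzpowcomm t _
        rw [h2, mul_assoc, ← h3.eq, inv_mul_cancel_left]
      have hCn : (Subgroup.zpowers c).Normal := by
        rw [← Subgroup.normalizer_eq_top_iff, eq_top_iff]
        intro g _
        obtain ⟨j, i, t', rfl⟩ := hF1 g
        have hbN : b ∈ Subgroup.normalizer (Subgroup.zpowers c : Set R) := by
          apply Cfsg.Agent.Lib.Helper05.mem_normalizer_zpowers_of_conj_mem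
          rw [hbcb]; exact Subgroup.pow_mem _ (Subgroup.mem_zpowers c) k
        have haN : a ∈ Subgroup.normalizer (Subgroup.zpowers c : Set R) := by
          apply Cfsg.Agent.Lib.Helper05.mem_normalizer_zpowers_of_conj_mem
          rw [hac.eq, mul_inv_cancel_right]; exact Subgroup.mem_zpowers c
        have hzN' : z ∈ Subgroup.normalizer (Subgroup.zpowers c : Set R) := by
          apply Cfsg.Agent.Lib.Helper05.mem_normalizer_zpowers_of_conj_mem
          rw [hzcc.eq, mul_inv_cancel_right]; exact Subgroup.mem_zpowers c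
        exact Subgroup.mul_mem _ (Subgroup.mul_mem _ (Subgroup.pow_mem _ hbN j)
          (Subgroup.pow_mem _ haN i)) (Subgroup.pow_mem _ hzN' t')
      -- `R / ⟨c⟩` is abelian
      have habel : commutator R ≤ Subgroup.zpowers c := by
        rw [commutator_def, Subgroup.commutator_le]
        intro g _ h _
        haveI := hCn
        set f := QuotientGroup.mk' (Subgroup.zpowers c) with hf
        have hfab : Commute (f a) (f b) := by
          have h2 : c = a⁻¹ * (b * a * b⁻¹) := by rw [hc, hbab]
          have h1 : f (a⁻¹ * (b * a * b⁻¹)) = 1 :=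
            (QuotientGroup.eq_one_iff _).mpr (by rw [← h2]; exact Subgroup.mem_zpowers c)
          simp only [map_mul, map_inv] at h1
          have h3 : f b * f a * (f b)⁻¹ = f a := (inv_mul_eq_one.mp h1).symm
          have h4 : f b * f a = f a * f b := mul_inv_eq_iff_eq_mul.mp h3
          exact h4.symm
        have hfz : ∀ q, Commute (f z) q := by
          intro q
          obtain ⟨g', rfl⟩ := QuotientGroup.mk'_surjective (Subgroup.zpowers c) q
          show f z * f g' = f g' * f z
          rw [← map_mul, ← map_mul, hzcomm g']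
        obtain ⟨j, i, t1, rfl⟩ := hF1 g
        obtain ⟨j', i', t1', rfl⟩ := hF1 h
        have hcomm' : Commute (f (b ^ j * a ^ i * z ^ t1)) (f (b ^ j' * a ^ i' * z ^ t1')) := by
          simp only [map_mul, map_pow]
          refine Commute.mul_left (Commute.mul_left ?_ ?_) ?_
          · refine Commute.mul_right (Commute.mul_right ?_ ?_) ?_
            · exact (Commute.refl (f b)).pow_pow j j'
            · exact (hfab.symm).pow_pow j i'
            · exact ((hfz (f b)).symm).pow_pow j t1'
          · refine Commute.mul_right (Commute.mul_right ?_ ?_) ?_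
            · exact hfab.pow_pow i j'
            · exact (Commute.refl (f a)).pow_pow i i'
            · exact ((hfz (f a)).symm).pow_pow i t1'
          · exact (hfz _).pow_left t1
        rw [← QuotientGroup.eq_one_iff]
        show f ⁅b ^ j * a ^ i * z ^ t1, b ^ j' * a ^ i' * z ^ t1'⁆ = 1
        rw [map_commutatorElement]
        exact commutatorElement_eq_one_iff_commute.mpr hcomm'
      have hzC : z ∈ Subgroup.zpowers c := habel hzN
      obtain ⟨s, hs⟩ := Cfsg.Agent.Lib.Helper68.MC.exists_nat_pow_of_mem_zpowers hzC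
      set w : R := a⁻¹ * a ^ k with hw
      have hcw : c = w * z ^ t := by rw [hc, hu, hw, mul_assoc]
      have hwz : Commute w (z ^ t) := (hzpowcomm t w).symm
      have hwa : w ^ s ∈ Subgroup.zpowers a := by
        apply Subgroup.pow_mem
        exact Subgroup.mul_mem _ (Subgroup.inv_mem _ (Subgroup.mem_zpowers a))
          (Subgroup.pow_mem _ (Subgroup.mem_zpowers a) k)
      have hws : w ^ s = z * ((z ^ t) ^ s)⁻¹ := by
        have h1 : z = w ^ s * (z ^ t) ^ s := by rw [← hwz.mul_pow, ← hcw, hs]
        rw [eq_mul_inv_iff_mul_eq]; exact h1.symm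
      have hwZ : w ^ s ∈ Z := by
        rw [hws]
        exact Subgroup.mul_mem _ (Subgroup.mem_zpowers z)
          (Subgroup.inv_mem _ (Subgroup.pow_mem _ (Subgroup.pow_mem _ (Subgroup.mem_zpowers z) t) s))
      have hws1 : w ^ s = 1 := hint _ hwa hwZ
      have hzts : (z ^ t) ^ s = z := by
        rw [hws1] at hws
        have := mul_inv_eq_one.mp hws.symm
        exact this.symm
      have hps : ¬ p ∣ s := by
        rintro ⟨s', rfl⟩
        apply hz1
        rw [← hzts, ← pow_mul, mul_comm p s', ← mul_assoc, pow_mul, ← pow_mul, mul_comm, pow_mul,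
          hzp, one_pow]
      have hcsp : c ^ (p * s) = 1 := by
        rw [mul_comm, pow_mul, hs, hzp]
      have hcp : c ^ p = 1 := by
        obtain ⟨m, hm⟩ := hR c
        obtain ⟨m', _, hm'⟩ := (Nat.dvd_prime_pow hp.out).mp (orderOf_dvd_of_pow_eq_one hm)
        have hcop : Nat.Coprime (orderOf c) s := by
          rw [hm']
          exact Nat.Coprime.pow_left m' ((Nat.Prime.coprime_iff_not_dvd hp.out).mpr hps)
        have hdvd : orderOf c ∣ p := hcop.dvd_of_dvd_mul_right (orderOf_dvd_of_pow_eq_one hcsp)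
        exact orderOf_dvd_iff_pow_eq_one.mp hdvd
      have heq : Z = Subgroup.zpowers c := by
        apply Subgroup.eq_of_le_of_card_ge (Subgroup.zpowers_le.mpr hzC)
        rw [hcardZ, Nat.card_zpowers]
        exact Nat.le_of_dvd hp.out.pos (orderOf_dvd_of_pow_eq_one hcp)
      exact isMetacyclic_of_commutator_central_prime hp2 hR hidx z hz1 hzp hzc (hpow hzN)
        (by rw [← hZ, heq]; exact habel) hpow

/-- Blackburn / Huppert III.11.4. -/
theorem isMetacyclic_of_commutator_le_pow {R : Type u} [Group R] [Finite R] {p : ℕ}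
    [hp : Fact p.Prime] (hp2 : p ≠ 2) (hR : IsPGroup p R) (hidx : (frattini R).index ≤ p ^ 2)
    (hpow : commutator R ≤ Subgroup.closure {x : R | ∃ y : R, y ^ p = x}) :
    Cfsg.IsMetacyclic R :=
  isMetacyclic_of_commutator_le_pow_aux p hp2 _ R rfl hR hidx hpow

end Cfsg.Agent.Lib.Helper72
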