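import Mathlib
import Cfsg.Prelude.Def_PLocal
import Cfsg.Prelude.Def_OddOrderLocal
import Cfsg.Agent.S0063
import Cfsg.Agent.S4209
import Cfsg.Agent.Lib.Helper01.Basic
import Cfsg.Agent.Lib.Helper72.MetaReg
import Cfsg.Agent.Lib.Helper72.PowerfulTwoGen
import Cfsg.Agent.Lib.Helper75.PGroupFrattini
import Cfsg.Agent.Lib.Helper75.Regular

/-! For `p > 3`, a finite `p`-group whose elements of order dividing `p` generate a subgroup of order
at most `p ^ 2` is metacyclic. -/

set_option autoImplicit false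
set_option linter.style.haveILetI false

namespace Cfsg.Agent.Lib.Helper72

open scoped commutatorElement

universe u

/-- the closure of a conjugation invariant set is normal -/
theorem normal_closure_of_conj_invariant {G : Type*} [Group G] (S : Set G)
    (h : ∀ s ∈ S, ∀ g : G, g * s * g⁻¹ ∈ S) : (Subgroup.closure S).Normal := by
  constructor
  intro n hn g
  induction hn using Subgroup.closure_induction with
  | mem x hx => exact Subgroup.subset_closure (h x hx g)
  | one => simp
  | mul x y _ _ hx hy =>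
    have : g * (x * y) * g⁻¹ = (g * x * g⁻¹) * (g * y * g⁻¹) := by group
    rw [this]; exact Subgroup.mul_mem _ hx hy
  | inv x _ hx =>
    have : g * x⁻¹ * g⁻¹ = (g * x * g⁻¹)⁻¹ := by group
    rw [this]; exact Subgroup.inv_mem _ hx

/-- the subgroup generated by the `p`-th powers is normal -/
theorem normal_closure_pow {G : Type*} [Group G] (p : ℕ) :
    (Subgroup.closure {x : G | ∃ y : G, y ^ p = x}).Normal := by
  apply normal_closure_of_conj_invariant
  rintro _ ⟨y, rfl⟩ g
  exact ⟨g * y * g⁻¹, by rw [conj_pow]⟩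

/-- `Ω₁` of a subgroup is no larger than `Ω₁` of the group -/
theorem card_omegaOne_subgroup_le {R : Type*} [Group R] [Finite R] (p : ℕ) (K : Subgroup R) :
    Nat.card ↥(Cfsg.omegaOne p (⊤ : Subgroup ↥K)) ≤ Nat.card ↥(Cfsg.omegaOne p (⊤ : Subgroup R)) := by
  rw [← Subgroup.card_map_of_injective (K.subtype_injective)]
  apply Subgroup.card_le_of_le
  unfold Cfsg.omegaOne
  rw [MonoidHom.map_closure]
  apply Subgroup.closure_mono
  rintro _ ⟨x, ⟨_, hx⟩, rfl⟩
  refine ⟨Subgroup.mem_top _, ?_⟩
  rw [Subgroup.coe_subtype, ← Subgroup.coe_pow, hx, Subgroup.coe_one]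

/-- in a noncyclic finite group every element lies in a maximal subgroup -/
theorem exists_coatom_mem {R : Type*} [Group R] [Finite R] (hnc : ¬ IsCyclic R) (x : R) :
    ∃ M : Subgroup R, IsCoatom M ∧ x ∈ M := by
  have h1 : Subgroup.zpowers x ≠ ⊤ := by
    intro h
    exact hnc (isCyclic_iff_exists_zpowers_eq_top.mpr ⟨x, h⟩)
  rcases eq_top_or_exists_le_coatom (Subgroup.zpowers x) with h | ⟨M, hM, hle⟩
  · exact absurd h h1
  · exact ⟨M, hM, hle (Subgroup.mem_zpowers x)⟩

/-- fibres of the `p`-th power map in a group with `x ^ p = y ^ p ↔ (x⁻¹ y) ^ p = 1` -/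
theorem card_le_card_mul_card_omega {G : Type*} [Group G] [Finite G] {p : ℕ}
    (h : Cfsg.Agent.Lib.Helper75.PowEqIffAt p 1 G) (T : Subgroup G) (hT : ∀ x : G, x ^ p ∈ T) :
    Nat.card G ≤ Nat.card T * Nat.card h.omega := by
  rw [Subgroup.card_eq_card_quotient_mul_card_subgroup h.omega]
  apply Nat.mul_le_mul_right
  let f : G ⧸ h.omega → T := fun q => ⟨(Quotient.out q) ^ p, hT _⟩
  refine Nat.card_le_card_of_injective f ?_
  intro q q' hqq
  have h1 : (Quotient.out q) ^ p = (Quotient.out q') ^ p := congrArg Subtype.val hqq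
  have h2 := (h (Quotient.out q) (Quotient.out q')).mp (by simpa using h1)
  have h3 : (Quotient.out q)⁻¹ * Quotient.out q' ∈ h.omega := h2
  have h4 : (QuotientGroup.mk (Quotient.out q) : G ⧸ h.omega) = QuotientGroup.mk (Quotient.out q') :=
    QuotientGroup.eq.mpr h3
  rwa [QuotientGroup.out_eq', QuotientGroup.out_eq'] at h4

/-- if `R ⧸ N` is commutative then `R' ≤ N` -/
theorem commutator_le_of_quotient_comm {R : Type*} [Group R] (N : Subgroup R) [N.Normal]
    (h : ∀ a b : R ⧸ N, a * b = b * a) : commutator R ≤ N := by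
  rw [commutator_def, Subgroup.commutator_le]
  intro g _ k _
  rw [← QuotientGroup.eq_one_iff]
  show (QuotientGroup.mk' N) ⁅g, k⁆ = 1
  rw [map_commutatorElement]
  exact commutatorElement_eq_one_iff_commute.mpr (h _ _)

/-- groups of order `p ^ e`, `e ≤ 2`, are commutative -/
theorem comm_of_card_le_prime_sq {Q : Type*} [Group Q] [Finite Q] {p : ℕ} [hp : Fact p.Prime] {e : ℕ}
    (he : e ≤ 2) (hcard : Nat.card Q = p ^ e) : ∀ a b : Q, a * b = b * a := by
  interval_cases e
  · rw [pow_zero] at hcard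
    have : Subsingleton Q := (Nat.card_eq_one_iff_unique.mp hcard).1
    intro a b; exact Subsingleton.elim _ _
  · rw [pow_one] at hcard
    have hc : IsCyclic Q := isCyclic_of_prime_card hcard
    intro a b
    letI := hc.commGroup
    exact mul_comm a b
  · have hc : IsMulCommutative Q := IsPGroup.isMulCommutative_of_card_eq_prime_sq hcard
    intro a b
    exact hc.is_comm.comm a b

/-- For `p > 3`, a finite `p`-group whose elements of order dividing `p` generate a subgroup of
order at most `p ^ 2` is metacyclic. -/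
theorem isMetacyclic_of_card_omegaOne_le_aux (p : ℕ) [hp : Fact p.Prime] (hp3 : 3 < p) :
    ∀ (n : ℕ) (R : Type u) [Group R] [Finite R], Nat.card R = n → IsPGroup p R →
      Nat.card ↥(Cfsg.omegaOne p (⊤ : Subgroup R)) ≤ p ^ 2 → Cfsg.IsMetacyclic R := by
  intro n
  induction n using Nat.strong_induction_on with
  | _ n ih =>
  intro R _ _ hcard hR hO
  have hp2 : p ≠ 2 := by omega
  have hppos : 0 < p := hp.out.pos
  have hp5 : 5 ≤ p := by
    have h4 : p ≠ 4 := by
      intro h
      have h1 := hp.out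
      rw [h] at h1
      exact absurd h1 (by norm_num)
    omega
  -- proper subgroups are metacyclic
  have hsub : ∀ K : Subgroup R, K ≠ ⊤ → Cfsg.IsMetacyclic ↥K := by
    intro K hK
    have h1 : Nat.card ↥K < n := hcard ▸ Cfsg.Agent.Lib.Helper75.card_subgroup_lt K hK
    exact ih _ h1 ↥K rfl (hR.to_subgroup K) (le_trans (card_omegaOne_subgroup_le p K) hO)
  by_cases hcyc : IsCyclic R
  · refine ⟨⊥, inferInstance, inferInstance, ?_⟩
    exact isCyclic_of_surjective (QuotientGroup.mk' (⊥ : Subgroup R))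
      (QuotientGroup.mk'_surjective _)
  -- the subgroup generated by the `p`-th powers
  set N : Subgroup R := Subgroup.closure {x : R | ∃ y : R, y ^ p = x} with hN
  have hNn : N.Normal := normal_closure_pow p
  have hpowN : ∀ x : R, x ^ p ∈ N := fun x => Subgroup.subset_closure ⟨x, rfl⟩
  have hNfr : N ≤ frattini R := by
    rw [hN, Subgroup.closure_le]
    rintro _ ⟨y, rfl⟩
    exact Cfsg.Agent.Lib.Helper75.pow_mem_frattini_of_isPGroup' hR y
  have hmax : ∀ M : Subgroup R, IsCoatom M → (frattini ↥M).map M.subtype ≤ N := by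
    intro M hM
    rw [frattini_eq_closure_pow_of_isMetacyclic (hR.to_subgroup M) (hsub M hM.1),
      MonoidHom.map_closure]
    apply Subgroup.closure_mono
    rintro _ ⟨_, ⟨y, rfl⟩, rfl⟩
    exact ⟨(y : R), by simp⟩
  obtain ⟨e, he⟩ := hR.index N
  have he3 : e ≤ 3 := by
    obtain ⟨M, hM, _⟩ := exists_coatom_mem hcyc 1
    have h1 := Subgroup.index_dvd_of_le (hmax M hM)
    rw [Subgroup.index_map_subtype,
      Cfsg.Agent.Lib.Helper75.index_of_isCoatom_of_isPGroup' hR hM] at h1
    have h2 := index_frattini_le_of_isMetacyclic (hR.to_subgroup M) (hsub M hM.1)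
    obtain ⟨f, hf⟩ := (hR.to_subgroup M).index (frattini ↥M)
    rw [hf] at h1 h2
    have hf2 : f ≤ 2 := (Nat.pow_le_pow_iff_right hp.out.one_lt).mp h2
    rw [he, ← pow_succ] at h1
    have := (Nat.pow_dvd_pow_iff_le_right hp.out.one_lt).mp h1
    omega
  by_cases he2 : e ≤ 2
  · have hfr : (frattini R).index ≤ p ^ 2 := by
      have h1 := Subgroup.index_dvd_of_le hNfr
      rw [he] at h1
      exact le_trans (Nat.le_of_dvd (pow_pos hppos e) h1)
        (Nat.pow_le_pow_right hppos he2)
    have hcomm : commutator R ≤ N := by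
      apply commutator_le_of_quotient_comm
      apply comm_of_card_le_prime_sq (p := p) he2
      rw [← Subgroup.index_eq_card, he]
    exact isMetacyclic_of_commutator_le_pow hp2 hR hfr hcomm
  · exfalso
    have he3' : e = 3 := by omega
    subst he3'
    have hNtop : N ≠ ⊤ := by
      intro h
      rw [h, Subgroup.index_top] at he
      have : 1 < p ^ 3 := Nat.one_lt_pow (by norm_num) hp.out.one_lt
      omega
    have hNmeta : Cfsg.IsMetacyclic ↥N := hsub N hNtop
    have hNp : IsPGroup p ↥N := hR.to_subgroup N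
    set ΦN : Subgroup R := (frattini ↥N).map N.subtype with hΦN
    haveI : ΦN.Normal := by
      rw [hΦN]; infer_instance
    have hΦNle : ΦN ≤ N := Subgroup.map_subtype_le _
    obtain ⟨f, hf⟩ := hNp.index (frattini ↥N)
    have hf2 : f ≤ 2 := by
      have h2 := index_frattini_le_of_isMetacyclic hNp hNmeta
      rw [hf] at h2
      exact (Nat.pow_le_pow_iff_right hp.out.one_lt).mp h2
    have hΦNidx : ΦN.index = p ^ (f + 3) := by
      rw [hΦN, Subgroup.index_map_subtype, hf, he, pow_add]
    -- the quotient `R / Φ(N)` is regular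
    have hcardhat : Nat.card (R ⧸ ΦN) = p ^ (f + 3) := by
      rw [← Subgroup.index_eq_card, hΦNidx]
    have hphat : IsPGroup p (R ⧸ ΦN) := hR.to_quotient ΦN
    haveI : Group.IsNilpotent (R ⧸ ΦN) := hphat.isNilpotent
    have hclass : Group.nilpotencyClass (R ⧸ ΦN) ≤ f + 3 - 1 :=
      Cfsg.Agent.S0063.result p (f + 3) hcardhat (by omega)
    have hlcs : (⊤ : Subgroup (R ⧸ ΦN)).lowerCentralSeries (p - 1) = ⊥ :=
      Subgroup.lowerCentralSeries_eq_bot_iff_nilpotencyClass_le.mpr (by omega)
    have hreg : Cfsg.IsRegularPGroup p (R ⧸ ΦN) := Cfsg.Agent.S4209.result hphat hlcs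
    have hPE : Cfsg.Agent.Lib.Helper75.PowEqIffAt p 1 (R ⧸ ΦN) :=
      Cfsg.Agent.Lib.Helper75.powEqIffAt_of_regAt
        (Cfsg.Agent.Lib.Helper75.isRegularPGroup_iff_regAt.mp hreg 1)
    set mk := QuotientGroup.mk' ΦN with hmk
    have hmks : Function.Surjective mk := QuotientGroup.mk'_surjective ΦN
    set Nhat : Subgroup (R ⧸ ΦN) := N.map mk with hNhat
    have hT : ∀ x : R ⧸ ΦN, x ^ p ∈ Nhat := by
      intro x
      obtain ⟨g, rfl⟩ := hmks x
      rw [← map_pow]
      exact Subgroup.mem_map_of_mem _ (hpowN g)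
    have hcount1 := card_le_card_mul_card_omega hPE Nhat hT
    have hNhatidx : Nhat.index = p ^ 3 := by
      rw [hNhat, Subgroup.index_map_eq _ hmks (by rw [hmk, QuotientGroup.ker_mk']; exact hΦNle), he]
    set Ωh : Subgroup (R ⧸ ΦN) := hPE.omega with hΩh
    have hΩ3 : p ^ 3 ≤ Nat.card Ωh := by
      have h1 := Nhat.index_mul_card
      rw [hNhatidx] at h1
      rw [← h1, mul_comm (Nat.card ↥Nhat)] at hcount1
      exact Nat.le_of_mul_le_mul_right hcount1 Nat.card_pos
    -- the preimage
    set X : Subgroup R := Ωh.comap mk with hX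
    have hXidx : X.index = Ωh.index := Subgroup.index_comap_of_surjective _ hmks
    have hcardX : Nat.card X = Nat.card Ωh * Nat.card ΦN := by
      have h1 := X.index_mul_card
      have h2 := Ωh.index_mul_card
      have h3 := Subgroup.card_eq_card_quotient_mul_card_subgroup ΦN
      rw [← h1, ← h2, hXidx, mul_assoc] at h3
      exact Nat.eq_of_mul_eq_mul_left (Nat.pos_of_ne_zero Subgroup.index_ne_zero_of_finite) h3
    set E : Subgroup R := Cfsg.omegaOne p (⊤ : Subgroup R) with hE
    have hXle : X ≤ E ⊔ N := by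
      intro x hx
      have h1 : (mk x) ^ p ^ 1 = 1 := hx
      rw [pow_one, ← map_pow, hmk, QuotientGroup.mk'_apply, QuotientGroup.eq_one_iff] at h1
      obtain ⟨ν, hν, hνx⟩ := h1
      obtain ⟨m, hm⟩ := exists_pow_eq_of_mem_frattini_of_isMetacyclic hp2 hNp hNmeta hν
      obtain ⟨M, hM, hxM⟩ := exists_coatom_mem hcyc x
      have hNM : N ≤ M := le_trans hNfr (frattini_le_coatom hM)
      have hmM : (m : R) ∈ M := hNM m.2
      have h2 : (⟨x, hxM⟩ : ↥M) ^ p = (⟨(m : R), hmM⟩ : ↥M) ^ p := by
        apply Subtype.ext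
        rw [Subgroup.coe_pow, Subgroup.coe_pow]
        show x ^ p = (m : R) ^ p
        rw [← Subgroup.coe_pow, hm]
        exact hνx.symm
      have h3 := pow_eq_pow_of_isMetacyclic hp2 (hR.to_subgroup M) (hsub M hM.1) h2
      have h4 : (x⁻¹ * (m : R)) ^ p = 1 := by
        have := congrArg Subtype.val h3
        simpa using this
      have h5 : x⁻¹ * (m : R) ∈ E := Subgroup.subset_closure ⟨Subgroup.mem_top _, h4⟩
      have h6 : x = (m : R) * (x⁻¹ * (m : R))⁻¹ := by group
      rw [h6, sup_comm]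
      exact Subgroup.mul_mem_sup m.2 (Subgroup.inv_mem _ h5)
    have hsup := Cfsg.Agent.Lib.Helper01.card_sup_mul_card_inf N E
    have hcX : Nat.card X ≤ Nat.card (E ⊔ N : Subgroup R) := Subgroup.card_le_of_le hXle
    have hPEN : Cfsg.Agent.Lib.Helper75.PowEqIffAt p 1 ↥N :=
      Cfsg.Agent.Lib.Helper75.powEqIffAt_of_regAt (regAt_one_of_isMetacyclic hp2 hNp hNmeta)
    have hNfib := card_le_card_mul_card_omega hPEN (frattini ↥N)
      (fun x => Cfsg.Agent.Lib.Helper75.pow_mem_frattini_of_isPGroup' hNp x)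
    have hcΦ : Nat.card ΦN = Nat.card (frattini ↥N) :=
      Subgroup.card_map_of_injective N.subtype_injective
    have hcω : Nat.card hPEN.omega ≤ Nat.card (N ⊓ E : Subgroup R) := by
      rw [← Subgroup.card_map_of_injective N.subtype_injective]
      apply Subgroup.card_le_of_le
      rintro _ ⟨y, hy, rfl⟩
      refine ⟨y.2, ?_⟩
      apply Subgroup.subset_closure
      refine ⟨Subgroup.mem_top _, ?_⟩
      have h1 : y ^ p ^ 1 = 1 := hy
      rw [pow_one] at h1
      have := congrArg Subtype.val h1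
      simpa using this
    -- arithmetic
    set cΦ := Nat.card ΦN
    set cI := Nat.card (N ⊓ E : Subgroup R)
    have hcΦpos : 0 < cΦ := Nat.card_pos
    have hcIpos : 0 < cI := Nat.card_pos
    have h1 : p ^ 3 * cΦ ≤ Nat.card (E ⊔ N : Subgroup R) := by
      refine le_trans ?_ hcX
      rw [hcardX]
      exact Nat.mul_le_mul_right _ hΩ3
    have h2 : p ^ 3 * cΦ * cI ≤ Nat.card ↥N * Nat.card ↥E := by
      rw [← hsup]
      exact Nat.mul_le_mul_right _ h1
    have h3 : Nat.card ↥N * Nat.card ↥E ≤ (cΦ * cI) * p ^ 2 := by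
      refine Nat.mul_le_mul ?_ hO
      refine le_trans hNfib ?_
      rw [← hcΦ]
      exact Nat.mul_le_mul_left _ hcω
    have h4 : p ^ 3 * (cΦ * cI) ≤ p ^ 2 * (cΦ * cI) := by
      calc p ^ 3 * (cΦ * cI) = p ^ 3 * cΦ * cI := by ring
        _ ≤ Nat.card ↥N * Nat.card ↥E := h2
        _ ≤ (cΦ * cI) * p ^ 2 := h3
        _ = p ^ 2 * (cΦ * cI) := by ring
    have h5 : p ^ 3 ≤ p ^ 2 := Nat.le_of_mul_le_mul_right h4 (Nat.mul_pos hcΦpos hcIpos)
    have h6 : 3 ≤ 2 := (Nat.pow_le_pow_iff_right hp.out.one_lt).mp h5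
    omega

/-- For `p > 3`, a finite `p`-group whose elements of order dividing `p` generate a subgroup of
order at most `p ^ 2` is metacyclic. -/
theorem isMetacyclic_of_card_omegaOne_le {R : Type u} [Group R] [Finite R] {p : ℕ}
    [hp : Fact p.Prime] (hp3 : 3 < p) (hR : IsPGroup p R)
    (hO : Nat.card ↥(Cfsg.omegaOne p (⊤ : Subgroup R)) ≤ p ^ 2) : Cfsg.IsMetacyclic R :=
  isMetacyclic_of_card_omegaOne_le_aux p hp3 _ R rfl hR hO

end Cfsg.Agent.Lib.Helper72
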