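import Mathlib
import Cfsg.Prelude.Def_PLocal
import Cfsg.Prelude.Def_Transfer
import Cfsg.Agent.S0063
import Cfsg.Agent.S4209
import Cfsg.Agent.Lib.Helper01.Basic
import Cfsg.Agent.Lib.Helper06.NormalRankTwo
import Cfsg.Agent.Lib.Helper14.PLocal
import Cfsg.Agent.Lib.Helper68.MetaGen
import Cfsg.Agent.Lib.Helper72.OmegaSmall
import Cfsg.Agent.Lib.Helper75.PGroupFrattini
import Cfsg.Agent.Lib.Helper75.RegularLevel
import Cfsg.Agent.Lib.Helper78.MaxClass2Nilpotent

/-! For `p > 3`, in a finite `p`-group of rank at most two the elements of order dividing `p` form a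
subgroup. -/

set_option autoImplicit false
set_option linter.style.haveILetI false

namespace Cfsg.Agent.Lib.Helper72

open scoped commutatorElement

universe u

/-- a strict inclusion of subgroups of a finite `p`-group multiplies the order by at least `p` -/
theorem mul_card_le_of_lt {G : Type*} [Group G] [Finite G] {p : ℕ} [hp : Fact p.Prime]
    (hG : IsPGroup p G) {H K : Subgroup G} (hlt : H < K) : p * Nat.card H ≤ Nat.card K := by
  obtain ⟨m, hm⟩ := Subgroup.card_dvd_of_le hlt.le
  obtain ⟨k, hk⟩ := IsPGroup.iff_card.mp (hG.to_subgroup K)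
  have hm1 : m ≠ 1 := by
    intro h1
    rw [h1, mul_one] at hm
    exact hlt.ne (Subgroup.eq_of_le_of_card_ge hlt.le hm.le)
  have hmd : m ∣ p ^ k := by rw [← hk, hm]; exact Dvd.intro_left _ rfl
  obtain ⟨j, _, rfl⟩ := (Nat.dvd_prime_pow hp.out).mp hmd
  rcases Nat.eq_zero_or_pos j with rfl | hj
  · exact absurd (pow_zero p) hm1
  · rw [hm, mul_comm]
    apply Nat.mul_le_mul_left
    calc p = p ^ 1 := (pow_one p).symm
      _ ≤ p ^ j := Nat.pow_le_pow_right hp.out.pos hj

/-- a finite group of exponent `p` and order at least `p ^ 4` has an elementary abelian subgroup of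
order at least `p ^ 3` -/
theorem exists_elementaryAbelian_of_exponent {G : Type u} [Group G] [Finite G] {p : ℕ}
    [hp : Fact p.Prime] (hexp : ∀ g : G, g ^ p = 1) (hcard : p ^ 4 ≤ Nat.card G) :
    ∃ A : Subgroup G, Cfsg.IsElementaryAbelian p A ∧ p ^ 3 ≤ Nat.card A := by
  have hG : IsPGroup p G := fun g => ⟨1, by rw [pow_one]; exact hexp g⟩
  have hp1 : 1 < p := hp.out.one_lt
  have hnt : (⊤ : Subgroup G) ≠ ⊥ := by
    intro h
    have h1 : Nat.card (⊤ : Subgroup G) = 1 := by rw [h]; exact Subgroup.card_bot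
    rw [Subgroup.card_top] at h1
    have : 1 < p ^ 4 := Nat.one_lt_pow (by norm_num) hp1
    omega
  obtain ⟨z, -, hz1, hzp, hzc⟩ :=
    Cfsg.Agent.Lib.Helper06.exists_central_order_p_mem_normal hG (⊤ : Subgroup G) hnt
  have hzcomm : ∀ g : G, g * z = z * g := fun g => Subgroup.mem_center_iff.mp hzc g
  set Z : Subgroup G := Subgroup.zpowers z with hZ
  have hZn : Z.Normal := by
    constructor
    intro w hw g
    obtain ⟨m, rfl⟩ := Subgroup.mem_zpowers_iff.mp hw
    have h1 : g * z ^ m * g⁻¹ = z ^ m := by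
      have : Commute g (z ^ m) := Commute.zpow_right (show Commute g z from hzcomm g) m
      rw [this.eq]; group
    rw [h1]; exact hw
  have hcardZ : Nat.card Z = p := by rw [hZ, Nat.card_zpowers, orderOf_eq_prime hzp hz1]
  -- a central element of the quotient
  have hQnt : (⊤ : Subgroup (G ⧸ Z)) ≠ ⊥ := by
    intro h
    have h1 : Nat.card (⊤ : Subgroup (G ⧸ Z)) = 1 := by rw [h]; exact Subgroup.card_bot
    rw [Subgroup.card_top] at h1
    have h2 := Subgroup.card_eq_card_quotient_mul_card_subgroup Z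
    rw [h1, one_mul] at h2
    have h3 : p ^ 1 < p ^ 4 := Nat.pow_lt_pow_right hp1 (by norm_num)
    rw [pow_one] at h3
    rw [h2, hcardZ] at hcard
    omega
  obtain ⟨wb, -, hwb1, -, hwbc⟩ :=
    Cfsg.Agent.Lib.Helper06.exists_central_order_p_mem_normal (hG.to_quotient Z)
      (⊤ : Subgroup (G ⧸ Z)) hQnt
  obtain ⟨w, rfl⟩ := QuotientGroup.mk_surjective wb
  have hwZ : w ∉ Z := by
    intro h
    exact hwb1 ((QuotientGroup.eq_one_iff w).mpr h)
  have hcommZ : ∀ g : G, g * w * g⁻¹ * w⁻¹ ∈ Z := by
    intro g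
    rw [← QuotientGroup.eq_one_iff]
    have h1 := Subgroup.mem_center_iff.mp hwbc (QuotientGroup.mk g)
    simp only [QuotientGroup.mk_mul, QuotientGroup.mk_inv]
    rw [h1]; group
  have hidx : (Subgroup.centralizer ({w} : Set G)).index ≤ p := by
    rw [← hcardZ]
    exact Cfsg.Agent.Lib.Helper68.MC.index_centralizer_le Z w hcommZ
  have hcardC : p ^ 3 ≤ Nat.card (Subgroup.centralizer ({w} : Set G)) := by
    have h1 := (Subgroup.centralizer ({w} : Set G)).card_mul_index
    have h2 : p ^ 4 ≤ Nat.card (Subgroup.centralizer ({w} : Set G)) * p := by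
      calc p ^ 4 ≤ Nat.card G := hcard
        _ = _ := h1.symm
        _ ≤ _ := Nat.mul_le_mul_left _ hidx
    have h3 : p ^ 4 = p ^ 3 * p := by ring
    rw [h3] at h2
    exact Nat.le_of_mul_le_mul_right h2 hp.out.pos
  set B : Subgroup G := Subgroup.zpowers w ⊔ Z with hB
  have hcardB : Nat.card B ≤ p ^ 2 := by
    have h1 := Cfsg.Agent.Lib.Helper01.card_sup_mul_card_inf Z (Subgroup.zpowers w)
    have h2 : Nat.card (Subgroup.zpowers w) ≤ p := by
      rw [Nat.card_zpowers]
      exact Nat.le_of_dvd hp.out.pos (orderOf_dvd_of_pow_eq_one (hexp w))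
    have h3 : 0 < Nat.card (Z ⊓ Subgroup.zpowers w : Subgroup G) := Nat.card_pos
    calc Nat.card B ≤ Nat.card B * Nat.card (Z ⊓ Subgroup.zpowers w : Subgroup G) :=
          Nat.le_mul_of_pos_right _ h3
      _ = Nat.card Z * Nat.card (Subgroup.zpowers w) := h1
      _ ≤ p * p := by rw [hcardZ]; exact Nat.mul_le_mul_left _ h2
      _ = p ^ 2 := (pow_two p).symm
  obtain ⟨c, hcC, hcB⟩ : ∃ c ∈ Subgroup.centralizer ({w} : Set G), c ∉ B := by
    by_contra hcon
    push Not at hcon
    have h1 : Subgroup.centralizer ({w} : Set G) ≤ B := fun c hc => hcon c hc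
    have h2 := Subgroup.card_le_of_le h1
    have : p ^ 2 < p ^ 3 := Nat.pow_lt_pow_right hp1 (by norm_num)
    omega
  have hcw : c * w = w * c := by
    have := Subgroup.mem_centralizer_iff.mp hcC w rfl
    exact this.symm
  set A : Subgroup G := Subgroup.closure ({z, w, c} : Set G) with hA
  have hzA : z ∈ A := Subgroup.subset_closure (by simp)
  have hwA : w ∈ A := Subgroup.subset_closure (by simp)
  have hcA : c ∈ A := Subgroup.subset_closure (by simp)
  refine ⟨A, ?_, ?_⟩
  · apply Cfsg.Agent.Lib.Helper14.isElementaryAbelian_closure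
    · intro a ha b hb
      simp only [Set.mem_insert_iff, Set.mem_singleton_iff] at ha hb
      rcases ha with rfl | rfl | rfl <;> rcases hb with rfl | rfl | rfl
      · rfl
      · exact (hzcomm _).symm
      · exact (hzcomm _).symm
      · exact hzcomm _
      · rfl
      · exact hcw.symm
      · exact hzcomm _
      · exact hcw
      · rfl
    · intro a _
      exact hexp a
  · have hZB : Z < B := by
      refine lt_of_le_of_ne le_sup_right ?_
      intro h
      apply hwZ
      rw [h]
      exact (le_sup_left : Subgroup.zpowers w ≤ B) (Subgroup.mem_zpowers w)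
    have hBA : B < A := by
      have hle : B ≤ A := sup_le (Subgroup.zpowers_le.mpr hwA) (Subgroup.zpowers_le.mpr hzA)
      refine lt_of_le_of_ne hle ?_
      intro h
      apply hcB
      rw [h]
      exact hcA
    have h1 := mul_card_le_of_lt hG hZB
    have h2 := mul_card_le_of_lt hG hBA
    rw [hcardZ] at h1
    calc p ^ 3 = p * (p * p) := by ring
      _ ≤ p * Nat.card B := Nat.mul_le_mul_left _ h1
      _ ≤ Nat.card A := h2

/-- for `p ≥ 5`, a group of order at most `p ^ 5` satisfies `x ^ p = y ^ p ↔ (x⁻¹ y) ^ p = 1` -/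
theorem powEqIffAt_of_card_le {G : Type u} [Group G] [Finite G] {p : ℕ} [hp : Fact p.Prime]
    (hp5 : 5 ≤ p) (hG : IsPGroup p G) (hcard : Nat.card G ≤ p ^ 5) :
    Cfsg.Agent.Lib.Helper75.PowEqIffAt p 1 G := by
  obtain ⟨m, hm⟩ := IsPGroup.iff_card.mp hG
  have hm5 : m ≤ 5 := by
    rw [hm] at hcard
    exact (Nat.pow_le_pow_iff_right hp.out.one_lt).mp hcard
  haveI : Group.IsNilpotent G := hG.isNilpotent
  have hclass : Group.nilpotencyClass G ≤ 4 := by
    by_cases hm2 : m ≤ 2
    · have := Cfsg.Agent.Lib.Helper78.nilpotencyClass_le_one_of_comm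
        (comm_of_card_le_prime_sq (p := p) hm2 hm)
      omega
    · have := Cfsg.Agent.S0063.result p m hm (by omega)
      omega
  have hlcs : (⊤ : Subgroup G).lowerCentralSeries (p - 1) = ⊥ :=
    Subgroup.lowerCentralSeries_eq_bot_iff_nilpotencyClass_le.mpr (by omega)
  have hreg : Cfsg.IsRegularPGroup p G := Cfsg.Agent.S4209.result hG hlcs
  exact Cfsg.Agent.Lib.Helper75.powEqIffAt_of_regAt
    (Cfsg.Agent.Lib.Helper75.isRegularPGroup_iff_regAt.mp hreg 1)

/-- for `p ≥ 5`, in a group of order at most `p ^ 5` the elements of order dividing `p` generate a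
subgroup of exponent dividing `p` -/
theorem pow_eq_one_of_mem_closure_of_card_le {G : Type u} [Group G] [Finite G] {p : ℕ}
    [hp : Fact p.Prime] (hp5 : 5 ≤ p) (hG : IsPGroup p G) (hcard : Nat.card G ≤ p ^ 5) (g : G)
    (hg : g ∈ Subgroup.closure {x : G | x ^ p = 1}) : g ^ p = 1 := by
  have hPE := powEqIffAt_of_card_le hp5 hG hcard
  induction hg using Subgroup.closure_induction with
  | mem x hx => exact hx
  | one => exact one_pow p
  | mul x y _ _ hx hy =>
    have := hPE.mul_pow_eq_one (x := x) (y := y) (by rw [pow_one]; exact hx) (by rw [pow_one]; exact hy)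
    rwa [pow_one] at this
  | inv x _ hx => rw [inv_pow, hx, inv_one]

/-- For `p > 3`, in a finite `p`-group in which every elementary abelian subgroup has order at most
`p ^ 2`, the product of two elements of order dividing `p` has order dividing `p`. -/
theorem mul_pow_eq_one_of_rank_le_two_aux (p : ℕ) [hp : Fact p.Prime] (hp3 : 3 < p) :
    ∀ (n : ℕ) (R : Type u) [Group R] [Finite R], Nat.card R = n → IsPGroup p R →
      (∀ E : Subgroup R, Cfsg.IsElementaryAbelian p E → Nat.card E ≤ p ^ 2) →
      ∀ x y : R, x ^ p = 1 → y ^ p = 1 → (x * y) ^ p = 1 := by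
  intro n
  induction n using Nat.strong_induction_on with
  | _ n ih =>
  intro R _ _ hcard hR hrk x y hx hy
  have hp5 : 5 ≤ p := by
    have h4 : p ≠ 4 := by
      intro h
      have h1 := hp.out
      rw [h] at h1
      exact absurd h1 (by norm_num)
    omega
  have hp1 : 1 < p := hp.out.one_lt
  -- the rank hypothesis passes to subgroups
  have hrkK : ∀ K : Subgroup R, ∀ E : Subgroup ↥K, Cfsg.IsElementaryAbelian p E →
      Nat.card E ≤ p ^ 2 := by
    intro K E hE
    rw [← Subgroup.card_map_of_injective K.subtype_injective]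
    apply hrk
    refine ⟨?_, ?_⟩
    · haveI := hE.1
      infer_instance
    · rintro _ ⟨a, ha, rfl⟩
      rw [Subgroup.coe_subtype, ← Subgroup.coe_pow, hE.2 a ha, Subgroup.coe_one]
  -- induction hypothesis for proper subgroups
  have hIH : ∀ K : Subgroup R, K ≠ ⊤ → ∀ g ∈ Subgroup.closure {u : ↥K | u ^ p = 1}, g ^ p = 1 := by
    intro K hK g hg
    have h1 : Nat.card ↥K < n := hcard ▸ Cfsg.Agent.Lib.Helper75.card_subgroup_lt K hK
    have hmul := ih _ h1 ↥K rfl (hR.to_subgroup K) (hrkK K)
    induction hg using Subgroup.closure_induction with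
    | mem u hu => exact hu
    | one => exact one_pow p
    | mul u v _ _ hu hv => exact hmul u v hu hv
    | inv u _ hu => rw [inv_pow, hu, inv_one]
  -- subgroups of exponent `p` have order at most `p ^ 3`
  have hexp3 : ∀ H : Subgroup R, (∀ h ∈ H, h ^ p = 1) → Nat.card H ≤ p ^ 3 := by
    intro H hH
    by_contra hcon
    push Not at hcon
    obtain ⟨k, hk⟩ := IsPGroup.iff_card.mp (hR.to_subgroup H)
    have hk4 : 4 ≤ k := by
      rw [hk] at hcon
      have := (Nat.pow_lt_pow_iff_right hp1).mp hcon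
      omega
    have h4 : p ^ 4 ≤ Nat.card H := by rw [hk]; exact Nat.pow_le_pow_right hp.out.pos hk4
    obtain ⟨A, hA, hcA⟩ := exists_elementaryAbelian_of_exponent (G := ↥H) (p := p)
      (fun g => by
        apply Subtype.ext
        rw [Subgroup.coe_pow, hH g g.2, Subgroup.coe_one]) h4
    have h5 := hrkK H A hA
    have h6 : p ^ 2 < p ^ 3 := Nat.pow_lt_pow_right hp1 (by norm_num)
    omega
  by_cases hcyc : IsCyclic R
  · have hcomm : Commute x y := by
      letI := hcyc.commGroup
      exact mul_comm x y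
    rw [hcomm.mul_pow, hx, hy, one_mul]
  obtain ⟨M, hM, hxM⟩ := exists_coatom_mem hcyc x
  have hMn : M.Normal := Cfsg.Agent.Lib.Helper75.normal_of_isCoatom_of_isPGroup' hR hM
  set W : Subgroup R := Subgroup.closure {u : R | u ∈ M ∧ u ^ p = 1} with hW
  have hWn : W.Normal := by
    apply normal_closure_of_conj_invariant
    rintro u ⟨huM, hup⟩ g
    exact ⟨hMn.conj_mem u huM g, by rw [conj_pow, hup]; group⟩
  have hWexp : ∀ w ∈ W, w ^ p = 1 := by
    have h1 : W = (Subgroup.closure {u : ↥M | u ^ p = 1}).map M.subtype := by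
      rw [MonoidHom.map_closure, hW]
      congr 1
      ext u
      constructor
      · rintro ⟨huM, hup⟩
        exact ⟨⟨u, huM⟩, by apply Subtype.ext; simpa using hup, rfl⟩
      · rintro ⟨v, hv, rfl⟩
        refine ⟨v.2, ?_⟩
        have hv' : v ^ p = 1 := hv
        have := congrArg Subtype.val hv'
        simpa using this
    intro w hw
    rw [h1] at hw
    obtain ⟨v, hv, rfl⟩ := hw
    have := hIH M hM.1 v hv
    rw [Subgroup.coe_subtype, ← Subgroup.coe_pow, this, Subgroup.coe_one]
  have hxW : x ∈ W := Subgroup.subset_closure ⟨hxM, hx⟩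
  set H' : Subgroup R := Subgroup.zpowers y ⊔ W with hH'
  have hyH' : y ∈ H' := (le_sup_left : Subgroup.zpowers y ≤ H') (Subgroup.mem_zpowers y)
  have hWH' : W ≤ H' := le_sup_right
  have hcardH' : Nat.card H' ≤ Nat.card W * p := by
    have h1 := Cfsg.Agent.Lib.Helper01.card_sup_mul_card_inf W (Subgroup.zpowers y)
    have h2 : Nat.card (Subgroup.zpowers y) ≤ p := by
      rw [Nat.card_zpowers]
      exact Nat.le_of_dvd hp.out.pos (orderOf_dvd_of_pow_eq_one hy)
    have h3 : 0 < Nat.card (W ⊓ Subgroup.zpowers y : Subgroup R) := Nat.card_pos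
    calc Nat.card H' ≤ Nat.card H' * Nat.card (W ⊓ Subgroup.zpowers y : Subgroup R) :=
          Nat.le_mul_of_pos_right _ h3
      _ = Nat.card W * Nat.card (Subgroup.zpowers y) := h1
      _ ≤ Nat.card W * p := Nat.mul_le_mul_left _ h2
  have hW3 : Nat.card W ≤ p ^ 3 := hexp3 W hWexp
  have hc5 : Nat.card ↥H' ≤ p ^ 5 := by
    calc Nat.card H' ≤ Nat.card W * p := hcardH'
      _ ≤ p ^ 3 * p := Nat.mul_le_mul_right _ hW3
      _ = p ^ 4 := by ring
      _ ≤ p ^ 5 := Nat.pow_le_pow_right hp.out.pos (by norm_num)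
  have hgen : ∀ h : ↥H', h ∈ Subgroup.closure {u : ↥H' | u ^ p = 1} := by
    intro h
    have h1 : H' ≤ (Subgroup.closure {u : ↥H' | u ^ p = 1}).map H'.subtype := by
      rw [hH']
      apply sup_le
      · rw [Subgroup.zpowers_le]
        exact ⟨⟨y, hyH'⟩, Subgroup.subset_closure (by apply Subtype.ext; simpa using hy), rfl⟩
      · intro w hw
        exact ⟨⟨w, hWH' hw⟩,
          Subgroup.subset_closure (by apply Subtype.ext; simpa using hWexp w hw), rfl⟩
    obtain ⟨v, hv, hvh⟩ := h1 h.2
    have : v = h := Subtype.ext hvh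
    rwa [this] at hv
  have hfin := pow_eq_one_of_mem_closure_of_card_le hp5 (hR.to_subgroup H') hc5
    (⟨x, hWH' hxW⟩ * ⟨y, hyH'⟩) (hgen _)
  have := congrArg Subtype.val hfin
  simpa using this

/-- For `p > 3`, in a finite `p`-group of rank at most two the elements of order dividing `p`
generate a subgroup of exponent dividing `p`. -/
theorem pow_eq_one_of_mem_closure_of_rank_le_two {R : Type u} [Group R] [Finite R] {p : ℕ}
    [hp : Fact p.Prime] (hp3 : 3 < p) (hR : IsPGroup p R)
    (hrk : ∀ E : Subgroup R, Cfsg.IsElementaryAbelian p E → Nat.card E ≤ p ^ 2) (g : R)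
    (hg : g ∈ Subgroup.closure {x : R | x ^ p = 1}) : g ^ p = 1 := by
  have hmul := mul_pow_eq_one_of_rank_le_two_aux p hp3 _ R rfl hR hrk
  induction hg using Subgroup.closure_induction with
  | mem u hu => exact hu
  | one => exact one_pow p
  | mul u v _ _ hu hv => exact hmul u v hu hv
  | inv u _ hu => rw [inv_pow, hu, inv_one]

end Cfsg.Agent.Lib.Helper72
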