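import Mathlib
import Cfsg.Agent.Lib.Helper71.BG1366Defs
import Cfsg.Agent.Lib.Helper15.BG142Defs
import Cfsg.Agent.Lib.Helper55.Basic
import Cfsg.Agent.Lib.Helper77.BG147N

/-!
# K-1366-E (keystone 136606, pack of helper71 for S1366 / S1368 / S1351): `zhat_conj_mem`
-/

set_option autoImplicit false

namespace Cfsg.Agent.Lib.Helper72.BG1366

open Cfsg Subgroup Cfsg.Agent.Lib.Helper55 Cfsg.Agent.Lib.Helper11.BG14D Cfsg.Agent.Lib.Helper11.BG144
  Cfsg.Agent.Lib.Helper31.BG147 Cfsg.Agent.Lib.Helper71.BG1366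

variable {G : Type*} [Group G] [Finite G]

omit [Finite G] in
theorem eq_one_of_pow_coprime {a : G} {m n : ℕ} (hmn : m.Coprime n) (hm : a ^ m = 1) (hn : a ^ n = 1) : a = 1 := by
  have h1 := orderOf_dvd_of_pow_eq_one hm
  have h2 := orderOf_dvd_of_pow_eq_one hn
  have h3 : orderOf a ∣ 1 := by
    have := Nat.dvd_gcd h1 h2
    rwa [Nat.Coprime.gcd_eq_one hmn] at this
  exact orderOf_eq_one_iff.mp (Nat.dvd_one.mp h3)

/-- **K-1366-E** (136606). -/
theorem zhat_conj_mem (hG : IsMinSimpleOddOrder G) (h31 : H1431 G) {M K : Subgroup G} (hM : IsCoatom M)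
    (hK : IsPiHallOf (kappa M) K M) (hK1 : K ≠ ⊥) {z g : G} (hz : z ∈ Zhat M K)
    (hg : g * z * g⁻¹ ∈ K ⊔ Ks M K) : g ∈ K ⊔ Ks M K := by
  have hc : Ks M K ≤ centralizer (K : Set G) := inf_le_right
  have hcop := Cfsg.Agent.Lib.Helper77.BG147.coprime_card_Ks hG hM hK
  obtain ⟨x, hx, y, hy, hx1, hy1, hzxy, hxy⟩ := Cfsg.Agent.Lib.Helper77.BG147.parts_of_mem hc hz
  have hpK : ∀ a ∈ K, a ^ Nat.card K = 1 := by
    intro a ha
    have := pow_card_eq_one' (G := K) (x := ⟨a, ha⟩)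
    exact congrArg Subtype.val this
  have hpY : ∀ a ∈ Ks M K, a ^ Nat.card (Ks M K) = 1 := by
    intro a ha
    have := pow_card_eq_one' (G := Ks M K) (x := ⟨a, ha⟩)
    exact congrArg Subtype.val this
  have hconj_pow : ∀ (a : G) (n : ℕ), (g * a * g⁻¹) ^ n = g * a ^ n * g⁻¹ := by
    intro a n
    exact conj_pow
  have hcomm : Commute x y := hxy
  have hcancel : ∀ a : G, g * a * g⁻¹ = 1 → a = 1 := by
    intro a h
    have : a = g⁻¹ * (g * a * g⁻¹) * g := by group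
    rw [this, h]; group
  apply Cfsg.Agent.Lib.Helper77.BG147.zhat_normalizer hG h31 hM hK hK1 hz
  refine ⟨hg, ?_⟩
  rintro (hw | hw)
  · -- `g z g⁻¹ ∈ K`
    have h1 := hpK _ hw
    rw [hconj_pow, hzxy, hcomm.mul_pow, hpK x hx, one_mul] at h1
    exact hy1 (eq_one_of_pow_coprime hcop (hcancel _ h1) (hpY y hy))
  · -- `g z g⁻¹ ∈ K*`
    have h1 := hpY _ hw
    rw [hconj_pow, hzxy, hcomm.mul_pow, hpY y hy, mul_one] at h1
    exact hx1 (eq_one_of_pow_coprime hcop (hpK x hx) (hcancel _ h1))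

end Cfsg.Agent.Lib.Helper72.BG1366
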