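import Mathlib
import Cfsg.Prelude.Def_Solvable

/-!
# K-G42 pack (S2553): shared definitions

Configuration used by all leaves: `K ≤ A_8` a permutation group on `Fin 8` without nontrivial solvable normal
subgroups, `N` a perfect minimal normal subgroup of `K`, `Δ` the unique nontrivial orbit of `N`.
All subgroups live in the ambient `Equiv.Perm (Fin 8)`.
-/

set_option autoImplicit false

namespace Cfsg.Agent.Lib.Helper72.G42

/-- `M` is normalized by `K` (both subgroups of the same ambient group). -/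
def NormalizedBy {G : Type*} [Group G] (K M : Subgroup G) : Prop :=
  ∀ k ∈ K, ∀ m ∈ M, k * m * k⁻¹ ∈ M

/-- The configuration. -/
structure Cfg (K N : Subgroup (Equiv.Perm (Fin 8))) (Δ : Finset (Fin 8)) : Prop where
  hKA : K ≤ alternatingGroup (Fin 8)
  hNK : N ≤ K
  hnorm : NormalizedBy K N
  hperf : ⁅N, N⁆ = N
  hN1 : N ≠ ⊥
  hmin : ∀ M : Subgroup (Equiv.Perm (Fin 8)), M ≤ N → NormalizedBy K M → M = ⊥ ∨ M = N
  hsolv : ∀ M : Subgroup (Equiv.Perm (Fin 8)), M ≤ K → NormalizedBy K M → Group.IsSolvable ↥M → M = ⊥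
  hcard : 5 ≤ Δ.card
  hfix : ∀ n ∈ N, ∀ x, x ∉ Δ → n x = x
  htrans : ∀ x ∈ Δ, ∀ y ∈ Δ, ∃ n ∈ N, n x = y

end Cfsg.Agent.Lib.Helper72.G42
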