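import Mathlib
import Cfsg.Prelude.Def_GeometricClasses
import Cfsg.Agent.Lib.Helper61.AschDefs
import Cfsg.Agent.Lib.Helper04.AschC1

/-!
K-S5630-C6 (keystone 214, architect helper61): a group normalizing an absolutely irreducible group that is
realisable over a proper subfield lies in a subfield group of prime index.
-/

set_option autoImplicit false
set_option maxHeartbeats 800000
set_option linter.unusedSectionVars false

namespace Cfsg.Agent.Lib.Helper72.Asch

open Cfsg Cfsg.Geo Cfsg.Agent.Lib.Helper61.Asch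
open scoped Matrix Kronecker MatrixGroups

variable {F : Type*} [Field F] [Fintype F] {n : ℕ}

/-- a proper subfield of a finite field lies in a subfield of prime index -/
theorem exists_subfield_prime_index (F₀ : Subfield F) (hF₀ : F₀ ≠ ⊤) :
    ∃ (F₁ : Subfield F) (r : ℕ), r.Prime ∧ F₀ ≤ F₁ ∧ Fintype.card F = Nat.card F₁ ^ r := by
  classical
  have : Fintype F₀ := Fintype.ofFinite _
  have hcard : Fintype.card F = Fintype.card F₀ ^ Module.finrank F₀ F :=
    Module.card_eq_pow_finrank (K := F₀) (V := F)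
  have he1 : Module.finrank F₀ F ≠ 1 := by
    intro e
    rw [e, pow_one] at hcard
    apply hF₀
    have h1 : F₀.toAddSubgroup = ⊤ := by
      apply AddSubgroup.eq_top_of_card_eq
      rw [Nat.card_eq_fintype_card, Nat.card_eq_fintype_card]
      exact hcard.symm
    rw [eq_top_iff]
    intro x _
    have : x ∈ F₀.toAddSubgroup := by rw [h1]; exact AddSubgroup.mem_top x
    exact this
  obtain ⟨r, hr, hre⟩ := Nat.exists_prime_and_dvd he1
  have : Fact r.Prime := ⟨hr⟩
  have hgal : Nat.card (F ≃ₐ[F₀] F) = Module.finrank F₀ F := IsGalois.card_aut_eq_finrank F₀ F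
  obtain ⟨σ, hσ⟩ := exists_prime_orderOf_dvd_card' (G := F ≃ₐ[F₀] F) r (by rw [hgal]; exact hre)
  have hH : Nat.card (Subgroup.zpowers σ) = r := by rw [Nat.card_zpowers, hσ]
  have hfr : Module.finrank (IntermediateField.fixedField (Subgroup.zpowers σ)) F = r := by
    rw [IntermediateField.finrank_fixedField_eq_card, hH]
  refine ⟨(IntermediateField.fixedField (Subgroup.zpowers σ)).toSubfield, r, hr, ?_, ?_⟩
  · intro x hx
    have h1 := (IntermediateField.fixedField (Subgroup.zpowers σ)).algebraMap_mem ⟨x, hx⟩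
    exact h1
  · have : Fintype (IntermediateField.fixedField (Subgroup.zpowers σ)) := Fintype.ofFinite _
    have h2 : Fintype.card F =
        Fintype.card (IntermediateField.fixedField (Subgroup.zpowers σ)) ^
          Module.finrank (IntermediateField.fixedField (Subgroup.zpowers σ)) F :=
      Module.card_eq_pow_finrank (K := IntermediateField.fixedField (Subgroup.zpowers σ)) (V := F)
    rw [hfr] at h2
    rw [h2, Fintype.card_eq_nat_card]
    rfl

/-- a set of matrices over a subfield spanning the full matrix algebra over the big field spans the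
matrix algebra over the subfield -/
theorem span_subfield_eq_top (F₁ : Subfield F) (S : Set (Matrix (Fin n) (Fin n) F₁))
    (hS : Submodule.span F ((F₁.subtype.mapMatrix : Matrix (Fin n) (Fin n) F₁ →+* _) '' S) = ⊤) :
    Submodule.span F₁ S = ⊤ := by
  classical
  by_contra hne
  have hlt : Submodule.span F₁ S < ⊤ := lt_top_iff_ne_top.mpr hne
  obtain ⟨f, hf0, hfk⟩ := Submodule.exists_le_ker_of_lt_top _ hlt
  -- the extension of the functional to the big field
  let Φ : Matrix (Fin n) (Fin n) F →ₗ[F] F :=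
    ∑ i, ∑ j, ((f (Matrix.single i j 1) : F₁) : F) • Matrix.entryLinearMap F F i j
  have hΦ : ∀ M : Matrix (Fin n) (Fin n) F,
      Φ M = ∑ i, ∑ j, ((f (Matrix.single i j 1) : F₁) : F) * M i j := by
    intro M
    simp only [Φ, LinearMap.sum_apply, LinearMap.smul_apply, Matrix.entryLinearMap_apply,
      smul_eq_mul]
  have key : ∀ M₁ : Matrix (Fin n) (Fin n) F₁,
      Φ (F₁.subtype.mapMatrix M₁) = F₁.subtype (f M₁) := by
    intro M₁
    rw [hΦ]
    conv_rhs => rw [Matrix.matrix_eq_sum_single M₁]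
    simp only [map_sum]
    apply Finset.sum_congr rfl
    intro i _
    apply Finset.sum_congr rfl
    intro j _
    have h1 : Matrix.single i j (M₁ i j) = (M₁ i j) • Matrix.single i j (1 : F₁) := by
      rw [Matrix.smul_single, smul_eq_mul, mul_one]
    rw [h1, map_smul, smul_eq_mul, map_mul, mul_comm]
    rfl
  have hΦ0 : Φ = 0 := by
    have h1 : Submodule.span F ((F₁.subtype.mapMatrix : Matrix (Fin n) (Fin n) F₁ →+* _) '' S) ≤
        LinearMap.ker Φ := by
      rw [Submodule.span_le]
      rintro _ ⟨M₁, hM₁, rfl⟩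
      change Φ _ = 0
      rw [key]
      have : f M₁ = 0 := hfk (Submodule.subset_span hM₁)
      rw [this, map_zero]
    rw [hS] at h1
    ext M
    exact h1 (Submodule.mem_top)
  apply hf0
  ext M₁
  have h2 := key M₁
  rw [hΦ0] at h2
  have h3 : F₁.subtype (f M₁) = 0 := h2.symm
  have h4 : f M₁ = 0 := by
    apply F₁.subtype.injective
    rw [h3, map_zero]
  rw [h4]; rfl

local notation "Mat" => Matrix (Fin n) (Fin n) F

/-- the span of a group of matrices is the algebra it generates -/
theorem span_matrixSet_eq_top (X : Subgroup (GL (Fin n) F)) (hX : spanAlg X = ⊤) :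
    Submodule.span F (matrixSet X) = ⊤ := by
  have hcl : (Submonoid.closure (matrixSet X) : Set Mat) = matrixSet X := by
    have h1 : matrixSet X = ((X.toSubmonoid.map (Units.coeHom Mat) : Submonoid Mat) : Set Mat) := by
      ext M
      simp only [matrixSet, Set.mem_image, SetLike.mem_coe, Submonoid.coe_map, Units.coeHom_apply,
        Subgroup.coe_toSubmonoid]
    rw [h1, Submonoid.closure_eq]
  have h2 := Algebra.adjoin_eq_span F (matrixSet X)
  rw [hcl] at h2
  rw [← h2]
  unfold spanAlg at hX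
  rw [hX]
  rfl

/-- K-S5630-C6. -/
theorem le_subfieldSubgroup_of_realisable (K X : Subgroup (GL (Fin n) F)) (hX : spanAlg X = ⊤)
    (hKX : NormBy K X) (F₀ : Subfield F) (hF₀ : F₀ ≠ ⊤) (hreal : RealisableOver F₀ (matrixSet X)) :
    ∃ (F₁ : Subfield F) (r : ℕ) (P : GL (Fin n) F), r.Prime ∧ Fintype.card F = Nat.card F₁ ^ r ∧
      K ≤ subfieldSubgroup F₁ P := by
  classical
  obtain ⟨F₁, r, hr, hle, hcard⟩ := exists_subfield_prime_index F₀ hF₀
  obtain ⟨B, hB⟩ := hreal
  refine ⟨F₁, r, B⁻¹, hr, hcard, ?_⟩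
  let emb : Matrix (Fin n) (Fin n) F₁ →+* Mat := F₁.subtype.mapMatrix
  have hemb_inj : Function.Injective emb := by
    intro a b hab
    ext i j
    have h1 := congrFun (congrFun hab i) j
    exact h1
  have hemb_smul : ∀ (c : F₁) (a : Matrix (Fin n) (Fin n) F₁), emb (c • a) = (c : F) • emb a := by
    intro c a
    ext i j
    rfl
  -- conjugates of elements of `X` are defined over `F₁`
  have hlift : ∀ x ∈ X, ∃ m : Matrix (Fin n) (Fin n) F₁,
      emb m = (B : Mat) * (x : Mat) * ((B⁻¹ : GL (Fin n) F) : Mat) := by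
    intro x hx
    refine ⟨fun i j => ⟨_, hle (hB (x : Mat) ⟨x, hx, rfl⟩ i j)⟩, ?_⟩
    ext i j
    rfl
  let S : Set (Matrix (Fin n) (Fin n) F₁) :=
    {m | ∃ x ∈ X, emb m = (B : Mat) * (x : Mat) * ((B⁻¹ : GL (Fin n) F) : Mat)}
  have hBB : ((B⁻¹ : GL (Fin n) F) : Mat) * (B : Mat) = 1 := by
    rw [← Units.val_mul, inv_mul_cancel, Units.val_one]
  have hBB' : (B : Mat) * ((B⁻¹ : GL (Fin n) F) : Mat) = 1 := by
    rw [← Units.val_mul, mul_inv_cancel, Units.val_one]
  have hspanF : Submodule.span F (emb '' S) = ⊤ := by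
    rw [eq_top_iff]
    intro M _
    have hp : ∀ N ∈ Submodule.span F (matrixSet X),
        (B : Mat) * N * ((B⁻¹ : GL (Fin n) F) : Mat) ∈ Submodule.span F (emb '' S) := by
      intro N hN
      induction hN using Submodule.span_induction with
      | mem N hN =>
        obtain ⟨x, hx, rfl⟩ := hN
        obtain ⟨m, hm⟩ := hlift x hx
        apply Submodule.subset_span
        exact ⟨m, ⟨x, hx, hm⟩, hm⟩
      | zero => rw [mul_zero, zero_mul]; exact Submodule.zero_mem _
      | add a b _ _ ha hb =>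
        rw [mul_add, add_mul]; exact Submodule.add_mem _ ha hb
      | smul c a _ ha =>
        rw [Matrix.mul_smul, Matrix.smul_mul]; exact Submodule.smul_mem _ c ha
    have h1 := hp (((B⁻¹ : GL (Fin n) F) : Mat) * M * (B : Mat))
      (by rw [span_matrixSet_eq_top X hX]; exact Submodule.mem_top)
    have h2 : (B : Mat) * (((B⁻¹ : GL (Fin n) F) : Mat) * M * (B : Mat)) *
        ((B⁻¹ : GL (Fin n) F) : Mat) = M := by
      calc (B : Mat) * (((B⁻¹ : GL (Fin n) F) : Mat) * M * (B : Mat)) *
          ((B⁻¹ : GL (Fin n) F) : Mat)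
          = ((B : Mat) * ((B⁻¹ : GL (Fin n) F) : Mat)) * M *
            ((B : Mat) * ((B⁻¹ : GL (Fin n) F) : Mat)) := by simp only [mul_assoc]
        _ = M := by rw [hBB', one_mul, mul_one]
    rw [h2] at h1
    exact h1
  have hspan₁ : Submodule.span F₁ S = ⊤ := span_subfield_eq_top F₁ S hspanF
  intro k hk
  -- the conjugate of `k`
  obtain ⟨k', hk'⟩ : ∃ k' : GL (Fin n) F, k' = B * k * B⁻¹ := ⟨_, rfl⟩
  have hkk : ((k'⁻¹ : GL (Fin n) F) : Mat) * (k' : Mat) = 1 := by
    rw [← Units.val_mul, inv_mul_cancel, Units.val_one]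
  have hkk' : (k' : Mat) * ((k'⁻¹ : GL (Fin n) F) : Mat) = 1 := by
    rw [← Units.val_mul, mul_inv_cancel, Units.val_one]
  -- conjugation by `k'` preserves the matrices over `F₁`
  have hpres : ∀ m : Matrix (Fin n) (Fin n) F₁, ∃ m' : Matrix (Fin n) (Fin n) F₁,
      emb m' = (k' : Mat) * emb m * ((k'⁻¹ : GL (Fin n) F) : Mat) := by
    intro m
    have hm : m ∈ Submodule.span F₁ S := by rw [hspan₁]; exact Submodule.mem_top
    induction hm using Submodule.span_induction with
    | mem s hs =>
      obtain ⟨x, hx, hsx⟩ := hs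
      obtain ⟨m', hm'⟩ := hlift (k * x * k⁻¹) (hKX k hk x hx)
      refine ⟨m', ?_⟩
      rw [hm', hsx]
      have hg : B * (k * x * k⁻¹) * B⁻¹ = k' * (B * x * B⁻¹) * k'⁻¹ := by
        rw [hk']; group
      have := congrArg (fun u : GL (Fin n) F => (u : Mat)) hg
      simp only [Units.val_mul] at this ⊢
      exact this
    | zero => exact ⟨0, by rw [map_zero, mul_zero, zero_mul]⟩
    | add a b _ _ ha hb =>
      obtain ⟨a', ha'⟩ := ha
      obtain ⟨b', hb'⟩ := hb
      exact ⟨a' + b', by rw [map_add, ha', hb', map_add, mul_add, add_mul]⟩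
    | smul c a _ ha =>
      obtain ⟨a', ha'⟩ := ha
      refine ⟨c • a', ?_⟩
      rw [hemb_smul, ha', hemb_smul, Matrix.mul_smul, Matrix.smul_mul]
  choose θf hθ using hpres
  -- the induced algebra automorphism
  let θ : Matrix (Fin n) (Fin n) F₁ →ₐ[F₁] Matrix (Fin n) (Fin n) F₁ :=
    { toFun := θf
      map_one' := hemb_inj (by rw [hθ, map_one, mul_one, hkk'])
      map_mul' := fun a b => hemb_inj (by
        rw [hθ, map_mul, map_mul, hθ, hθ]
        calc (k' : Mat) * (emb a * emb b) * ((k'⁻¹ : GL (Fin n) F) : Mat)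
            = (k' : Mat) * emb a * 1 * emb b * ((k'⁻¹ : GL (Fin n) F) : Mat) := by
              simp only [mul_assoc, one_mul]
          _ = _ := by rw [← hkk]; simp only [mul_assoc])
      map_zero' := hemb_inj (by rw [hθ, map_zero, mul_zero, zero_mul])
      map_add' := fun a b => hemb_inj (by rw [hθ, map_add, map_add, hθ, hθ, mul_add, add_mul])
      commutes' := fun c => hemb_inj (by
        rw [hθ]
        have h1 : emb (algebraMap F₁ (Matrix (Fin n) (Fin n) F₁) c) =
            algebraMap F Mat (c : F) := by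
          ext i j
          simp only [emb, RingHom.mapMatrix_apply, Matrix.map_apply, Matrix.algebraMap_matrix_apply]
          split_ifs <;> simp
        rw [h1, ← Algebra.commutes, mul_assoc, hkk', mul_one]) }
  have hθinj : Function.Injective θ := by
    intro a b hab
    apply hemb_inj
    have h1 : emb (θf a) = emb (θf b) := congrArg emb hab
    rw [hθ, hθ] at h1
    calc emb a = ((k'⁻¹ : GL (Fin n) F) : Mat) * ((k' : Mat) * emb a *
        ((k'⁻¹ : GL (Fin n) F) : Mat)) * (k' : Mat) := by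
          simp only [mul_assoc, hkk, mul_one]; rw [← mul_assoc, hkk, one_mul]
      _ = ((k'⁻¹ : GL (Fin n) F) : Mat) * ((k' : Mat) * emb b *
        ((k'⁻¹ : GL (Fin n) F) : Mat)) * (k' : Mat) := by rw [h1]
      _ = emb b := by
          simp only [mul_assoc, hkk, mul_one]; rw [← mul_assoc, hkk, one_mul]
  have hθsurj : Function.Surjective θ :=
    LinearMap.surjective_of_injective (f := θ.toLinearMap) hθinj
  obtain ⟨C, hC⟩ := Cfsg.Agent.Lib.Helper04.Asch.exists_conj_of_algEquiv
    (AlgEquiv.ofBijective θ ⟨hθinj, hθsurj⟩)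
  -- the image of `C` over the big field
  have hCC : emb (C : Matrix (Fin n) (Fin n) F₁) *
      emb ((C⁻¹ : GL (Fin n) F₁) : Matrix (Fin n) (Fin n) F₁) = 1 := by
    rw [← map_mul, ← Units.val_mul, mul_inv_cancel, Units.val_one, map_one]
  have hCC' : emb ((C⁻¹ : GL (Fin n) F₁) : Matrix (Fin n) (Fin n) F₁) *
      emb (C : Matrix (Fin n) (Fin n) F₁) = 1 := by
    rw [← map_mul, ← Units.val_mul, inv_mul_cancel, Units.val_one, map_one]
  let g₁ : GL (Fin n) F := ⟨emb C, emb ((C⁻¹ : GL (Fin n) F₁) : Matrix (Fin n) (Fin n) F₁), hCC, hCC'⟩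
  have hg₁ : g₁ = Matrix.GeneralLinearGroup.map F₁.subtype C := by
    apply Units.ext
    rfl
  -- `g₁⁻¹ k'` centralizes the matrices over `F₁`
  have hcomm : ∀ m : Matrix (Fin n) (Fin n) F₁,
      ((g₁⁻¹ * k' : GL (Fin n) F) : Mat) * emb m = emb m * ((g₁⁻¹ * k' : GL (Fin n) F) : Mat) := by
    intro m
    have e1 : (k' : Mat) * emb m * ((k'⁻¹ : GL (Fin n) F) : Mat) =
        emb (C : Matrix (Fin n) (Fin n) F₁) * emb m *
          emb ((C⁻¹ : GL (Fin n) F₁) : Matrix (Fin n) (Fin n) F₁) := by
      rw [← hθ, ← map_mul, ← map_mul, ← hC]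
      rfl
    have hv : ((g₁⁻¹ * k' : GL (Fin n) F) : Mat) =
        emb ((C⁻¹ : GL (Fin n) F₁) : Matrix (Fin n) (Fin n) F₁) * (k' : Mat) := rfl
    rw [hv]
    calc emb ((C⁻¹ : GL (Fin n) F₁) : Matrix (Fin n) (Fin n) F₁) * (k' : Mat) * emb m
        = emb ((C⁻¹ : GL (Fin n) F₁) : Matrix (Fin n) (Fin n) F₁) *
          ((k' : Mat) * emb m * ((k'⁻¹ : GL (Fin n) F) : Mat)) * (k' : Mat) := by
            simp only [mul_assoc, hkk, mul_one]
      _ = emb ((C⁻¹ : GL (Fin n) F₁) : Matrix (Fin n) (Fin n) F₁) *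
          (emb (C : Matrix (Fin n) (Fin n) F₁) * emb m *
          emb ((C⁻¹ : GL (Fin n) F₁) : Matrix (Fin n) (Fin n) F₁)) * (k' : Mat) := by rw [e1]
      _ = emb m * (emb ((C⁻¹ : GL (Fin n) F₁) : Matrix (Fin n) (Fin n) F₁) * (k' : Mat)) := by
            rw [← mul_assoc, ← mul_assoc, hCC', one_mul, mul_assoc]
  -- hence it is a scalar
  have hz : g₁⁻¹ * k' ∈ scalars (Fin n) F := by
    have h1 : ((g₁⁻¹ * k' : GL (Fin n) F) : Mat) ∈ Set.range (Matrix.scalar (Fin n)) := by
      rw [Matrix.mem_range_scalar_iff_commute_single']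
      intro i j
      have h2 : (Matrix.single i j (1 : F) : Mat) = emb (Matrix.single i j (1 : F₁)) := by
        ext a b
        simp only [emb, RingHom.mapMatrix_apply, Matrix.map_apply, Matrix.single_apply]
        split_ifs <;> simp
      rw [h2]
      exact (hcomm _).symm
    obtain ⟨c, hc⟩ := h1
    rw [mem_scalars_iff]
    by_cases hc0 : c = 0
    · have h3 : ((g₁⁻¹ * k' : GL (Fin n) F) : Mat) = 0 := by
        rw [← hc, hc0, map_zero]
      have h4 : (1 : Mat) = 0 := by
        have := Units.inv_mul (g₁⁻¹ * k' : GL (Fin n) F)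
        rw [h3, mul_zero] at this
        exact this.symm
      refine ⟨1, ?_⟩
      have : Subsingleton Mat := subsingleton_of_zero_eq_one h4.symm
      exact Subsingleton.elim _ _
    · refine ⟨Units.mk0 c hc0, ?_⟩
      rw [← hc, Units.val_mk0, Matrix.smul_one_eq_diagonal]
      rfl
  have hmem : k' ∈ (Matrix.GeneralLinearGroup.map (n := Fin n) (F₁.subtype : F₁ →+* F)).range ⊔
      scalars (Fin n) F := by
    have h1 : k' = g₁ * (g₁⁻¹ * k') := by group
    rw [h1]
    exact Subgroup.mul_mem_sup (by rw [hg₁]; exact ⟨C, rfl⟩) hz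
  unfold subfieldSubgroup
  refine Subgroup.mem_map.mpr ⟨k', hmem, ?_⟩
  rw [hk']
  simp only [MulEquiv.coe_toMonoidHom, MulAut.conj_apply]
  group

end Cfsg.Agent.Lib.Helper72.Asch
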