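import Mathlib
import Cfsg.Prelude.Def_GeometricClasses
import Cfsg.Agent.Lib.Helper61.AschDefs
import Cfsg.Agent.Lib.Helper61.AschBasic
import Cfsg.Agent.Lib.Helper61.AschGlueA
import Cfsg.Agent.Lib.Helper46.AschODefs
import Cfsg.Agent.Lib.Helper46.AschOBasic
import Cfsg.Agent.Lib.Helper18.AschOCf

/-!
Keystone K-OEven-Cf (582611): rationality of a scalar multiple of the quadratic form for an absolutely irreducible
group of isometries realised over a subfield; any dimension `n ≥ 2`, any characteristic, no discriminant condition.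

Reusable: `exists_rational_gram` (a scalar multiple of the Gram matrix in the new basis has entries in the subfield),
`exists_rational_structure_even`.
-/

set_option autoImplicit false
set_option linter.unusedSectionVars false
set_option linter.style.haveILetI false

namespace Cfsg.Agent.Lib.Helper72.AschE

open Cfsg Cfsg.Geo Cfsg.Agent.Lib.Helper61.Asch Cfsg.Agent.Lib.Helper46.AschO Cfsg.Agent.Lib.Helper18.AschO
open scoped Matrix Kronecker MatrixGroups

variable {F : Type*} [Field F] [Fintype F] {n : ℕ}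

/-- A scalar multiple of the Gram matrix of `Q` in the basis `B⁻¹` has all its entries in `F₁`. -/
theorem exists_rational_gram (Q : (Fin n → F) → F) (hQ : IsNondegenerateQuadraticForm Q) (hn : 0 < n)
    (X : Subgroup (GL (Fin n) F)) (hX : spanAlg X = ⊤) (hXI : X ≤ isometryGroup F Q)
    (F₁ : Subfield F) (B : GL (Fin n) F)
    (hB : ∀ s ∈ matrixSet X, ∀ i j, ((B : Matrix (Fin n) (Fin n) F) * s *
      ((B⁻¹ : GL (Fin n) F) : Matrix (Fin n) (Fin n) F)) i j ∈ F₁) :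
    ∃ ζ : F, ζ ≠ 0 ∧ ∀ a b, (ζ • (((B⁻¹ : GL (Fin n) F) : Matrix (Fin n) (Fin n) F)ᵀ * gramQ Q *
      ((B⁻¹ : GL (Fin n) F) : Matrix (Fin n) (Fin n) F))) a b ∈ F₁ := by
  classical
  have : Nonempty (Fin n) := ⟨⟨0, hn⟩⟩
  set G : Matrix (Fin n) (Fin n) F := gramQ Q with hGdef
  set Bm : Matrix (Fin n) (Fin n) F := (B : Matrix (Fin n) (Fin n) F) with hBm
  set Bi : Matrix (Fin n) (Fin n) F := ((B⁻¹ : GL (Fin n) F) : Matrix (Fin n) (Fin n) F) with hBi
  have hBmBi : Bm * Bi = 1 := by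
    rw [hBm, hBi, ← Units.val_mul, mul_inv_cancel, Units.val_one]
  have hBiBm : Bi * Bm = 1 := by
    rw [hBm, hBi, ← Units.val_mul, inv_mul_cancel, Units.val_one]
  have hGdet : IsUnit G.det := isUnit_det_gramQ hQ
  set G' : Matrix (Fin n) (Fin n) F := Biᵀ * G * Bi with hG'
  have hBidet : Bi.det ≠ 0 := by
    intro h0
    have := congrArg Matrix.det hBmBi
    rw [Matrix.det_mul, h0, mul_zero, Matrix.det_one] at this
    exact zero_ne_one this
  have hG'det : G'.det = Bi.det ^ 2 * G.det := by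
    rw [hG', Matrix.det_mul, Matrix.det_mul, Matrix.det_transpose]
    ring
  have hG'det0 : G'.det ≠ 0 := by
    rw [hG'det]
    exact mul_ne_zero (pow_ne_zero _ hBidet) hGdet.ne_zero
  have hent : ∃ i j, G' i j ≠ 0 := by
    by_contra hcon
    push Not at hcon
    have : G' = 0 := by
      ext i j
      exact hcon i j
    rw [this, Matrix.det_zero] at hG'det0
    exact hG'det0 rfl
  obtain ⟨i₀, j₀, hij⟩ := hent
  set ζ : F := (G' i₀ j₀)⁻¹ with hζ
  have hζ0 : ζ ≠ 0 := inv_ne_zero hij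
  set M : Matrix (Fin n) (Fin n) F := ζ • G' with hM
  have hMij : M i₀ j₀ = 1 := by
    rw [hM, Matrix.smul_apply, smul_eq_mul, hζ, inv_mul_cancel₀ hij]
  have hMdet : M.det = ζ ^ n * G'.det := by
    rw [hM, Matrix.det_smul, Fintype.card_fin]
  have hMdet0 : M.det ≠ 0 := by
    rw [hMdet]
    exact mul_ne_zero (pow_ne_zero _ hζ0) hG'det0
  have hMu : IsUnit M.det := isUnit_iff_ne_zero.mpr hMdet0
  have hinv : ∀ g ∈ X, (Bm * (g : Matrix (Fin n) (Fin n) F) * Bi)ᵀ * M * (Bm * (g : Matrix (Fin n) (Fin n) F) * Bi) = M := by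
    intro g hg
    have hs : (g : Matrix (Fin n) (Fin n) F)ᵀ * G * (g : Matrix (Fin n) (Fin n) F) = G :=
      gram_invariant Q hQ g (hXI hg)
    have e1 : Bmᵀ * Biᵀ = 1 := by
      rw [← Matrix.transpose_mul, hBiBm, Matrix.transpose_one]
    have e2 : (Bm * (g : Matrix (Fin n) (Fin n) F) * Bi)ᵀ * G' * (Bm * (g : Matrix (Fin n) (Fin n) F) * Bi)
        = Biᵀ * ((g : Matrix (Fin n) (Fin n) F)ᵀ * ((Bmᵀ * Biᵀ) * (G * ((Bi * Bm) * ((g : Matrix (Fin n) (Fin n) F) * Bi))))) := by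
      simp only [hG', Matrix.transpose_mul, Matrix.mul_assoc]
    rw [hM, Matrix.mul_smul, Matrix.smul_mul, e2, e1, hBiBm, Matrix.one_mul, Matrix.one_mul]
    congr 1
    have e3 : Biᵀ * ((g : Matrix (Fin n) (Fin n) F)ᵀ * (G * ((g : Matrix (Fin n) (Fin n) F) * Bi)))
        = Biᵀ * ((g : Matrix (Fin n) (Fin n) F)ᵀ * G * (g : Matrix (Fin n) (Fin n) F)) * Bi := by
      simp only [Matrix.mul_assoc]
    rw [e3, hs]
  obtain ⟨φ, hφpow, hφfix⟩ := exists_frob F₁
  have hmapfix : ∀ g ∈ X, (Bm * (g : Matrix (Fin n) (Fin n) F) * Bi).map φ = Bm * (g : Matrix (Fin n) (Fin n) F) * Bi := by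
    intro g hg
    ext a b
    rw [Matrix.map_apply]
    exact hφfix _ (hB _ ⟨g, hg, rfl⟩ a b)
  have hinvφ : ∀ g ∈ X, (Bm * (g : Matrix (Fin n) (Fin n) F) * Bi)ᵀ * M.map φ * (Bm * (g : Matrix (Fin n) (Fin n) F) * Bi) = M.map φ := by
    intro g hg
    have h := congrArg (fun A : Matrix (Fin n) (Fin n) F => A.map φ) (hinv g hg)
    simp only [Matrix.map_mul, Matrix.transpose_map, hmapfix g hg] at h
    exact h
  set C : Matrix (Fin n) (Fin n) F := M⁻¹ * M.map φ with hC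
  have hcomm : ∀ g ∈ X, C * (Bm * (g : Matrix (Fin n) (Fin n) F) * Bi) = (Bm * (g : Matrix (Fin n) (Fin n) F) * Bi) * C := by
    intro g hg
    set s' := Bm * (g : Matrix (Fin n) (Fin n) F) * Bi with hs'
    have h1 := hinv g hg
    have h1φ := hinvφ g hg
    have h3 : (M⁻¹ * s'ᵀ * M) * s' = 1 := by
      rw [Matrix.mul_assoc, Matrix.mul_assoc, ← Matrix.mul_assoc s'ᵀ, h1, Matrix.nonsing_inv_mul _ hMu]
    have h4 : s' * (M⁻¹ * s'ᵀ * M) = 1 := mul_eq_one_comm.mp h3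
    have h5 : s' * M⁻¹ * s'ᵀ = M⁻¹ := by
      have e : s' * M⁻¹ * s'ᵀ = (s' * (M⁻¹ * s'ᵀ * M)) * M⁻¹ := by
        simp only [Matrix.mul_assoc]
        rw [Matrix.mul_nonsing_inv _ hMu, Matrix.mul_one]
      rw [e, h4, Matrix.one_mul]
    calc C * s' = M⁻¹ * (M.map φ * s') := by rw [hC, Matrix.mul_assoc]
      _ = (s' * M⁻¹ * s'ᵀ) * (M.map φ * s') := by rw [h5]
      _ = s' * M⁻¹ * (s'ᵀ * M.map φ * s') := by simp only [Matrix.mul_assoc]
      _ = s' * C := by rw [h1φ, hC, Matrix.mul_assoc]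
  have hCsc : ∃ c : F, C = c • (1 : Matrix (Fin n) (Fin n) F) := by
    have habs := (Cfsg.Agent.Lib.Helper61.Asch.actsAbsolutelyIrreducibly_of_spanAlg_eq_top hX).2 (Bi * C * Bm) (by
      rintro _ ⟨g, hg, rfl⟩
      show Bi * C * Bm * (g : Matrix (Fin n) (Fin n) F) = (g : Matrix (Fin n) (Fin n) F) * (Bi * C * Bm)
      have h := hcomm g hg
      calc Bi * C * Bm * (g : Matrix (Fin n) (Fin n) F)
          = Bi * (C * (Bm * (g : Matrix (Fin n) (Fin n) F) * Bi)) * Bm := by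
            simp only [Matrix.mul_assoc]
            rw [hBiBm, Matrix.mul_one]
        _ = Bi * ((Bm * (g : Matrix (Fin n) (Fin n) F) * Bi) * C) * Bm := by rw [h]
        _ = (g : Matrix (Fin n) (Fin n) F) * (Bi * C * Bm) := by
            simp only [Matrix.mul_assoc]
            rw [← Matrix.mul_assoc Bi Bm, hBiBm, Matrix.one_mul])
    obtain ⟨c, hc⟩ := habs
    refine ⟨c, ?_⟩
    have : C = Bm * (Bi * C * Bm) * Bi := by
      simp only [Matrix.mul_assoc]
      rw [hBmBi, Matrix.mul_one, ← Matrix.mul_assoc, hBmBi, Matrix.one_mul]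
    rw [this, hc, Matrix.mul_smul, Matrix.smul_mul, Matrix.mul_one, hBmBi]
  obtain ⟨c, hc⟩ := hCsc
  have hφM : M.map φ = c • M := by
    have : M * C = M.map φ := by
      rw [hC, ← Matrix.mul_assoc, Matrix.mul_nonsing_inv _ hMu, Matrix.one_mul]
    rw [← this, hc, Matrix.mul_smul, Matrix.mul_one]
  have hc1 : c = 1 := by
    have := congrFun (congrFun hφM i₀) j₀
    rw [Matrix.map_apply, Matrix.smul_apply, hMij, map_one, smul_eq_mul, mul_one] at this
    exact this.symm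
  refine ⟨ζ, hζ0, ?_⟩
  intro a b
  apply mem_subfield_of_pow_card
  rw [← hφpow]
  have := congrFun (congrFun hφM a) b
  rw [Matrix.map_apply, hc1, one_smul] at this
  exact this

/-- K-OEven-Cf. -/
theorem exists_rational_structure_even (hn : 2 ≤ n) (Q : (Fin n → F) → F) (hQ : IsNondegenerateQuadraticForm Q)
    (X : Subgroup (GL (Fin n) F)) (hX : spanAlg X = ⊤) (hXI : X ≤ isometryGroup F Q)
    (F₁ : Subfield F) (B : GL (Fin n) F)
    (hB : ∀ s ∈ matrixSet X, ∀ i j, ((B : Matrix (Fin n) (Fin n) F) * s *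
      ((B⁻¹ : GL (Fin n) F) : Matrix (Fin n) (Fin n) F)) i j ∈ F₁) :
    ∃ ζ : F, ζ ≠ 0 ∧ IsQuadFormRationalStructure (fun v : Fin n → F => ζ * Q v) F₁ B⁻¹ := by
  classical
  obtain ⟨ζ, hζ0, hMF₁⟩ := exists_rational_gram Q hQ (by omega) X hX hXI F₁ B hB
  refine ⟨ζ, hζ0, ?_⟩
  set G : Matrix (Fin n) (Fin n) F := gramQ Q with hGdef
  set Bm : Matrix (Fin n) (Fin n) F := (B : Matrix (Fin n) (Fin n) F) with hBm
  set Bi : Matrix (Fin n) (Fin n) F := ((B⁻¹ : GL (Fin n) F) : Matrix (Fin n) (Fin n) F) with hBi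
  have hBmBi : Bm * Bi = 1 := by
    rw [hBm, hBi, ← Units.val_mul, mul_inv_cancel, Units.val_one]
  have hBiBm : Bi * Bm = 1 := by
    rw [hBm, hBi, ← Units.val_mul, inv_mul_cancel, Units.val_one]
  set M : Matrix (Fin n) (Fin n) F := ζ • (Biᵀ * G * Bi) with hM
  obtain ⟨φ, hφpow, hφfix⟩ := exists_frob F₁
  have hMφ : M.map φ = M := by
    ext a b
    rw [Matrix.map_apply]
    exact hφfix _ (hMF₁ a b)
  -- the transported form
  set Q₁ : (Fin n → F) → F := fun u => ζ * Q (Bi *ᵥ u) with hQ₁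
  have hQ₁add : ∀ u v, Q₁ (u + v) = Q₁ u + Q₁ v + u ⬝ᵥ (M *ᵥ v) := by
    intro u v
    have hp : QuadraticMap.polar Q (Bi *ᵥ u) (Bi *ᵥ v) = (Bi *ᵥ u) ⬝ᵥ (G *ᵥ (Bi *ᵥ v)) := polar_eq_gram hQ _ _
    have e1 : (Bi *ᵥ u) ⬝ᵥ (G *ᵥ (Bi *ᵥ v)) = u ⬝ᵥ ((Biᵀ * G * Bi) *ᵥ v) := by
      rw [← Matrix.mulVec_mulVec, ← Matrix.mulVec_mulVec, Matrix.dotProduct_mulVec u Biᵀ,
        Matrix.vecMul_transpose]
    have e2 : u ⬝ᵥ (M *ᵥ v) = ζ * (u ⬝ᵥ ((Biᵀ * G * Bi) *ᵥ v)) := by
      rw [hM, Matrix.smul_mulVec, dotProduct_smul, smul_eq_mul]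
    rw [e2, ← e1, ← hp]
    unfold QuadraticMap.polar
    simp only [hQ₁, Matrix.mulVec_add]
    ring
  have hQ₁smul : ∀ (c : F) u, Q₁ (c • u) = c ^ 2 * Q₁ u := by
    intro c u
    simp only [hQ₁, Matrix.mulVec_smul, hQ.smul]
    ring
  have hQ₁inv : ∀ g ∈ X, ∀ u, Q₁ ((Bm * (g : Matrix (Fin n) (Fin n) F) * Bi) *ᵥ u) = Q₁ u := by
    intro g hg u
    simp only [hQ₁]
    have e : Bi *ᵥ ((Bm * (g : Matrix (Fin n) (Fin n) F) * Bi) *ᵥ u) = (g : Matrix (Fin n) (Fin n) F) *ᵥ (Bi *ᵥ u) := by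
      rw [Matrix.mulVec_mulVec, Matrix.mulVec_mulVec]
      congr 1
      rw [Matrix.mul_assoc Bm, ← Matrix.mul_assoc Bi Bm, hBiBm, Matrix.one_mul]
    rw [e, (mem_isometryGroup_iff Q g).mp (hXI hg)]
  -- the defect
  set D : (Fin n → F) → F := fun u => φ (Q₁ u) - Q₁ (φ ∘ u) with hD
  have hφdot : ∀ u v : Fin n → F, φ (u ⬝ᵥ (M *ᵥ v)) = (φ ∘ u) ⬝ᵥ (M *ᵥ (φ ∘ v)) := by
    intro u v
    rw [RingHom.map_dotProduct]
    congr 1
    ext i
    have := RingHom.map_mulVec φ M v i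
    rw [hMφ] at this
    rw [Function.comp_apply, ← this]
  have hφadd : ∀ u v : Fin n → F, φ ∘ (u + v) = φ ∘ u + φ ∘ v := by
    intro u v
    ext i
    simp
  have hφsmul : ∀ (c : F) (u : Fin n → F), φ ∘ (c • u) = φ c • (φ ∘ u) := by
    intro c u
    ext i
    simp
  have hDadd : ∀ u v, D (u + v) = D u + D v := by
    intro u v
    simp only [hD]
    rw [hQ₁add, hφadd, hQ₁add, map_add, map_add, hφdot]
    ring
  have hDsmul : ∀ (c : F) u, D (c • u) = φ c ^ 2 * D u := by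
    intro c u
    simp only [hD]
    rw [hQ₁smul, hφsmul, hQ₁smul, map_mul, map_pow]
    ring
  have hDinv : ∀ g ∈ X, ∀ u, D ((Bm * (g : Matrix (Fin n) (Fin n) F) * Bi) *ᵥ u) = D u := by
    intro g hg u
    simp only [hD]
    have e : φ ∘ ((Bm * (g : Matrix (Fin n) (Fin n) F) * Bi) *ᵥ u) =
        (Bm * (g : Matrix (Fin n) (Fin n) F) * Bi) *ᵥ (φ ∘ u) := by
      ext i
      have := RingHom.map_mulVec φ (Bm * (g : Matrix (Fin n) (Fin n) F) * Bi) u i
      have hfix : (Bm * (g : Matrix (Fin n) (Fin n) F) * Bi).map φ = Bm * (g : Matrix (Fin n) (Fin n) F) * Bi := by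
        ext a b
        rw [Matrix.map_apply]
        exact hφfix _ (hB _ ⟨g, hg, rfl⟩ a b)
      rw [hfix] at this
      rw [Function.comp_apply, ← this]
    rw [e, hQ₁inv g hg, hQ₁inv g hg]
  -- the kernel, transported back
  have hD0 : D 0 = 0 := by
    have := hDadd 0 0
    rw [add_zero] at this
    exact left_eq_add.mp this
  let W : Submodule F (Fin n → F) :=
    { carrier := {v | D (Bm *ᵥ v) = 0}
      add_mem' := by
        intro a b ha hb
        show D (Bm *ᵥ (a + b)) = 0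
        rw [Matrix.mulVec_add, hDadd, ha, hb, add_zero]
      zero_mem' := by
        show D (Bm *ᵥ 0) = 0
        rw [Matrix.mulVec_zero, hD0]
      smul_mem' := by
        intro c a ha
        show D (Bm *ᵥ (c • a)) = 0
        rw [Matrix.mulVec_smul, hDsmul, ha, mul_zero] }
  have hWinv : ∀ s ∈ matrixSet X, W.map (Matrix.toLin' s) ≤ W := by
    rintro _ ⟨g, hg, rfl⟩ _ ⟨v, hv, rfl⟩
    show D (Bm *ᵥ (Matrix.toLin' (g : Matrix (Fin n) (Fin n) F) v)) = 0
    rw [Matrix.toLin'_apply]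
    have e : Bm *ᵥ ((g : Matrix (Fin n) (Fin n) F) *ᵥ v) = (Bm * (g : Matrix (Fin n) (Fin n) F) * Bi) *ᵥ (Bm *ᵥ v) := by
      rw [Matrix.mulVec_mulVec, Matrix.mulVec_mulVec]
      congr 1
      rw [Matrix.mul_assoc (Bm * (g : Matrix (Fin n) (Fin n) F)), hBiBm, Matrix.mul_one]
    rw [e, hDinv g hg]
    exact hv
  have hWtop : W = ⊤ := by
    rcases actsIrreducibly_of_spanAlg_eq_top hX W hWinv with hbot | htop
    · exfalso
      -- injectivity of `v ↦ D (Bm v)`
      have hinj : Function.Injective (fun v : Fin n → F => D (Bm *ᵥ v)) := by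
        intro v w hvw
        have hvw' : D (Bm *ᵥ v) = D (Bm *ᵥ w) := hvw
        have hneg : D (Bm *ᵥ (v - w)) = 0 := by
          have h1 : D (Bm *ᵥ (v - w)) + D (Bm *ᵥ w) = D (Bm *ᵥ v) := by
            rw [← hDadd, ← Matrix.mulVec_add, sub_add_cancel]
          rw [hvw'] at h1
          exact add_eq_right.mp h1
        have hmem : v - w ∈ W := hneg
        rw [hbot, Submodule.mem_bot] at hmem
        exact sub_eq_zero.mp hmem
      have hcard := Fintype.card_le_of_injective _ hinj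
      rw [Fintype.card_fun, Fintype.card_fin] at hcard
      have hq : 2 ≤ Fintype.card F := Fintype.one_lt_card
      have : Fintype.card F ^ 2 ≤ Fintype.card F ^ n := Nat.pow_le_pow_right (by omega) hn
      nlinarith
    · exact htop
  have hDzero : ∀ u, D u = 0 := by
    intro u
    have hmem : Bi *ᵥ u ∈ W := by rw [hWtop]; trivial
    have h1 : D (Bm *ᵥ (Bi *ᵥ u)) = 0 := hmem
    rwa [Matrix.mulVec_mulVec, hBmBi, Matrix.one_mulVec] at h1
  intro u hu
  show ζ * Q (Bi *ᵥ u) ∈ F₁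
  have hφu : φ ∘ u = u := by
    ext i
    exact hφfix _ (hu i)
  have h1 := hDzero u
  simp only [hD, hφu] at h1
  apply mem_subfield_of_pow_card
  rw [← hφpow]
  exact sub_eq_zero.mp h1

end Cfsg.Agent.Lib.Helper72.AschE
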