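import Mathlib

/-!
# Definitions for the converse half of pack K-SN (S4073): in `PSL₂(2ⁿ)`, `2ⁿ - 1` prime, every
non-abelian subgroup is self-normalizing
-/

set_option autoImplicit false

namespace Cfsg.Agent.Lib.Helper72.SNC

universe u

/-- Every non-abelian normal subgroup is the whole group. -/
def NNT (X : Type u) [Group X] : Prop :=
  ∀ N : Subgroup X, N.Normal → ¬ IsMulCommutative ↥N → N = ⊤

end Cfsg.Agent.Lib.Helper72.SNC
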