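/-
K-Nd-A (keystone 595601, architect helper98): counting hyperbolic frames of a symplectic space; a prime
`r ≠ char` dividing the number of nondegenerate `2s`-subspaces divides some `q^(2(d-j)) - 1`, `j < s`.
-/
import Cfsg.Agent.Lib.Helper98.Ti7

set_option autoImplicit false
set_option linter.unusedSimpArgs false
set_option linter.unusedSectionVars false
set_option linter.unusedVariables false
set_option linter.style.haveILetI false
set_option maxHeartbeats 800000

namespace Cfsg.Agent.Lib.Helper72.Nd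

open Module Cfsg.Agent.Lib.Helper98.Elus Cfsg.Agent.Lib.Helper98.Sy Cfsg.Agent.Lib.Helper98.Ti

universe u
variable {F : Type u} [Field F] {V : Type u} [AddCommGroup V] [Module F V]
variable {B : LinearMap.BilinForm F V}

/-! ### dual families -/

theorem sum_pair_dual {ι : Type*} [Fintype ι] [DecidableEq ι] (t t' : ι → V)
    (h : ∀ i j, B (t i) (t' j) = if i = j then 1 else 0) (c : ι → F) (j : ι) :
    B (∑ i, c i • t i) (t' j) = c j := by
  simp [map_sum, LinearMap.sum_apply, h]

theorem linearIndependent_of_dual {ι : Type*} [Fintype ι] [DecidableEq ι] (t t' : ι → V)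
    (h : ∀ i j, B (t i) (t' j) = if i = j then 1 else 0) : LinearIndependent F t := by
  rw [Fintype.linearIndependent_iff]
  intro c hc j
  have := sum_pair_dual t t' h c j
  rw [hc] at this
  simpa using this.symm

theorem mem_orth_span_range_iff {ι : Type*} (t : ι → V) (x : V) :
    x ∈ B.orthogonal (Submodule.span F (Set.range t)) ↔ ∀ i, B (t i) x = 0 := by
  rw [LinearMap.BilinForm.mem_orthogonal_iff]
  constructor
  · intro h i
    exact h (t i) (Submodule.subset_span ⟨i, rfl⟩)
  · intro h n hn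
    have hle : Submodule.span F (Set.range t) ≤ LinearMap.ker (B.flip x) := by
      apply Submodule.span_le.mpr
      rintro _ ⟨i, rfl⟩
      show t i ∈ LinearMap.ker (B.flip x)
      rw [LinearMap.mem_ker, LinearMap.BilinForm.flip_apply]
      exact h i
    have := hle hn
    rw [LinearMap.mem_ker, LinearMap.BilinForm.flip_apply] at this
    exact this

/-! ### hyperbolic frames -/

/-- hyperbolic frames: `B e_a f_a = 1`, all other pairings zero -/
def IsHF (B : LinearMap.BilinForm F V) {k : ℕ} (s : Fin k → V × V) : Prop :=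
  (∀ a, B (s a).1 (s a).2 = 1) ∧
    ∀ a b, a ≠ b → B (s a).1 (s b).1 = 0 ∧ B (s a).1 (s b).2 = 0 ∧ B (s a).2 (s b).1 = 0 ∧
      B (s a).2 (s b).2 = 0

/-- the vectors of a frame -/
def flat {k : ℕ} (s : Fin k → V × V) : Fin k ⊕ Fin k → V :=
  Sum.elim (fun a => (s a).1) (fun a => (s a).2)

/-- the dual vectors of a frame -/
def dualFlat {k : ℕ} (s : Fin k → V × V) : Fin k ⊕ Fin k → V :=
  Sum.elim (fun a => (s a).2) (fun a => -(s a).1)

/-- the span of a frame -/
def spanHF (F : Type u) [Field F] {V : Type u} [AddCommGroup V] [Module F V] {k : ℕ}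
    (s : Fin k → V × V) : Submodule F V :=
  Submodule.span F (Set.range (flat s))

theorem flat_dual (hA : B.IsAlt) {k : ℕ} (s : Fin k → V × V) (hs : IsHF B s) (i j : Fin k ⊕ Fin k) :
    B (flat s i) (dualFlat s j) = if i = j then 1 else 0 := by
  rcases i with a | a <;> rcases j with b | b
  · by_cases hab : a = b
    · subst hab
      simpa [flat, dualFlat] using hs.1 a
    · simpa [flat, dualFlat, hab] using (hs.2 a b hab).2.1
  · by_cases hab : a = b
    · subst hab
      simpa [flat, dualFlat] using hA (s a).1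
    · simpa [flat, dualFlat, hab] using (hs.2 a b hab).1
  · by_cases hab : a = b
    · subst hab
      simpa [flat, dualFlat] using hA (s a).2
    · simpa [flat, dualFlat, hab] using (hs.2 a b hab).2.2.2
  · by_cases hab : a = b
    · subst hab
      have := hs.1 a
      rw [alt_swap hA] at this
      simpa [flat, dualFlat] using this
    · have := alt_eq_zero hA (hs.2 b a (Ne.symm hab)).2.1
      simpa [flat, dualFlat, hab] using this

theorem dualFlat_mem {k : ℕ} (s : Fin k → V × V) (j : Fin k ⊕ Fin k) : dualFlat s j ∈ spanHF F s := by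
  rcases j with b | b
  · exact Submodule.subset_span ⟨Sum.inr b, rfl⟩
  · exact Submodule.neg_mem _ (Submodule.subset_span ⟨Sum.inl b, rfl⟩)

theorem finrank_spanHF (hA : B.IsAlt) {k : ℕ} (s : Fin k → V × V) (hs : IsHF B s) :
    finrank F (spanHF F s) = 2 * k := by
  rw [spanHF, finrank_span_eq_card (linearIndependent_of_dual _ _ (flat_dual hA s hs)),
    Fintype.card_sum, Fintype.card_fin]
  ring

theorem nonDeg_spanHF (hA : B.IsAlt) {k : ℕ} (s : Fin k → V × V) (hs : IsHF B s) :
    NonDeg B (spanHF F s) := by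
  intro u hu h
  obtain ⟨c, rfl⟩ := (Submodule.mem_span_range_iff_exists_fun F).1 hu
  have hc : ∀ j, c j = 0 := fun j => by
    rw [← sum_pair_dual (flat s) (dualFlat s) (flat_dual hA s hs) c j]
    exact h _ (dualFlat_mem s j)
  simp [hc]

theorem spanHF_le {k : ℕ} (s : Fin k → V × V) (U : Submodule F V)
    (h : ∀ a, (s a).1 ∈ U ∧ (s a).2 ∈ U) : spanHF F s ≤ U := by
  apply Submodule.span_le.mpr
  rintro _ ⟨i, rfl⟩
  rcases i with a | a
  · exact (h a).1
  · exact (h a).2

theorem mem_spanHF {k : ℕ} (s : Fin k → V × V) (a : Fin k) :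
    (s a).1 ∈ spanHF F s ∧ (s a).2 ∈ spanHF F s :=
  ⟨Submodule.subset_span ⟨Sum.inl a, rfl⟩, Submodule.subset_span ⟨Sum.inr a, rfl⟩⟩

theorem isHF_cons_iff (hA : B.IsAlt) {k : ℕ} (s : Fin k → V × V) (p : V × V) :
    IsHF B (Fin.cons p s : Fin (k + 1) → V × V) ↔
      IsHF B s ∧ B p.1 p.2 = 1 ∧ p.1 ∈ B.orthogonal (spanHF F s) ∧
        p.2 ∈ B.orthogonal (spanHF F s) := by
  unfold spanHF
  rw [mem_orth_span_range_iff, mem_orth_span_range_iff]
  constructor
  · rintro ⟨h1, h2⟩
    refine ⟨⟨fun a => ?_, fun a b hab => ?_⟩, ?_, fun i => ?_, fun i => ?_⟩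
    · simpa using h1 a.succ
    · simpa using h2 a.succ b.succ (by simpa using hab)
    · simpa using h1 0
    · rcases i with a | a
      · simpa [flat] using (h2 a.succ 0 (Fin.succ_ne_zero a)).1
      · simpa [flat] using (h2 a.succ 0 (Fin.succ_ne_zero a)).2.2.1
    · rcases i with a | a
      · simpa [flat] using (h2 a.succ 0 (Fin.succ_ne_zero a)).2.1
      · simpa [flat] using (h2 a.succ 0 (Fin.succ_ne_zero a)).2.2.2
  · rintro ⟨⟨h1, h2⟩, h3, h4, h5⟩
    refine ⟨fun a => ?_, fun a b hab => ?_⟩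
    · cases a using Fin.cases with
      | zero => simpa using h3
      | succ a => simpa using h1 a
    · cases a using Fin.cases with
      | zero =>
        cases b using Fin.cases with
        | zero => exact absurd rfl hab
        | succ b =>
          simp only [Fin.cons_zero, Fin.cons_succ]
          exact ⟨alt_eq_zero hA (h4 (Sum.inl b)), alt_eq_zero hA (h4 (Sum.inr b)),
            alt_eq_zero hA (h5 (Sum.inl b)), alt_eq_zero hA (h5 (Sum.inr b))⟩
      | succ a =>
        cases b using Fin.cases with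
        | zero =>
          simp only [Fin.cons_zero, Fin.cons_succ]
          exact ⟨h4 (Sum.inl a), h5 (Sum.inl a), h4 (Sum.inr a), h5 (Sum.inr a)⟩
        | succ b => simpa using h2 a b (by simpa using hab)

/-- frames inside `U` -/
def InU (U : Submodule F V) {k : ℕ} (s : Fin k → V × V) : Prop := ∀ a, (s a).1 ∈ U ∧ (s a).2 ∈ U

theorem inU_cons_iff (U : Submodule F V) {k : ℕ} (s : Fin k → V × V) (p : V × V) :
    InU U (Fin.cons p s : Fin (k + 1) → V × V) ↔ InU U s ∧ p.1 ∈ U ∧ p.2 ∈ U := by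
  unfold InU
  rw [Fin.forall_fin_succ]
  simp only [Fin.cons_zero, Fin.cons_succ]
  tauto

theorem frame_cons_iff (hA : B.IsAlt) (U : Submodule F V) {k : ℕ} (s : Fin k → V × V) (p : V × V) :
    (IsHF B (Fin.cons p s : Fin (k + 1) → V × V) ∧ InU U (Fin.cons p s : Fin (k + 1) → V × V)) ↔
      (IsHF B s ∧ InU U s) ∧ (B p.1 p.2 = 1 ∧ p.1 ∈ B.orthogonal (spanHF F s) ⊓ U ∧
        p.2 ∈ B.orthogonal (spanHF F s) ⊓ U) := by
  rw [isHF_cons_iff hA, inU_cons_iff]
  simp only [Submodule.mem_inf]
  tauto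

section Count

variable [Fintype F] [FiniteDimensional F V]

theorem card_pair_fiber (O : Submodule F V) (hO : NonDeg B O) (x : V) (hx : x ∈ O) (hx0 : x ≠ 0) :
    Nat.card {y : V // B x y = 1 ∧ y ∈ O} = Fintype.card F ^ (finrank F O - 1) := by
  classical
  haveI : Finite V := Module.finite_of_finite F
  obtain ⟨y0, hy0, hy1⟩ : ∃ y0 ∈ O, B x y0 = 1 := by
    have : ∃ v ∈ O, B x v ≠ 0 := by
      by_contra h
      push Not at h
      exact hx0 (hO x hx h)
    obtain ⟨v, hv, hv0⟩ := this
    exact ⟨(B x v)⁻¹ • v, O.smul_mem _ hv, by simp [hv0]⟩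
  let φ : O →ₗ[F] F := (B x).comp O.subtype
  have hφ : ∀ z : O, φ z = B x (z : V) := fun z => rfl
  let e : {y : V // B x y = 1 ∧ y ∈ O} ≃ LinearMap.ker φ :=
    { toFun := fun y => ⟨⟨y.1 - y0, O.sub_mem y.2.2 hy0⟩, by
        rw [LinearMap.mem_ker, hφ]
        simp [y.2.1, hy1]⟩
      invFun := fun z => ⟨(z.1 : V) + y0, by
        have := z.2
        rw [LinearMap.mem_ker, hφ] at this
        simp [this, hy1], O.add_mem z.1.2 hy0⟩
      left_inv := fun y => by
        apply Subtype.ext
        simp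
      right_inv := fun z => by
        apply Subtype.ext
        apply Subtype.ext
        simp }
  rw [Nat.card_congr e, natCard_submodule]
  congr 1
  have h1 := LinearMap.finrank_range_add_finrank_ker φ
  have h2 : LinearMap.range φ = ⊤ := by
    apply LinearMap.range_eq_top.mpr
    intro c
    refine ⟨c • ⟨y0, hy0⟩, ?_⟩
    rw [map_smul, hφ]
    simp [hy1]
  rw [h2, finrank_top, finrank_self] at h1
  omega

theorem card_hypPairs (O : Submodule F V) (hO : NonDeg B O) :
    Nat.card {p : V × V // B p.1 p.2 = 1 ∧ p.1 ∈ O ∧ p.2 ∈ O} =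
      (Fintype.card F ^ finrank F O - 1) * Fintype.card F ^ (finrank F O - 1) := by
  classical
  haveI : Finite V := Module.finite_of_finite F
  let e : {p : V × V // B p.1 p.2 = 1 ∧ p.1 ∈ O ∧ p.2 ∈ O} ≃
      Σ x : {x : V // x ∈ O ∧ x ≠ 0}, {y : V // B x.1 y = 1 ∧ y ∈ O} :=
    { toFun := fun p => ⟨⟨p.1.1, p.2.2.1, fun h => by
          have := p.2.1
          rw [h] at this
          simp at this⟩, ⟨p.1.2, p.2.1, p.2.2.2⟩⟩
      invFun := fun s => ⟨(s.1.1, s.2.1), s.2.2.1, s.1.2.1, s.2.2.2⟩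
      left_inv := fun p => rfl
      right_inv := fun s => rfl }
  rw [Nat.card_congr e]
  haveI : Fintype {x : V // x ∈ O ∧ x ≠ 0} := Fintype.ofFinite _
  rw [Nat.card_sigma,
    Finset.sum_congr rfl (fun x _ => card_pair_fiber O hO x.1 x.2.1 x.2.2), Finset.sum_const,
    Finset.card_univ, ← Nat.card_eq_fintype_card, smul_eq_mul]
  congr 1
  have h1 : Nat.card {x : V // x ∈ O ∧ x ≠ 0} = Nat.card ↥((O : Set V) \ {0}) := by
    apply Nat.card_congr
    apply Equiv.subtypeEquivRight
    intro x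
    simp
  rw [h1, Nat.card_coe_set_eq, Set.ncard_sdiff_singleton_of_mem (by simp), ← Nat.card_coe_set_eq]
  have e1 : Nat.card ↥(O : Set V) = Nat.card O := rfl
  rw [e1, natCard_submodule]

theorem card_frames (hA : B.IsAlt) (U : Submodule F V) (hU : NonDeg B U) : ∀ k : ℕ,
    Nat.card {s : Fin k → V × V // IsHF B s ∧ InU U s} =
      ∏ j ∈ Finset.range k, ((Fintype.card F ^ (finrank F U - 2 * j) - 1) *
        Fintype.card F ^ (finrank F U - 2 * j - 1)) := by
  classical
  haveI : Finite V := Module.finite_of_finite F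
  intro k
  induction k with
  | zero =>
    rw [Finset.prod_range_zero]
    haveI : Unique {s : Fin 0 → V × V // IsHF B s ∧ InU U s} :=
      { default := ⟨fun a => a.elim0, ⟨fun a => a.elim0, fun a => a.elim0⟩, fun a => a.elim0⟩
        uniq := fun s => Subtype.ext (funext fun a => a.elim0) }
    exact Nat.card_unique
  | succ k ih =>
    let e : {s : Fin (k + 1) → V × V // IsHF B s ∧ InU U s} ≃
        Σ s : {s : Fin k → V × V // IsHF B s ∧ InU U s},
          {p : V × V // B p.1 p.2 = 1 ∧ p.1 ∈ B.orthogonal (spanHF F s.1) ⊓ U ∧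
            p.2 ∈ B.orthogonal (spanHF F s.1) ⊓ U} :=
      { toFun := fun s => ⟨⟨Fin.tail s.1,
            ((frame_cons_iff hA U (Fin.tail s.1) (s.1 0)).mp
              (by rw [Fin.cons_self_tail]; exact s.2)).1⟩,
          ⟨s.1 0, ((frame_cons_iff hA U (Fin.tail s.1) (s.1 0)).mp
              (by rw [Fin.cons_self_tail]; exact s.2)).2⟩⟩
        invFun := fun s => ⟨Fin.cons s.2.1 s.1.1,
          (frame_cons_iff hA U s.1.1 s.2.1).mpr ⟨s.1.2, s.2.2⟩⟩
        left_inv := fun s => by simp only [Fin.cons_self_tail, Subtype.coe_eta]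
        right_inv := fun ⟨⟨s, hs⟩, ⟨x, hx⟩⟩ =>
          sigma_subtype_ext (P := fun (s : Fin k → V × V) => IsHF B s ∧ InU U s)
            (Q := fun (s : Fin k → V × V) (p : V × V) =>
              B p.1 p.2 = 1 ∧ p.1 ∈ B.orthogonal (spanHF F s) ⊓ U ∧
                p.2 ∈ B.orthogonal (spanHF F s) ⊓ U) _ _ _ _ _ _ _ _
            (show Fin.tail (Fin.cons x s : Fin (k + 1) → V × V) = s from Fin.tail_cons _ _)
            (show (Fin.cons x s : Fin (k + 1) → V × V) 0 = x from Fin.cons_zero _ _) }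
    rw [Nat.card_congr e]
    haveI : Fintype {s : Fin k → V × V // IsHF B s ∧ InU U s} := Fintype.ofFinite _
    rw [Nat.card_sigma]
    have hfib : ∀ s : {s : Fin k → V × V // IsHF B s ∧ InU U s},
        Nat.card {p : V × V // B p.1 p.2 = 1 ∧ p.1 ∈ B.orthogonal (spanHF F s.1) ⊓ U ∧
            p.2 ∈ B.orthogonal (spanHF F s.1) ⊓ U} =
          (Fintype.card F ^ (finrank F U - 2 * k) - 1) *
            Fintype.card F ^ (finrank F U - 2 * k - 1) := by
      intro s
      obtain ⟨-, -, h3, h4⟩ := compl_props hA (spanHF F s.1) U (nonDeg_spanHF hA s.1 s.2.1)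
        (spanHF_le s.1 U s.2.2) hU
      rw [card_hypPairs _ h3]
      have h5 := finrank_spanHF hA s.1 s.2.1
      have h6 : finrank F ↥(B.orthogonal (spanHF F s.1) ⊓ U) = finrank F U - 2 * k := by omega
      rw [h6]
    rw [Finset.sum_congr rfl (fun s _ => hfib s), Finset.sum_const,
      Finset.card_univ, ← Nat.card_eq_fintype_card, ih, Finset.prod_range_succ, smul_eq_mul]

theorem card_frames_eq_mul (hA : B.IsAlt) (m : ℕ) :
    Nat.card {s : Fin m → V × V // IsHF B s ∧ InU (⊤ : Submodule F V) s} =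
      Nat.card {W : Submodule F V // finrank F W = 2 * m ∧ NonDeg B W} *
        ∏ j ∈ Finset.range m, ((Fintype.card F ^ (2 * m - 2 * j) - 1) *
          Fintype.card F ^ (2 * m - 2 * j - 1)) := by
  classical
  haveI : Finite V := Module.finite_of_finite F
  let fmap : {s : Fin m → V × V // IsHF B s ∧ InU (⊤ : Submodule F V) s} →
      {W : Submodule F V // finrank F W = 2 * m ∧ NonDeg B W} :=
    fun s => ⟨spanHF F s.1, finrank_spanHF hA s.1 s.2.1, nonDeg_spanHF hA s.1 s.2.1⟩
  rw [← Nat.card_congr (Equiv.sigmaFiberEquiv fmap)]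
  haveI : Fintype {W : Submodule F V // finrank F W = 2 * m ∧ NonDeg B W} := Fintype.ofFinite _
  rw [Nat.card_sigma]
  have hfib : ∀ W : {W : Submodule F V // finrank F W = 2 * m ∧ NonDeg B W},
      Nat.card {s : {s : Fin m → V × V // IsHF B s ∧ InU (⊤ : Submodule F V) s} // fmap s = W} =
        ∏ j ∈ Finset.range m, ((Fintype.card F ^ (2 * m - 2 * j) - 1) *
          Fintype.card F ^ (2 * m - 2 * j - 1)) := by
    intro W
    let e : {s : {s : Fin m → V × V // IsHF B s ∧ InU (⊤ : Submodule F V) s} // fmap s = W} ≃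
        {t : Fin m → V × V // IsHF B t ∧ InU W.1 t} :=
      { toFun := fun s => ⟨s.1.1, s.1.2.1, fun a => by
            have h1 : spanHF F s.1.1 = W.1 := congrArg Subtype.val s.2
            rw [← h1]
            exact mem_spanHF s.1.1 a⟩
        invFun := fun t => ⟨⟨t.1, t.2.1, fun a => ⟨Submodule.mem_top, Submodule.mem_top⟩⟩, by
            apply Subtype.ext
            show spanHF F t.1 = W.1
            exact Submodule.eq_of_le_of_finrank_eq (spanHF_le t.1 W.1 t.2.2)
              (by rw [finrank_spanHF hA t.1 t.2.1, W.2.1])⟩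
        left_inv := fun s => by
          apply Subtype.ext
          apply Subtype.ext
          rfl
        right_inv := fun t => by
          apply Subtype.ext
          rfl }
    rw [Nat.card_congr e, card_frames hA W.1 W.2.2 m, W.2.1]
  rw [Finset.sum_congr rfl (fun W _ => hfib W), Finset.sum_const, Finset.card_univ,
    ← Nat.card_eq_fintype_card, smul_eq_mul]

/-- the number of nondegenerate `2m`-spaces -/
theorem card_nd_mul (hA : B.IsAlt) (hV : NonDeg B ⊤) (d m : ℕ) (hd : finrank F V = 2 * d) :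
    Nat.card {W : Submodule F V // finrank F W = 2 * m ∧ NonDeg B W} *
        ∏ j ∈ Finset.range m, ((Fintype.card F ^ (2 * m - 2 * j) - 1) *
          Fintype.card F ^ (2 * m - 2 * j - 1)) =
      ∏ j ∈ Finset.range m, ((Fintype.card F ^ (2 * d - 2 * j) - 1) *
          Fintype.card F ^ (2 * d - 2 * j - 1)) := by
  rw [← card_frames_eq_mul hA m, card_frames hA ⊤ hV m, finrank_top, hd]

theorem not_dvd_card_of_ne_zero (r : ℕ) [Fact r.Prime] (hrF : (r : F) ≠ 0) :
    ¬ r ∣ Fintype.card F := by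
  have hr : r.Prime := Fact.out
  intro h
  obtain ⟨p, hp⟩ := CharP.exists F
  haveI := hp
  obtain ⟨n, hpp, hn⟩ := FiniteField.card F p
  rw [hn] at h
  have h1 := hr.dvd_of_dvd_pow h
  have h2 := (Nat.prime_dvd_prime_iff_eq hr hpp).mp h1
  apply hrF
  rw [h2]
  exact CharP.cast_eq_zero F p

/-- **K-Nd-A.** -/
theorem exists_of_dvd_card_nd {B : LinearMap.BilinForm F V}
    (hA : B.IsAlt) (hV : NonDeg B ⊤) (d s : ℕ) (hd : finrank F V = 2 * d) (hs : s ≤ d)
    (r : ℕ) [Fact r.Prime] (hrF : (r : F) ≠ 0)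
    (hr : r ∣ Nat.card {W : Submodule F V // finrank F W = 2 * s ∧ NonDeg B W}) :
    ∃ j, j < s ∧ orderOf ((Fintype.card F : ℕ) : ZMod r) ∣ 2 * (d - j) := by
  have hrp : r.Prime := Fact.out
  have h1 := card_nd_mul hA hV d s hd
  have h2 : r ∣ ∏ j ∈ Finset.range s, ((Fintype.card F ^ (2 * d - 2 * j) - 1) *
      Fintype.card F ^ (2 * d - 2 * j - 1)) := by
    rw [← h1]
    exact dvd_mul_of_dvd_left hr _
  obtain ⟨j, hj, hdvd⟩ := (Prime.dvd_finsetProd_iff hrp.prime _).mp h2
  have hj' : j < s := Finset.mem_range.mp hj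
  refine ⟨j, hj', ?_⟩
  rcases (Nat.Prime.dvd_mul hrp).mp hdvd with hdvd | hdvd
  · apply orderOf_dvd_of_pow_eq_one
    have hq : 1 ≤ Fintype.card F := Fintype.card_pos
    have hone : 1 ≤ Fintype.card F ^ (2 * d - 2 * j) := Nat.one_le_pow _ _ hq
    have h3 := (ZMod.natCast_eq_zero_iff _ _).mpr hdvd
    rw [Nat.cast_sub hone, Nat.cast_pow, Nat.cast_one, sub_eq_zero] at h3
    have h4 : 2 * (d - j) = 2 * d - 2 * j := by omega
    rw [h4]
    exact h3
  · exact absurd (hrp.dvd_of_dvd_pow hdvd) (not_dvd_card_of_ne_zero r hrF)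

end Count

end Cfsg.Agent.Lib.Helper72.Nd
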