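import Mathlib

/-!
# Definitions for pack K-A4O (S4068): nonsolvable group with four automorphism orbits is `A₅`
-/

set_option autoImplicit false

namespace Cfsg.Agent.Lib.Helper72.A4O

universe u

/-- Every nonidentity element has prime order. -/
def EPO (G : Type u) [Group G] : Prop := ∀ g : G, g ≠ 1 → (orderOf g).Prime

end Cfsg.Agent.Lib.Helper72.A4O
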