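import Mathlib

/-!
An involutive ring endomorphism `φ` of a finite field of characteristic two (`φ x = x ^ q`,
`|F| = q ^ 2`), and the additive map `x ↦ φ x + x`, whose kernel equals its range and has `q`
elements.
-/

set_option autoImplicit false

namespace Cfsg.Agent.Lib.Helper72.U3q

/-- an involutive ring endomorphism `x ↦ x ^ 2 ^ n` of a field with `(2 ^ n) ^ 2` elements -/
structure Inv2 (F : Type*) [Field F] [Fintype F] (n : ℕ) where
  φ : F →+* F
  pow : ∀ x, φ x = x ^ 2 ^ n
  card : Fintype.card F = (2 ^ n) ^ 2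

variable {F : Type*} [Field F] [Fintype F] {n : ℕ}

theorem one_le_of_card (hF : Fintype.card F = (2 ^ n) ^ 2) : 1 ≤ n := by
  by_contra h
  have h0 : n = 0 := by omega
  subst h0
  have := Fintype.one_lt_card (α := F)
  rw [hF] at this
  norm_num at this

theorem two_eq_zero_of_card (hF : Fintype.card F = (2 ^ n) ^ 2) : (2 : F) = 0 := by
  have h : ((Fintype.card F : ℕ) : F) = 0 := Nat.cast_card_eq_zero F
  rw [hF] at h
  push_cast at h
  have hn := one_le_of_card hF
  exact pow_eq_zero_iff (by omega) |>.mp (pow_eq_zero_iff (by norm_num) |>.mp h)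

theorem charP_of_card (hF : Fintype.card F = (2 ^ n) ^ 2) : CharP F 2 :=
  CharTwo.of_one_ne_zero_of_two_eq_zero one_ne_zero (two_eq_zero_of_card hF)

/-- the package built from the cardinality hypothesis -/
noncomputable def Inv2.ofCard (hF : Fintype.card F = (2 ^ n) ^ 2) : Inv2 F n :=
  haveI := charP_of_card hF
  haveI : Fact (Nat.Prime 2) := ⟨Nat.prime_two⟩
  { φ := iterateFrobenius F 2 n
    pow := fun x => iterateFrobenius_def 2 n x
    card := hF }

namespace Inv2

variable (I : Inv2 F n)
include I

theorem one_le : 1 ≤ n := one_le_of_card I.card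

theorem two : (2 : F) = 0 := two_eq_zero_of_card I.card

theorem add_self (x : F) : x + x = 0 := by
  linear_combination x * I.two

theorem invol (x : F) : I.φ (I.φ x) = x := by
  rw [I.pow, I.pow, ← pow_mul, ← sq, ← I.card]
  exact FiniteField.pow_card x

/-- the additive map `x ↦ φ x + x` -/
def tr : F →+ F where
  toFun x := I.φ x + x
  map_zero' := by simp
  map_add' x y := by rw [map_add]; ring

@[simp] theorem tr_apply (x : F) : I.tr x = I.φ x + x := rfl

theorem tr_tr (x : F) : I.tr (I.tr x) = 0 := by
  simp only [tr_apply, map_add, I.invol]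
  linear_combination (I.φ x + x) * I.two

theorem range_le_ker : I.tr.range ≤ I.tr.ker := by
  rintro _ ⟨x, rfl⟩
  exact I.tr_tr x

theorem mem_ker_iff (x : F) : x ∈ I.tr.ker ↔ I.φ x = x := by
  rw [AddMonoidHom.mem_ker, tr_apply]
  constructor
  · intro h
    linear_combination h - x * I.two
  · intro h
    rw [h]; exact I.add_self x

theorem card_ker_le : Nat.card I.tr.ker ≤ 2 ^ n := by
  classical
  have hq : 1 < 2 ^ n := by
    have := I.one_le
    calc 1 < 2 ^ 1 := by norm_num
      _ ≤ 2 ^ n := Nat.pow_le_pow_right (by norm_num) this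
  let p : Polynomial F := Polynomial.X ^ (2 ^ n) - Polynomial.X
  have hp : p ≠ 0 := FiniteField.X_pow_card_sub_X_ne_zero F hq
  have hdeg : p.natDegree = 2 ^ n := FiniteField.X_pow_card_sub_X_natDegree_eq F hq
  have hsub : ∀ x : I.tr.ker, (x : F) ∈ p.roots.toFinset := by
    intro x
    rw [Multiset.mem_toFinset, Polynomial.mem_roots hp]
    simp only [p, Polynomial.IsRoot, Polynomial.eval_sub, Polynomial.eval_pow, Polynomial.eval_X]
    have := (I.mem_ker_iff x).mp x.2
    rw [I.pow] at this
    rw [this, sub_self]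
  have h1 : Nat.card I.tr.ker ≤ p.roots.toFinset.card := by
    rw [Nat.card_eq_fintype_card]
    have : Function.Injective (fun x : I.tr.ker => (⟨(x : F), hsub x⟩ : p.roots.toFinset)) := by
      intro x y hxy
      apply Subtype.ext
      exact congrArg (fun z : p.roots.toFinset => (z : F)) hxy
    have h3 := Fintype.card_le_of_injective _ this
    rw [Fintype.card_coe] at h3
    exact h3
  calc Nat.card I.tr.ker ≤ p.roots.toFinset.card := h1
    _ ≤ Multiset.card p.roots := Multiset.toFinset_card_le _
    _ ≤ p.natDegree := Polynomial.card_roots' p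
    _ = 2 ^ n := hdeg

theorem card_ker_mul_card_range : Nat.card I.tr.ker * Nat.card I.tr.range = (2 ^ n) ^ 2 := by
  have h1 := AddSubgroup.card_eq_card_quotient_mul_card_addSubgroup I.tr.ker
  have h2 : Nat.card (F ⧸ I.tr.ker) = Nat.card I.tr.range :=
    Nat.card_congr (QuotientAddGroup.quotientKerEquivRange I.tr).toEquiv
  rw [h2, Nat.card_eq_fintype_card, I.card] at h1
  rw [mul_comm]; exact h1.symm

theorem card_ker : Nat.card I.tr.ker = 2 ^ n := by
  have h1 := I.card_ker_le
  have h2 := I.card_ker_mul_card_range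
  have h3 : Nat.card I.tr.range ≤ Nat.card I.tr.ker :=
    Nat.card_le_card_of_injective _ (AddSubgroup.inclusion_injective I.range_le_ker)
  have h4 : (2 ^ n) ^ 2 ≤ Nat.card I.tr.ker * Nat.card I.tr.ker := by
    rw [← h2]; exact Nat.mul_le_mul_left _ h3
  nlinarith

theorem card_range : Nat.card I.tr.range = 2 ^ n := by
  have h2 := I.card_ker_mul_card_range
  rw [I.card_ker, sq] at h2
  exact Nat.eq_of_mul_eq_mul_left (by positivity) h2

theorem range_eq_ker : I.tr.range = I.tr.ker := by
  apply AddSubgroup.eq_of_le_of_card_ge I.range_le_ker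
  rw [I.card_ker, I.card_range]

theorem exists_tr_eq {t : F} (ht : I.φ t = t) : ∃ c : F, I.φ c + c = t := by
  have : t ∈ I.tr.range := by rw [I.range_eq_ker, I.mem_ker_iff]; exact ht
  obtain ⟨c, hc⟩ := this
  exact ⟨c, hc⟩

theorem exists_alpha : ∃ α : F, I.φ α + α = 1 := I.exists_tr_eq (map_one _)

/-- the norm `a φ(a)` is fixed by `φ` -/
theorem norm_fixed (a : F) : I.φ (a * I.φ a) = a * I.φ a := by
  rw [map_mul, I.invol]; ring

end Inv2

end Cfsg.Agent.Lib.Helper72.U3q
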