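import Mathlib
import Cfsg.Prelude.Def_Classical
import Cfsg.Agent.Lib.Helper72.U3qField

/-!
The model group of pairs `(a, b)` over the field with `q ^ 2` elements (`q = 2 ^ n`) with
`φ b + b = a φ a` and multiplication `(a, b) (c, d) = (a + c, b + d + a φ c)`, realised by the
matrices `[[1+b, b, a], [b, 1+b, a], [φ a, φ a, 1]]` preserving the standard Hermitian form.
-/

set_option autoImplicit false

namespace Cfsg.Agent.Lib.Helper72.U3q

open Matrix

variable {F : Type*} [Field F] [Fintype F] {n : ℕ}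

/-- the matrix `[[1+b, b, a], [b, 1+b, a], [φ a, φ a, 1]]` -/
def qmat (I : Inv2 F n) (a b : F) : Matrix (Fin 3) (Fin 3) F :=
  !![1 + b, b, a; b, 1 + b, a; I.φ a, I.φ a, 1]

theorem qmat_inj (I : Inv2 F n) {a b c d : F} (h : qmat I a b = qmat I c d) : a = c ∧ b = d := by
  have h1 := congrFun (congrFun h 0) 2
  have h2 := congrFun (congrFun h 0) 1
  simp [qmat] at h1 h2
  exact ⟨h1, h2⟩

theorem qmat_mul (I : Inv2 F n) (a b c d : F) :
    qmat I a b * qmat I c d = qmat I (a + c) (b + d + a * I.φ c) := by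
  have h2 := I.two
  ext i j
  fin_cases i <;> fin_cases j <;>
    simp [qmat, Matrix.mul_apply, Fin.sum_univ_three, map_add] <;>
    first
    | linear_combination (b * d) * h2
    | linear_combination (b * c) * h2
    | linear_combination (I.φ a * d) * h2
    | linear_combination (I.φ a * c) * h2

theorem qmat_det (I : Inv2 F n) (a b : F) : (qmat I a b).det = 1 := by
  have h2 := I.two
  rw [Matrix.det_fin_three]
  simp [qmat]
  linear_combination (b - a * I.φ a) * h2

theorem herm3 (I : Inv2 F n) (u v : Fin 3 → F) :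
    Cfsg.hermForm 3 F (2 ^ n) u v = u 0 * I.φ (v 0) + u 1 * I.φ (v 1) + u 2 * I.φ (v 2) := by
  simp [Cfsg.hermForm, Fin.sum_univ_three, I.pow]

theorem qmat_mulVec (I : Inv2 F n) (a b : F) (u : Fin 3 → F) :
    qmat I a b *ᵥ u = ![(1 + b) * u 0 + b * u 1 + a * u 2, b * u 0 + (1 + b) * u 1 + a * u 2,
      I.φ a * u 0 + I.φ a * u 1 + u 2] := by
  ext i
  fin_cases i <;> simp [qmat, Matrix.mulVec, dotProduct, Fin.sum_univ_three]

theorem qmat_herm (I : Inv2 F n) (a b : F) (hab : I.φ b + b = a * I.φ a)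
    (u v : Fin 3 → F) :
    Cfsg.hermForm 3 F (2 ^ n) (qmat I a b *ᵥ u) (qmat I a b *ᵥ v) =
      Cfsg.hermForm 3 F (2 ^ n) u v := by
  have h2 := I.two
  rw [herm3 I, herm3 I, qmat_mulVec, qmat_mulVec]
  simp only [Matrix.cons_val_zero, Matrix.cons_val_one, Matrix.cons_val_two, Matrix.head_cons,
    Matrix.tail_cons, map_add, map_mul, map_one, I.invol]
  have hB : I.φ b = b + a * I.φ a := by linear_combination hab - b * h2
  rw [hB]
  generalize I.φ a = A
  generalize I.φ (v 0) = V0
  generalize I.φ (v 1) = V1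
  generalize I.φ (v 2) = V2
  generalize u 0 = u0
  generalize u 1 = u1
  generalize u 2 = u2
  linear_combination ((A*V0*a*b*u0) + (A*V0*a*b*u1) + (A*V0*a*u0) + (A*V0*a*u1) + (A*V0*a^2*u2) + (A*V1*a*b*u0) + (A*V1*a*b*u1) + (A*V1*a*u0) + (A*V1*a*u1) + (A*V1*a^2*u2) + (A*V2*a*u2) + (A*V2*b*u0) + (A*V2*b*u1) + (A*V2*u0) + (A*V2*u1) + (V0*a*b*u2) + (V0*a*u2) + (V0*b*u0) + (V0*b*u1) + (V0*b^2*u0) + (V0*b^2*u1) + (V1*a*b*u2) + (V1*a*u2) + (V1*b*u0) + (V1*b*u1) + (V1*b^2*u0) + (V1*b^2*u1)) * h2

/-- the model: pairs `(a, b)` with `φ b + b = a φ a` -/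
def Model (I : Inv2 F n) : Type _ := {p : F × F // I.φ p.2 + p.2 = p.1 * I.φ p.1}

namespace Model

variable {I : Inv2 F n}

@[ext] theorem ext {x y : Model I} (h1 : x.1.1 = y.1.1) (h2 : x.1.2 = y.1.2) : x = y :=
  Subtype.ext (Prod.ext h1 h2)

theorem rel_mul {a b c d : F} (hab : I.φ b + b = a * I.φ a) (hcd : I.φ d + d = c * I.φ c) :
    I.φ (b + d + a * I.φ c) + (b + d + a * I.φ c) = (a + c) * I.φ (a + c) := by
  simp only [map_add, map_mul, I.invol]
  linear_combination hab + hcd

theorem rel_inv {a b : F} (hab : I.φ b + b = a * I.φ a) :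
    I.φ (b + a * I.φ a) + (b + a * I.φ a) = a * I.φ a := by
  simp only [map_add, map_mul, I.invol]
  linear_combination hab + (a * I.φ a) * I.two

noncomputable instance : Group (Model I) where
  mul x y := ⟨(x.1.1 + y.1.1, x.1.2 + y.1.2 + x.1.1 * I.φ y.1.1), rel_mul x.2 y.2⟩
  one := ⟨(0, 0), by simp⟩
  inv x := ⟨(x.1.1, x.1.2 + x.1.1 * I.φ x.1.1), rel_inv x.2⟩
  mul_assoc x y z := by
    apply Model.ext
    · change x.1.1 + y.1.1 + z.1.1 = x.1.1 + (y.1.1 + z.1.1)
      ring
    · change x.1.2 + y.1.2 + x.1.1 * I.φ y.1.1 + z.1.2 + (x.1.1 + y.1.1) * I.φ z.1.1 =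
        x.1.2 + (y.1.2 + z.1.2 + y.1.1 * I.φ z.1.1) + x.1.1 * I.φ (y.1.1 + z.1.1)
      rw [map_add]
      ring
  one_mul x := by
    apply Model.ext
    · change 0 + x.1.1 = x.1.1
      ring
    · change 0 + x.1.2 + 0 * I.φ x.1.1 = x.1.2
      ring
  mul_one x := by
    apply Model.ext
    · change x.1.1 + 0 = x.1.1
      ring
    · change x.1.2 + 0 + x.1.1 * I.φ 0 = x.1.2
      rw [map_zero]
      ring
  inv_mul_cancel x := by
    have h2 := I.two
    apply Model.ext
    · change x.1.1 + x.1.1 = 0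
      linear_combination x.1.1 * h2
    · change x.1.2 + x.1.1 * I.φ x.1.1 + x.1.2 + x.1.1 * I.φ x.1.1 = 0
      linear_combination (x.1.2 + x.1.1 * I.φ x.1.1) * h2

theorem mul_fst (x y : Model I) : (x * y).1.1 = x.1.1 + y.1.1 := rfl
theorem mul_snd (x y : Model I) : (x * y).1.2 = x.1.2 + y.1.2 + x.1.1 * I.φ y.1.1 := rfl
theorem one_fst : (1 : Model I).1.1 = 0 := rfl
theorem one_snd : (1 : Model I).1.2 = 0 := rfl

variable (I) in
/-- a chosen solution of `φ α + α = 1` -/
noncomputable def alpha : F := I.exists_alpha.choose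

theorem alpha_spec : I.φ (alpha I) + alpha I = 1 := I.exists_alpha.choose_spec

/-- an element of the model with prescribed first coordinate -/
noncomputable def lift (c : F) : Model I :=
  ⟨(c, alpha I * (c * I.φ c)), by
    have hα := alpha_spec (I := I)
    change I.φ (alpha I * (c * I.φ c)) + alpha I * (c * I.φ c) = c * I.φ c
    simp only [map_mul, I.invol]
    linear_combination (c * I.φ c) * hα⟩

theorem lift_fst (c : F) : (lift (I := I) c).1.1 = c := rfl
theorem lift_snd (c : F) : (lift (I := I) c).1.2 = alpha I * (c * I.φ c) := rfl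

variable (I) in
/-- the centre of the model -/
def Zm : Subgroup (Model I) where
  carrier := {x | x.1.1 = 0}
  mul_mem' {x y} hx hy := by
    change (x * y).1.1 = 0
    rw [mul_fst, hx, hy, add_zero]
  one_mem' := rfl
  inv_mem' {x} hx := hx

theorem mem_Zm {x : Model I} : x ∈ Zm I ↔ x.1.1 = 0 := Iff.rfl

/-- the centre corresponds to the kernel of `x ↦ φ x + x` -/
noncomputable def zmEquiv : (Zm I : Subgroup (Model I)) ≃ I.tr.ker where
  toFun x := ⟨x.1.1.2, by
    have h := x.1.2
    have h0 : x.1.1.1 = 0 := x.2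
    rw [h0] at h
    change I.φ x.1.1.2 + x.1.1.2 = 0
    rw [h]; ring⟩
  invFun t := ⟨⟨(0, t.1), by
    have : I.φ t.1 + t.1 = 0 := t.2
    change I.φ t.1 + t.1 = 0 * I.φ 0
    rw [this]; ring⟩, rfl⟩
  left_inv x := by
    apply Subtype.ext
    apply Model.ext
    · exact (x.2 : x.1.1.1 = 0).symm
    · rfl
  right_inv t := rfl

theorem card_Zm : Nat.card (Zm I : Subgroup (Model I)) = 2 ^ n := by
  rw [Nat.card_congr zmEquiv, I.card_ker]

/-- parametrisation of the model by `F × ker` -/
noncomputable def modelEquiv : F × I.tr.ker ≃ Model I where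
  toFun p := ⟨(p.1, alpha I * (p.1 * I.φ p.1) + p.2.1), by
    have hα := alpha_spec (I := I)
    have hz : I.φ p.2.1 + p.2.1 = 0 := p.2.2
    change I.φ (alpha I * (p.1 * I.φ p.1) + p.2.1) + (alpha I * (p.1 * I.φ p.1) + p.2.1) =
      p.1 * I.φ p.1
    simp only [map_add, map_mul, I.invol]
    linear_combination (p.1 * I.φ p.1) * hα + hz⟩
  invFun x := (x.1.1, ⟨x.1.2 + alpha I * (x.1.1 * I.φ x.1.1), by
    have hα := alpha_spec (I := I)
    have h2 := I.two
    have hx := x.2
    change I.φ (x.1.2 + alpha I * (x.1.1 * I.φ x.1.1)) + (x.1.2 + alpha I * (x.1.1 * I.φ x.1.1)) = 0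
    simp only [map_add, map_mul, I.invol]
    linear_combination hx + (x.1.1 * I.φ x.1.1) * hα + (x.1.1 * I.φ x.1.1) * h2⟩)
  left_inv p := by
    apply Prod.ext
    · rfl
    · apply Subtype.ext
      change alpha I * (p.1 * I.φ p.1) + p.2.1 + alpha I * (p.1 * I.φ p.1) = p.2.1
      linear_combination (alpha I * (p.1 * I.φ p.1)) * I.two
  right_inv x := by
    apply Model.ext
    · rfl
    · change alpha I * (x.1.1 * I.φ x.1.1) + (x.1.2 + alpha I * (x.1.1 * I.φ x.1.1)) = x.1.2
      linear_combination (alpha I * (x.1.1 * I.φ x.1.1)) * I.two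

theorem card_model : Nat.card (Model I) = (2 ^ n) ^ 3 := by
  rw [← Nat.card_congr modelEquiv, Nat.card_prod, I.card_ker, Nat.card_eq_fintype_card,
    I.card]
  ring

instance : Finite (Model I) := Nat.finite_of_card_ne_zero (by rw [card_model]; positivity)

theorem Zm_le_center : Zm I ≤ Subgroup.center (Model I) := by
  intro z hz
  rw [Subgroup.mem_center_iff]
  intro g
  have hz0 : z.1.1 = 0 := hz
  apply Model.ext
  · rw [mul_fst, mul_fst]; ring
  · rw [mul_snd, mul_snd, hz0, map_zero]; ring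

theorem center_le_Zm : Subgroup.center (Model I) ≤ Zm I := by
  intro g hg
  rw [Subgroup.mem_center_iff] at hg
  have h2 := I.two
  have hα := alpha_spec (I := I)
  have h1 := congrArg (fun x : Model I => x.1.2) (hg (lift 1))
  have h3 := congrArg (fun x : Model I => x.1.2) (hg (lift (alpha I)))
  simp only [mul_snd, lift_fst, lift_snd, map_one] at h1 h3
  have ha : I.φ g.1.1 = g.1.1 := by linear_combination h1
  rw [ha] at h3
  rw [mem_Zm]
  have hα' : I.φ (alpha I) = alpha I + 1 := by linear_combination hα - alpha I * h2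
  rw [hα'] at h3
  linear_combination (-1 : F) * h3

theorem center_eq : Subgroup.center (Model I) = Zm I :=
  le_antisymm center_le_Zm Zm_le_center

theorem card_center : Nat.card (Subgroup.center (Model I)) = 2 ^ n := by
  rw [center_eq, card_Zm]

theorem isPGroup : IsPGroup 2 (Model I) :=
  IsPGroup.of_card (n := 3 * n) (by rw [card_model, ← pow_mul, mul_comm])

theorem not_comm : ∃ x y : Model I, x * y ≠ y * x := by
  refine ⟨lift 1, lift (alpha I), fun h => ?_⟩
  have hα := alpha_spec (I := I)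
  have h1 := congrArg (fun x : Model I => x.1.2) h
  simp only [mul_snd, lift_fst, lift_snd, map_one] at h1
  have h3 : (1 : F) = 0 := by linear_combination (-1 : F) * hα + h1 + alpha I * I.two
  exact one_ne_zero h3

/-- involutions of the model have first coordinate zero -/
theorem fst_eq_zero_of_sq {x : Model I} (hx : x * x = 1) : x.1.1 = 0 := by
  have h1 := congrArg (fun x : Model I => x.1.2) hx
  simp only [mul_snd, one_snd] at h1
  have h3 : x.1.1 * I.φ x.1.1 = 0 := by linear_combination h1 - x.1.2 * I.two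
  rcases mul_eq_zero.mp h3 with h | h
  · exact h
  · have := congrArg I.φ h
    rw [I.invol, map_zero] at this
    exact this

theorem snd_fixed_of_fst_eq_zero {x : Model I} (hx : x.1.1 = 0) : I.φ x.1.2 = x.1.2 := by
  have h := x.2
  rw [hx] at h
  linear_combination h - x.1.2 * I.two

theorem snd_ne_zero {x : Model I} (hx : x.1.1 = 0) (h1 : x ≠ 1) : x.1.2 ≠ 0 := by
  intro h
  apply h1
  apply Model.ext
  · rw [hx, one_fst]
  · rw [h, one_snd]

/-- the central element with second coordinate `t` -/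
def cen (t : F) (ht : I.φ t = t) : Model I :=
  ⟨(0, t), by
    change I.φ t + t = 0 * I.φ 0
    rw [ht]
    linear_combination t * I.two⟩

theorem cen_mul_self (t : F) (ht : I.φ t = t) : cen (I := I) t ht * cen t ht = 1 := by
  apply Model.ext
  · change (0 : F) + 0 = 0
    ring
  · change t + t + 0 * I.φ 0 = 0
    linear_combination t * I.two

theorem exists_two_involutions (hn : 2 ≤ n) :
    ∃ x y : Model I, x ≠ y ∧ x ≠ 1 ∧ x * x = 1 ∧ y ≠ 1 ∧ y * y = 1 := by
  classical
  -- an element of the fixed field other than `0`, `1`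
  have hcard : Nat.card I.tr.ker = 2 ^ n := I.card_ker
  have h4 : 2 < Nat.card I.tr.ker := by
    rw [hcard]
    calc 2 < 2 ^ 2 := by norm_num
      _ ≤ 2 ^ n := Nat.pow_le_pow_right (by norm_num) hn
  obtain ⟨t, ht0, ht1⟩ : ∃ t : F, I.φ t = t ∧ t ≠ 0 ∧ t ≠ 1 := by
    by_contra hno
    push Not at hno
    have hsub : ∀ x : I.tr.ker, x = ⟨0, zero_mem _⟩ ∨ x = ⟨1, (I.mem_ker_iff 1).mpr (map_one _)⟩ := by
      intro x
      have hx := (I.mem_ker_iff x.1).mp x.2
      by_cases h0 : (x : F) = 0
      · left; exact Subtype.ext h0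
      · right; exact Subtype.ext (hno x.1 hx h0)
    have : Nat.card I.tr.ker ≤ 2 := by
      rw [Nat.card_eq_fintype_card]
      calc Fintype.card I.tr.ker
          ≤ ({⟨0, zero_mem _⟩, ⟨1, (I.mem_ker_iff 1).mpr (map_one _)⟩} : Finset I.tr.ker).card := by
            apply Finset.card_le_card_of_injOn (fun x => x) _ (fun _ _ _ _ h => h) |>.trans' ?_
            · exact Finset.univ
            · intro x _
              rcases hsub x with h | h <;> simp [h]
            · simp
        _ ≤ 2 := Finset.card_le_two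
    omega
  refine ⟨cen 1 (map_one _), cen t ht0, ?_, ?_, cen_mul_self _ _, ?_, cen_mul_self _ _⟩
  · intro h
    have := congrArg (fun x : Model I => x.1.2) h
    exact ht1.2 this.symm
  · intro h
    have := congrArg (fun x : Model I => x.1.2) h
    exact one_ne_zero this
  · intro h
    have := congrArg (fun x : Model I => x.1.2) h
    exact ht1.1 this

end Model

end Cfsg.Agent.Lib.Helper72.U3q
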