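import Mathlib
import Cfsg.Prelude.Def_Classical
import Cfsg.Prelude.Def_LieRecognition
import Cfsg.Agent.Lib.Helper72.U3qModel
import Cfsg.Agent.Lib.Helper08.SUCard
import Cfsg.Agent.S0279
import Cfsg.Agent.S0280

/-!
The model group is a Suzuki 2-group, and is isomorphic to every Sylow 2-subgroup of `PSU₃(2ⁿ)`.
-/

set_option autoImplicit false

namespace Cfsg.Agent.Lib.Helper72.U3q

variable {F : Type*} [Field F] [Fintype F] {n : ℕ}

/-! ### Transport of the Suzuki property -/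

theorem isSuzukiTwoGroup_of_equiv {P Q : Type*} [Group P] [Group Q] (e : P ≃* Q)
    (h : Cfsg.IsSuzukiTwoGroup P) : Cfsg.IsSuzukiTwoGroup Q := by
  obtain ⟨hfin, hp, ⟨x, y, hxy⟩, ⟨u, v, huv, hu1, hu2, hv1, hv2⟩, K, hK, hreg⟩ := h
  refine ⟨Finite.of_equiv P e.toEquiv, hp.of_equiv e, ⟨e x, e y, ?_⟩, ⟨e u, e v, ?_, ?_, ?_, ?_, ?_⟩,
    K.map (MulAut.congr e).toMonoidHom, ?_, ?_⟩
  · intro h1
    apply hxy
    apply e.injective
    rw [map_mul, map_mul, h1]
  · exact fun h1 => huv (e.injective h1)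
  · exact fun h1 => hu1 (e.injective (by rw [h1, map_one]))
  · rw [← map_mul, hu2, map_one]
  · exact fun h1 => hv1 (e.injective (by rw [h1, map_one]))
  · rw [← map_mul, hv2, map_one]
  · have : IsCyclic K := hK
    exact isCyclic_of_surjective ((MulAut.congr e).toMonoidHom.subgroupMap K)
      ((MulAut.congr e).toMonoidHom.subgroupMap_surjective K)
  · intro a b ha1 ha2 hb1 hb2
    have ha1' : e.symm a ≠ 1 := fun h1 => ha1 (e.symm.injective (by rw [h1, map_one]))
    have ha2' : e.symm a * e.symm a = 1 := by rw [← map_mul, ha2, map_one]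
    have hb1' : e.symm b ≠ 1 := fun h1 => hb1 (e.symm.injective (by rw [h1, map_one]))
    have hb2' : e.symm b * e.symm b = 1 := by rw [← map_mul, hb2, map_one]
    obtain ⟨k, hk, hkuniq⟩ := hreg (e.symm a) (e.symm b) ha1' ha2' hb1' hb2'
    refine ⟨⟨MulAut.congr e k.1, ⟨k.1, k.2, rfl⟩⟩, ?_, ?_⟩
    · show (MulAut.congr e k.1) a = b
      rw [MulAut.congr_apply]
      show e (k.1 (e.symm a)) = b
      rw [hk, e.apply_symm_apply]
    · rintro ⟨k', k0, hk0, rfl⟩ hk'
      have h1 : (MulAut.congr e k0) a = b := hk'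
      rw [MulAut.congr_apply] at h1
      have h2 : k0 (e.symm a) = e.symm b := by
        apply e.injective
        rw [e.apply_symm_apply]
        exact h1
      have h3 := hkuniq ⟨k0, hk0⟩ h2
      apply Subtype.ext
      show (MulAut.congr e) k0 = (MulAut.congr e) k.1
      rw [← h3]

/-! ### Scaling automorphisms of the model -/

namespace Model

variable {I : Inv2 F n}

/-- the map `(a, b) ↦ (l a, l φ(l) b)` -/
def scaleFun (l : F) (x : Model I) : Model I :=
  ⟨(l * x.1.1, l * I.φ l * x.1.2), by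
    have hx := x.2
    change I.φ (l * I.φ l * x.1.2) + l * I.φ l * x.1.2 = l * x.1.1 * I.φ (l * x.1.1)
    simp only [map_mul, I.invol]
    linear_combination (l * I.φ l) * hx⟩

theorem scaleFun_fst (l : F) (x : Model I) : (scaleFun l x).1.1 = l * x.1.1 := rfl
theorem scaleFun_snd (l : F) (x : Model I) : (scaleFun l x).1.2 = l * I.φ l * x.1.2 := rfl

theorem scaleFun_mul (l : F) (x y : Model I) :
    scaleFun l (x * y) = scaleFun l x * scaleFun l y := by
  apply Model.ext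
  · rw [scaleFun_fst, mul_fst, mul_fst, scaleFun_fst, scaleFun_fst]; ring
  · rw [scaleFun_snd, mul_snd, mul_snd, scaleFun_snd, scaleFun_snd, scaleFun_fst, scaleFun_fst,
      map_mul]
    ring

theorem scaleFun_scaleFun (l m : F) (x : Model I) :
    scaleFun l (scaleFun m x) = scaleFun (l * m) x := by
  apply Model.ext
  · rw [scaleFun_fst, scaleFun_fst, scaleFun_fst]; ring
  · rw [scaleFun_snd, scaleFun_snd, scaleFun_snd, map_mul]; ring

theorem scaleFun_one (x : Model I) : scaleFun 1 x = x := by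
  apply Model.ext
  · rw [scaleFun_fst]; ring
  · rw [scaleFun_snd, map_one]; ring

/-- scaling by a unit as an automorphism -/
noncomputable def scale (l : Fˣ) : MulAut (Model I) where
  toFun := scaleFun (l : F)
  invFun := scaleFun ((l⁻¹ : Fˣ) : F)
  left_inv x := by rw [scaleFun_scaleFun, ← Units.val_mul, inv_mul_cancel, Units.val_one, scaleFun_one]
  right_inv x := by rw [scaleFun_scaleFun, ← Units.val_mul, mul_inv_cancel, Units.val_one, scaleFun_one]
  map_mul' := scaleFun_mul _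

theorem scale_apply (l : Fˣ) (x : Model I) : scale l x = scaleFun (l : F) x := rfl

variable (I) in
/-- scaling as a homomorphism -/
noncomputable def scaleHom : Fˣ →* MulAut (Model I) where
  toFun := scale
  map_one' := by
    ext x : 1
    rw [scale_apply, Units.val_one, scaleFun_one]; rfl
  map_mul' l m := by
    ext x : 1
    rw [scale_apply, MulAut.mul_apply, scale_apply, scale_apply, scaleFun_scaleFun, Units.val_mul]

variable (I) in
/-- the units of the fixed field -/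
def fixU : Subgroup Fˣ where
  carrier := {l | I.φ (l : F) = l}
  mul_mem' {a b} ha hb := by
    change I.φ ((a * b : Fˣ) : F) = _
    rw [Units.val_mul, map_mul, ha, hb]
  one_mem' := by
    change I.φ ((1 : Fˣ) : F) = _
    rw [Units.val_one, map_one]
  inv_mem' {a} ha := by
    change I.φ ((a⁻¹ : Fˣ) : F) = _
    rw [Units.val_inv_eq_inv_val, map_inv₀, ha]

variable (I) in
/-- the cyclic group of automorphisms acting regularly on the involutions -/
noncomputable def Kaut : Subgroup (MulAut (Model I)) := (fixU I).map (scaleHom I)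

theorem isCyclic_Kaut : IsCyclic (Kaut I) := by
  have : IsCyclic (fixU I) := inferInstance
  exact isCyclic_of_surjective ((scaleHom I).subgroupMap (fixU I))
    ((scaleHom I).subgroupMap_surjective (fixU I))

theorem regular (x y : Model I) (hx1 : x ≠ 1) (hx2 : x * x = 1) (hy1 : y ≠ 1) (hy2 : y * y = 1) :
    ∃! k : Kaut I, (k : MulAut (Model I)) x = y := by
  have hx0 := fst_eq_zero_of_sq hx2
  have hy0 := fst_eq_zero_of_sq hy2
  have hxs := snd_fixed_of_fst_eq_zero hx0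
  have hys := snd_fixed_of_fst_eq_zero hy0
  have hxn := snd_ne_zero hx0 hx1
  have hyn := snd_ne_zero hy0 hy1
  have hn := I.one_le
  -- the scalar
  obtain ⟨r, hr⟩ : ∃ r : F, r = y.1.2 / x.1.2 := ⟨_, rfl⟩
  have hrφ : I.φ r = r := by rw [hr, map_div₀, hxs, hys]
  have hr0 : r ≠ 0 := by rw [hr]; exact div_ne_zero hyn hxn
  obtain ⟨l, hl⟩ : ∃ l : F, l = r ^ 2 ^ (n - 1) := ⟨_, rfl⟩
  have hl2 : l * l = r := by
    rw [hl, ← sq, ← pow_mul, ← pow_succ, Nat.sub_add_cancel hn, ← I.pow, hrφ]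
  have hlφ : I.φ l = l := by rw [hl, map_pow, hrφ]
  have hl0 : l ≠ 0 := by rw [hl]; exact pow_ne_zero _ hr0
  have hlmem : Units.mk0 l hl0 ∈ fixU I := hlφ
  refine ⟨⟨scale (Units.mk0 l hl0), ⟨Units.mk0 l hl0, hlmem, rfl⟩⟩, ?_, ?_⟩
  · show scale (Units.mk0 l hl0) x = y
    rw [scale_apply]
    apply Model.ext
    · rw [scaleFun_fst, hx0, hy0, mul_zero]
    · rw [scaleFun_snd, Units.val_mk0, hlφ, hl2, hr]
      field_simp
  · rintro ⟨k, m, hm, rfl⟩ hk
    have hmφ : I.φ (m : F) = m := hm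
    have hk' : scale m x = y := hk
    rw [scale_apply] at hk'
    have h1 := congrArg (fun z : Model I => z.1.2) hk'
    simp only [scaleFun_snd] at h1
    rw [hmφ] at h1
    have h2 : (m : F) * m = r := by
      rw [hr, eq_div_iff hxn]; exact h1
    have h3 : ((m : F) + l) * ((m : F) + l) = 0 := by
      linear_combination h2 + hl2 + (r + (m : F) * l) * I.two
    have h4 : (m : F) + l = 0 := mul_self_eq_zero.mp h3
    have h5 : (m : F) = l := by linear_combination h4 - l * I.two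
    apply Subtype.ext
    show scaleHom I m = scale (Units.mk0 l hl0)
    have : m = Units.mk0 l hl0 := Units.ext (by rw [Units.val_mk0]; exact h5)
    rw [this]; rfl

theorem isSuzuki (hn : 2 ≤ n) : Cfsg.IsSuzukiTwoGroup (Model I) :=
  ⟨inferInstance, isPGroup, not_comm, exists_two_involutions hn, Kaut I, isCyclic_Kaut, regular⟩

end Model

/-! ### The embedding into the unitary group -/

/-- the embedding of the model group into `SU₃(2ⁿ)` -/
noncomputable def toSU (I : Inv2 F n) : Model I →* Cfsg.SU 3 F (2 ^ n) :=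
  MonoidHom.mk'
    (fun x => ⟨⟨qmat I x.1.1 x.1.2, qmat_det I _ _⟩,
      (Cfsg.Agent.Lib.Helper08.mem_SU_iff _).mpr (qmat_herm I _ _ x.2)⟩)
    (by
      intro x y
      apply Subtype.ext
      apply Subtype.ext
      exact (qmat_mul I _ _ _ _).symm)

theorem toSU_injective (I : Inv2 F n) : Function.Injective (toSU I) := by
  intro x y h
  have h1 : qmat I x.1.1 x.1.2 = qmat I y.1.1 y.1.2 :=
    congrArg (fun g : Cfsg.SU 3 F (2 ^ n) => ((g : Matrix.SpecialLinearGroup (Fin 3) F) :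
      Matrix (Fin 3) (Fin 3) F)) h
  obtain ⟨h2, h3⟩ := qmat_inj I h1
  exact Model.ext h2 h3

/-- the embedding of the model group into `PSU₃(2ⁿ)` -/
noncomputable def toPSU (I : Inv2 F n) : Model I →* Cfsg.PSU 3 F (2 ^ n) :=
  (QuotientGroup.mk' (Subgroup.center (Cfsg.SU 3 F (2 ^ n)))).comp (toSU I)

theorem toPSU_injective (I : Inv2 F n) : Function.Injective (toPSU I) := by
  rw [injective_iff_map_eq_one]
  intro x hx
  have h1 : toSU I x ∈ Subgroup.center (Cfsg.SU 3 F (2 ^ n)) := by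
    rw [← QuotientGroup.ker_mk' (Subgroup.center (Cfsg.SU 3 F (2 ^ n)))]
    exact hx
  -- the centre has order dividing three
  have hc : Nat.card (Subgroup.center (Cfsg.SU 3 F (2 ^ n))) = Nat.gcd 3 (2 ^ n + 1) :=
    Cfsg.Agent.S0279.result I.card 3 le_rfl
  have h3 : (toSU I x) ^ 3 = 1 := by
    have h4 : (⟨toSU I x, h1⟩ : Subgroup.center (Cfsg.SU 3 F (2 ^ n))) ^
        Nat.card (Subgroup.center (Cfsg.SU 3 F (2 ^ n))) = 1 := pow_card_eq_one'
    have h5 : (toSU I x) ^ Nat.gcd 3 (2 ^ n + 1) = 1 := by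
      rw [← hc]
      exact congrArg Subtype.val h4
    obtain ⟨m, hm⟩ := Nat.gcd_dvd_left 3 (2 ^ n + 1)
    have h6 : (toSU I x) ^ 3 = (toSU I x) ^ (Nat.gcd 3 (2 ^ n + 1) * m) :=
      congrArg (fun k => (toSU I x) ^ k) hm
    rw [h6, pow_mul, h5, one_pow]
  have h6 : x ^ 3 = 1 := by
    apply toSU_injective I
    rw [map_pow, h3, map_one]
  have h7 : x ^ (2 ^ n) ^ 3 = 1 := by
    rw [← Model.card_model (I := I)]
    exact pow_card_eq_one'
  have h8 : orderOf x ∣ Nat.gcd 3 ((2 ^ n) ^ 3) :=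
    Nat.dvd_gcd (orderOf_dvd_of_pow_eq_one h6) (orderOf_dvd_of_pow_eq_one h7)
  have h9 : Nat.gcd 3 ((2 ^ n) ^ 3) = 1 := by
    rw [← pow_mul]
    exact Nat.Coprime.pow_right _ (by norm_num)
  rw [h9, Nat.dvd_one, orderOf_eq_one_iff] at h8
  exact h8

theorem card_PSU_mul (I : Inv2 F n) :
    Nat.gcd 3 (2 ^ n + 1) * Nat.card (Cfsg.PSU 3 F (2 ^ n)) =
      (2 ^ n) ^ 3 * (((2 ^ n) ^ 2 - 1) * ((2 ^ n) ^ 3 + 1)) := by
  have h := Cfsg.Agent.S0280.result I.card 3 (by norm_num)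
  rw [Finset.prod_range_succ, Finset.prod_range_succ, Finset.prod_range_one] at h
  simp only [Nat.even_add_one, not_true_eq_false,
    ↓reduceIte, zero_add, Nat.reduceAdd, even_two, Even.zero] at h
  have hq : 0 < 2 ^ n + 1 := by positivity
  apply Nat.eq_of_mul_eq_mul_left hq
  calc (2 ^ n + 1) * (Nat.gcd 3 (2 ^ n + 1) * Nat.card (Cfsg.PSU 3 F (2 ^ n)))
      = Nat.gcd 3 (2 ^ n + 1) * ((2 ^ n + 1) * Nat.card (Cfsg.PSU 3 F (2 ^ n))) := by ring
    _ = (2 ^ n) ^ (3 * (3 - 1) / 2) * ((2 ^ n + 1) * ((2 ^ n) ^ 2 - 1) * ((2 ^ n) ^ 3 + 1)) := by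
        rw [h]; norm_num
    _ = (2 ^ n + 1) * ((2 ^ n) ^ 3 * (((2 ^ n) ^ 2 - 1) * ((2 ^ n) ^ 3 + 1))) := by
        norm_num; ring

/-- every Sylow 2-subgroup of `PSU₃(2ⁿ)` is isomorphic to the model -/
theorem sylow_equiv_model (I : Inv2 F n) (S : Sylow 2 (Cfsg.PSU 3 F (2 ^ n))) :
    Nonempty (Model I ≃* ↥(S : Subgroup (Cfsg.PSU 3 F (2 ^ n)))) := by
  classical
  have hn := I.one_le
  have hmul := card_PSU_mul I
  have hq1 : 1 ≤ (2 ^ n) ^ 2 := Nat.one_le_pow _ _ (by positivity)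
  have hpos : 0 < Nat.card (Cfsg.PSU 3 F (2 ^ n)) := by
    rcases Nat.eq_zero_or_pos (Nat.card (Cfsg.PSU 3 F (2 ^ n))) with h0 | h0
    · exfalso
      rw [h0, mul_zero] at hmul
      have h1 : 0 < (2 ^ n) ^ 3 * (((2 ^ n) ^ 2 - 1) * ((2 ^ n) ^ 3 + 1)) := by
        apply Nat.mul_pos (by positivity)
        apply Nat.mul_pos _ (by positivity)
        have : 2 ^ 1 ≤ 2 ^ n := Nat.pow_le_pow_right (by norm_num) hn
        have : (2 ^ 1) ^ 2 ≤ (2 ^ n) ^ 2 := Nat.pow_le_pow_left this 2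
        omega
      omega
    · exact h0
  have : Finite (Cfsg.PSU 3 F (2 ^ n)) := Nat.finite_of_card_ne_zero hpos.ne'
  let Q : Subgroup (Cfsg.PSU 3 F (2 ^ n)) := (toPSU I).range
  let e1 : Model I ≃* Q := MonoidHom.ofInjective (toPSU_injective I)
  have hcardQ : Nat.card Q = (2 ^ n) ^ 3 := by
    rw [← Nat.card_congr e1.toEquiv, Model.card_model]
  have hQ : IsPGroup 2 Q := IsPGroup.of_card (n := 3 * n) (by rw [hcardQ, ← pow_mul, mul_comm])
  have hidx : ¬ 2 ∣ Q.index := by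
    intro hdvd
    have h1 := Q.card_mul_index
    rw [hcardQ] at h1
    rw [← h1] at hmul
    have h2 : Nat.gcd 3 (2 ^ n + 1) * Q.index = ((2 ^ n) ^ 2 - 1) * ((2 ^ n) ^ 3 + 1) := by
      apply Nat.eq_of_mul_eq_mul_left (show 0 < (2 ^ n) ^ 3 by positivity)
      rw [← hmul]; ring
    have h3 : 2 ∣ ((2 ^ n) ^ 2 - 1) * ((2 ^ n) ^ 3 + 1) := by
      rw [← h2]; exact Dvd.dvd.mul_left hdvd _
    have he : Even (2 ^ n) := (Nat.even_pow' (by omega)).mpr even_two
    have ho1 : Odd ((2 ^ n) ^ 2 - 1) := Nat.Even.sub_odd hq1 (Nat.even_pow.mpr ⟨he, by norm_num⟩) odd_one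
    have ho2 : Odd ((2 ^ n) ^ 3 + 1) := (Nat.even_pow.mpr ⟨he, by norm_num⟩).add_one
    have ho : Odd (((2 ^ n) ^ 2 - 1) * ((2 ^ n) ^ 3 + 1)) := ho1.mul ho2
    rw [← even_iff_two_dvd] at h3
    exact (Nat.not_even_iff_odd.mpr ho) h3
  let P : Sylow 2 (Cfsg.PSU 3 F (2 ^ n)) := hQ.toSylow hidx
  let e2 : ↥(P : Subgroup (Cfsg.PSU 3 F (2 ^ n))) ≃* ↥(S : Subgroup (Cfsg.PSU 3 F (2 ^ n))) :=
    Sylow.equiv P S
  let e1' : Model I ≃* ↥(P : Subgroup (Cfsg.PSU 3 F (2 ^ n))) := e1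
  exact ⟨e1'.trans e2⟩

end Cfsg.Agent.Lib.Helper72.U3q
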