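import Mathlib
import Cfsg.Agent.Lib.Helper72.U3qField

/-!
Additive involutions `A` of `F` and `B` of the fixed field of `φ` with `N (A a) = B (N a)` for the
norm `N a = a φ a`: then `B` is the identity.  (`A` is semilinear over the fixed field with respect
to an automorphism `μ`; if `μ ≠ 1`, the norm form restricted to the fixed points of `A` is an
anisotropic binary form over the fixed field of `μ` which becomes isotropic over the fixed field of
`φ`, a contradiction.)
-/

set_option autoImplicit false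

namespace Cfsg.Agent.Lib.Helper72.U3q

variable {F : Type*} [Field F] [Fintype F] {n : ℕ}

namespace Inv2

variable (I : Inv2 F n)
include I

theorem fix_add {s t : F} (hs : I.φ s = s) (ht : I.φ t = t) : I.φ (s + t) = s + t := by
  rw [map_add, hs, ht]

theorem fix_mul {s t : F} (hs : I.φ s = s) (ht : I.φ t = t) : I.φ (s * t) = s * t := by
  rw [map_mul, hs, ht]

theorem fix_div {s t : F} (hs : I.φ s = s) (ht : I.φ t = t) : I.φ (s / t) = s / t := by
  rw [map_div₀, hs, ht]

theorem fix_inv {s : F} (hs : I.φ s = s) : I.φ s⁻¹ = s⁻¹ := by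
  rw [map_inv₀, hs]

/-- the polar form of the norm -/
def pol (a c : F) : F := a * I.φ c + c * I.φ a

theorem pol_fixed (a c : F) : I.φ (I.pol a c) = I.pol a c := by
  unfold pol
  simp only [map_add, map_mul, I.invol]
  ring

theorem norm_add (a c : F) :
    (a + c) * I.φ (a + c) = a * I.φ a + c * I.φ c + I.pol a c := by
  unfold pol
  rw [map_add]; ring

theorem norm_eq_zero {a : F} (h : a * I.φ a = 0) : a = 0 := by
  rcases mul_eq_zero.mp h with h | h
  · exact h
  · have := congrArg I.φ h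
    rwa [I.invol, map_zero] at this

/-- `pol a c = 0` iff `c / a` is fixed -/
theorem pol_eq_zero_iff {a : F} (ha : a ≠ 0) (c : F) : I.pol a c = 0 ↔ I.φ (c / a) = c / a := by
  have hφa : I.φ a ≠ 0 := fun h => ha (by have := congrArg I.φ h; rwa [I.invol, map_zero] at this)
  unfold pol
  rw [map_div₀]
  constructor
  · intro h
    rw [div_eq_div_iff hφa ha]
    linear_combination h - (c * I.φ a) * I.two
  · intro h
    rw [div_eq_div_iff hφa ha] at h
    linear_combination h + (c * I.φ a) * I.two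

/-- square roots in the fixed field -/
theorem exists_sqrt {s : F} (hs : I.φ s = s) : ∃ l : F, I.φ l = l ∧ l * l = s := by
  refine ⟨s ^ 2 ^ (n - 1), by rw [map_pow, hs], ?_⟩
  rw [← sq, ← pow_mul, ← pow_succ, Nat.sub_add_cancel I.one_le, ← I.pow, hs]

/-- some element is not fixed -/
theorem exists_not_fixed : ∃ x : F, I.φ x ≠ x := by
  by_contra h
  push Not at h
  have h1 : I.tr.ker = ⊤ := by
    rw [eq_top_iff]
    intro x _
    exact (I.mem_ker_iff x).mpr (h x)
  have h2 := I.card_ker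
  rw [h1] at h2
  have h3 : Nat.card (⊤ : AddSubgroup F) = Nat.card F := Nat.card_congr AddSubgroup.topEquiv.toEquiv
  rw [h3, Nat.card_eq_fintype_card, I.card] at h2
  have h4 : 1 < 2 ^ n := Nat.one_lt_two_pow (by have := I.one_le; omega)
  nlinarith

end Inv2

/-- A quadratic whose coefficients are fixed by an involutive automorphism `μ ≠ 1` of the fixed
field of `φ` has a root in the fixed field of `φ`. -/
theorem exists_quad_root (I : Inv2 F n) (μ : F → F)
    (hμfix : ∀ l, I.φ l = l → I.φ (μ l) = μ l)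
    (hμadd : ∀ s t, I.φ s = s → I.φ t = t → μ (s + t) = μ s + μ t)
    (hμmul : ∀ s t, I.φ s = s → I.φ t = t → μ (s * t) = μ s * μ t)
    (hμμ : ∀ l, I.φ l = l → μ (μ l) = l)
    (θ : F) (hθ : I.φ θ = θ) (hθμ : μ θ ≠ θ)
    (r2 r3 : F) (h2φ : I.φ r2 = r2) (h3φ : I.φ r3 = r3) (h2μ : μ r2 = r2) (h3μ : μ r3 = r3) :
    ∃ x, I.φ x = x ∧ x * x + r3 * x + r2 = 0 := by
  have h2 := I.two
  by_cases hr3 : r3 = 0
  · obtain ⟨l, hl, hls⟩ := I.exists_sqrt h2φ
    refine ⟨l, hl, ?_⟩
    rw [hls, hr3]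
    linear_combination r2 * h2
  have hμ0 : μ 0 = 0 := by
    have := hμadd 0 0 (map_zero _) (map_zero _)
    rw [add_zero] at this
    linear_combination -this
  have hneg : ∀ x : F, -x = x := fun x => by linear_combination (-x) * h2
  -- the fixed field of `μ`
  let F0 : AddSubgroup F :=
    { carrier := {x | I.φ x = x ∧ μ x = x}
      zero_mem' := ⟨map_zero _, hμ0⟩
      add_mem' := fun {x y} hx hy => ⟨I.fix_add hx.1 hy.1, by
        rw [hμadd x y hx.1 hy.1, hx.2, hy.2]⟩
      neg_mem' := fun {x} hx => by rw [hneg]; exact hx }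
  have hF0 : ∀ x, x ∈ F0 ↔ I.φ x = x ∧ μ x = x := fun x => Iff.rfl
  have hr3mem : r3 ∈ F0 := ⟨h3φ, h3μ⟩
  have hr2mem : r2 ∈ F0 := ⟨h2φ, h2μ⟩
  have hfmem : ∀ u : F0, (u : F) * u + r3 * u ∈ F0 := by
    intro u
    have hu := (hF0 _).mp u.2
    refine ⟨I.fix_add (I.fix_mul hu.1 hu.1) (I.fix_mul h3φ hu.1), ?_⟩
    rw [hμadd _ _ (I.fix_mul hu.1 hu.1) (I.fix_mul h3φ hu.1), hμmul _ _ hu.1 hu.1,
      hμmul _ _ h3φ hu.1, hu.2, h3μ]
  let f : F0 →+ F0 := AddMonoidHom.mk' (fun u => ⟨(u : F) * u + r3 * u, hfmem u⟩) (by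
    intro u v
    apply Subtype.ext
    simp only [AddSubgroup.coe_add]
    linear_combination ((u : F) * v) * h2)
  have hf : ∀ u : F0, ((f u : F0) : F) = (u : F) * u + r3 * u := fun u => rfl
  -- the kernel has two elements
  have hker : ∀ u : F0, f u = 0 → (u : F) = 0 ∨ (u : F) = r3 := by
    intro u hu
    have h1 : (u : F) * u + r3 * u = 0 := by
      rw [← hf, hu]; rfl
    have h3 : (u : F) * ((u : F) + r3) = 0 := by linear_combination h1
    rcases mul_eq_zero.mp h3 with h | h
    · exact Or.inl h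
    · right
      linear_combination h - r3 * h2
  have hcardker : Nat.card f.ker = 2 := by
    rw [Nat.card_eq_two_iff]
    have h0 : (0 : F0) ∈ f.ker := f.ker.zero_mem
    have h3 : (⟨r3, hr3mem⟩ : F0) ∈ f.ker := by
      rw [AddMonoidHom.mem_ker]
      apply Subtype.ext
      rw [hf]
      show r3 * r3 + r3 * r3 = 0
      linear_combination (r3 * r3) * h2
    refine ⟨⟨0, h0⟩, ⟨⟨r3, hr3mem⟩, h3⟩, ?_, ?_⟩
    · intro h
      apply hr3
      have := congrArg (fun z : f.ker => ((z : F0) : F)) h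
      exact this.symm
    · rw [Set.eq_univ_iff_forall]
      rintro ⟨u, hu⟩
      rcases hker u (AddMonoidHom.mem_ker.mp hu) with h | h
      · left
        apply Subtype.ext; apply Subtype.ext; exact h
      · right
        apply Subtype.ext; apply Subtype.ext; exact h
  have hfin : Finite F0 := inferInstance
  have hidx : f.range.index = 2 := by
    rw [AddSubgroup.index_range, hcardker]
  obtain ⟨z, hz⟩ := AddSubgroup.index_eq_two_iff.mp hidx
  -- an element `ξ0` with `ξ0 + μ ξ0 = r3`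
  obtain ⟨T, hT⟩ : ∃ T : F, T = θ + μ θ := ⟨_, rfl⟩
  have hTfix : I.φ T = T := by rw [hT]; exact I.fix_add hθ (hμfix θ hθ)
  have hT0 : T ≠ 0 := by
    intro h
    apply hθμ
    rw [hT] at h
    linear_combination h - θ * h2
  have hμT : μ T = T := by
    rw [hT, hμadd _ _ hθ (hμfix θ hθ), hμμ θ hθ]; ring
  have hμdivT : ∀ s, I.φ s = s → μ (s / T) = μ s / T := by
    intro s hs
    rw [eq_div_iff hT0]
    have := hμmul (s / T) T (I.fix_div hs hTfix) hTfix
    rw [div_mul_cancel₀ _ hT0, hμT] at this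
    exact this.symm
  obtain ⟨ξ0, hξ0⟩ : ∃ ξ0 : F, ξ0 = r3 * θ / T := ⟨_, rfl⟩
  have hξ0fix : I.φ ξ0 = ξ0 := by rw [hξ0]; exact I.fix_div (I.fix_mul h3φ hθ) hTfix
  have hξ0μ : ξ0 + μ ξ0 = r3 := by
    rw [hξ0, hμdivT _ (I.fix_mul h3φ hθ), hμmul _ _ h3φ hθ, h3μ, ← add_div, ← mul_add, ← hT,
      mul_div_assoc, div_self hT0, mul_one]
  have hμξ0 : μ ξ0 = ξ0 + r3 := by linear_combination hξ0μ - ξ0 * h2
  obtain ⟨e0, he0⟩ : ∃ e0 : F, e0 = ξ0 * ξ0 + r3 * ξ0 := ⟨_, rfl⟩
  have he0mem : e0 ∈ F0 := by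
    rw [he0]
    refine ⟨I.fix_add (I.fix_mul hξ0fix hξ0fix) (I.fix_mul h3φ hξ0fix), ?_⟩
    rw [hμadd _ _ (I.fix_mul hξ0fix hξ0fix) (I.fix_mul h3φ hξ0fix), hμmul _ _ hξ0fix hξ0fix,
      hμmul _ _ h3φ hξ0fix, hμξ0, h3μ]
    linear_combination (r3 * r3 + r3 * ξ0) * h2
  have he0not : (⟨e0, he0mem⟩ : F0) ∉ f.range := by
    rintro ⟨u, hu⟩
    have h1 : (u : F) * u + r3 * u = e0 := by
      rw [← hf, hu]
    have hu' := (hF0 _).mp u.2
    have hmem : (u : F) + ξ0 ∈ F0 := by
      have h3 : ((u : F) + ξ0) * ((u : F) + ξ0 + r3) = 0 := by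
        rw [he0] at h1
        linear_combination h1 + (ξ0 * ξ0 + r3 * ξ0 + (u : F) * ξ0) * h2
      rcases mul_eq_zero.mp h3 with h | h
      · rw [h]; exact F0.zero_mem
      · have : (u : F) + ξ0 = r3 := by linear_combination h - r3 * h2
        rw [this]; exact hr3mem
    have hξmem : ξ0 ∈ F0 := by
      have := F0.add_mem hmem u.2
      have e : (u : F) + ξ0 + u = ξ0 := by linear_combination (u : F) * h2
      rwa [e] at this
    apply hr3
    rw [← hξ0μ, ((hF0 _).mp hξmem).2]
    linear_combination ξ0 * h2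
  -- `r2` or `r2 + e0` lies in the image
  have hzn : z ∉ f.range := by
    have := hz 0
    rw [zero_add] at this
    rcases this with ⟨_, h⟩ | ⟨_, h⟩
    · exact absurd f.range.zero_mem h
    · exact h
  have he0z : (⟨e0, he0mem⟩ : F0) + z ∈ f.range := by
    rcases hz ⟨e0, he0mem⟩ with ⟨h, _⟩ | ⟨h, _⟩
    · exact h
    · exact absurd h he0not
  rcases hz ⟨r2, hr2mem⟩ with ⟨h, _⟩ | ⟨h, _⟩
  · -- `r2 + z` and `e0 + z` in the image, so `r2 + e0` is
    have hsum := f.range.add_mem h he0z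
    obtain ⟨u, hu⟩ := hsum
    have h1 : (u : F) * u + r3 * u = r2 + e0 := by
      rw [← hf, hu]
      show r2 + (z : F) + (e0 + (z : F)) = r2 + e0
      linear_combination (z : F) * h2
    have hu' := (hF0 _).mp u.2
    refine ⟨(u : F) + ξ0, I.fix_add hu'.1 hξ0fix, ?_⟩
    rw [he0] at h1
    linear_combination h1 + (r2 + ξ0 * ξ0 + r3 * ξ0 + (u : F) * ξ0) * h2
  · obtain ⟨u, hu⟩ := h
    have h1 : (u : F) * u + r3 * u = r2 := by
      rw [← hf, hu]
    have hu' := (hF0 _).mp u.2
    refine ⟨(u : F), hu'.1, ?_⟩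
    linear_combination h1 + r2 * h2

/-- The main statement. -/
theorem B_eq_id (I : Inv2 F n) (A : F →+ F) (B : F → F) (hAA : ∀ a, A (A a) = a)
    (hBfix : ∀ t, I.φ t = t → I.φ (B t) = B t)
    (hBadd : ∀ s t, I.φ s = s → I.φ t = t → B (s + t) = B s + B t)
    (hBB : ∀ t, I.φ t = t → B (B t) = t)
    (hN : ∀ a, A a * I.φ (A a) = B (a * I.φ a)) :
    ∀ t, I.φ t = t → B t = t := by
  have h2 := I.two
  have hB0 : B 0 = 0 := by
    have := hBadd 0 0 (map_zero _) (map_zero _)
    rw [add_zero] at this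
    linear_combination -this
  have hBinj : ∀ s, I.φ s = s → B s = 0 → s = 0 := by
    intro s hs h
    have := hBB s hs
    rw [h, hB0] at this
    exact this.symm
  have hA0 : ∀ a, A a = 0 → a = 0 := by
    intro a h
    have := hAA a
    rw [h, map_zero] at this
    exact this.symm
  -- polar identity
  have hpol : ∀ a c, I.pol (A a) (A c) = B (I.pol a c) := by
    intro a c
    have h1 := hN (a + c)
    rw [map_add, I.norm_add, I.norm_add, hN a, hN c,
      hBadd _ _ (I.fix_add (I.norm_fixed a) (I.norm_fixed c)) (I.pol_fixed a c),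
      hBadd _ _ (I.norm_fixed a) (I.norm_fixed c)] at h1
    linear_combination h1
  -- lines are preserved
  have hline : ∀ a c, a ≠ 0 → I.φ (c / a) = c / a → I.φ (A c / A a) = A c / A a := by
    intro a c ha hc
    have hAa : A a ≠ 0 := fun h => ha (hA0 a h)
    rw [← I.pol_eq_zero_iff hAa, hpol, (I.pol_eq_zero_iff ha c).mpr hc, hB0]
  have hline' : ∀ a c, a ≠ 0 → I.φ (A c / A a) = A c / A a → I.φ (c / a) = c / a := by
    intro a c ha hc
    have hAa : A a ≠ 0 := fun h => ha (hA0 a h)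
    rw [← I.pol_eq_zero_iff hAa, hpol] at hc
    rw [← I.pol_eq_zero_iff ha]
    exact hBinj _ (I.pol_fixed a c) hc
  -- the multiplier function
  obtain ⟨m, hm⟩ : ∃ m : F → F → F, ∀ a l, m a l = A (l * a) / A a := ⟨fun a l => A (l * a) / A a, fun _ _ => rfl⟩
  have hmfix : ∀ a l, a ≠ 0 → I.φ l = l → I.φ (m a l) = m a l := by
    intro a l ha hl
    rw [hm]
    apply hline a (l * a) ha
    rw [mul_div_assoc, div_self ha, mul_one]; exact hl
  have hmA : ∀ a l, a ≠ 0 → A (l * a) = m a l * A a := by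
    intro a l ha
    have hAa : A a ≠ 0 := fun h => ha (hA0 a h)
    rw [hm, div_mul_cancel₀ _ hAa]
  -- independence of the base point, first for independent pairs
  have hindep : ∀ a c l, a ≠ 0 → I.φ (c / a) ≠ c / a → I.φ l = l → m a l = m c l := by
    intro a c l ha hca hl
    have hc : c ≠ 0 := by
      rintro rfl
      apply hca
      rw [zero_div, map_zero]
    have hac : a + c ≠ 0 := by
      intro h
      apply hca
      have : c = a := by linear_combination h - a * h2
      rw [this, div_self ha, map_one]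
    have hAa : A a ≠ 0 := fun h => ha (hA0 a h)
    have hAc : A c ≠ 0 := fun h => hc (hA0 c h)
    have e1 : A (l * (a + c)) = m (a + c) l * (A a + A c) := by
      rw [hmA _ _ hac, map_add]
    have e2 : A (l * (a + c)) = m a l * A a + m c l * A c := by
      rw [mul_add, map_add, hmA _ _ ha, hmA _ _ hc]
    have e3 : (m (a + c) l + m a l) * A a = (m c l + m (a + c) l) * A c := by
      linear_combination e2 - e1 + (m a l * A a - m (a + c) l * A c) * h2
    by_cases hz : m c l + m (a + c) l = 0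
    · rw [hz, zero_mul] at e3
      have h5 : m (a + c) l + m a l = 0 := (mul_eq_zero.mp e3).resolve_right hAa
      linear_combination h5 - hz
    · exfalso
      apply hca
      apply hline' a c ha
      have h6 : A c / A a = (m (a + c) l + m a l) / (m c l + m (a + c) l) := by
        rw [div_eq_div_iff hAa hz]
        linear_combination -e3
      rw [h6]
      exact I.fix_div (I.fix_add (hmfix _ _ hac hl) (hmfix _ _ ha hl))
        (I.fix_add (hmfix _ _ hc hl) (hmfix _ _ hac hl))
  obtain ⟨ξ, hξ⟩ := I.exists_not_fixed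
  have hall : ∀ a l, a ≠ 0 → I.φ l = l → m a l = m 1 l := by
    intro a l ha hl
    by_cases hca : I.φ (a / 1) = a / 1
    · -- dependent: use a third vector
      have h1ξ : I.φ (ξ / 1) ≠ ξ / 1 := by rw [div_one]; exact hξ
      have haξ : I.φ (ξ / a) ≠ ξ / a := by
        intro h
        apply hξ
        rw [div_one] at hca
        have : ξ = (ξ / a) * a := by field_simp
        rw [this]
        exact I.fix_mul h hca
      rw [hindep a ξ l ha haξ hl, hindep 1 ξ l one_ne_zero h1ξ hl]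
    · exact (hindep 1 a l one_ne_zero hca hl).symm
  obtain ⟨μ, hμ⟩ : ∃ μ : F → F, ∀ l, μ l = m 1 l := ⟨fun l => m 1 l, fun _ => rfl⟩
  have hA1 : A 1 ≠ 0 := fun h => one_ne_zero (hA0 1 h)
  have hsemi : ∀ a l, I.φ l = l → A (l * a) = μ l * A a := by
    intro a l hl
    by_cases ha : a = 0
    · rw [ha, mul_zero, map_zero, mul_zero]
    · rw [hmA a l ha, hall a l ha hl, hμ]
  have hμfix : ∀ l, I.φ l = l → I.φ (μ l) = μ l := by
    intro l hl
    rw [hμ]; exact hmfix 1 l one_ne_zero hl
  have hμadd : ∀ s t, I.φ s = s → I.φ t = t → μ (s + t) = μ s + μ t := by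
    intro s t hs ht
    have e1 := hsemi 1 (s + t) (I.fix_add hs ht)
    rw [add_mul, map_add, hsemi 1 s hs, hsemi 1 t ht] at e1
    have : (μ (s + t) - (μ s + μ t)) * A 1 = 0 := by linear_combination -e1
    have := (mul_eq_zero.mp this).resolve_right hA1
    linear_combination this
  have hμmul : ∀ s t, I.φ s = s → I.φ t = t → μ (s * t) = μ s * μ t := by
    intro s t hs ht
    have e1 := hsemi 1 (s * t) (I.fix_mul hs ht)
    rw [mul_assoc, hsemi (t * 1) s hs, hsemi 1 t ht] at e1
    have : (μ (s * t) - μ s * μ t) * A 1 = 0 := by linear_combination -e1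
    have := (mul_eq_zero.mp this).resolve_right hA1
    linear_combination this
  have hμ1 : μ 1 = 1 := by
    have e1 := hsemi 1 1 (map_one _)
    rw [mul_one] at e1
    have : (μ 1 - 1) * A 1 = 0 := by linear_combination -e1
    have := (mul_eq_zero.mp this).resolve_right hA1
    linear_combination this
  have hμμ : ∀ l, I.φ l = l → μ (μ l) = l := by
    intro l hl
    have e1 := hsemi 1 l hl
    have e2 := hsemi (A 1) (μ l) (hμfix l hl)
    rw [← e1, hAA, hAA, mul_one] at e2
    rw [mul_one] at e2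
    exact e2.symm
  have hμ0 : ∀ l, I.φ l = l → μ l = 0 → l = 0 := by
    intro l hl h
    have := hμμ l hl
    rw [h] at this
    have h0 : μ 0 = 0 := by
      have := hμadd 0 0 (map_zero _) (map_zero _)
      rw [add_zero] at this
      linear_combination -this
    rw [h0] at this
    exact this.symm
  have hμdiv : ∀ s t, I.φ s = s → I.φ t = t → t ≠ 0 → μ (s / t) = μ s / μ t := by
    intro s t hs ht ht0
    have hμt : μ t ≠ 0 := fun h => ht0 (hμ0 t ht h)
    rw [eq_div_iff hμt, ← hμmul _ _ (I.fix_div hs ht) ht, div_mul_cancel₀ _ ht0]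
  -- `B` on norms
  have hBmul : ∀ s a, I.φ s = s → B (s * (a * I.φ a)) = μ s * B (a * I.φ a) := by
    intro s a hs
    obtain ⟨l, hl, hls⟩ := I.exists_sqrt hs
    have e1 := hN (l * a)
    rw [hsemi a l hl, map_mul, hμfix l hl, map_mul, hl] at e1
    have e2 : l * a * (l * I.φ a) = s * (a * I.φ a) := by rw [← hls]; ring
    rw [e2] at e1
    rw [← e1, ← hN a, ← hls, hμmul l l hl hl]
    ring
  obtain ⟨b1, hb1⟩ : ∃ b1 : F, b1 = B 1 := ⟨_, rfl⟩
  have hBμ : ∀ s, I.φ s = s → B s = μ s * b1 := by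
    intro s hs
    have := hBmul s 1 hs
    rw [map_one, mul_one, mul_one] at this
    rw [this, hb1]
  have hb1fix : I.φ b1 = b1 := by rw [hb1]; exact hBfix 1 (map_one _)
  have hb10 : b1 ≠ 0 := by
    rw [hb1]
    intro h
    exact one_ne_zero (hBinj 1 (map_one _) h)
  have hb1μ : μ b1 * b1 = 1 := by
    have e1 := hBB 1 (map_one _)
    rw [← hb1, hBμ b1 hb1fix] at e1
    exact e1
  by_cases hμid : ∀ l, I.φ l = l → μ l = l
  · -- `μ = 1`
    rw [hμid b1 hb1fix] at hb1μ
    have h3 : (b1 + 1) * (b1 + 1) = 0 := by linear_combination hb1μ + (b1 + 1) * h2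
    have h4 : b1 + 1 = 0 := mul_self_eq_zero.mp h3
    have h5 : b1 = 1 := by linear_combination h4 - h2
    intro t ht
    rw [hBμ t ht, hμid t ht, h5, mul_one]
  · -- `μ ≠ 1`: contradiction
    exfalso
    push Not at hμid
    obtain ⟨θ, hθ, hθμ⟩ := hμid
    obtain ⟨T, hT⟩ : ∃ T : F, T = θ + μ θ := ⟨_, rfl⟩
    have hTfix : I.φ T = T := by rw [hT]; exact I.fix_add hθ (hμfix θ hθ)
    have hT0 : T ≠ 0 := by
      intro h
      apply hθμ
      rw [hT] at h
      linear_combination h - θ * h2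
    have hμT : μ T = T := by
      rw [hT, hμadd _ _ hθ (hμfix θ hθ), hμμ θ hθ]; ring
    -- a nonzero fixed point of `A`
    obtain ⟨a, ha0, haA⟩ : ∃ a : F, a ≠ 0 ∧ A a = a := by
      by_contra hno
      push Not at hno
      have hAid : ∀ e, A e = e := by
        intro e
        by_contra he
        have h1 : e + A e ≠ 0 := by
          intro h
          apply he
          linear_combination h - e * h2
        apply hno (e + A e) h1
        rw [map_add, hAA]; ring
      apply hθμ
      have e1 := hsemi 1 θ hθ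
      rw [hAid, hAid, mul_one] at e1
      rw [mul_one] at e1
      exact e1.symm
    -- a second, independent fixed point
    obtain ⟨c, hcA, hca⟩ : ∃ c : F, A c = c ∧ I.φ (c / a) ≠ c / a := by
      obtain ⟨ξ', hξ'⟩ : ∃ ξ' : F, I.φ (ξ' / a) ≠ ξ' / a := by
        refine ⟨ξ * a, ?_⟩
        rw [mul_div_assoc, div_self ha0, mul_one]; exact hξ
      by_cases h1 : I.φ ((ξ' + A ξ') / a) = (ξ' + A ξ') / a
      · refine ⟨θ * ξ' + A (θ * ξ'), by rw [map_add, hAA]; ring, ?_⟩
        intro h3
        apply hξ'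
        rw [hsemi ξ' θ hθ] at h3
        -- ξ' = ((c' + μθ c) / T)
        have e : ξ' / a = ((θ * ξ' + μ θ * A ξ') / a + μ θ * ((ξ' + A ξ') / a)) / T := by
          have hT' : (θ * ξ' + μ θ * A ξ') / a + μ θ * ((ξ' + A ξ') / a) = T * (ξ' / a) := by
            rw [hT, mul_div_assoc', mul_div_assoc', ← add_div]
            congr 1
            linear_combination (μ θ * A ξ') * h2
          rw [hT', mul_div_cancel_left₀ _ hT0]
        rw [e]
        exact I.fix_div (I.fix_add h3 (I.fix_mul (hμfix θ hθ) h1)) hTfix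
      · exact ⟨ξ' + A ξ', by rw [map_add, hAA]; ring, h1⟩
    have hc0 : c ≠ 0 := by
      rintro rfl
      apply hca
      rw [zero_div, map_zero]
    -- norms of fixed points lie in `L`
    have hL : ∀ w, A w = w → b1 * μ (w * I.φ w) = w * I.φ w := by
      intro w hw
      have e1 := hN w
      rw [hw, hBμ _ (I.norm_fixed w)] at e1
      linear_combination -e1
    obtain ⟨t1, ht1⟩ : ∃ t1 : F, t1 = a * I.φ a := ⟨_, rfl⟩
    obtain ⟨t2, ht2⟩ : ∃ t2 : F, t2 = c * I.φ c := ⟨_, rfl⟩
    obtain ⟨t3, ht3⟩ : ∃ t3 : F, t3 = I.pol a c := ⟨_, rfl⟩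
    have ht1fix : I.φ t1 = t1 := by rw [ht1]; exact I.norm_fixed a
    have ht2fix : I.φ t2 = t2 := by rw [ht2]; exact I.norm_fixed c
    have ht3fix : I.φ t3 = t3 := by rw [ht3]; exact I.pol_fixed a c
    have ht10 : t1 ≠ 0 := by rw [ht1]; exact fun h => ha0 (I.norm_eq_zero h)
    have hL1 : b1 * μ t1 = t1 := by rw [ht1]; exact hL a haA
    have hL2 : b1 * μ t2 = t2 := by rw [ht2]; exact hL c hcA
    have hL3 : b1 * μ t3 = t3 := by
      have e := hL (a + c) (by rw [map_add, haA, hcA])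
      rw [I.norm_add, ← ht1, ← ht2, ← ht3,
        hμadd _ _ (I.fix_add ht1fix ht2fix) ht3fix, hμadd _ _ ht1fix ht2fix] at e
      linear_combination e - hL1 - hL2
    have hμt1 : μ t1 ≠ 0 := fun h => ht10 (hμ0 t1 ht1fix h)
    have hratio : ∀ x, I.φ x = x → b1 * μ x = x → μ (x / t1) = x / t1 := by
      intro x hx hLx
      rw [hμdiv x t1 hx ht1fix ht10, div_eq_div_iff hμt1 ht10]
      linear_combination (-μ x) * hL1 + (μ t1) * hLx
    obtain ⟨r2, hr2⟩ : ∃ r2 : F, r2 = t2 / t1 := ⟨_, rfl⟩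
    obtain ⟨r3, hr3⟩ : ∃ r3 : F, r3 = t3 / t1 := ⟨_, rfl⟩
    have hr2φ : I.φ r2 = r2 := by rw [hr2]; exact I.fix_div ht2fix ht1fix
    have hr3φ : I.φ r3 = r3 := by rw [hr3]; exact I.fix_div ht3fix ht1fix
    have hr2μ : μ r2 = r2 := by rw [hr2]; exact hratio t2 ht2fix hL2
    have hr3μ : μ r3 = r3 := by rw [hr3]; exact hratio t3 ht3fix hL3
    obtain ⟨x, hx, hroot⟩ :=
      exists_quad_root I μ hμfix hμadd hμmul hμμ θ hθ hθμ r2 r3 hr2φ hr3φ hr2μ hr3μ
    -- the vector `x a + c` is isotropic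
    have hne : x * a + c ≠ 0 := by
      intro h
      apply hca
      have : c / a = x := by
        rw [div_eq_iff ha0]
        linear_combination h - (x * a) * h2
      rw [this]; exact hx
    apply hne
    apply I.norm_eq_zero
    rw [map_add, map_mul, hx]
    have e1 : t1 * (x * x + r3 * x + r2) = t1 * x * x + t3 * x + t2 := by
      rw [hr2, hr3]; field_simp
    have e2 : (x * a + c) * (x * I.φ a + I.φ c) = t1 * x * x + t3 * x + t2 := by
      rw [ht1, ht2, ht3]; unfold Inv2.pol; ring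
    rw [e2, ← e1, hroot, mul_zero]

end Cfsg.Agent.Lib.Helper72.U3q
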