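import Mathlib
import Cfsg.Agent.Lib.Helper72.U3qMain
import Cfsg.Agent.Lib.Helper72.U3qSemi
import Cfsg.Agent.S0278

/-!
An automorphism of the model group (a Sylow 2-subgroup of `SU₃(2ⁿ)`) whose square is inner fixes
the centre pointwise; consequently an overgroup of index two centralises the centre.
-/

set_option autoImplicit false

namespace Cfsg.Agent.Lib.Helper72.U3q

variable {F : Type*} [Field F] [Fintype F] {n : ℕ}

namespace Model

variable {I : Inv2 F n}

theorem inv_fst (x : Model I) : (x⁻¹).1.1 = x.1.1 := rfl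

theorem map_mem_Zm (α : Model I ≃* Model I) {z : Model I} (hz : z ∈ Zm I) : α z ∈ Zm I := by
  rw [← center_eq] at hz ⊢
  rw [Subgroup.mem_center_iff] at hz ⊢
  intro g
  have := congrArg α (hz (α.symm g))
  rwa [map_mul, map_mul, MulEquiv.apply_symm_apply] at this

/-- the first coordinate of the image depends only on the first coordinate -/
theorem fst_map_eq (α : Model I ≃* Model I) {x y : Model I} (h : x.1.1 = y.1.1) :
    (α x).1.1 = (α y).1.1 := by
  have hz : x⁻¹ * y ∈ Zm I := by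
    rw [mem_Zm, mul_fst, inv_fst, h]
    exact I.add_self _
  have h1 := map_mem_Zm α hz
  rw [mem_Zm] at h1
  have h2 : α y = α x * α (x⁻¹ * y) := by
    rw [← map_mul, mul_inv_cancel_left]
  rw [h2, mul_fst, h1, add_zero]

theorem cen_mem_Zm (t : F) (ht : I.φ t = t) : cen (I := I) t ht ∈ Zm I := rfl

theorem cen_snd (t : F) (ht : I.φ t = t) : (cen (I := I) t ht).1.2 = t := rfl

theorem cen_fst (t : F) (ht : I.φ t = t) : (cen (I := I) t ht).1.1 = 0 := rfl

theorem eq_cen {z : Model I} (hz : z ∈ Zm I) :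
    z = cen z.1.2 (snd_fixed_of_fst_eq_zero hz) :=
  Model.ext hz rfl

theorem cen_add (s t : F) (hs : I.φ s = s) (ht : I.φ t = t) :
    cen (I := I) (s + t) (I.fix_add hs ht) = cen s hs * cen t ht := by
  apply Model.ext
  · rw [mul_fst, cen_fst, cen_fst, cen_fst, add_zero]
  · rw [mul_snd, cen_snd, cen_snd, cen_snd, cen_fst, zero_mul, add_zero]

theorem mul_self_eq_cen (x : Model I) :
    x * x = cen (x.1.1 * I.φ x.1.1) (I.norm_fixed _) := by
  apply Model.ext
  · rw [mul_fst, cen_fst]; exact I.add_self _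
  · rw [mul_snd, cen_snd]
    linear_combination x.1.2 * I.two

/-- an automorphism with inner square fixes the centre pointwise -/
theorem aut_fixes_Zm (α : Model I ≃* Model I) (s : Model I)
    (hα : ∀ x, α (α x) = s * x * s⁻¹) : ∀ z ∈ Zm I, α z = z := by
  classical
  have h2 := I.two
  let A : F →+ F := AddMonoidHom.mk' (fun a => (α (lift a)).1.1) (by
    intro a c
    have h1 : (lift (I := I) (a + c)).1.1 = (lift (I := I) a * lift c).1.1 := by
      rw [mul_fst, lift_fst, lift_fst, lift_fst]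
    show (α (lift (a + c))).1.1 = (α (lift a)).1.1 + (α (lift c)).1.1
    rw [fst_map_eq α h1, map_mul, mul_fst])
  have hA : ∀ a, A a = (α (lift a)).1.1 := fun a => rfl
  let B : F → F := fun t => if h : I.φ t = t then (α (cen t h)).1.2 else 0
  have hB : ∀ t (h : I.φ t = t), B t = (α (cen t h)).1.2 := by
    intro t h
    simp only [B, dif_pos h]
  have hαcen : ∀ t (h : I.φ t = t), α (cen t h) ∈ Zm I := fun t h => map_mem_Zm α (cen_mem_Zm t h)
  have hBfix : ∀ t, I.φ t = t → I.φ (B t) = B t := by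
    intro t h
    rw [hB t h]
    exact snd_fixed_of_fst_eq_zero (hαcen t h)
  have hkey : ∀ t, I.φ t = t → B t = t := by
    apply B_eq_id I A B
    · intro a
      rw [hA (A a), hA a]
      have h1 : (lift (I := I) (α (lift a)).1.1).1.1 = (α (lift a)).1.1 := lift_fst _
      rw [fst_map_eq α h1, hα, mul_fst, mul_fst, inv_fst, lift_fst]
      linear_combination s.1.1 * h2
    · exact hBfix
    · intro u t hu ht
      rw [hB _ (I.fix_add hu ht), hB u hu, hB t ht, cen_add u t hu ht, map_mul, mul_snd]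
      have := hαcen u hu
      rw [mem_Zm] at this
      rw [this, zero_mul, add_zero]
    · intro t ht
      have h1 : cen (I := I) (B t) (hBfix t ht) = α (cen t ht) := by
        apply Model.ext
        · rw [cen_fst]; exact (hαcen t ht).symm
        · rw [cen_snd, hB t ht]
      rw [hB (B t) (hBfix t ht), h1, hα]
      have hc : cen (I := I) t ht ∈ Subgroup.center (Model I) := by
        rw [center_eq]; exact cen_mem_Zm t ht
      rw [Subgroup.mem_center_iff] at hc
      rw [hc s, mul_inv_cancel_right, cen_snd]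
    · intro a
      rw [hB _ (I.norm_fixed a), hA]
      have h1 : cen (I := I) (a * I.φ a) (I.norm_fixed a) = lift a * lift a := by
        rw [mul_self_eq_cen, lift_fst]
      rw [h1, map_mul, mul_self_eq_cen, cen_snd]
  intro z hz
  have hz' := eq_cen hz
  have hfix := snd_fixed_of_fst_eq_zero hz
  have h3 := hkey z.1.2 hfix
  rw [hB _ hfix] at h3
  apply Model.ext
  · have := map_mem_Zm α hz
    rw [mem_Zm] at this hz
    rw [this, hz]
  · rw [← h3]
    rw [← hz']

/-- an automorphism with inner square fixes the centre pointwise -/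
theorem aut_fixes_center (α : Model I ≃* Model I) (s : Model I)
    (hα : ∀ x, α (α x) = s * x * s⁻¹) : ∀ z ∈ Subgroup.center (Model I), α z = z := by
  rw [center_eq]
  exact aut_fixes_Zm α s hα

end Model

/-- transport to an overgroup of index two -/
theorem center_le_of_index_two {R : Type*} [Group R] (S' : Subgroup R) (hidx : S'.index = 2)
    {M : Type*} [Group M] (E : ↥S' ≃* M)
    (hM : ∀ (α : M ≃* M) (s : M), (∀ x, α (α x) = s * x * s⁻¹) →
      ∀ z ∈ Subgroup.center M, α z = z) :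
    (Subgroup.center ↥S').map S'.subtype ≤ Subgroup.center R := by
  have hnorm : S'.Normal := Subgroup.normal_of_index_eq_two hidx
  rintro _ ⟨z, hz, rfl⟩
  rw [Subgroup.mem_center_iff]
  intro r
  let β : ↥S' ≃* ↥S' := MulAut.conjNormal r
  have hβ : ∀ x : ↥S', ((β x : ↥S') : R) = r * x * r⁻¹ := fun x => MulAut.conjNormal_apply r x
  let s' : ↥S' := ⟨r * r, Subgroup.mul_self_mem_of_index_two hidx r⟩
  have hββ : ∀ x : ↥S', β (β x) = s' * x * s'⁻¹ := by
    intro x
    apply Subtype.ext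
    rw [hβ, hβ]
    show r * (r * x * r⁻¹) * r⁻¹ = r * r * x * (r * r)⁻¹
    group
  let α : M ≃* M := E.symm.trans (β.trans E)
  have hα : ∀ y, α y = E (β (E.symm y)) := fun y => rfl
  have hαα : ∀ y, α (α y) = E s' * y * (E s')⁻¹ := by
    intro y
    rw [hα, hα, MulEquiv.symm_apply_apply, hββ, map_mul, map_mul, MulEquiv.apply_symm_apply,
      map_inv]
  have hEz : E z ∈ Subgroup.center M := by
    have hz : z ∈ Subgroup.center ↥S' := hz
    rw [Subgroup.mem_center_iff] at hz ⊢
    intro g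
    have := congrArg E (hz (E.symm g))
    rwa [map_mul, map_mul, MulEquiv.apply_symm_apply] at this
  have h1 := hM α (E s') hαα (E z) hEz
  rw [hα, MulEquiv.symm_apply_apply] at h1
  have h2 : β z = z := E.injective h1
  have h3 := congrArg (fun x : ↥S' => (x : R)) h2
  simp only [hβ] at h3
  show r * (z : R) = (z : R) * r
  calc r * (z : R) = r * z * r⁻¹ * r := by group
    _ = (z : R) * r := by rw [h3]

/-! ### Sylow 2-subgroups of `SU₃(2ⁿ)` -/

theorem card_SU_eq (I : Inv2 F n) :
    Nat.card (Cfsg.SU 3 F (2 ^ n)) =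
      (2 ^ n) ^ 3 * (((2 ^ n) ^ 2 - 1) * ((2 ^ n) ^ 3 + 1)) := by
  have h := Cfsg.Agent.S0278.result I.card 3 (by norm_num)
  rw [Finset.prod_range_succ, Finset.prod_range_succ, Finset.prod_range_one] at h
  simp only [Nat.even_add_one, not_true_eq_false,
    ↓reduceIte, zero_add, Nat.reduceAdd, even_two, Even.zero] at h
  have hq : 0 < 2 ^ n + 1 := by positivity
  apply Nat.eq_of_mul_eq_mul_left hq
  rw [h]
  norm_num
  ring

/-- every Sylow 2-subgroup of `SU₃(2ⁿ)` is isomorphic to the model -/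
theorem sylowSU_equiv_model (I : Inv2 F n) (S : Sylow 2 (Cfsg.SU 3 F (2 ^ n))) :
    Nonempty (Model I ≃* ↥(S : Subgroup (Cfsg.SU 3 F (2 ^ n)))) := by
  classical
  have hn := I.one_le
  have hcard := card_SU_eq I
  have hq1 : 1 ≤ (2 ^ n) ^ 2 := Nat.one_le_pow _ _ (by positivity)
  have hpos : 0 < Nat.card (Cfsg.SU 3 F (2 ^ n)) := by
    rw [hcard]
    apply Nat.mul_pos (by positivity)
    apply Nat.mul_pos _ (by positivity)
    have : 2 ^ 1 ≤ 2 ^ n := Nat.pow_le_pow_right (by norm_num) hn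
    have : (2 ^ 1) ^ 2 ≤ (2 ^ n) ^ 2 := Nat.pow_le_pow_left this 2
    omega
  have : Finite (Cfsg.SU 3 F (2 ^ n)) := Nat.finite_of_card_ne_zero hpos.ne'
  let Q : Subgroup (Cfsg.SU 3 F (2 ^ n)) := (toSU I).range
  let e1 : Model I ≃* Q := MonoidHom.ofInjective (toSU_injective I)
  have hcardQ : Nat.card Q = (2 ^ n) ^ 3 := by
    rw [← Nat.card_congr e1.toEquiv, Model.card_model]
  have hQ : IsPGroup 2 Q := IsPGroup.of_card (n := 3 * n) (by rw [hcardQ, ← pow_mul, mul_comm])
  have hidx : ¬ 2 ∣ Q.index := by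
    intro hdvd
    have h1 := Q.card_mul_index
    rw [hcardQ, hcard] at h1
    have h2 : Q.index = ((2 ^ n) ^ 2 - 1) * ((2 ^ n) ^ 3 + 1) :=
      Nat.eq_of_mul_eq_mul_left (show 0 < (2 ^ n) ^ 3 by positivity) h1
    have h3 : 2 ∣ ((2 ^ n) ^ 2 - 1) * ((2 ^ n) ^ 3 + 1) := by
      rw [← h2]; exact hdvd
    have he : Even (2 ^ n) := (Nat.even_pow' (by omega)).mpr even_two
    have ho1 : Odd ((2 ^ n) ^ 2 - 1) :=
      Nat.Even.sub_odd hq1 (Nat.even_pow.mpr ⟨he, by norm_num⟩) odd_one
    have ho2 : Odd ((2 ^ n) ^ 3 + 1) := (Nat.even_pow.mpr ⟨he, by norm_num⟩).add_one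
    have ho : Odd (((2 ^ n) ^ 2 - 1) * ((2 ^ n) ^ 3 + 1)) := ho1.mul ho2
    rw [← even_iff_two_dvd] at h3
    exact (Nat.not_even_iff_odd.mpr ho) h3
  let P : Sylow 2 (Cfsg.SU 3 F (2 ^ n)) := hQ.toSylow hidx
  let e2 : ↥(P : Subgroup (Cfsg.SU 3 F (2 ^ n))) ≃* ↥(S : Subgroup (Cfsg.SU 3 F (2 ^ n))) :=
    Sylow.equiv P S
  let e1' : Model I ≃* ↥(P : Subgroup (Cfsg.SU 3 F (2 ^ n))) := e1
  exact ⟨e1'.trans e2⟩

end Cfsg.Agent.Lib.Helper72.U3q
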