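import Mathlib
import Cfsg.Agent.Lib.Helper72.U3qSemi

/-!
Additive injective maps `A` of `F` and `B` of the fixed field of `φ` with `N (A a) = B (N a)` for
the norm `N a = a φ a`: then `A a = A 1 * σ a` for a ring endomorphism `σ` of `F`.
-/

set_option autoImplicit false

namespace Cfsg.Agent.Lib.Helper72.U3q

variable {F : Type*} [Field F] [Fintype F] {n : ℕ}

/-- `A` is semilinear over the fixed field with respect to some `μ`. -/
theorem exists_semilinear (I : Inv2 F n) (A : F →+ F) (B : F → F)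
    (hA0 : ∀ a, A a = 0 → a = 0)
    (hBfix : ∀ t, I.φ t = t → I.φ (B t) = B t)
    (hBadd : ∀ s t, I.φ s = s → I.φ t = t → B (s + t) = B s + B t)
    (hBinj : ∀ s, I.φ s = s → B s = 0 → s = 0)
    (hN : ∀ a, A a * I.φ (A a) = B (a * I.φ a)) :
    ∃ μ : F → F, (∀ a l, I.φ l = l → A (l * a) = μ l * A a) ∧
      (∀ l, I.φ l = l → I.φ (μ l) = μ l) ∧
      (∀ s t, I.φ s = s → I.φ t = t → μ (s + t) = μ s + μ t) ∧
      (∀ s t, I.φ s = s → I.φ t = t → μ (s * t) = μ s * μ t) ∧
      μ 1 = 1 ∧ (∀ s, I.φ s = s → B s = μ s * B 1) := by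
  have h2 := I.two
  have hB0 : B 0 = 0 := by
    have := hBadd 0 0 (map_zero _) (map_zero _)
    rw [add_zero] at this
    linear_combination -this
  -- polar identity
  have hpol : ∀ a c, I.pol (A a) (A c) = B (I.pol a c) := by
    intro a c
    have h1 := hN (a + c)
    rw [map_add, I.norm_add, I.norm_add, hN a, hN c,
      hBadd _ _ (I.fix_add (I.norm_fixed a) (I.norm_fixed c)) (I.pol_fixed a c),
      hBadd _ _ (I.norm_fixed a) (I.norm_fixed c)] at h1
    linear_combination h1
  -- lines are preserved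
  have hline : ∀ a c, a ≠ 0 → I.φ (c / a) = c / a → I.φ (A c / A a) = A c / A a := by
    intro a c ha hc
    have hAa : A a ≠ 0 := fun h => ha (hA0 a h)
    rw [← I.pol_eq_zero_iff hAa, hpol, (I.pol_eq_zero_iff ha c).mpr hc, hB0]
  have hline' : ∀ a c, a ≠ 0 → I.φ (A c / A a) = A c / A a → I.φ (c / a) = c / a := by
    intro a c ha hc
    have hAa : A a ≠ 0 := fun h => ha (hA0 a h)
    rw [← I.pol_eq_zero_iff hAa, hpol] at hc
    rw [← I.pol_eq_zero_iff ha]
    exact hBinj _ (I.pol_fixed a c) hc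
  -- the multiplier function
  obtain ⟨m, hm⟩ : ∃ m : F → F → F, ∀ a l, m a l = A (l * a) / A a := ⟨fun a l => A (l * a) / A a, fun _ _ => rfl⟩
  have hmfix : ∀ a l, a ≠ 0 → I.φ l = l → I.φ (m a l) = m a l := by
    intro a l ha hl
    rw [hm]
    apply hline a (l * a) ha
    rw [mul_div_assoc, div_self ha, mul_one]; exact hl
  have hmA : ∀ a l, a ≠ 0 → A (l * a) = m a l * A a := by
    intro a l ha
    have hAa : A a ≠ 0 := fun h => ha (hA0 a h)
    rw [hm, div_mul_cancel₀ _ hAa]
  -- independence of the base point, first for independent pairs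
  have hindep : ∀ a c l, a ≠ 0 → I.φ (c / a) ≠ c / a → I.φ l = l → m a l = m c l := by
    intro a c l ha hca hl
    have hc : c ≠ 0 := by
      rintro rfl
      apply hca
      rw [zero_div, map_zero]
    have hac : a + c ≠ 0 := by
      intro h
      apply hca
      have : c = a := by linear_combination h - a * h2
      rw [this, div_self ha, map_one]
    have hAa : A a ≠ 0 := fun h => ha (hA0 a h)
    have hAc : A c ≠ 0 := fun h => hc (hA0 c h)
    have e1 : A (l * (a + c)) = m (a + c) l * (A a + A c) := by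
      rw [hmA _ _ hac, map_add]
    have e2 : A (l * (a + c)) = m a l * A a + m c l * A c := by
      rw [mul_add, map_add, hmA _ _ ha, hmA _ _ hc]
    have e3 : (m (a + c) l + m a l) * A a = (m c l + m (a + c) l) * A c := by
      linear_combination e2 - e1 + (m a l * A a - m (a + c) l * A c) * h2
    by_cases hz : m c l + m (a + c) l = 0
    · rw [hz, zero_mul] at e3
      have h5 : m (a + c) l + m a l = 0 := (mul_eq_zero.mp e3).resolve_right hAa
      linear_combination h5 - hz
    · exfalso
      apply hca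
      apply hline' a c ha
      have h6 : A c / A a = (m (a + c) l + m a l) / (m c l + m (a + c) l) := by
        rw [div_eq_div_iff hAa hz]
        linear_combination -e3
      rw [h6]
      exact I.fix_div (I.fix_add (hmfix _ _ hac hl) (hmfix _ _ ha hl))
        (I.fix_add (hmfix _ _ hc hl) (hmfix _ _ hac hl))
  obtain ⟨ξ, hξ⟩ := I.exists_not_fixed
  have hall : ∀ a l, a ≠ 0 → I.φ l = l → m a l = m 1 l := by
    intro a l ha hl
    by_cases hca : I.φ (a / 1) = a / 1
    · -- dependent: use a third vector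
      have h1ξ : I.φ (ξ / 1) ≠ ξ / 1 := by rw [div_one]; exact hξ
      have haξ : I.φ (ξ / a) ≠ ξ / a := by
        intro h
        apply hξ
        rw [div_one] at hca
        have : ξ = (ξ / a) * a := by field_simp
        rw [this]
        exact I.fix_mul h hca
      rw [hindep a ξ l ha haξ hl, hindep 1 ξ l one_ne_zero h1ξ hl]
    · exact (hindep 1 a l one_ne_zero hca hl).symm
  obtain ⟨μ, hμ⟩ : ∃ μ : F → F, ∀ l, μ l = m 1 l := ⟨fun l => m 1 l, fun _ => rfl⟩
  have hA1 : A 1 ≠ 0 := fun h => one_ne_zero (hA0 1 h)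
  have hsemi : ∀ a l, I.φ l = l → A (l * a) = μ l * A a := by
    intro a l hl
    by_cases ha : a = 0
    · rw [ha, mul_zero, map_zero, mul_zero]
    · rw [hmA a l ha, hall a l ha hl, hμ]
  have hμfix : ∀ l, I.φ l = l → I.φ (μ l) = μ l := by
    intro l hl
    rw [hμ]; exact hmfix 1 l one_ne_zero hl
  have hμadd : ∀ s t, I.φ s = s → I.φ t = t → μ (s + t) = μ s + μ t := by
    intro s t hs ht
    have e1 := hsemi 1 (s + t) (I.fix_add hs ht)
    rw [add_mul, map_add, hsemi 1 s hs, hsemi 1 t ht] at e1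
    have : (μ (s + t) - (μ s + μ t)) * A 1 = 0 := by linear_combination -e1
    have := (mul_eq_zero.mp this).resolve_right hA1
    linear_combination this
  have hμmul : ∀ s t, I.φ s = s → I.φ t = t → μ (s * t) = μ s * μ t := by
    intro s t hs ht
    have e1 := hsemi 1 (s * t) (I.fix_mul hs ht)
    rw [mul_assoc, hsemi (t * 1) s hs, hsemi 1 t ht] at e1
    have : (μ (s * t) - μ s * μ t) * A 1 = 0 := by linear_combination -e1
    have := (mul_eq_zero.mp this).resolve_right hA1
    linear_combination this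
  have hμ1 : μ 1 = 1 := by
    have e1 := hsemi 1 1 (map_one _)
    rw [mul_one] at e1
    have : (μ 1 - 1) * A 1 = 0 := by linear_combination -e1
    have := (mul_eq_zero.mp this).resolve_right hA1
    linear_combination this
  -- `B` on norms
  have hBmul : ∀ s a, I.φ s = s → B (s * (a * I.φ a)) = μ s * B (a * I.φ a) := by
    intro s a hs
    obtain ⟨l, hl, hls⟩ := I.exists_sqrt hs
    have e1 := hN (l * a)
    rw [hsemi a l hl, map_mul, hμfix l hl, map_mul, hl] at e1
    have e2 : l * a * (l * I.φ a) = s * (a * I.φ a) := by rw [← hls]; ring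
    rw [e2] at e1
    rw [← e1, ← hN a, ← hls, hμmul l l hl hl]
    ring
  refine ⟨μ, hsemi, hμfix, hμadd, hμmul, hμ1, ?_⟩
  intro s hs
  have := hBmul s 1 hs
  rw [map_one, mul_one, mul_one] at this
  exact this

/-- `A` is a ring endomorphism up to the scalar `A 1`. -/
theorem exists_ringHom (I : Inv2 F n) (A : F →+ F) (B : F → F)
    (hA0 : ∀ a, A a = 0 → a = 0)
    (hBfix : ∀ t, I.φ t = t → I.φ (B t) = B t)
    (hBadd : ∀ s t, I.φ s = s → I.φ t = t → B (s + t) = B s + B t)
    (hBinj : ∀ s, I.φ s = s → B s = 0 → s = 0)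
    (hN : ∀ a, A a * I.φ (A a) = B (a * I.φ a)) :
    ∃ σ : F →+* F, ∀ a, A a = A 1 * σ a := by
  have h2 := I.two
  obtain ⟨μ, hsemi, hμfix, hμadd, hμmul, hμ1, hBμ⟩ :=
    exists_semilinear I A B hA0 hBfix hBadd hBinj hN
  obtain ⟨c, hc⟩ : ∃ c, c = A 1 := ⟨_, rfl⟩
  have hc0 : c ≠ 0 := by rw [hc]; exact fun h => one_ne_zero (hA0 1 h)
  have hφc0 : I.φ c ≠ 0 := fun h => hc0 (by
    have := congrArg I.φ h; rwa [I.invol, map_zero] at this)
  obtain ⟨σ, hσ⟩ : ∃ σ : F → F, ∀ a, σ a = A a / c := ⟨fun a => A a / c, fun _ => rfl⟩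
  have hAσ : ∀ a, A a = c * σ a := by
    intro a; rw [hσ, mul_div_cancel₀ _ hc0]
  have hσ1 : σ 1 = 1 := by rw [hσ, ← hc, div_self hc0]
  have hσadd : ∀ a b, σ (a + b) = σ a + σ b := by
    intro a b; rw [hσ, hσ, hσ, map_add, add_div]
  have hσsemi : ∀ a l, I.φ l = l → σ (l * a) = μ l * σ a := by
    intro a l hl; rw [hσ, hσ, hsemi a l hl, mul_div_assoc]
  have hσK : ∀ l, I.φ l = l → σ l = μ l := by
    intro l hl
    have := hσsemi 1 l hl
    rwa [mul_one, hσ1, mul_one] at this
  have hb1 : B 1 = c * I.φ c := by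
    have := hN 1
    rw [map_one I.φ, mul_one, ← hc] at this
    exact this.symm
  have hσN : ∀ a, σ a * I.φ (σ a) = μ (a * I.φ a) := by
    intro a
    have e1 := hN a
    rw [hBμ _ (I.norm_fixed a), hb1, hAσ a, map_mul] at e1
    have : c * I.φ c * (σ a * I.φ (σ a) - μ (a * I.φ a)) = 0 := by linear_combination e1
    rcases mul_eq_zero.mp this with h | h
    · exact absurd h (mul_ne_zero hc0 hφc0)
    · linear_combination h
  have hTfix : ∀ a, I.φ (a + I.φ a) = a + I.φ a := by
    intro a; rw [map_add, I.invol]; ring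
  have hσT : ∀ a, σ a + I.φ (σ a) = μ (a + I.φ a) := by
    intro a
    have e1 := hσN (a + 1)
    have e2 := hσN a
    rw [hσadd, hσ1, map_add, map_add, map_one] at e1
    have e3 : (a + 1) * (I.φ a + 1) = a * I.φ a + ((a + I.φ a) + 1) := by ring
    have hfix1 : I.φ ((a + I.φ a) + 1) = (a + I.φ a) + 1 := I.fix_add (hTfix a) (map_one _)
    rw [e3, hμadd _ _ (I.norm_fixed a) hfix1, hμadd _ _ (hTfix a) (map_one _), hμ1] at e1
    linear_combination e1 - e2
  have hσmul : ∀ a b, σ (a * b) = σ a * σ b := by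
    intro a b
    by_cases ha : I.φ a = a
    · rw [hσsemi b a ha, hσK a ha]
    · have hT0 : a + I.φ a ≠ 0 := by
        intro h; apply ha; linear_combination h - a * h2
      obtain ⟨y, hy⟩ : ∃ y, y = (b + I.φ b) / (a + I.φ a) := ⟨_, rfl⟩
      obtain ⟨x, hx⟩ : ∃ x, x = b + y * a := ⟨_, rfl⟩
      have hyfix : I.φ y = y := by rw [hy]; exact I.fix_div (hTfix b) (hTfix a)
      have hyT : y * (a + I.φ a) = b + I.φ b := by rw [hy]; exact div_mul_cancel₀ _ hT0
      have hxfix : I.φ x = x := by
        rw [hx, map_add, map_mul, hyfix]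
        linear_combination hyT + (I.φ b - y * a) * h2
      have hb : b = x + y * a := by rw [hx]; linear_combination (-(y * a)) * h2
      have ha2 : a * a = (a + I.φ a) * a + a * I.φ a := by
        linear_combination (-(a * I.φ a)) * h2
      have hσa2 : σ a * σ a = (σ a + I.φ (σ a)) * σ a + σ a * I.φ (σ a) := by
        linear_combination (-(σ a * I.φ (σ a))) * h2
      have e1 : a * b = x * a + (y * (a + I.φ a)) * a + y * (a * I.φ a) := by
        rw [hb]; linear_combination y * ha2
      have hfix2 : I.φ (y * (a + I.φ a)) = y * (a + I.φ a) := I.fix_mul hyfix (hTfix a)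
      have hfix3 : I.φ (y * (a * I.φ a)) = y * (a * I.φ a) := I.fix_mul hyfix (I.norm_fixed a)
      rw [e1, hσadd, hσadd, hσsemi a x hxfix, hσsemi a _ hfix2, hσK _ hfix3,
        hμmul _ _ hyfix (hTfix a), hμmul _ _ hyfix (I.norm_fixed a), ← hσT, ← hσN]
      have e2 : σ b = μ x + μ y * σ a := by
        rw [hb, hσadd, hσK x hxfix, hσsemi a y hyfix]
      rw [e2]
      linear_combination (-(μ y)) * hσa2
  refine ⟨{ toFun := σ
            map_one' := hσ1
            map_mul' := hσmul
            map_zero' := by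
              have := hσadd 0 0
              rw [add_zero] at this
              linear_combination -this
            map_add' := hσadd }, ?_⟩
  intro a
  rw [← hc]
  exact hAσ a

end Cfsg.Agent.Lib.Helper72.U3q
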