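import Mathlib
import Cfsg.Agent.Lib.Helper72.U3qCenter
import Cfsg.Agent.Lib.Helper72.U3qSemi2

/-!
Automorphisms of the model group: the induced map on first coordinates is `a ↦ c σ(a)` for a
unit `c` and a ring endomorphism `σ`, and all such pairs occur.
-/

set_option autoImplicit false

namespace Cfsg.Agent.Lib.Helper72.U3q

variable {F : Type*} [Field F] [Fintype F] {n : ℕ}

namespace Model

variable {I : Inv2 F n}

/-- the additive map induced on first coordinates -/
noncomputable def fstMap (α : Model I ≃* Model I) : F →+ F :=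
  AddMonoidHom.mk' (fun a => (α (lift a)).1.1) (by
    intro a c
    have h1 : (lift (I := I) (a + c)).1.1 = (lift (I := I) a * lift c).1.1 := by
      rw [mul_fst, lift_fst, lift_fst, lift_fst]
    show (α (lift (a + c))).1.1 = (α (lift a)).1.1 + (α (lift c)).1.1
    rw [fst_map_eq α h1, map_mul, mul_fst])

theorem fstMap_apply (α : Model I ≃* Model I) (a : F) : fstMap α a = (α (lift a)).1.1 := rfl

theorem fst_map (α : Model I ≃* Model I) (x : Model I) : (α x).1.1 = fstMap α x.1.1 := by
  rw [fstMap_apply]
  exact fst_map_eq α (lift_fst _).symm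

theorem fstMap_comp (α β : Model I ≃* Model I) (a : F) :
    fstMap (β.trans α) a = fstMap α (fstMap β a) := by
  rw [fstMap_apply, MulEquiv.trans_apply, fst_map, ← fstMap_apply]

theorem fstMap_refl (a : F) : fstMap (MulEquiv.refl (Model I)) a = a := by
  rw [fstMap_apply, MulEquiv.refl_apply, lift_fst]

theorem fstMap_symm_left (α : Model I ≃* Model I) (a : F) : fstMap α.symm (fstMap α a) = a := by
  rw [← fstMap_comp, MulEquiv.self_trans_symm, fstMap_refl]

theorem fstMap_symm_right (α : Model I ≃* Model I) (a : F) : fstMap α (fstMap α.symm a) = a := by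
  rw [← fstMap_comp, MulEquiv.symm_trans_self, fstMap_refl]

theorem fstMap_eq_zero (α : Model I ≃* Model I) (a : F) (h : fstMap α a = 0) : a = 0 := by
  have := fstMap_symm_left α a
  rw [h, map_zero] at this
  exact this.symm

/-- the map induced on the centre (second coordinates of central elements) -/
noncomputable def sndMap (α : Model I ≃* Model I) (t : F) : F := by
  classical
  exact if h : I.φ t = t then (α (cen t h)).1.2 else 0

theorem sndMap_eq (α : Model I ≃* Model I) (t : F) (h : I.φ t = t) :
    sndMap α t = (α (cen t h)).1.2 := by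
  simp only [sndMap, dif_pos h]

theorem map_cen_mem (α : Model I ≃* Model I) (t : F) (h : I.φ t = t) : α (cen t h) ∈ Zm I :=
  map_mem_Zm α (cen_mem_Zm t h)

theorem sndMap_fixed (α : Model I ≃* Model I) (t : F) (h : I.φ t = t) :
    I.φ (sndMap α t) = sndMap α t := by
  rw [sndMap_eq α t h]
  exact snd_fixed_of_fst_eq_zero (map_cen_mem α t h)

theorem map_cen (α : Model I ≃* Model I) (t : F) (h : I.φ t = t) :
    α (cen t h) = cen (sndMap α t) (sndMap_fixed α t h) := by
  apply Model.ext
  · rw [cen_fst]; exact map_cen_mem α t h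
  · rw [cen_snd, sndMap_eq α t h]

theorem sndMap_add (α : Model I ≃* Model I) (u t : F) (hu : I.φ u = u) (ht : I.φ t = t) :
    sndMap α (u + t) = sndMap α u + sndMap α t := by
  rw [sndMap_eq α _ (I.fix_add hu ht), sndMap_eq α u hu, sndMap_eq α t ht, cen_add u t hu ht,
    map_mul, mul_snd]
  have := map_cen_mem α u hu
  rw [mem_Zm] at this
  rw [this, zero_mul, add_zero]

theorem sndMap_eq_zero (α : Model I ≃* Model I) (t : F) (h : I.φ t = t) (h0 : sndMap α t = 0) :
    t = 0 := by
  have h1 : α (cen t h) = 1 := by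
    rw [map_cen α t h]
    apply Model.ext
    · rw [cen_fst, one_fst]
    · rw [cen_snd, one_snd, h0]
  have h2 : cen (I := I) t h = 1 := by
    have := congrArg α.symm h1
    rwa [MulEquiv.symm_apply_apply, map_one] at this
  have := congrArg (fun x : Model I => x.1.2) h2
  simpa [cen_snd, one_snd] using this

theorem sndMap_norm (α : Model I ≃* Model I) (a : F) :
    fstMap α a * I.φ (fstMap α a) = sndMap α (a * I.φ a) := by
  rw [sndMap_eq α _ (I.norm_fixed a), fstMap_apply]
  have h1 : cen (I := I) (a * I.φ a) (I.norm_fixed a) = lift a * lift a := by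
    rw [mul_self_eq_cen, lift_fst]
  rw [h1, map_mul, mul_self_eq_cen, cen_snd]

/-- the first-coordinate map of an automorphism is a ring endomorphism up to a scalar -/
theorem exists_ringHom_fstMap (α : Model I ≃* Model I) :
    ∃ σ : F →+* F, ∀ a, fstMap α a = fstMap α 1 * σ a :=
  exists_ringHom I (fstMap α) (sndMap α) (fstMap_eq_zero α) (sndMap_fixed α)
    (sndMap_add α) (sndMap_eq_zero α) (sndMap_norm α)

theorem fstMap_one_ne_zero (α : Model I ≃* Model I) : fstMap α 1 ≠ 0 :=
  fun h => one_ne_zero (fstMap_eq_zero α 1 h)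

/-! ### The automorphisms `(a, b) ↦ (c σ a, c φ(c) σ b)` -/

theorem ringHom_comm (σ : F →+* F) (x : F) : σ (I.φ x) = I.φ (σ x) := by
  rw [I.pow, I.pow, map_pow]

/-- the underlying function -/
def autFun (c : F) (σ : F →+* F) (x : Model I) : Model I :=
  ⟨(c * σ x.1.1, c * I.φ c * σ x.1.2), by
    have h := congrArg σ x.2
    rw [map_add, map_mul, ringHom_comm (I := I), ringHom_comm (I := I)] at h
    change I.φ (c * I.φ c * σ x.1.2) + c * I.φ c * σ x.1.2 = c * σ x.1.1 * I.φ (c * σ x.1.1)
    simp only [map_mul, I.invol]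
    linear_combination (c * I.φ c) * h⟩

theorem autFun_fst (c : F) (σ : F →+* F) (x : Model I) : (autFun c σ x).1.1 = c * σ x.1.1 := rfl
theorem autFun_snd (c : F) (σ : F →+* F) (x : Model I) :
    (autFun c σ x).1.2 = c * I.φ c * σ x.1.2 := rfl

theorem autFun_mul (c : F) (σ : F →+* F) (x y : Model I) :
    autFun c σ (x * y) = autFun c σ x * autFun c σ y := by
  apply Model.ext
  · rw [mul_fst, autFun_fst, autFun_fst, autFun_fst, mul_fst, map_add]; ring
  · rw [mul_snd, autFun_snd, autFun_snd, autFun_snd, autFun_fst, autFun_fst, mul_snd, map_add,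
      map_add, map_mul, ringHom_comm (I := I), map_mul]
    ring

theorem autFun_injective (c : F) (hc : c ≠ 0) (σ : F →+* F) :
    Function.Injective (autFun (I := I) c σ) := by
  intro x y h
  have hφc : I.φ c ≠ 0 := fun h0 => hc (by
    have := congrArg I.φ h0; rwa [I.invol, map_zero] at this)
  have h1 := congrArg (fun z : Model I => z.1.1) h
  have h2 := congrArg (fun z : Model I => z.1.2) h
  simp only [autFun_fst, autFun_snd] at h1 h2
  apply Model.ext
  · exact σ.injective (mul_left_cancel₀ hc h1)
  · exact σ.injective (mul_left_cancel₀ (mul_ne_zero hc hφc) h2)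

/-- the automorphism attached to a unit and a ring endomorphism -/
noncomputable def autOf (c : Fˣ) (σ : F →+* F) : Model I ≃* Model I :=
  MulEquiv.ofBijective (MonoidHom.mk' (autFun (c : F) σ) (autFun_mul (c : F) σ))
    ⟨autFun_injective (c : F) c.ne_zero σ,
      Finite.surjective_of_injective (autFun_injective (c : F) c.ne_zero σ)⟩

theorem autOf_apply (c : Fˣ) (σ : F →+* F) (x : Model I) : autOf c σ x = autFun (c : F) σ x := rfl

theorem fstMap_autOf (c : Fˣ) (σ : F →+* F) (a : F) :
    fstMap (autOf (I := I) c σ) a = (c : F) * σ a := by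
  rw [fstMap_apply, autOf_apply, autFun_fst, lift_fst]

end Model

end Cfsg.Agent.Lib.Helper72.U3q
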