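import Mathlib
import Cfsg.Agent.Lib.Helper72.U3qAutBasic
import Cfsg.Prelude.Def_Transfer

/-!
The automorphisms of the model group acting trivially on first coordinates: an elementary abelian
2-group of order `2 ^ (2 n ^ 2)`.
-/

set_option autoImplicit false

namespace Cfsg.Agent.Lib.Helper72.U3q

variable {F : Type*} [Field F] [Fintype F] {n : ℕ}

/-- counting homomorphisms between elementary abelian 2-groups -/
theorem card_addMonoidHom_two {M N : Type*} [AddCommGroup M] [AddCommGroup N] [Finite M]
    [Finite N] (hM : ∀ x : M, 2 • x = 0) (hN : ∀ x : N, 2 • x = 0) {a b : ℕ}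
    (ha : Nat.card M = 2 ^ a) (hb : Nat.card N = 2 ^ b) : Nat.card (M →+ N) = 2 ^ (a * b) := by
  let _i1 : Module (ZMod 2) M := AddCommGroup.zmodModule hM
  let _i2 : Module (ZMod 2) N := AddCommGroup.zmodModule hN
  have h1 : Module.finrank (ZMod 2) M = a := by
    have := Module.natCard_eq_pow_finrank (K := ZMod 2) (V := M)
    rw [ha, Nat.card_zmod] at this
    exact (Nat.pow_right_injective (le_refl 2) this).symm
  have h2 : Module.finrank (ZMod 2) N = b := by
    have := Module.natCard_eq_pow_finrank (K := ZMod 2) (V := N)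
    rw [hb, Nat.card_zmod] at this
    exact (Nat.pow_right_injective (le_refl 2) this).symm
  rw [Nat.card_congr (AddMonoidHom.toZModLinearMapEquiv 2 (M := M) (M₁ := N)).toEquiv,
    Module.natCard_eq_pow_finrank (K := ZMod 2), Nat.card_zmod, Module.finrank_linearMap, h1, h2]

namespace Model

variable {I : Inv2 F n}

/-- shear by an additive map with values in the fixed field -/
def shearFun (d : F →+ I.tr.ker) (x : Model I) : Model I :=
  ⟨(x.1.1, x.1.2 + (d x.1.1 : F)), by
    have hd : I.φ (d x.1.1 : F) = (d x.1.1 : F) := (I.mem_ker_iff _).mp (d x.1.1).2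
    change I.φ (x.1.2 + (d x.1.1 : F)) + (x.1.2 + (d x.1.1 : F)) = x.1.1 * I.φ x.1.1
    rw [map_add, hd]
    linear_combination x.2 + (d x.1.1 : F) * I.two⟩

theorem shearFun_fst (d : F →+ I.tr.ker) (x : Model I) : (shearFun d x).1.1 = x.1.1 := rfl
theorem shearFun_snd (d : F →+ I.tr.ker) (x : Model I) :
    (shearFun d x).1.2 = x.1.2 + (d x.1.1 : F) := rfl

theorem shearFun_mul (d : F →+ I.tr.ker) (x y : Model I) :
    shearFun d (x * y) = shearFun d x * shearFun d y := by
  apply Model.ext
  · rw [mul_fst, shearFun_fst, shearFun_fst, shearFun_fst, mul_fst]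
  · rw [mul_snd, shearFun_snd, shearFun_snd, shearFun_snd, shearFun_fst, shearFun_fst, mul_snd,
      mul_fst, map_add, AddSubgroup.coe_add]
    ring

theorem shearFun_shearFun (d e : F →+ I.tr.ker) (x : Model I) :
    shearFun d (shearFun e x) = shearFun (d + e) x := by
  apply Model.ext
  · rfl
  · rw [shearFun_snd, shearFun_snd, shearFun_fst, shearFun_snd, AddMonoidHom.add_apply,
      AddSubgroup.coe_add]
    ring

theorem shearFun_zero (x : Model I) : shearFun (0 : F →+ I.tr.ker) x = x := by
  apply Model.ext
  · rfl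
  · rw [shearFun_snd, AddMonoidHom.zero_apply, AddSubgroup.coe_zero, add_zero]

theorem add_self_hom (d : F →+ I.tr.ker) : d + d = 0 := by
  ext a
  rw [AddMonoidHom.add_apply, AddSubgroup.coe_add, AddMonoidHom.zero_apply, AddSubgroup.coe_zero]
  exact I.add_self _

/-- the shear automorphism -/
def shear (d : F →+ I.tr.ker) : Model I ≃* Model I where
  toFun := shearFun d
  invFun := shearFun d
  left_inv x := by rw [shearFun_shearFun, add_self_hom, shearFun_zero]
  right_inv x := by rw [shearFun_shearFun, add_self_hom, shearFun_zero]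
  map_mul' := shearFun_mul d

theorem shear_apply (d : F →+ I.tr.ker) (x : Model I) : shear d x = shearFun d x := rfl

/-- shears form a homomorphic image of the additive group of maps -/
def shearHom : Multiplicative (F →+ I.tr.ker) →* MulAut (Model I) where
  toFun d := shear (Multiplicative.toAdd d)
  map_one' := by
    apply MulEquiv.ext
    intro x
    rw [shear_apply]
    exact shearFun_zero x
  map_mul' d e := by
    apply MulEquiv.ext
    intro x
    rw [MulAut.mul_apply, shear_apply, shear_apply, shear_apply, shearFun_shearFun]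
    rfl

theorem shearHom_apply (d : Multiplicative (F →+ I.tr.ker)) (x : Model I) :
    shearHom d x = shearFun (Multiplicative.toAdd d) x := rfl

theorem shearHom_injective : Function.Injective (shearHom (I := I)) := by
  intro d e h
  apply Multiplicative.toAdd.injective
  ext a
  have h1 := congrArg (fun α : MulAut (Model I) => (α (lift a)).1.2) h
  simp only [shearHom_apply, shearFun_snd, lift_fst] at h1
  exact add_left_cancel h1

variable (I) in
/-- the automorphisms inducing the identity on first coordinates -/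
def Kc : Subgroup (MulAut (Model I)) where
  carrier := {α | ∀ a, fstMap α a = a}
  one_mem' := fun a => fstMap_refl a
  mul_mem' := by
    intro α β hα hβ a
    have : α * β = β.trans α := rfl
    rw [this, fstMap_comp, hβ, hα]
  inv_mem' := by
    intro α hα a
    have h1 : α⁻¹ = α.symm := rfl
    have h2 := fstMap_symm_left α a
    rw [hα a] at h2
    rw [h1, h2]

theorem mem_Kc {α : MulAut (Model I)} : α ∈ Kc I ↔ ∀ a, fstMap α a = a := Iff.rfl

theorem fstMap_mul (α β : MulAut (Model I)) (a : F) :
    fstMap (α * β) a = fstMap α (fstMap β a) := by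
  have : α * β = β.trans α := rfl
  rw [this, fstMap_comp]

theorem fstMap_one (a : F) : fstMap (1 : MulAut (Model I)) a = a := fstMap_refl a

theorem fstMap_inv_left (α : MulAut (Model I)) (a : F) : fstMap α⁻¹ (fstMap α a) = a :=
  fstMap_symm_left α a

theorem fstMap_inv_right (α : MulAut (Model I)) (a : F) : fstMap α (fstMap α⁻¹ a) = a :=
  fstMap_symm_right α a

theorem Kc_normal : (Kc I).Normal := by
  constructor
  intro α hα β a
  rw [fstMap_mul, fstMap_mul, hα, fstMap_inv_right]

/-- members of `Kc` fix the centre pointwise -/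
theorem Kc_fix_cen {α : MulAut (Model I)} (hα : α ∈ Kc I) (t : F) (ht : I.φ t = t) :
    α (cen t ht) = cen t ht := by
  obtain ⟨l, hl, hls⟩ := I.exists_sqrt ht
  have h1 : cen (I := I) t ht = lift l * lift l := by
    rw [mul_self_eq_cen]
    apply Model.ext
    · rfl
    · rw [cen_snd, cen_snd, lift_fst, hl, hls]
  apply Model.ext
  · rw [cen_fst]; exact map_cen_mem α t ht
  · rw [cen_snd, h1, map_mul, mul_snd, fst_map, lift_fst, hα l, hl, hls]
    linear_combination (α (lift l)).1.2 * I.two

/-- the additive map attached to a member of `Kc` -/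
noncomputable def dMap (α : MulAut (Model I)) (hα : α ∈ Kc I) : F →+ I.tr.ker :=
  AddMonoidHom.mk' (fun a => ⟨(α (lift a)).1.2 + (lift (I := I) a).1.2, by
      rw [I.mem_ker_iff, map_add]
      have h1 := (α (lift a)).2
      have h2 := (lift (I := I) a).2
      rw [fst_map, hα] at h1
      linear_combination h1 - h2 + (I.φ (lift (I := I) a).1.2 - (α (lift a)).1.2) * I.two⟩) (by
    intro a c
    apply Subtype.ext
    rw [AddSubgroup.coe_add]
    show (α (lift (a + c))).1.2 + (lift (I := I) (a + c)).1.2 =
      (α (lift a)).1.2 + (lift (I := I) a).1.2 + ((α (lift c)).1.2 + (lift (I := I) c).1.2)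
    -- `lift (a + c) = lift a * lift c * z` with `z` central
    obtain ⟨z, hz, hzeq⟩ : ∃ z : Model I, z ∈ Zm I ∧ lift (a + c) = lift a * lift c * z := by
      refine ⟨(lift a * lift c)⁻¹ * lift (a + c), ?_, by rw [mul_inv_cancel_left]⟩
      rw [mem_Zm, mul_fst, inv_fst, mul_fst, lift_fst, lift_fst, lift_fst]
      exact I.add_self _
    have hzfix : α z = z := by
      rw [eq_cen hz]
      exact Kc_fix_cen hα _ _
    have hz0 : z.1.1 = 0 := hz
    have e1 : (α (lift (a + c))).1.2 = (α (lift a)).1.2 + (α (lift c)).1.2 + a * I.φ c + z.1.2 := by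
      rw [hzeq, map_mul, map_mul, hzfix, mul_snd, mul_snd, hz0, map_zero, mul_zero, add_zero,
        fst_map, fst_map, hα, hα, lift_fst, lift_fst]
    have e2 : (lift (I := I) (a + c)).1.2 =
        (lift (I := I) a).1.2 + (lift (I := I) c).1.2 + a * I.φ c + z.1.2 := by
      rw [hzeq, mul_snd, mul_snd, hz0, map_zero, mul_zero, add_zero, lift_fst, lift_fst]
    rw [e1, e2]
    linear_combination (a * I.φ c + z.1.2) * I.two)

theorem dMap_apply (α : MulAut (Model I)) (hα : α ∈ Kc I) (a : F) :
    (dMap α hα a : F) = (α (lift a)).1.2 + (lift (I := I) a).1.2 := rfl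

theorem shearHom_dMap (α : MulAut (Model I)) (hα : α ∈ Kc I) :
    shearHom (Multiplicative.ofAdd (dMap α hα)) = α := by
  apply MulEquiv.ext
  intro x
  rw [shearHom_apply, toAdd_ofAdd]
  -- `x = lift x.1.1 * z`
  obtain ⟨z, hz, hzeq⟩ : ∃ z : Model I, z ∈ Zm I ∧ x = lift x.1.1 * z := by
    refine ⟨(lift x.1.1)⁻¹ * x, ?_, by rw [mul_inv_cancel_left]⟩
    rw [mem_Zm, mul_fst, inv_fst, lift_fst]
    exact I.add_self _
  have hzfix : α z = z := by
    rw [eq_cen hz]
    exact Kc_fix_cen hα _ _
  have hz0 : z.1.1 = 0 := hz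
  apply Model.ext
  · rw [shearFun_fst, fst_map, hα]
  · rw [shearFun_snd, dMap_apply]
    have e1 : (α x).1.2 = (α (lift x.1.1)).1.2 + z.1.2 := by
      conv_lhs => rw [hzeq]
      rw [map_mul, hzfix, mul_snd, hz0, map_zero, mul_zero, add_zero]
    have e2 : x.1.2 = (lift (I := I) x.1.1).1.2 + z.1.2 := by
      conv_lhs => rw [hzeq]
      rw [mul_snd, hz0, map_zero, mul_zero, add_zero]
    rw [e1]
    conv_lhs => rw [e2]
    linear_combination ((lift (I := I) x.1.1).1.2) * I.two

theorem shearHom_mem_Kc (d : Multiplicative (F →+ I.tr.ker)) : shearHom d ∈ Kc I := by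
  intro a
  rw [fstMap_apply, shearHom_apply, shearFun_fst, lift_fst]

theorem range_shearHom : (shearHom (I := I)).range = Kc I := by
  apply le_antisymm
  · rintro _ ⟨d, rfl⟩
    exact shearHom_mem_Kc d
  · intro α hα
    exact ⟨_, shearHom_dMap α hα⟩

theorem card_Kc : Nat.card (Kc I) = 2 ^ (2 * n ^ 2) := by
  rw [← range_shearHom]
  have h1 : Nat.card (shearHom (I := I)).range = Nat.card (Multiplicative (F →+ I.tr.ker)) :=
    (Nat.card_congr (MonoidHom.ofInjective shearHom_injective).toEquiv).symm
  rw [h1]
  have h2 : Nat.card (Multiplicative (F →+ I.tr.ker)) = Nat.card (F →+ I.tr.ker) :=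
    Nat.card_congr Multiplicative.toAdd
  rw [h2]
  have hF : Nat.card F = 2 ^ (2 * n) := by
    rw [Nat.card_eq_fintype_card, I.card, ← pow_mul, mul_comm]
  have h3 := card_addMonoidHom_two (M := F) (N := I.tr.ker)
    (fun x => by rw [two_nsmul]; exact I.add_self x)
    (fun x => by
      apply Subtype.ext
      rw [two_nsmul, AddSubgroup.coe_add, AddSubgroup.coe_zero]
      exact I.add_self _) hF I.card_ker
  rw [h3]
  congr 1
  ring

theorem Kc_elementary : Cfsg.IsElementaryAbelian 2 (Kc I) := by
  constructor
  · constructor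
    constructor
    rintro ⟨α, hα⟩ ⟨β, hβ⟩
    apply Subtype.ext
    show α * β = β * α
    have hc : (Multiplicative.ofAdd (dMap α hα)) * (Multiplicative.ofAdd (dMap β hβ)) =
        (Multiplicative.ofAdd (dMap β hβ)) * (Multiplicative.ofAdd (dMap α hα)) := mul_comm _ _
    have := congrArg (shearHom (I := I)) hc
    rw [map_mul, map_mul, shearHom_dMap, shearHom_dMap] at this
    exact this
  · intro α hα
    rw [← shearHom_dMap α hα, ← map_pow]
    have : (Multiplicative.ofAdd (dMap α hα)) ^ 2 = 1 := by
      rw [← ofAdd_nsmul, two_nsmul, add_self_hom]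
      rfl
    rw [this, map_one]

end Model

end Cfsg.Agent.Lib.Helper72.U3q
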