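import Mathlib
import Cfsg.Agent.Lib.Helper72.U3qAutKer
import Cfsg.Agent.Lib.Helper01.PCore
import Cfsg.Agent.Lib.Helper15.Cores

/-!
The automorphism group of the model group (a Sylow 2-subgroup of `SU₃(2ⁿ)`): its order and its
largest normal 2-subgroup.
-/

set_option autoImplicit false

namespace Cfsg.Agent.Lib.Helper72.U3q

variable {F : Type*} [Field F] [Fintype F] {n : ℕ}

/-- the number of ring endomorphisms of a field with `2 ^ m` elements -/
theorem card_ringHom_of_card (m : ℕ) (hF : Fintype.card F = 2 ^ m) (hm : 1 ≤ m) :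
    Nat.card (F →+* F) = m := by
  have h2 : (2 : F) = 0 := by
    have h : ((Fintype.card F : ℕ) : F) = 0 := Nat.cast_card_eq_zero F
    rw [hF] at h
    push_cast at h
    exact pow_eq_zero_iff (by omega) |>.mp h
  have : CharP F 2 := CharTwo.of_one_ne_zero_of_two_eq_zero one_ne_zero h2
  let _ : Algebra (ZMod 2) F := ZMod.algebra F 2
  let e1 : (F →+* F) ≃ (F →ₐ[ZMod 2] F) :=
    { toFun := fun σ => { σ with
        commutes' := fun r => by
          have : σ.comp (algebraMap (ZMod 2) F) = algebraMap (ZMod 2) F := Subsingleton.elim _ _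
          exact RingHom.congr_fun this r }
      invFun := fun f => f.toRingHom
      left_inv := fun σ => rfl
      right_inv := fun f => rfl }
  rw [Nat.card_congr e1, ← Nat.card_congr (algEquivEquivAlgHom (ZMod 2) F).toEquiv,
    IsGalois.card_aut_eq_finrank]
  have := Module.natCard_eq_pow_finrank (K := ZMod 2) (V := F)
  rw [Nat.card_eq_fintype_card, hF, Nat.card_zmod] at this
  exact (Nat.pow_right_injective (le_refl 2) this).symm

/-- in the multiplicative group of a field with `(2 ^ n) ^ 2` elements there are no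
nontrivial 2-elements -/
theorem eq_one_of_pow_two_pow (I : Inv2 F n) (e : F) (he : e ≠ 0) (k : ℕ)
    (h : e ^ 2 ^ k = 1) : e = 1 := by
  have h1 : e ^ (Fintype.card F - 1) = 1 := FiniteField.pow_card_sub_one_eq_one e he
  have hcop : Nat.Coprime (2 ^ k) (Fintype.card F - 1) := by
    apply Nat.Coprime.pow_left
    rw [Nat.coprime_two_left]
    rw [I.card]
    have hn := I.one_le
    have he : Even ((2 ^ n) ^ 2) := by
      rw [← pow_mul]
      exact (Nat.even_pow' (by omega)).mpr even_two
    have hpos : 1 ≤ (2 ^ n) ^ 2 := Nat.one_le_pow _ _ (by positivity)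
    exact Nat.Even.sub_odd hpos he odd_one
  have h3 : orderOf e ∣ Nat.gcd (2 ^ k) (Fintype.card F - 1) :=
    Nat.dvd_gcd (orderOf_dvd_of_pow_eq_one h) (orderOf_dvd_of_pow_eq_one h1)
  rw [hcop.gcd_eq_one, Nat.dvd_one, orderOf_eq_one_iff] at h3
  exact h3

namespace Model

variable {I : Inv2 F n}

/-- the permutation of `F` induced on first coordinates -/
noncomputable def fstPerm : MulAut (Model I) →* Equiv.Perm F where
  toFun α := ⟨fstMap α, fstMap α⁻¹, fstMap_inv_left α, fstMap_inv_right α⟩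
  map_one' := Equiv.ext (fun a => fstMap_one (I := I) a)
  map_mul' α β := Equiv.ext (fun a => fstMap_mul α β a)

theorem fstPerm_apply (α : MulAut (Model I)) (a : F) : fstPerm α a = fstMap α a := rfl

theorem ker_fstPerm : (fstPerm (I := I)).ker = Kc I := by
  ext α
  rw [MonoidHom.mem_ker, mem_Kc]
  constructor
  · intro h a
    have := congrArg (fun e : Equiv.Perm F => e a) h
    simpa [fstPerm_apply] using this
  · intro h
    apply Equiv.ext
    intro a
    exact h a

theorem exists_autOf (α : MulAut (Model I)) :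
    ∃ (c : Fˣ) (σ : F →+* F), fstPerm (I := I) (autOf c σ) = fstPerm α := by
  obtain ⟨σ, hσ⟩ := exists_ringHom_fstMap α
  refine ⟨Units.mk0 (fstMap α 1) (fstMap_one_ne_zero α), σ, ?_⟩
  apply Equiv.ext
  intro a
  rw [fstPerm_apply, fstPerm_apply, fstMap_autOf, Units.val_mk0, ← hσ]

/-- parametrization of the image -/
noncomputable def rangeEquiv : Fˣ × (F →+* F) ≃ (fstPerm (I := I)).range :=
  Equiv.ofBijective (fun p => ⟨fstPerm (I := I) (autOf p.1 p.2), ⟨_, rfl⟩⟩) (by
    constructor
    · rintro ⟨c, σ⟩ ⟨c', σ'⟩ h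
      have h1 : fstPerm (autOf (I := I) c σ) = fstPerm (autOf c' σ') := congrArg Subtype.val h
      have h2 : ∀ a, (c : F) * σ a = (c' : F) * σ' a := by
        intro a
        have := congrArg (fun e : Equiv.Perm F => e a) h1
        simpa [fstPerm_apply, fstMap_autOf] using this
      have hc : c = c' := by
        apply Units.ext
        have := h2 1
        rwa [map_one, map_one, mul_one, mul_one] at this
      subst hc
      have hσ : σ = σ' := by
        apply RingHom.ext
        intro a
        exact mul_left_cancel₀ c.ne_zero (h2 a)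
      rw [hσ]
    · rintro ⟨_, α, rfl⟩
      obtain ⟨c, σ, h⟩ := exists_autOf α
      exact ⟨(c, σ), Subtype.ext h⟩)

theorem card_range : Nat.card (fstPerm (I := I)).range = ((2 ^ n) ^ 2 - 1) * (2 * n) := by
  rw [← Nat.card_congr (rangeEquiv (I := I)), Nat.card_prod, Nat.card_units,
    Nat.card_eq_fintype_card, I.card]
  congr 1
  apply card_ringHom_of_card (2 * n)
  · rw [I.card, ← pow_mul, mul_comm]
  · have := I.one_le; omega

theorem card_aut : Nat.card (MulAut (Model I)) = 2 ^ (2 * n ^ 2) * (2 * n * ((2 ^ n) ^ 2 - 1)) := by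
  have h1 := Subgroup.card_eq_card_quotient_mul_card_subgroup (fstPerm (I := I)).ker
  have h2 : Nat.card (MulAut (Model I) ⧸ (fstPerm (I := I)).ker) =
      Nat.card (fstPerm (I := I)).range :=
    Nat.card_congr (QuotientGroup.quotientKerEquivRange (fstPerm (I := I))).toEquiv
  rw [h2, card_range, ker_fstPerm, card_Kc] at h1
  rw [h1]
  ring

theorem fstMap_pow_scalar (κ : MulAut (Model I)) (e : F) (h : ∀ b, fstMap κ b = e * b) :
    ∀ (j : ℕ) (b : F), fstMap (κ ^ j) b = e ^ j * b := by
  intro j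
  induction j with
  | zero => intro b; rw [pow_zero, pow_zero, fstMap_one, one_mul]
  | succ j ih =>
    intro b
    rw [pow_succ, fstMap_mul, ih, h, pow_succ]
    ring

/-- a scalar automorphism of 2-power order is trivial on first coordinates -/
theorem scalar_eq_one (κ : MulAut (Model I)) (e : F) (he : e ≠ 0) (h : ∀ b, fstMap κ b = e * b)
    (k : ℕ) (hk : κ ^ 2 ^ k = 1) : e = 1 := by
  apply eq_one_of_pow_two_pow I e he k
  have := fstMap_pow_scalar κ e h (2 ^ k) 1
  rw [hk, fstMap_one, mul_one] at this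
  exact this.symm

theorem pCore_le_Kc : Cfsg.pCore 2 (MulAut (Model I)) ≤ Kc I := by
  intro ν hν
  have hNn : (Cfsg.pCore 2 (MulAut (Model I))).Normal := Cfsg.Agent.Lib.Helper01.pCore_normal 2
  have hNp : IsPGroup 2 (Cfsg.pCore 2 (MulAut (Model I))) :=
    Cfsg.Agent.Lib.Helper01.pCore_isPGroup 2
  obtain ⟨σ, hσ⟩ := exists_ringHom_fstMap ν
  have hc0 := fstMap_one_ne_zero ν
  -- `σ` is the identity
  have hσid : ∀ d : Fˣ, σ (d : F) = (d : F) := by
    intro d
    obtain ⟨m, hm⟩ : ∃ m : MulAut (Model I), m = autOf d (RingHom.id F) := ⟨_, rfl⟩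
    have hmd : ∀ a, fstMap m a = (d : F) * a := by
      intro a; rw [hm, fstMap_autOf]; rfl
    obtain ⟨κ, hκ⟩ : ∃ κ : MulAut (Model I), κ = ν * m * ν⁻¹ * m⁻¹ := ⟨_, rfl⟩
    have hκN : κ ∈ Cfsg.pCore 2 (MulAut (Model I)) := by
      have h1 : m * ν⁻¹ * m⁻¹ ∈ Cfsg.pCore 2 (MulAut (Model I)) :=
        hNn.conj_mem _ (Subgroup.inv_mem _ hν) m
      have : κ = ν * (m * ν⁻¹ * m⁻¹) := by rw [hκ]; group
      rw [this]
      exact Subgroup.mul_mem _ hν h1
    have hσd0 : σ (d : F) ≠ 0 := by
      intro h0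
      exact d.ne_zero (σ.injective (by rw [h0, map_zero]))
    have hκb : ∀ b, fstMap κ b = (σ (d : F) / (d : F)) * b := by
      intro b
      rw [hκ, fstMap_mul, fstMap_mul, fstMap_mul]
      have e1 : fstMap m⁻¹ b = b / (d : F) := by
        have := fstMap_inv_right m b
        rw [hmd] at this
        rw [eq_div_iff d.ne_zero, mul_comm]
        exact this
      rw [e1]
      have e2 : fstMap ν 1 * σ (fstMap ν⁻¹ (b / (d : F))) = b / (d : F) := by
        rw [← hσ]
        exact fstMap_inv_right ν _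
      rw [hmd, hσ, map_mul]
      rw [div_mul_eq_mul_div, eq_div_iff d.ne_zero]
      have e3 := (eq_div_iff d.ne_zero).mp e2
      linear_combination σ (d : F) * e3
    obtain ⟨k, hk⟩ := hNp ⟨κ, hκN⟩
    have hk' : κ ^ 2 ^ k = 1 := congrArg Subtype.val hk
    have h1 := scalar_eq_one κ _ (div_ne_zero hσd0 d.ne_zero) hκb k hk'
    rwa [div_eq_one_iff_eq d.ne_zero] at h1
  have hσid' : ∀ a : F, σ a = a := by
    intro a
    by_cases ha : a = 0
    · rw [ha, map_zero]
    · exact hσid (Units.mk0 a ha)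
  have hνb : ∀ b, fstMap ν b = fstMap ν 1 * b := by
    intro b; rw [hσ b, hσid']
  obtain ⟨k, hk⟩ := hNp ⟨ν, hν⟩
  have hk' : ν ^ 2 ^ k = 1 := congrArg Subtype.val hk
  have h1 := scalar_eq_one ν _ hc0 hνb k hk'
  intro a
  rw [hνb a, h1, one_mul]

theorem pCore_eq_Kc : Cfsg.pCore 2 (MulAut (Model I)) = Kc I := by
  apply le_antisymm pCore_le_Kc
  apply Cfsg.Agent.Lib.Helper01.le_pCore Kc_normal
  exact IsPGroup.of_card card_Kc

/-- the automorphism group of the model -/
theorem aut_main :
    Cfsg.IsElementaryAbelian 2 (Cfsg.pCore 2 (MulAut (Model I))) ∧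
      Nat.card ↥(Cfsg.pCore 2 (MulAut (Model I))) = 2 ^ (2 * n ^ 2) ∧
      Nat.card (MulAut (Model I)) = 2 ^ (2 * n ^ 2) * (2 * n * ((2 ^ n) ^ 2 - 1)) := by
  rw [pCore_eq_Kc]
  exact ⟨Kc_elementary, card_Kc, card_aut⟩

end Model

/-- transport of the statement along an isomorphism -/
theorem aut_transport {S M : Type*} [Group S] [Group M] (e : S ≃* M) (p : ℕ) :
    (Cfsg.IsElementaryAbelian p (Cfsg.pCore p (MulAut M)) →
      Cfsg.IsElementaryAbelian p (Cfsg.pCore p (MulAut S))) ∧
      Nat.card ↥(Cfsg.pCore p (MulAut S)) = Nat.card ↥(Cfsg.pCore p (MulAut M)) ∧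
      Nat.card (MulAut S) = Nat.card (MulAut M) := by
  have hmap := Cfsg.Agent.Lib.Helper15.pCore_map_equiv p (MulAut.congr e)
  refine ⟨?_, ?_, Nat.card_congr (MulAut.congr e).toEquiv⟩
  · rintro ⟨hcomm, hexp⟩
    have hmem : ∀ x ∈ Cfsg.pCore p (MulAut S), MulAut.congr e x ∈ Cfsg.pCore p (MulAut M) := by
      intro x hx
      rw [← hmap]
      exact ⟨x, hx, rfl⟩
    constructor
    · constructor
      constructor
      rintro ⟨x, hx⟩ ⟨y, hy⟩
      apply Subtype.ext
      show x * y = y * x
      apply (MulAut.congr e).injective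
      rw [map_mul, map_mul]
      have := hcomm.is_comm.comm ⟨_, hmem x hx⟩ ⟨_, hmem y hy⟩
      exact congrArg Subtype.val this
    · intro x hx
      apply (MulAut.congr e).injective
      rw [map_pow, map_one]
      exact hexp _ (hmem x hx)
  · rw [← hmap]
    exact (Subgroup.card_map_of_injective (MulAut.congr e).injective).symm

end Cfsg.Agent.Lib.Helper72.U3q
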