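import Mathlib
import Cfsg.Prelude.Def_GeometricClasses
import Cfsg.Prelude.Def_ClassicalGeometry

/-!
# K-OQF pack (S5977 / S5978, architect helper72): shared definitions

`Ω^±_{2d}(q)`, `q` odd, and the normalisers of a quadratic field subalgebra `K` of the matrix algebra all of whose
elements are self-adjoint for the polar form of the quadratic form (subgroups of type `O_d(q²)`).
-/

set_option autoImplicit false

namespace Cfsg.Agent.Lib.Helper72.OQF

open Cfsg Cfsg.Geo
open scoped Matrix MatrixGroups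

variable {F : Type*} [Field F] {ι : Type} [Fintype ι] [DecidableEq ι]

/-- the hypotheses on `K` in S5977 / S5978: a quadratic field subalgebra, self-adjoint for the polar form of `Q` -/
structure IsOType (Q : (ι → F) → F) (K : Subalgebra F (Matrix ι ι F)) : Prop where
  field : IsFieldSubalgebra 2 K
  sa : IsSelfAdjointFor (QuadraticMap.polar Q) K

/-- `K = {s + t θ}` -/
def GenBy (K : Subalgebra F (Matrix ι ι F)) (θ : Matrix ι ι F) : Prop :=
  ∀ a : Matrix ι ι F, a ∈ K ↔ ∃ s t : F, a = s • (1 : Matrix ι ι F) + t • θ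

/-- the matrix `θ` is self-adjoint for the polar form of `Q` -/
def IsSAMat (Q : (ι → F) → F) (θ : Matrix ι ι F) : Prop :=
  ∀ u v : ι → F, QuadraticMap.polar Q (θ *ᵥ u) v = QuadraticMap.polar Q u (θ *ᵥ v)

/-- `g` commutes or anticommutes with `θ` -/
def NormTh (g θ : Matrix ι ι F) : Prop :=
  g * θ = θ * g ∨ g * θ = -(θ * g)

/-- `|GO⁺_{2d}(q)|` (`Helper08.card_GOplus`) -/
def gOplus (q d : ℕ) : ℕ :=
  2 * q ^ (d * (d - 1)) * (q ^ d - 1) * ∏ i ∈ Finset.range (d - 1), (q ^ (2 * (i + 1)) - 1)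

/-- `|GO_{2m+1}(q)|` (`Helper08.card_GOodd`) -/
def gOodd (q m : ℕ) : ℕ :=
  2 * q ^ (m ^ 2) * ∏ i ∈ Finset.range m, (q ^ (2 * (i + 1)) - 1)

/-- `|GO⁻_{2d}(q)|` (`Helper08.card_GOminus`) -/
def gOminus (q d : ℕ) : ℕ :=
  2 * q ^ (d * (d - 1)) * (q ^ d + 1) * ∏ i ∈ Finset.range (d - 1), (q ^ (2 * (i + 1)) - 1)

/-- the order of the isometry group of the sum of `d` squares over the field with `q²` elements (`q` odd):
plus type for `d` even (`-1` is a square), odd type otherwise -/
def oDot (q d : ℕ) : ℕ :=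
  if Even d then gOplus (q ^ 2) (d / 2) else gOodd (q ^ 2) (d / 2)

end Cfsg.Agent.Lib.Helper72.OQF
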