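import Mathlib
import Cfsg.Prelude.Def_GeometricClasses
import Cfsg.Prelude.Def_ClassicalGeometry
import Cfsg.Agent.Lib.Helper72.OQFDefs
import Cfsg.Agent.Lib.Helper14.SpUA0

/-!
# K-OQF pack, part 2 (S5978 "only if", architect helper72): normal frames of a self-adjoint square root of `δ`
-/

set_option autoImplicit false

namespace Cfsg.Agent.Lib.Helper72.OQF

open Cfsg Cfsg.Geo
open Cfsg.Agent.Lib.Helper14.SpU (LL)
open scoped Matrix MatrixGroups

variable {F : Type*} [Field F] {ι : Type} [Fintype ι] [DecidableEq ι]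

/-- a normal frame for the self-adjoint square root `θ` of `δ`: vectors `b k` (`k < d`) such that the `b k, θ (b k)` form a basis of `F^ι`
(`card ι = 2d`), the planes `⟨b k, θ (b k)⟩` are mutually orthogonal, `(Q (b k), B (b k) (θ (b k))) = (0, 1)` for all `k` but the last one,
and `= (a, β) ≠ (0, 0)` for the last one -/
structure IsNFrame (Q : (ι → F) → F) (θ : Matrix ι ι F) (d : ℕ) (b : Fin d → ι → F) (a β : F) : Prop where
  card : Fintype.card ι = 2 * d
  li : LinearIndependent F (fun p : Fin d × Fin 2 => if p.2 = 0 then b p.1 else θ *ᵥ b p.1)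
  orth : ∀ k l, k ≠ l → QuadraticMap.polar Q (b k) (b l) = 0 ∧ QuadraticMap.polar Q (b k) (θ *ᵥ b l) = 0
  norm : ∀ k : Fin d, (k : ℕ) + 1 < d → Q (b k) = 0 ∧ QuadraticMap.polar Q (b k) (θ *ᵥ b k) = 1
  last : ∀ k : Fin d, (k : ℕ) + 1 = d → Q (b k) = a ∧ QuadraticMap.polar Q (b k) (θ *ᵥ b k) = β
  ne : a ≠ 0 ∨ β ≠ 0

/-- the weights `(1, …, 1, c)` -/
def nfW {L : Type*} [One L] (d : ℕ) (c : L) : Fin d → L := fun k => if (k : ℕ) + 1 < d then 1 else c

/-- the order of the isometry group of `⟨1, …, 1, c⟩` (`d` variables) over the field with `q²` elements, `q` odd, where `c` is a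
non-square if `d` is even: minus type for `d` even, odd type otherwise -/
def oDotM (q d : ℕ) : ℕ :=
  if Even d then gOminus (q ^ 2) (d / 2) else gOodd (q ^ 2) (d / 2)

end Cfsg.Agent.Lib.Helper72.OQF
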