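import Mathlib
import Cfsg.Prelude.Def_GeometricClasses
import Cfsg.Agent.Lib.Helper48.Subfield.RatGL
import Cfsg.Agent.Lib.Helper48.Subfield.Ring

/-!
K-SLMax-N5 (keystone 233, architect helper61): `SL_n(F)`, `n ≥ 2`, is not contained in a subfield subgroup
attached to a subfield `F₀` with `|F| = |F₀| ^ r`, `r` prime.
-/

set_option autoImplicit false
set_option linter.unusedSectionVars false

namespace Cfsg.Agent.Lib.Helper72.SLMax

open Cfsg Cfsg.Geo Cfsg.Agent.Lib.Helper48.Subfield
open scoped Matrix Kronecker MatrixGroups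

variable {F : Type*} [Field F] [Fintype F] {n : ℕ}

/-- a subfield of prime index is proper -/
theorem exists_not_mem_subfield (F₀ : Subfield F) (r : ℕ) (hr : r.Prime)
    (hF : Fintype.card F = Nat.card F₀ ^ r) : ∃ a : F, a ∉ F₀ := by
  by_contra hcon
  push Not at hcon
  have hc : Nat.card F₀ = Fintype.card F := by
    rw [← Nat.card_eq_fintype_card]
    exact Nat.card_congr (Equiv.subtypeUnivEquiv hcon)
  rw [hc] at hF
  have h2 : 2 ≤ Fintype.card F := Fintype.one_lt_card
  have hr2 := hr.two_le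
  have h3 : Fintype.card F ^ 1 < Fintype.card F ^ r := Nat.pow_lt_pow_right h2 (by omega)
  rw [pow_one] at h3
  omega

/-- K-SLMax-N5. -/
theorem sl_not_le_subfieldSubgroup (hn : 2 ≤ n) (F₀ : Subfield F) (r : ℕ) (hr : r.Prime)
    (hF : Fintype.card F = Nat.card F₀ ^ r) (P : GL (Fin n) F) :
    ¬ specialLinear (Fin n) F ≤ subfieldSubgroup F₀ P := by
  intro hle
  obtain ⟨a, ha⟩ := exists_not_mem_subfield F₀ r hr hF
  have h01 : (⟨0, by omega⟩ : Fin n) ≠ ⟨1, by omega⟩ := by
    intro h
    have := congrArg Fin.val h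
    simp at this
  set i0 : Fin n := ⟨0, by omega⟩ with hi0
  set i1 : Fin n := ⟨1, by omega⟩ with hi1
  set T : GL (Fin n) F := elemT i0 i1 h01 a with hT
  have hTS : T ∈ specialLinear (Fin n) F := by
    unfold specialLinear
    rw [MonoidHom.mem_ker, hT, elemT_eq_toGL]
    apply Units.ext
    simp
  have hS : (specialLinear (Fin n) F).Normal := by
    unfold specialLinear
    infer_instance
  have hPT : P * T * P⁻¹ ∈ specialLinear (Fin n) F := hS.conj_mem T hTS P
  have h1 := hle hPT
  unfold subfieldSubgroup at h1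
  rw [Subgroup.mem_map] at h1
  obtain ⟨x, hx, hxe⟩ := h1
  have hxT : x = T := by
    have : P * x * P⁻¹ = P * T * P⁻¹ := hxe
    have h2 : x = P⁻¹ * (P * x * P⁻¹) * P := by group
    rw [h2, this]; group
  rw [hxT] at hx
  have hx' : T ∈ ratUpTo (ι := Fin n) F₀ := by
    rw [← sup_eq_ratUpTo]
    exact hx
  obtain ⟨c, hc, hrat⟩ := hx'
  have e00 := hrat i0 i0
  have e01 := hrat i0 i1
  rw [hT, elemT_val] at e00 e01
  simp only [Matrix.smul_apply, Matrix.add_apply, Matrix.one_apply_eq, Matrix.one_apply_ne h01,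
    Matrix.single_apply, smul_eq_mul] at e00 e01
  rw [if_neg (fun h => h01 h.2.symm), add_zero, mul_one] at e00
  rw [if_pos ⟨trivial, trivial⟩, zero_add] at e01
  apply ha
  have : a = (c * a) * c⁻¹ := by field_simp
  rw [this]
  exact F₀.mul_mem e01 (F₀.inv_mem e00)

end Cfsg.Agent.Lib.Helper72.SLMax
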