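/-
K-SpO-4 (keystone 598304, architect helper49): unit and singular frames in an abstract nondegenerate
quadratic space of dimension `2d` over a finite field (the spec is for characteristic 2, but nothing here
uses that).  Transport along the classification isometries of `Helper26.SpO1`.
-/
import Mathlib
import Cfsg.Prelude.Def_GeometricClasses
import Cfsg.Agent.Lib.Helper49.SpODefs
import Cfsg.Agent.Lib.Helper26.SpO1

set_option autoImplicit false

namespace Cfsg.Agent.Lib.Helper72.SpO

open Matrix Module QuadraticMap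

section general

variable {F : Type*} [Field F] {V W : Type*} [AddCommGroup V] [Module F V] [AddCommGroup W]
  [Module F W]

/-- a frame: a linearly independent family, pairwise orthogonal for the polar map, of constant value `c` -/
def IsFrame (Q : V → F) (c : F) {κ : Type*} (w : κ → V) : Prop :=
  LinearIndependent F w ∧ (∀ a b, a ≠ b → QuadraticMap.polar Q (w a) (w b) = 0) ∧ ∀ a, Q (w a) = c

theorem IsFrame.transport {Q : V → F} {R : W → F} (φ : V ≃ₗ[F] W) (hφ : ∀ v, R (φ v) = Q v) {c : F}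
    {κ : Type*} {u : κ → W} (hu : IsFrame R c u) : IsFrame Q c (fun a => φ.symm (u a)) := by
  obtain ⟨h1, h2, h3⟩ := hu
  refine ⟨?_, ?_, ?_⟩
  · exact h1.map' φ.symm.toLinearMap (LinearEquiv.ker φ.symm)
  · intro a b hab
    have := h2 a b hab
    simp only [QuadraticMap.polar] at this ⊢
    rw [← hφ, ← hφ, ← hφ, map_add]
    simpa using this
  · intro a
    rw [← hφ]
    simpa using h3 a

theorem IsFrame.restrict {Q : V → F} {c : F} {κ : Type*} [Fintype κ] {u : κ → V} (hu : IsFrame Q c u)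
    (s : ℕ) (hs : s ≤ Fintype.card κ) : ∃ w : Fin s → V, IsFrame Q c w := by
  obtain ⟨e⟩ : Nonempty (Fin s ↪ κ) :=
    Function.Embedding.nonempty_of_card_le (by simpa using hs)
  obtain ⟨h1, h2, h3⟩ := hu
  exact ⟨u ∘ e, h1.comp e e.injective, fun a b hab => h2 _ _ (fun h => hab (e.injective h)),
    fun a => h3 _⟩

theorem linearIndependent_of_dual {κ ι : Type*} [Fintype κ] [DecidableEq κ] (u : κ → (ι → F))
    (g : κ → ι) (h : ∀ a b, u a (g b) = if b = a then 1 else 0) : LinearIndependent F u := by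
  rw [Fintype.linearIndependent_iff]
  intro c hc a
  have := congrFun hc (g a)
  simpa [Finset.sum_apply, h] using this

end general

section models

variable {F : Type*} [Field F]

theorem polar_quadFormPlus (d : ℕ) (x y : Fin d ⊕ Fin d → F) :
    QuadraticMap.polar (Cfsg.quadFormPlus d F) x y =
      ∑ i : Fin d, (x (.inl i) * y (.inr i) + y (.inl i) * x (.inr i)) := by
  simp only [QuadraticMap.polar, Cfsg.quadFormPlus, Pi.add_apply, ← Finset.sum_sub_distrib]
  refine Finset.sum_congr rfl fun i _ => ?_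
  ring

theorem polar_quadFormMinus (m : ℕ) (a b : F) (x y : (Fin m ⊕ Fin m) ⊕ Fin 2 → F) :
    QuadraticMap.polar (Cfsg.quadFormMinus m F a b) x y =
      (∑ i : Fin m, (x (.inl (.inl i)) * y (.inl (.inr i)) + y (.inl (.inl i)) * x (.inl (.inr i))))
      + (2 * x (.inr 0) * y (.inr 0) + a * (x (.inr 0) * y (.inr 1) + y (.inr 0) * x (.inr 1))
        + 2 * b * x (.inr 1) * y (.inr 1)) := by
  have h : ∀ x y : (Fin m ⊕ Fin m) ⊕ Fin 2 → F,
      (∑ i : Fin m, (x + y) (.inl (.inl i)) * (x + y) (.inl (.inr i))) =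
      (∑ i : Fin m, x (.inl (.inl i)) * x (.inl (.inr i))) +
      (∑ i : Fin m, y (.inl (.inl i)) * y (.inl (.inr i))) +
      ∑ i : Fin m, (x (.inl (.inl i)) * y (.inl (.inr i)) + y (.inl (.inl i)) * x (.inl (.inr i))) := by
    intro x y
    rw [← Finset.sum_add_distrib, ← Finset.sum_add_distrib]
    refine Finset.sum_congr rfl fun i _ => ?_
    simp only [Pi.add_apply]
    ring
  simp only [QuadraticMap.polar, Cfsg.quadFormMinus, h]
  simp only [Pi.add_apply]
  ring

/-- the unit frame `e_j + f_j` of the hyperbolic model -/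
def uPlus (d : ℕ) (F : Type*) [Field F] (j : Fin d) : Fin d ⊕ Fin d → F :=
  Pi.single (Sum.inl j) 1 + Pi.single (Sum.inr j) 1

theorem isFrame_uPlus (d : ℕ) : IsFrame (Cfsg.quadFormPlus d F) 1 (uPlus d F) := by
  refine ⟨?_, ?_, ?_⟩
  · refine linearIndependent_of_dual _ (fun j => Sum.inl j) fun a b => ?_
    simp [uPlus, Pi.single_apply]
  · intro a b hab
    rw [polar_quadFormPlus]
    refine Finset.sum_eq_zero fun i _ => ?_
    by_cases hia : i = a
    · subst hia
      simp [uPlus, Pi.single_apply, hab]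
    · simp [uPlus, Pi.single_apply, hia]
  · intro a
    simp [Cfsg.quadFormPlus, uPlus, Pi.single_apply]

/-- the unit frame of the elliptic model: `e_j + f_j` and the first vector of the anisotropic plane -/
def uMinus (m : ℕ) (F : Type*) [Field F] : Fin m ⊕ Unit → ((Fin m ⊕ Fin m) ⊕ Fin 2 → F)
  | Sum.inl j => Pi.single (Sum.inl (Sum.inl j)) 1 + Pi.single (Sum.inl (Sum.inr j)) 1
  | Sum.inr _ => Pi.single (Sum.inr 0) 1

/-- the dual coordinates of `uMinus` -/
def gMinus (m : ℕ) : Fin m ⊕ Unit → (Fin m ⊕ Fin m) ⊕ Fin 2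
  | Sum.inl j => Sum.inl (Sum.inl j)
  | Sum.inr _ => Sum.inr 0

theorem isFrame_uMinus (m : ℕ) (ζ : F) :
    IsFrame (Cfsg.quadFormMinus m F 1 ζ) 1 (uMinus m F) := by
  refine ⟨?_, ?_, ?_⟩
  · refine linearIndependent_of_dual _ (gMinus m) fun a b => ?_
    rcases a with a | a <;> rcases b with b | b <;> simp [uMinus, gMinus, Pi.single_apply]
  · intro a b hab
    rw [polar_quadFormMinus]
    rcases a with a | a <;> rcases b with b | b
    · have hab' : a ≠ b := fun h => hab (by rw [h])
      have : (∑ i : Fin m, (uMinus m F (Sum.inl a) (.inl (.inl i)) * uMinus m F (Sum.inl b) (.inl (.inr i))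
          + uMinus m F (Sum.inl b) (.inl (.inl i)) * uMinus m F (Sum.inl a) (.inl (.inr i)))) = 0 := by
        refine Finset.sum_eq_zero fun i _ => ?_
        by_cases hia : i = a
        · subst hia
          simp [uMinus, hab']
        · simp [uMinus, Pi.single_apply, hia]
      rw [this]
      simp [uMinus]
    · simp [uMinus]
    · simp [uMinus]
    · exact absurd rfl hab
  · intro a
    rcases a with a | a
    · simp [Cfsg.quadFormMinus, uMinus, Pi.single_apply]
    · simp [Cfsg.quadFormMinus, uMinus]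

/-- the singular frame `e_j` of the elliptic model -/
def sMinus (m : ℕ) (F : Type*) [Field F] (j : Fin m) : (Fin m ⊕ Fin m) ⊕ Fin 2 → F :=
  Pi.single (Sum.inl (Sum.inl j)) 1

theorem isFrame_sMinus (m : ℕ) (ζ : F) :
    IsFrame (Cfsg.quadFormMinus m F 1 ζ) 0 (sMinus m F) := by
  refine ⟨?_, ?_, ?_⟩
  · refine linearIndependent_of_dual _ (fun j => Sum.inl (Sum.inl j)) fun a b => ?_
    simp [sMinus, Pi.single_apply]
  · intro a b _
    rw [polar_quadFormMinus]
    simp [sMinus]
  · intro a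
    simp [Cfsg.quadFormMinus, sMinus]

end models

section main

variable {F : Type*} [Field F] [Fintype F] [CharP F 2]

/-- **K-SpO-4, unit frames.** -/
theorem exists_unit_frame (d : ℕ) (Q : (Fin d ⊕ Fin d → F) → F)
    (hQ : Cfsg.Geo.IsNondegenerateQuadraticForm Q) (s : ℕ) (hs : s ≤ d) :
    ∃ w : Fin s → (Fin d ⊕ Fin d → F), LinearIndependent F w ∧
      (∀ a b, a ≠ b → QuadraticMap.polar Q (w a) (w b) = 0) ∧ ∀ a, Q (w a) = 1 := by
  by_cases hplus : Cfsg.Geo.IsPlusTypeOn Q ⊤
  · obtain ⟨φ, hφ⟩ := Cfsg.Agent.Lib.Helper26.SpO.exists_plus_model d Q hQ hplus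
    exact ((isFrame_uPlus d).transport φ hφ).restrict s (by simpa using hs)
  · obtain ⟨ζ, φ, hd, -, hφ⟩ := Cfsg.Agent.Lib.Helper26.SpO.exists_minus_model d Q hQ hplus
    refine ((isFrame_uMinus (d - 1) ζ).transport φ hφ).restrict s ?_
    simp only [Fintype.card_sum, Fintype.card_fin, Fintype.card_unit]
    omega

/-- **K-SpO-4, singular frames, plus type.** -/
theorem exists_singular_frame_of_plus (d : ℕ) (Q : (Fin d ⊕ Fin d → F) → F)
    (hQ : Cfsg.Geo.IsNondegenerateQuadraticForm Q) (hplus : Cfsg.Geo.IsPlusTypeOn Q ⊤)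
    (s : ℕ) (hs : s ≤ d) :
    ∃ w : Fin s → (Fin d ⊕ Fin d → F), LinearIndependent F w ∧
      (∀ a b, a ≠ b → QuadraticMap.polar Q (w a) (w b) = 0) ∧ ∀ a, Q (w a) = 0 := by
  obtain ⟨U, -, hU, hdim⟩ := hplus
  have hd : Module.finrank F U = d := by
    rw [finrank_top, Cfsg.Agent.Lib.Helper26.SpO.finrank_sum_fun] at hdim
    omega
  let b : Basis (Fin d) F U := Module.finBasisOfFinrankEq F U hd
  have hfr : IsFrame Q 0 (fun a : Fin d => ((b a : U) : Fin d ⊕ Fin d → F)) := by
    refine ⟨?_, ?_, ?_⟩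
    · exact b.linearIndependent.map' U.subtype (Submodule.ker_subtype U)
    · intro a c _
      simp only [QuadraticMap.polar]
      rw [hU _ (b a).2, hU _ (b c).2, hU _ (U.add_mem (b a).2 (b c).2)]
      simp
    · intro a
      exact hU _ (b a).2
  exact hfr.restrict s (by simpa using hs)

/-- **K-SpO-4, singular frames, not of plus type.** -/
theorem exists_singular_frame_of_not_plus (d : ℕ) (Q : (Fin d ⊕ Fin d → F) → F)
    (hQ : Cfsg.Geo.IsNondegenerateQuadraticForm Q) (hminus : ¬ Cfsg.Geo.IsPlusTypeOn Q ⊤)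
    (s : ℕ) (hs : s + 1 ≤ d) :
    ∃ w : Fin s → (Fin d ⊕ Fin d → F), LinearIndependent F w ∧
      (∀ a b, a ≠ b → QuadraticMap.polar Q (w a) (w b) = 0) ∧ ∀ a, Q (w a) = 0 := by
  obtain ⟨ζ, φ, hd, -, hφ⟩ := Cfsg.Agent.Lib.Helper26.SpO.exists_minus_model d Q hQ hminus
  refine ((isFrame_sMinus (d - 1) ζ).transport φ hφ).restrict s ?_
  simp only [Fintype.card_fin]
  omega

end main

end Cfsg.Agent.Lib.Helper72.SpO
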