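import Cfsg.Agent.Lib.Helper77.J1Order

set_option autoImplicit false

/-! Definitions for the spectrum of the first Janko group (kernel matrix engine of Helper77). -/

namespace Cfsg.Agent.Lib.Helper72.J1Spec

open Cfsg.Agent.Lib.Helper77.J1 Cfsg.Agent.Lib.Helper77.J1.M7

/-- Computational test: one of the powers 6, 10, 15, 7, 11, 19 of `a` is the identity. -/
def ordOK (a : M7) : Bool :=
  let a2 := mul a a
  let a3 := mul a2 a
  let a5 := mul a3 a2
  let a6 := mul a3 a3
  let a7 := mul a6 a
  let a10 := mul a5 a5
  let a11 := mul a10 a
  let a15 := mul a10 a5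
  let a19 := mul (mul a15 a3) a
  decide (a6 = one) || decide (a10 = one) || decide (a15 = one) || decide (a7 = one) ||
    decide (a11 = one) || decide (a19 = one)

/-- The test on a whole block `L * U0 k` of 660 elements. -/
def blockOK (k : ℕ) : Bool :=
  (List.range 55).all fun i => (List.range 12).all fun j =>
    ordOK (mul (mul (T2 i) (U1 j)) (U0 k))

end Cfsg.Agent.Lib.Helper72.J1Spec
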