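import Mathlib
import Cfsg.Prelude.Def_Characters
import Cfsg.Agent.Lib.Helper42.TwistAction
import Cfsg.Agent.Lib.Helper79.FrobSchurCount
import Cfsg.Agent.Lib.Helper75.PGroupFrattini
import Cfsg.Agent.Lib.Helper05.CharDegree

set_option autoImplicit false
set_option linter.style.haveILetI false

/-!
# Pieces for the theorem of Alperin, Feit and Thompson on the number of involutions of a 2-group
-/

namespace Cfsg.Agent.Lib.Helper72

open Cfsg
open scoped ComplexConjugate

/-- a finite group with cyclic Frattini quotient is cyclic -/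
theorem isCyclic_of_isCyclic_frattini_quotient {G : Type*} [Group G] [Finite G]
    (h : IsCyclic (G ⧸ frattini G)) : IsCyclic G := by
  obtain ⟨q, hq⟩ := h.exists_generator
  obtain ⟨g, rfl⟩ := QuotientGroup.mk_surjective q
  have htop : Subgroup.zpowers g ⊔ frattini G = ⊤ := by
    rw [eq_top_iff]
    intro x _
    obtain ⟨k, hk⟩ := Subgroup.mem_zpowers_iff.mp (hq (x : G ⧸ frattini G))
    rw [← QuotientGroup.mk_zpow, QuotientGroup.eq] at hk
    have : x = g ^ k * ((g ^ k)⁻¹ * x) := by group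
    rw [this]
    exact Subgroup.mul_mem_sup (Subgroup.zpow_mem_zpowers g k) hk
  have := frattini_nongenerating htop
  exact isCyclic_iff_exists_zpowers_eq_top.mpr ⟨g, this⟩

/-- a real-valued irreducible character has nonzero indicator -/
theorem fsInd_ne_zero_of_real {G : Type*} [Group G] [Fintype G] (χ : IrrCharacter G)
    (hreal : ∀ g : G, ((χ : G → ℂ) g).im = 0) :
    Cfsg.Agent.Lib.Helper79.fsInd (χ : G → ℂ) ≠ 0 := by
  obtain ⟨n, ρ, hirr, hχ⟩ := χ.2
  haveI := hirr
  rw [← hχ] at hreal ⊢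
  obtain ⟨M, hM0, hM⟩ := Cfsg.Agent.Lib.Helper79.exists_ne_zero_invariant ρ hreal
  have h1 := Cfsg.Agent.Lib.Helper79.transpose_eq_indicator_smul ρ hreal M hM
  intro h0
  unfold Cfsg.Agent.Lib.Helper79.fsInd at h0
  rw [h0, zero_smul] at h1
  apply hM0
  have := congrArg Matrix.transpose h1
  simpa using this

section Twist

universe u
variable {G : Type u} [Group G] [Fintype G]

/-- twisting an irreducible character by an arbitrary linear character -/
noncomputable def twistBy (φ : G →* ℂˣ) (χ : IrrCharacter G) : IrrCharacter G :=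
  ⟨(χ : G → ℂ) * Cfsg.Agent.Lib.Helper20.homFun φ,
    Cfsg.Agent.Lib.Helper84.isIrrCharacter_mul_linear
      (Cfsg.Agent.Lib.Helper20.isCharacter_homFun φ).1
      (Cfsg.Agent.Lib.Helper20.isCharacter_homFun φ).2 χ.2⟩

theorem twistBy_apply (φ : G →* ℂˣ) (χ : IrrCharacter G) (g : G) :
    ((twistBy φ χ : IrrCharacter G) : G → ℂ) g = (χ : G → ℂ) g * ((φ g : ℂˣ) : ℂ) := rfl

/-- a character fixed by all twists from the Frattini quotient vanishes off the Frattini
subgroup -/
theorem vanish_off_frattini (hG : IsPGroup 2 G) (χ : IrrCharacter G)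
    (hfix : ∀ l : Cfsg.Agent.Lib.Helper42.Lam G, l • χ = χ) (g : G) (hg : g ∉ frattini G) :
    (χ : G → ℂ) g = 0 := by
  haveI : Fact (Nat.Prime 2) := ⟨Nat.prime_two⟩
  letI : CommGroup (G ⧸ frattini G) :=
      { (inferInstance : Group (G ⧸ frattini G)) with
        mul_comm := Cfsg.Agent.Lib.Helper75.frattini_quotient_comm hG }
  have hne : (g : G ⧸ frattini G) ≠ 1 := by
    rwa [Ne, QuotientGroup.eq_one_iff]
  obtain ⟨l, hl⟩ :=
    CommGroup.exists_apply_ne_one_of_hasEnoughRootsOfUnity (G ⧸ frattini G) ℂ hne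
  have h := congrArg (fun ψ : IrrCharacter G => (ψ : G → ℂ) g) (hfix l)
  simp only [Cfsg.Agent.Lib.Helper42.smul_coe, Pi.mul_apply, Cfsg.Agent.Lib.Helper42.tw_apply]
    at h
  by_contra h0
  apply hl
  have : ((l (g : G ⧸ frattini G) : ℂˣ) : ℂ) = 1 := by
    apply mul_left_cancel₀ h0
    rw [h, mul_one]
  exact Units.ext this

/-- a degree 2 character fixed by all twists, when the Frattini quotient has order 4, does not
vanish anywhere on the Frattini subgroup -/
theorem nonvanish_on_frattini (hG : IsPGroup 2 G) (χ : IrrCharacter G)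
    (hfix : ∀ l : Cfsg.Agent.Lib.Helper42.Lam G, l • χ = χ) (hdeg : (χ : G → ℂ) 1 = 2)
    (hidx : (frattini G).index = 4) (g : G) (hg : g ∈ frattini G) : (χ : G → ℂ) g ≠ 0 := by
  classical
  intro h0
  have hinner := Cfsg.Agent.Lib.Helper83.irr_inner_self χ
  rw [Cfsg.Agent.Lib.Helper83.classInner_def] at hinner
  have hcard : (Nat.card G : ℂ) ≠ 0 := by exact_mod_cast Nat.card_pos.ne'
  have hsum : ∑ x : G, (χ : G → ℂ) x * conj ((χ : G → ℂ) x) = (Fintype.card G : ℂ) := by
    rw [← Nat.card_eq_fintype_card]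
    field_simp at hinner
    exact hinner
  set K : Finset G := (Finset.univ.filter (fun x => x ∈ frattini G)).erase g with hK
  have hsumK : ∑ x ∈ K, (χ : G → ℂ) x * conj ((χ : G → ℂ) x) = (Fintype.card G : ℂ) := by
    rw [← hsum]
    apply Finset.sum_subset (Finset.subset_univ _)
    intro x _ hx
    by_cases hxg : x = g
    · rw [hxg, h0, zero_mul]
    · have : x ∉ frattini G := by
        intro hxF
        apply hx
        rw [hK, Finset.mem_erase]
        exact ⟨hxg, Finset.mem_filter.mpr ⟨Finset.mem_univ _, hxF⟩⟩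
      rw [vanish_off_frattini hG χ hfix x this, zero_mul]
  have hnorm : ∀ x, ‖(χ : G → ℂ) x‖ ≤ (2 : ℝ) := by
    intro x
    obtain ⟨n, ρ, hirr, hρ⟩ := χ.2
    have h := Cfsg.Agent.Lib.Helper04.norm_char_le ρ x
    have hd' : (Module.finrank ℂ (Fin n → ℂ) : ℂ) = 2 := by
      rw [← hdeg, ← hρ]
      simp
    have hd'' : Module.finrank ℂ (Fin n → ℂ) = 2 := by exact_mod_cast hd'
    rw [hρ, hd''] at h
    exact_mod_cast h
  have hreal : (Fintype.card G : ℝ) = ∑ x ∈ K, ‖(χ : G → ℂ) x‖ ^ 2 := by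
    have : ((Fintype.card G : ℝ) : ℂ) = ((∑ x ∈ K, ‖(χ : G → ℂ) x‖ ^ 2 : ℝ) : ℂ) := by
      push_cast
      rw [← hsumK]
      refine Finset.sum_congr rfl fun x _ => ?_
      rw [Complex.mul_conj']
    exact_mod_cast this
  have hle : (Fintype.card G : ℝ) ≤ K.card * (2 : ℝ) ^ 2 := by
    rw [hreal]
    calc ∑ x ∈ K, ‖(χ : G → ℂ) x‖ ^ 2 ≤ ∑ _x ∈ K, (2 : ℝ) ^ 2 := by
          apply Finset.sum_le_sum
          intro x _
          exact pow_le_pow_left₀ (norm_nonneg _) (hnorm x) 2
      _ = K.card * (2 : ℝ) ^ 2 := by rw [Finset.sum_const, nsmul_eq_mul]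
  have hle' : Fintype.card G ≤ K.card * 2 ^ 2 := by exact_mod_cast hle
  have hKcard : K.card + 1 = Nat.card (frattini G) := by
    have h2 : K.card = (Finset.univ.filter (fun x => x ∈ frattini G)).card - 1 :=
      Finset.card_erase_of_mem (Finset.mem_filter.mpr ⟨Finset.mem_univ _, hg⟩)
    have h1 : (Finset.univ.filter (fun x => x ∈ frattini G)).card = Nat.card (frattini G) := by
      rw [Nat.card_eq_fintype_card, Fintype.card_subtype]
    have : 0 < (Finset.univ.filter (fun x => x ∈ frattini G)).card :=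
      Finset.card_pos.mpr ⟨g, Finset.mem_filter.mpr ⟨Finset.mem_univ _, hg⟩⟩
    omega
  have hmul := (frattini G).card_mul_index
  rw [hidx, Nat.card_eq_fintype_card (α := G)] at hmul
  omega

/-- twisting by a linear character with values `±1` on the Frattini subgroup preserves
real-valuedness of characters fixed by the twists of the Frattini quotient -/
theorem real_twistBy (hG : IsPGroup 2 G) (φ : G →* ℂˣ)
    (hφ2 : ∀ b ∈ frattini G, φ b * φ b = 1) (χ : IrrCharacter G)
    (hfix : ∀ l : Cfsg.Agent.Lib.Helper42.Lam G, l • χ = χ)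
    (hreal : ∀ g, ((χ : G → ℂ) g).im = 0) (g : G) :
    (((twistBy φ χ : IrrCharacter G) : G → ℂ) g).im = 0 := by
  rw [twistBy_apply]
  by_cases hg : g ∈ frattini G
  · have h2 : ((φ g : ℂˣ) : ℂ) * ((φ g : ℂˣ) : ℂ) = 1 := by
      rw [← Units.val_mul, hφ2 g hg, Units.val_one]
    rcases mul_self_eq_one_iff.mp h2 with h | h <;> rw [h] <;> simp [hreal g]
  · rw [vanish_off_frattini hG χ hfix g hg, zero_mul]
    rfl

omit [Fintype G] in
/-- if the Frattini subgroup is not inside the derived subgroup, there is a linear character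
with values `±1` on the Frattini subgroup and not trivial there -/
theorem exists_hom_order_four [Finite G] (hG : IsPGroup 2 G)
    (hlt : ¬ frattini G ≤ commutator G) :
    ∃ φ : G →* ℂˣ, (∀ b ∈ frattini G, φ b * φ b = 1) ∧ ∃ b ∈ frattini G, φ b ≠ 1 := by
  classical
  obtain ⟨b, hbΦ, hbG'⟩ := SetLike.not_le_iff_exists.mp hlt
  have hne : (Abelianization.of b : Abelianization G) ≠ 1 := by
    intro h
    apply hbG'
    rw [← Abelianization.ker_of, MonoidHom.mem_ker]
    exact h
  obtain ⟨ψ, hψ⟩ :=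
    CommGroup.exists_apply_ne_one_of_hasEnoughRootsOfUnity (Abelianization G) ℂ hne
  set μ : G →* ℂˣ := ψ.comp Abelianization.of with hμ
  obtain ⟨n, hn⟩ := hG.exists_card_eq
  have hμn : ∀ x, μ x ^ (2 ^ n) = 1 := by
    intro x
    rw [← map_pow, ← hn, pow_card_eq_one', map_one]
  have hex : ∃ k, ∀ x ∈ frattini G, μ x ^ (2 ^ k) = 1 := ⟨n, fun x _ => hμn x⟩
  have hk := Nat.find_spec hex
  have hk0 : Nat.find hex ≠ 0 := by
    intro h0
    have := hk b hbΦ
    rw [h0, pow_zero, pow_one] at this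
    exact hψ this
  obtain ⟨k', hk'⟩ := Nat.exists_eq_succ_of_ne_zero hk0
  have hmin := Nat.find_min hex (m := k') (by omega)
  push Not at hmin
  obtain ⟨b', hb'Φ, hb'⟩ := hmin
  refine ⟨μ ^ (2 ^ k'), ?_, b', hb'Φ, ?_⟩
  · intro x hx
    have := hk x hx
    rw [hk', pow_succ, pow_mul, pow_two] at this
    rw [MonoidHom.pow_apply]
    exact this
  · rwa [MonoidHom.pow_apply]

end Twist

end Cfsg.Agent.Lib.Helper72
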