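/-
K-S1378-L1a (keystone 137802, architect helper15): step 1 of BG 13.9: `S ≤ M_σ`, `S ≠ 1`, `S` abelian,
`S ∩ (M_σ)' = 1`, `p ∉ α(M) ∪ β(M)`.
-/
import Mathlib
import Cfsg.Agent.Lib.Helper15.BG139Defs
import Cfsg.Agent.Lib.Helper55.BG134G9
import Cfsg.Agent.Lib.Helper31.BG12a
import Cfsg.Agent.Lib.Helper71.BG10Sub

set_option autoImplicit false

namespace Cfsg.Agent.Lib.Helper72.BG139

open Cfsg Cfsg.Agent.Lib.Helper55 Cfsg.Agent.Lib.Helper31.BG134 Cfsg.Agent.Lib.Helper15.BG139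

variable {G : Type*} [Group G] [Finite G]

theorem Cfg.basic {M N S : Subgroup G} {p : ℕ} (c : Cfg M N S p) :
    S ≤ sigmaCore M ∧ S ≠ ⊥ ∧ (∀ a ∈ S, ∀ b ∈ S, a * b = b * a) ∧
      S ⊓ ⁅sigmaCore M, sigmaCore M⁆ = ⊥ ∧ p ∉ alpha M ∧ p ∉ beta M := by
  have hp : p.Prime := c.hpM.1
  have : Fact p.Prime := ⟨hp⟩
  obtain ⟨hβ, hcomm, hab⟩ :=
    Cfsg.Agent.Lib.Helper55.BG134.comm_of_sigma_sigma c.hG c.hM c.hN c.hnc c.hpM c.hpN
  have hSp : IsPGroup p S := c.hS.2.1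
  have hSM : S ≤ M := (Subgroup.le_normalizer.trans c.hNS).trans inf_le_left
  have hHall := (Cfsg.Agent.S1350.result c.hG M c.hM).1
  have hMσ : M ≤ Subgroup.normalizer (sigmaCore M : Set G) :=
    Cfsg.Agent.Lib.Helper31.le_normalizer_piCoreOf (sigma M) M
  have hSσ : S ≤ sigmaCore M := by
    refine Cfsg.Agent.Lib.Helper71.BG10.le_of_isPiHallOf_normal hHall hMσ hSM ?_
    intro r hr hrS
    obtain ⟨n, hn⟩ := IsPGroup.iff_card.mp hSp
    rw [hn] at hrS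
    have : r = p := (Nat.prime_dvd_prime_iff_eq hr hp).mp (hr.dvd_of_dvd_pow hrS)
    rw [this]
    exact c.hpM
  have hS1 : S ≠ ⊥ := by
    intro h0
    have hdvd : p ∣ Nat.card M := c.hpM.2.1
    obtain ⟨x, hx⟩ := exists_prime_orderOf_dvd_card' p hdvd
    have hZq : IsPGroup p ↥(Subgroup.zpowers (x : G)) :=
      IsPGroup.of_card (n := 1) (by rw [Nat.card_zpowers, Subgroup.orderOf_coe, hx, pow_one])
    -- `S ⊔ zpowers x`?  use maximality of `S = ⊥`: `⊥ ≤ zpowers x`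
    have h1 := c.hS.2.2 (Subgroup.zpowers (x : G)) le_top hZq (by rw [h0]; exact bot_le)
    rw [h0] at h1
    have h4 : Nat.card ↥(Subgroup.zpowers (x : G)) = 1 := by rw [h1, Subgroup.card_bot]
    rw [Nat.card_zpowers, Subgroup.orderOf_coe, hx] at h4
    exact hp.one_lt.ne' h4
  refine ⟨hSσ, hS1, hab S hSM hSp, ?_, ?_, hβ⟩
  · -- `S ⊓ (M_σ)'` is a `p`-group of order prime to `p`
    rw [eq_bot_iff]
    intro x hx
    rw [Subgroup.mem_bot]
    have hxS : x ∈ S := hx.1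
    have hxC : x ∈ ⁅sigmaCore M, sigmaCore M⁆ := hx.2
    obtain ⟨k, hk⟩ := (IsPGroup.iff_orderOf.mp hSp) ⟨x, hxS⟩
    rw [Subgroup.orderOf_mk] at hk
    have hdvd : orderOf x ∣ Nat.card ↥⁅sigmaCore M, sigmaCore M⁆ :=
      Subgroup.orderOf_dvd_natCard _ hxC
    rcases Nat.eq_zero_or_pos k with rfl | hkpos
    · rw [pow_zero, orderOf_eq_one_iff] at hk
      exact hk
    · exfalso
      apply hcomm
      refine dvd_trans ?_ hdvd
      rw [hk]
      exact dvd_pow_self p hkpos.ne'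
  · intro hα
    exact Cfsg.Agent.Lib.Helper31.BG12.alpha_sigma_disjoint c.hG c.hM c.hN c.hnc hα c.hpN

end Cfsg.Agent.Lib.Helper72.BG139
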