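import Mathlib

/-!
# K-153-G (keystone 143807, pack of helper32 for S1438): Hall subgroups over `Q` of the same order coincide when
`N / Q` is nilpotent
-/

set_option autoImplicit false
set_option linter.style.haveILetI false
set_option linter.unusedSectionVars false
set_option linter.unusedVariables false

namespace Cfsg.Agent.Lib.Helper72.BG153

open Subgroup
open scoped Pointwise

variable {G : Type*} [Group G] [Finite G]

/-- a normal Hall subgroup of `L` contains every subgroup of `L` of its order -/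
theorem le_of_normal_hall {L A A' : Subgroup G} (hAL : A ≤ L) (hLn : L ≤ normalizer (A : Set G)) (hA'L : A' ≤ L)
    (hcop : (Nat.card A).Coprime (A.relIndex L)) (hcard : Nat.card A' = Nat.card A) : A' ≤ A := by
  haveI : (A.subgroupOf L).Normal := (Subgroup.normal_subgroupOf_iff_le_normalizer hAL).mpr hLn
  have h1 : (A.subgroupOf L).relIndex (A'.subgroupOf L) ∣ (A.subgroupOf L).index :=
    Subgroup.relIndex_dvd_index_of_normal _ _
  have h2 : (A.subgroupOf L).relIndex (A'.subgroupOf L) ∣ Nat.card (A'.subgroupOf L) :=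
    Subgroup.relIndex_dvd_card _ _
  have h3 : Nat.card (A'.subgroupOf L) = Nat.card A := by
    rw [← hcard]
    exact Nat.card_congr (Subgroup.subgroupOfEquivOfLe hA'L).toEquiv
  rw [h3] at h2
  have h4 : (A.subgroupOf L).relIndex (A'.subgroupOf L) = 1 := by
    have := Nat.dvd_gcd h2 h1
    have hc : Nat.gcd (Nat.card A) (A.subgroupOf L).index = 1 := hcop
    rw [hc] at this
    exact Nat.dvd_one.mp this
  have h5 : A'.subgroupOf L ≤ A.subgroupOf L := Subgroup.relIndex_eq_one.mp h4
  intro a ha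
  have : (⟨a, hA'L ha⟩ : L) ∈ A.subgroupOf L := h5 (by rw [Subgroup.mem_subgroupOf]; exact ha)
  rw [Subgroup.mem_subgroupOf] at this
  exact this

/-- the normalizer condition above `Q` -/
theorem exists_normalizing_of_lt {N Q D L : Subgroup G} (hQN : Q ≤ N)
    (hQn : N ≤ normalizer (Q : Set G)) (hD : Group.IsNilpotent D) (hQD : Q ⊔ D = N)
    (hQL : Q ≤ L) (hLN : L ≤ N) (hne : ¬ N ≤ L) :
    ∃ z ∈ N, z ∉ L ∧ ∀ l ∈ L, z * l * z⁻¹ ∈ L := by
  haveI hnorm : (Q.subgroupOf N).Normal := (Subgroup.normal_subgroupOf_iff_le_normalizer hQN).mpr hQn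
  have hDN : D ≤ N := by rw [← hQD]; exact le_sup_right
  let π : N →* (N ⧸ Q.subgroupOf N) := QuotientGroup.mk' (Q.subgroupOf N)
  have hker : ∀ a b : N, π a = π b → a⁻¹ * b ∈ Q.subgroupOf N := by
    intro a b hab
    exact QuotientGroup.eq.mp hab
  -- the quotient is nilpotent
  have hsup : Q.subgroupOf N ⊔ D.subgroupOf N = ⊤ := by
    rw [← Subgroup.subgroupOf_sup hQN hDN, hQD, Subgroup.subgroupOf_self]
  let f : D →* (N ⧸ Q.subgroupOf N) := π.comp (Subgroup.inclusion hDN)
  have hf : Function.Surjective f := by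
    intro y
    obtain ⟨n, rfl⟩ := QuotientGroup.mk'_surjective (Q.subgroupOf N) y
    have hn : n ∈ Q.subgroupOf N ⊔ D.subgroupOf N := by rw [hsup]; exact Subgroup.mem_top n
    have hmul : (↑(Q.subgroupOf N ⊔ D.subgroupOf N) : Set N) =
        (↑(Q.subgroupOf N) : Set N) * (↑(D.subgroupOf N) : Set N) :=
      Subgroup.normal_mul _ _
    have hn' : n ∈ ((↑(Q.subgroupOf N) : Set N) * (↑(D.subgroupOf N) : Set N)) := by
      rw [← hmul]; exact hn
    obtain ⟨q, hq, d, hd, rfl⟩ := Set.mem_mul.mp hn'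
    refine ⟨⟨(d : G), Subgroup.mem_subgroupOf.mp hd⟩, ?_⟩
    show π (Subgroup.inclusion hDN ⟨(d : G), _⟩) = π (q * d)
    have hq1 : π q = 1 := (QuotientGroup.eq_one_iff q).mpr hq
    rw [map_mul, hq1, one_mul]
    congr 1
  haveI : Group.IsNilpotent (N ⧸ Q.subgroupOf N) := Group.nilpotent_of_surjective f hf
  -- the image of `L`
  let Lbar : Subgroup (N ⧸ Q.subgroupOf N) := (L.subgroupOf N).map π
  have hQL' : Q.subgroupOf N ≤ L.subgroupOf N := by
    intro x hx
    rw [Subgroup.mem_subgroupOf] at hx ⊢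
    exact hQL hx
  have hmem : ∀ n : N, π n ∈ Lbar → n ∈ L.subgroupOf N := by
    intro n hn
    obtain ⟨l, hl, hln⟩ := hn
    have h1 := hQL' (hker l n hln)
    have : n = l * (l⁻¹ * n) := by group
    rw [this]
    exact mul_mem hl h1
  have hLbar : Lbar < ⊤ := by
    rw [lt_top_iff_ne_top]
    intro htop
    apply hne
    intro n hn
    have : (⟨n, hn⟩ : N) ∈ L.subgroupOf N := hmem _ (by rw [htop]; exact Subgroup.mem_top _)
    rw [Subgroup.mem_subgroupOf] at this
    exact this
  have hNC := Group.normalizerCondition_of_isNilpotent (G := N ⧸ Q.subgroupOf N) Lbar hLbar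
  obtain ⟨ybar, hyn, hyL⟩ := SetLike.exists_of_lt hNC
  obtain ⟨y, rfl⟩ := QuotientGroup.mk'_surjective (Q.subgroupOf N) ybar
  refine ⟨(y : G), y.2, ?_, ?_⟩
  · intro hyL'
    apply hyL
    exact ⟨y, Subgroup.mem_subgroupOf.mpr hyL', rfl⟩
  · intro l hl
    have hl' : (⟨l, hLN hl⟩ : N) ∈ L.subgroupOf N := by rw [Subgroup.mem_subgroupOf]; exact hl
    have h1 : π (y * ⟨l, hLN hl⟩ * y⁻¹) ∈ Lbar := by
      rw [map_mul, map_mul, map_inv]
      exact (Subgroup.mem_normalizer_iff.mp hyn _).mp ⟨_, hl', rfl⟩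
    have h2 := hmem _ h1
    rw [Subgroup.mem_subgroupOf] at h2
    exact h2

/-- **K-153-G** (143807). -/
theorem eq_of_hall_over {N Q D T T' : Subgroup G} (hQN : Q ≤ N)
    (hQn : N ≤ Subgroup.normalizer (Q : Set G)) (hD : Group.IsNilpotent D) (hQD : Q ⊔ D = N)
    (hQT : Q ≤ T) (hTN : T ≤ N) (hQT' : Q ≤ T') (hT'N : T' ≤ N)
    (hHall : (Nat.card T).Coprime (T.relIndex N)) (hcard : Nat.card T' = Nat.card T) :
    T' = T := by
  -- `T` is normal in `N`
  have hnormal : N ≤ normalizer (T : Set G) := by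
    by_contra hcon
    let L : Subgroup G := N ⊓ normalizer (T : Set G)
    have hTL : T ≤ L := le_inf hTN Subgroup.le_normalizer
    have hLN : L ≤ N := inf_le_left
    have hne : ¬ N ≤ L := fun h => hcon (le_trans h inf_le_right)
    obtain ⟨z, hzN, hzL, hz⟩ := exists_normalizing_of_lt hQN hQn hD hQD (le_trans hQT hTL) hLN hne
    apply hzL
    refine ⟨hzN, ?_⟩
    -- `z T z⁻¹ ≤ T`
    have hmapL : T.map (MulAut.conj z).toMonoidHom ≤ L := by
      rintro _ ⟨t, ht, rfl⟩
      exact hz t (hTL ht)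
    have hcardmap : Nat.card (T.map (MulAut.conj z).toMonoidHom) = Nat.card T :=
      Subgroup.card_map_of_injective (MulAut.conj z).injective
    have hcopL : (Nat.card T).Coprime (T.relIndex L) := by
      have h1 : T.relIndex L * L.relIndex N = T.relIndex N := Subgroup.relIndex_mul_relIndex T L N hTL hLN
      exact Nat.Coprime.coprime_dvd_right (Dvd.intro _ h1) hHall
    have hle : T.map (MulAut.conj z).toMonoidHom ≤ T :=
      le_of_normal_hall hTL inf_le_right hmapL hcopL hcardmap
    have heq : T.map (MulAut.conj z).toMonoidHom = T :=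
      Subgroup.eq_of_le_of_card_ge hle (le_of_eq hcardmap.symm)
    show z ∈ normalizer (T : Set G)
    rw [Subgroup.mem_normalizer_iff]
    intro h
    constructor
    · intro hh
      have : z * h * z⁻¹ ∈ T.map (MulAut.conj z).toMonoidHom := ⟨h, hh, rfl⟩
      rwa [heq] at this
    · intro hh
      rw [← heq] at hh
      obtain ⟨t, ht, hth⟩ := hh
      have : t = h := by
        have h1 : z * t * z⁻¹ = z * h * z⁻¹ := hth
        have h2 : t = z⁻¹ * (z * t * z⁻¹) * z := by group
        rw [h2, h1]; group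
      rw [← this]; exact ht
  have hle : T' ≤ T := le_of_normal_hall hTN hnormal hT'N hHall hcard
  exact Subgroup.eq_of_le_of_card_ge hle (le_of_eq hcard.symm)

end Cfsg.Agent.Lib.Helper72.BG153
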