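import Mathlib

/-!
Index-two extension of partial homomorphisms, and the resulting recognition principle:
a finite group with a central subgroup `Z` containing all commutators, generated over `Z` by
`u 0, …, u (n-1)` with squares in `Z` and of order `2 ^ n * |Z|`, maps homomorphically to any
group in which the corresponding squares and commutators are matched.
-/

set_option autoImplicit false

open scoped commutatorElement

namespace Cfsg.Agent.Lib.Helper72.ExtTwo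

variable {P₁ P₂ : Type*} [Group P₁] [Group P₂]

/-- `F` is multiplicative on the subgroup `Q` -/
def MulOn (F : P₁ → P₂) (Q : Subgroup P₁) : Prop :=
  ∀ a ∈ Q, ∀ b ∈ Q, F (a * b) = F a * F b

theorem MulOn.map_one {F : P₁ → P₂} {Q : Subgroup P₁} (h : MulOn F Q) : F 1 = 1 := by
  have h1 := h 1 Q.one_mem 1 Q.one_mem
  rw [mul_one] at h1
  exact (left_eq_mul.mp h1)

theorem MulOn.map_inv {F : P₁ → P₂} {Q : Subgroup P₁} (h : MulOn F Q) {a : P₁} (ha : a ∈ Q) :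
    F a⁻¹ = (F a)⁻¹ := by
  have h1 := h a ha a⁻¹ (Q.inv_mem ha)
  rw [mul_inv_cancel, h.map_one] at h1
  exact eq_inv_of_mul_eq_one_right h1.symm

theorem MulOn.mono {F : P₁ → P₂} {Q Q' : Subgroup P₁} (h : MulOn F Q) (hle : Q' ≤ Q) :
    MulOn F Q' := fun a ha b hb => h a (hle ha) b (hle hb)

open Classical in
/-- the extension of `F` from `Q` to `Q ⊔ ⟨v⟩` sending `v` to `v₂` -/
noncomputable def ext (F : P₁ → P₂) (Q : Subgroup P₁) (v : P₁) (v₂ : P₂) : P₁ → P₂ :=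
  fun x => if x ∈ Q then F x else F (x * v⁻¹) * v₂

theorem ext_of_mem {F : P₁ → P₂} {Q : Subgroup P₁} {v : P₁} {v₂ : P₂} {x : P₁} (hx : x ∈ Q) :
    ext F Q v v₂ x = F x := if_pos hx

theorem ext_of_not_mem {F : P₁ → P₂} {Q : Subgroup P₁} {v : P₁} {v₂ : P₂} {x : P₁}
    (hx : x ∉ Q) : ext F Q v v₂ x = F (x * v⁻¹) * v₂ := if_neg hx

section

variable {Q : Subgroup P₁} {v : P₁}

theorem conj_inv_mem (hnorm : ∀ q ∈ Q, v * q * v⁻¹ ∈ Q) (hsq : v * v ∈ Q) {q : P₁} (hq : q ∈ Q) :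
    v⁻¹ * q * v ∈ Q := by
  have h1 : v⁻¹ * q * v = (v * v)⁻¹ * (v * q * v⁻¹) * (v * v) := by group
  rw [h1]
  exact Q.mul_mem (Q.mul_mem (Q.inv_mem hsq) (hnorm q hq)) hsq

/-- the subgroup `Q ∪ Q v` -/
def twoCoset (Q : Subgroup P₁) (v : P₁) (hnorm : ∀ q ∈ Q, v * q * v⁻¹ ∈ Q) (hsq : v * v ∈ Q) :
    Subgroup P₁ where
  carrier := {x | x ∈ Q ∨ x * v⁻¹ ∈ Q}
  one_mem' := Or.inl Q.one_mem
  mul_mem' := by
    rintro x y (hx | hx) (hy | hy)
    · exact Or.inl (Q.mul_mem hx hy)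
    · right
      have : x * y * v⁻¹ = x * (y * v⁻¹) := by group
      rw [this]
      exact Q.mul_mem hx hy
    · right
      have : x * y * v⁻¹ = (x * v⁻¹) * (v * y * v⁻¹) := by group
      rw [this]
      exact Q.mul_mem hx (hnorm y hy)
    · left
      have : x * y = (x * v⁻¹) * (v * (y * v⁻¹) * v⁻¹) * (v * v) := by group
      rw [this]
      exact Q.mul_mem (Q.mul_mem hx (hnorm _ hy)) hsq
  inv_mem' := by
    rintro x (hx | hx)
    · exact Or.inl (Q.inv_mem hx)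
    · right
      have : x⁻¹ * v⁻¹ = (v⁻¹ * (x * v⁻¹)⁻¹ * v) * (v * v)⁻¹ := by group
      rw [this]
      exact Q.mul_mem (conj_inv_mem hnorm hsq (Q.inv_mem hx)) (Q.inv_mem hsq)

theorem mem_or_of_mem_sup (hnorm : ∀ q ∈ Q, v * q * v⁻¹ ∈ Q) (hsq : v * v ∈ Q) {x : P₁}
    (hx : x ∈ Q ⊔ Subgroup.zpowers v) : x ∈ Q ∨ x * v⁻¹ ∈ Q := by
  have h1 : Q ⊔ Subgroup.zpowers v ≤ twoCoset Q v hnorm hsq := by
    apply sup_le
    · intro q hq
      exact Or.inl hq
    · rw [Subgroup.zpowers_le]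
      right
      rw [mul_inv_cancel]
      exact Q.one_mem
  exact h1 hx

theorem mulOn_ext {F : P₁ → P₂} {v₂ : P₂} (hF : MulOn F Q) (hv : v ∉ Q)
    (hnorm : ∀ q ∈ Q, v * q * v⁻¹ ∈ Q) (hsq : v * v ∈ Q) (hsq2 : F (v * v) = v₂ * v₂)
    (hconj : ∀ q ∈ Q, F (v * q * v⁻¹) = v₂ * F q * v₂⁻¹) :
    MulOn (ext F Q v v₂) (Q ⊔ Subgroup.zpowers v) := by
  have hvinv : v⁻¹ ∉ Q := fun h => hv (by simpa using Q.inv_mem h)
  intro a ha b hb
  by_cases haQ : a ∈ Q
  · by_cases hbQ : b ∈ Q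
    · rw [ext_of_mem (Q.mul_mem haQ hbQ), ext_of_mem haQ, ext_of_mem hbQ]
      exact hF a haQ b hbQ
    · have hq : b * v⁻¹ ∈ Q := (mem_or_of_mem_sup hnorm hsq hb).resolve_left hbQ
      have hab : a * b ∉ Q := by
        intro h
        apply hbQ
        have : b = a⁻¹ * (a * b) := by group
        rw [this]
        exact Q.mul_mem (Q.inv_mem haQ) h
      rw [ext_of_not_mem hab, ext_of_mem haQ, ext_of_not_mem hbQ]
      have : a * b * v⁻¹ = a * (b * v⁻¹) := by group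
      rw [this, hF a haQ _ hq, mul_assoc]
  · have hp : a * v⁻¹ ∈ Q := (mem_or_of_mem_sup hnorm hsq ha).resolve_left haQ
    by_cases hbQ : b ∈ Q
    · have hab : a * b ∉ Q := by
        intro h
        apply haQ
        have : a = (a * b) * b⁻¹ := by group
        rw [this]
        exact Q.mul_mem h (Q.inv_mem hbQ)
      rw [ext_of_not_mem hab, ext_of_not_mem haQ, ext_of_mem hbQ]
      have : a * b * v⁻¹ = (a * v⁻¹) * (v * b * v⁻¹) := by group
      rw [this, hF _ hp _ (hnorm b hbQ), hconj b hbQ]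
      group
    · have hq : b * v⁻¹ ∈ Q := (mem_or_of_mem_sup hnorm hsq hb).resolve_left hbQ
      have hab : a * b = (a * v⁻¹) * (v * (b * v⁻¹) * v⁻¹) * (v * v) := by group
      have habQ : a * b ∈ Q := by
        rw [hab]
        exact Q.mul_mem (Q.mul_mem hp (hnorm _ hq)) hsq
      rw [ext_of_mem habQ, ext_of_not_mem haQ, ext_of_not_mem hbQ, hab,
        hF _ (Q.mul_mem hp (hnorm _ hq)) _ hsq, hF _ hp _ (hnorm _ hq), hconj _ hq, hsq2]
      group

theorem ext_eq_of_mem {F : P₁ → P₂} {v₂ : P₂} {x : P₁} (hx : x ∈ Q) :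
    ext F Q v v₂ x = F x := ext_of_mem hx

theorem ext_self {F : P₁ → P₂} {v₂ : P₂} (hF : MulOn F Q) (hv : v ∉ Q) :
    ext F Q v v₂ v = v₂ := by
  rw [ext_of_not_mem hv, mul_inv_cancel, hF.map_one, one_mul]

theorem card_sup_le [Finite P₁] (hnorm : ∀ q ∈ Q, v * q * v⁻¹ ∈ Q) (hsq : v * v ∈ Q) :
    Nat.card ↥(Q ⊔ Subgroup.zpowers v) ≤ 2 * Nat.card ↥Q := by
  classical
  have h1 : ((Q ⊔ Subgroup.zpowers v : Subgroup P₁) : Set P₁) ⊆
      (Q : Set P₁) ∪ (fun x => x * v) '' (Q : Set P₁) := by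
    intro x hx
    rcases mem_or_of_mem_sup hnorm hsq hx with h | h
    · exact Or.inl h
    · right
      exact ⟨x * v⁻¹, h, by group⟩
  have h2 : Nat.card ↥(Q ⊔ Subgroup.zpowers v) =
      ((Q ⊔ Subgroup.zpowers v : Subgroup P₁) : Set P₁).ncard := (Nat.card_coe_set_eq _)
  have h3 : Nat.card ↥Q = (Q : Set P₁).ncard := (Nat.card_coe_set_eq _)
  rw [h2, h3]
  calc ((Q ⊔ Subgroup.zpowers v : Subgroup P₁) : Set P₁).ncard
      ≤ ((Q : Set P₁) ∪ (fun x => x * v) '' (Q : Set P₁)).ncard :=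
        Set.ncard_le_ncard h1 (Set.toFinite _)
    _ ≤ (Q : Set P₁).ncard + ((fun x => x * v) '' (Q : Set P₁)).ncard := Set.ncard_union_le _ _
    _ ≤ (Q : Set P₁).ncard + (Q : Set P₁).ncard :=
        Nat.add_le_add_left (Set.ncard_image_le (Set.toFinite _)) _
    _ = 2 * (Q : Set P₁).ncard := by ring

end

/-! ### The chain of subgroups -/

variable (Z : Subgroup P₁) (u : ℕ → P₁)

/-- the subgroup generated by `Z` and `u 0, …, u (k-1)` -/
def Qk (k : ℕ) : Subgroup P₁ := Subgroup.closure ((Z : Set P₁) ∪ {x | ∃ i < k, x = u i})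

theorem Z_le_Qk (k : ℕ) : Z ≤ Qk Z u k := fun _ hz => Subgroup.subset_closure (Or.inl hz)

theorem u_mem_Qk {i k : ℕ} (h : i < k) : u i ∈ Qk Z u k :=
  Subgroup.subset_closure (Or.inr ⟨i, h, rfl⟩)

theorem Qk_zero : Qk Z u 0 = Z := by
  unfold Qk
  have : {x : P₁ | ∃ i < 0, x = u i} = ∅ := by
    ext x; simp
  rw [this, Set.union_empty, Subgroup.closure_eq]

theorem Qk_succ (k : ℕ) : Qk Z u (k + 1) = Qk Z u k ⊔ Subgroup.zpowers (u k) := by
  apply le_antisymm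
  · unfold Qk
    rw [Subgroup.closure_le]
    rintro x (hx | ⟨i, hi, rfl⟩)
    · exact (le_sup_left : Qk Z u k ≤ _) (Z_le_Qk Z u k hx)
    · rcases Nat.lt_succ_iff_lt_or_eq.mp hi with h | h
      · exact (le_sup_left : Qk Z u k ≤ _) (u_mem_Qk Z u h)
      · rw [h]
        exact (le_sup_right : Subgroup.zpowers (u k) ≤ _) (Subgroup.mem_zpowers _)
  · apply sup_le
    · unfold Qk
      apply Subgroup.closure_mono
      rintro x (hx | ⟨i, hi, rfl⟩)
      · exact Or.inl hx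
      · exact Or.inr ⟨i, Nat.lt_succ_of_lt hi, rfl⟩
    · rw [Subgroup.zpowers_le]
      exact u_mem_Qk Z u (Nat.lt_succ_self k)

variable {Z u}

theorem conj_mem_of_comm_mem (hZc : ∀ a b : P₁, ⁅a, b⁆ ∈ Z) {Q : Subgroup P₁} (hZQ : Z ≤ Q)
    (v : P₁) {q : P₁} (hq : q ∈ Q) : v * q * v⁻¹ ∈ Q := by
  have : v * q * v⁻¹ = ⁅v, q⁆ * q := by
    rw [commutatorElement_def]; group
  rw [this]
  exact Q.mul_mem (hZQ (hZc v q)) hq

theorem card_Qk_succ_le [Finite P₁] (hZc : ∀ a b : P₁, ⁅a, b⁆ ∈ Z) (hsq : ∀ k, u k * u k ∈ Z)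
    (k : ℕ) : Nat.card ↥(Qk Z u (k + 1)) ≤ 2 * Nat.card ↥(Qk Z u k) := by
  rw [Qk_succ]
  exact card_sup_le (fun q hq => conj_mem_of_comm_mem hZc (Z_le_Qk Z u k) (u k) hq)
    (Z_le_Qk Z u k (hsq k))

theorem card_Qk_add_le [Finite P₁] (hZc : ∀ a b : P₁, ⁅a, b⁆ ∈ Z) (hsq : ∀ k, u k * u k ∈ Z)
    (k j : ℕ) : Nat.card ↥(Qk Z u (k + j)) ≤ 2 ^ j * Nat.card ↥(Qk Z u k) := by
  induction j with
  | zero => simp
  | succ j ih =>
    calc Nat.card ↥(Qk Z u (k + (j + 1))) ≤ 2 * Nat.card ↥(Qk Z u (k + j)) :=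
          card_Qk_succ_le hZc hsq (k + j)
      _ ≤ 2 * (2 ^ j * Nat.card ↥(Qk Z u k)) := Nat.mul_le_mul_left _ ih
      _ = 2 ^ (j + 1) * Nat.card ↥(Qk Z u k) := by ring

theorem u_not_mem_Qk [Finite P₁] (hZc : ∀ a b : P₁, ⁅a, b⁆ ∈ Z) (hsq : ∀ k, u k * u k ∈ Z)
    {n : ℕ} (htop : Qk Z u n = ⊤) (hcard : Nat.card P₁ = 2 ^ n * Nat.card ↥Z) {k : ℕ}
    (hk : k < n) : u k ∉ Qk Z u k := by
  intro hmem
  have h1 : Qk Z u (k + 1) = Qk Z u k := by
    rw [Qk_succ]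
    apply sup_eq_left.mpr
    rw [Subgroup.zpowers_le]
    exact hmem
  obtain ⟨j, rfl⟩ : ∃ j, n = (k + 1) + j := ⟨n - (k + 1), by omega⟩
  have h2 := card_Qk_add_le hZc hsq (k + 1) j
  have h3 := card_Qk_add_le hZc hsq 0 k
  rw [zero_add, Qk_zero] at h3
  rw [htop, h1] at h2
  have h4 : Nat.card ↥(⊤ : Subgroup P₁) = Nat.card P₁ := Subgroup.card_top
  rw [h4, hcard] at h2
  have hZpos : 0 < Nat.card ↥Z := Nat.card_pos
  have h5 : 2 ^ (k + 1 + j) * Nat.card ↥Z ≤ 2 ^ j * (2 ^ k * Nat.card ↥Z) :=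
    le_trans h2 (Nat.mul_le_mul_left _ h3)
  have h6 : 2 ^ (k + 1 + j) * Nat.card ↥Z = 2 * (2 ^ j * (2 ^ k * Nat.card ↥Z)) := by
    rw [pow_add, pow_add]; ring
  have h7 : 0 < 2 ^ j * (2 ^ k * Nat.card ↥Z) := by positivity
  omega

/-! ### The recognition principle -/

theorem exists_hom [Finite P₁] (hZc : ∀ a b : P₁, ⁅a, b⁆ ∈ Z)
    (hZcen : ∀ z ∈ Z, ∀ y : P₁, y * z = z * y)
    (hsq : ∀ k, u k * u k ∈ Z) {n : ℕ} (htop : Qk Z u n = ⊤)
    (hcard : Nat.card P₁ = 2 ^ n * Nat.card ↥Z)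
    (ι : P₁ → P₂) (hι : MulOn ι Z) (hιc : ∀ z ∈ Z, ∀ y : P₂, y * ι z = ι z * y)
    (u' : ℕ → P₂) (hs : ∀ k < n, ι (u k * u k) = u' k * u' k)
    (hc : ∀ k < n, ∀ i < k, ι ⁅u k, u i⁆ = ⁅u' k, u' i⁆) :
    ∃ f : P₁ →* P₂, (∀ z ∈ Z, f z = ι z) ∧ ∀ i < n, f (u i) = u' i := by
  have key : ∀ k ≤ n, ∃ F : P₁ → P₂, MulOn F (Qk Z u k) ∧ (∀ z ∈ Z, F z = ι z) ∧
      ∀ i < k, F (u i) = u' i := by
    intro k
    induction k with
    | zero =>
      intro _
      refine ⟨ι, ?_, fun _ _ => rfl, fun i hi => absurd hi (Nat.not_lt_zero i)⟩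
      rw [Qk_zero]
      exact hι
    | succ k ih =>
      intro hk
      obtain ⟨F, hF, hFZ, hFu⟩ := ih (Nat.le_of_succ_le hk)
      have hkn : k < n := hk
      have hv : u k ∉ Qk Z u k := u_not_mem_Qk hZc hsq htop hcard hkn
      have hnorm : ∀ q ∈ Qk Z u k, u k * q * (u k)⁻¹ ∈ Qk Z u k :=
        fun q hq => conj_mem_of_comm_mem hZc (Z_le_Qk Z u k) (u k) hq
      have hsqk : u k * u k ∈ Qk Z u k := Z_le_Qk Z u k (hsq k)
      have hsq2 : F (u k * u k) = u' k * u' k := by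
        rw [hFZ _ (hsq k), hs k hkn]
      have hconj : ∀ q ∈ Qk Z u k, F (u k * q * (u k)⁻¹) = u' k * F q * (u' k)⁻¹ := by
        intro q hq
        unfold Qk at hq
        induction hq using Subgroup.closure_induction with
        | mem x hx =>
          rcases hx with hx | ⟨i, hi, rfl⟩
          · have h1 : u k * x * (u k)⁻¹ = x := by
              rw [hZcen x hx (u k), mul_inv_cancel_right]
            rw [h1, hFZ x hx, hιc x hx (u' k), mul_inv_cancel_right]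
          · have h1 : u k * u i * (u k)⁻¹ = ⁅u k, u i⁆ * u i := by
              rw [commutatorElement_def]; group
            have h2 : u' k * u' i * (u' k)⁻¹ = ⁅u' k, u' i⁆ * u' i := by
              rw [commutatorElement_def]; group
            rw [h1, hF _ (Z_le_Qk Z u k (hZc _ _)) _ (u_mem_Qk Z u hi), hFZ _ (hZc _ _),
              hc k hkn i hi, hFu i hi, h2]
        | one =>
          rw [mul_one, mul_inv_cancel, hF.map_one, mul_one, mul_inv_cancel]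
        | mul x y hx hy ihx ihy =>
          have hx' : x ∈ Qk Z u k := hx
          have hy' : y ∈ Qk Z u k := hy
          have h1 : u k * (x * y) * (u k)⁻¹ = (u k * x * (u k)⁻¹) * (u k * y * (u k)⁻¹) := by
            group
          rw [h1, hF _ (hnorm x hx') _ (hnorm y hy'), ihx, ihy, hF x hx' y hy']
          group
        | inv x hx ihx =>
          have hx' : x ∈ Qk Z u k := hx
          have h1 : u k * x⁻¹ * (u k)⁻¹ = (u k * x * (u k)⁻¹)⁻¹ := by group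
          rw [h1, hF.map_inv (hnorm x hx'), ihx, hF.map_inv hx']
          group
      refine ⟨ext F (Qk Z u k) (u k) (u' k), ?_, ?_, ?_⟩
      · rw [Qk_succ]
        exact mulOn_ext hF hv hnorm hsqk hsq2 hconj
      · intro z hz
        rw [ext_of_mem (Z_le_Qk Z u k hz)]
        exact hFZ z hz
      · intro i hi
        rcases Nat.lt_succ_iff_lt_or_eq.mp hi with h | h
        · rw [ext_of_mem (u_mem_Qk Z u h)]
          exact hFu i h
        · rw [h]
          exact ext_self hF hv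
  obtain ⟨F, hF, hFZ, hFu⟩ := key n le_rfl
  rw [htop] at hF
  exact ⟨MonoidHom.mk' F (fun a b => hF a (Subgroup.mem_top a) b (Subgroup.mem_top b)), hFZ, hFu⟩

end Cfsg.Agent.Lib.Helper72.ExtTwo
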