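import Mathlib
import Cfsg.Prelude.Def_Solvable
import Cfsg.Agent.Lib.Helper96.FC91Defs

/-!
K-S4291-CYC (keystone 429106, architect helper96): a finite group with a normal cyclic `2`-subgroup containing its
own centralizer is a `2`-group.
-/

set_option autoImplicit false

namespace Cfsg.Agent.Lib.Helper72.FC91

open Cfsg

universe u

/-- K-CYC. -/
theorem isPGroup_two_of_cyclic_normal {K : Type u} [Group K] [Finite K] (T : Subgroup K) [T.Normal]
    (hT : IsPGroup 2 T) (hcyc : IsCyclic T) (hCT : Subgroup.centralizer (T : Set K) ≤ T) : IsPGroup 2 K := by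
  classical
  have : Fact (Nat.Prime 2) := ⟨Nat.prime_two⟩
  obtain ⟨k, hk⟩ := IsPGroup.iff_card.mp hT
  -- the conjugation action
  let f : K →* MulAut T := MulAut.conjNormal
  have hker : f.ker ≤ Subgroup.centralizer (T : Set K) := by
    intro g hg
    rw [MonoidHom.mem_ker] at hg
    rw [Subgroup.mem_centralizer_iff]
    intro t ht
    have h1 : (f g) ⟨t, ht⟩ = ⟨t, ht⟩ := by rw [hg]; rfl
    have h2 : ((f g) ⟨t, ht⟩ : K) = g * t * g⁻¹ := rfl
    have h3 : g * t * g⁻¹ = t := by rw [← h2, h1]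
    calc t * g = (g * t * g⁻¹) * g := by rw [h3]
      _ = g * t := by group
  -- the kernel is a `2`-group
  have hkerT : f.ker ≤ T := le_trans hker hCT
  have hker2 : IsPGroup 2 f.ker := by
    intro x
    obtain ⟨j, hj⟩ := hT ⟨x.1, hkerT x.2⟩
    refine ⟨j, ?_⟩
    apply Subtype.ext
    have := congrArg Subtype.val hj
    simpa using this
  -- the automorphism group of `T` is a `2`-group
  have haut : IsPGroup 2 (MulAut T) := by
    apply IsPGroup.of_card (n := k - 1)
    rw [IsCyclic.card_mulAut, hk]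
    rcases Nat.eq_zero_or_pos k with h0 | hpos
    · subst h0; simp
    · rw [Nat.totient_prime_pow Nat.prime_two hpos]; simp
  intro g
  obtain ⟨a, ha⟩ := haut (f g)
  have hga : g ^ 2 ^ a ∈ f.ker := by
    rw [MonoidHom.mem_ker, map_pow, ha]
  obtain ⟨b, hb⟩ := hker2 ⟨g ^ 2 ^ a, hga⟩
  refine ⟨a + b, ?_⟩
  have h1 := congrArg Subtype.val hb
  simp only [Subgroup.coe_pow, Subgroup.coe_one] at h1
  rw [pow_add, pow_mul]
  exact h1

end Cfsg.Agent.Lib.Helper72.FC91
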