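import Mathlib
import Cfsg.Agent.Lib.Helper62.Small120
import Cfsg.Agent.Lib.Helper67.FC91S5
import Cfsg.Agent.S0494

/-!
# K-G42: subgroups of `S_6` (and `S_5`) without solvable normal subgroups
-/

set_option autoImplicit false
set_option linter.style.haveILetI false
set_option linter.unusedSectionVars false

namespace Cfsg.Agent.Lib.Helper72.G42

open Cfsg.Agent.Lib.Helper62.Small120

universe u

/-- A proper subgroup of a simple group `S` has index `k` with `|S| ∣ k!`. -/
theorem card_dvd_factorial_index {S : Type u} [Group S] [Finite S] [IsSimpleGroup S]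
    (P : Subgroup S) (hP : P ≠ ⊤) : Nat.card S ∣ (P.index).factorial := by
  classical
  let φ := MulAction.toPermHom S (S ⧸ P)
  have hker : φ.ker = ⊥ := by
    have hn : (φ.ker).Normal := inferInstance
    rcases hn.eq_bot_or_eq_top with h | h
    · exact h
    · exfalso
      apply hP
      rw [eq_top_iff]
      have h1 : φ.ker ≤ P := by
        rw [← Subgroup.normalCore_eq_ker]
        exact Subgroup.normalCore_le P
      rw [h] at h1
      exact h1
  have hinj : Function.Injective φ := (MonoidHom.ker_eq_bot_iff φ).mp hker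
  have h1 : Nat.card S ∣ Nat.card (Equiv.Perm (S ⧸ P)) :=
    Subgroup.card_dvd_of_injective φ hinj
  have hfin : Finite (S ⧸ P) := inferInstance
  have h2 : Nat.card (Equiv.Perm (S ⧸ P)) = (Nat.card (S ⧸ P)).factorial := by
    haveI := Fintype.ofFinite (S ⧸ P)
    rw [Nat.card_eq_fintype_card, Fintype.card_perm, Nat.card_eq_fintype_card]
  rw [h2] at h1
  have h3 : Nat.card (S ⧸ P) = P.index := rfl
  rwa [h3] at h1

/-- Structure of a non-solvable subgroup `T` of `Perm (Fin n)` (`n = 5, 6`) not containing `A_n`, without solvable normal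
subgroups, given that proper subgroups of `A_n` of index `< 6`... : `T ≅ A_5` or `S_5`. Generic version: `A` a normal
subgroup of index 2 in the ambient group, `|T ⊓ A| ≤ 60`. -/
theorem iso_A5_or_S5 {X : Type u} [Group X] [Finite X] (A : Subgroup X) [A.Normal] (hA2 : A.index = 2)
    (T : Subgroup X) (hns : ¬ Group.IsSolvable ↥T)
    (hC : ∀ C : Subgroup ↥T, C.Normal → Group.IsSolvable ↥C → C = ⊥)
    (hle : Nat.card ↥(A.subgroupOf T) ≤ 60) :
    Nonempty (↥T ≃* ↥(alternatingGroup (Fin 5))) ∨ Nonempty (↥T ≃* Equiv.Perm (Fin 5)) := by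
  classical
  let Q : Subgroup ↥T := A.subgroupOf T
  have hQn : Q.Normal := Subgroup.Normal.subgroupOf inferInstance T
  -- index of Q divides 2
  have hQi : Q.index ∣ 2 := by
    have := Subgroup.relIndex_dvd_index_of_normal A T
    rw [hA2] at this
    exact this
  -- T / Q commutative
  have hquot : Group.IsSolvable (↥T ⧸ Q) := by
    have hcard : Nat.card (↥T ⧸ Q) ∣ 2 := hQi
    have hle2 : Nat.card (↥T ⧸ Q) ≤ 2 := Nat.le_of_dvd (by norm_num) hcard
    have hlt : Nat.card (↥T ⧸ Q) < 60 := by omega
    exact solvable_of_card_lt_sixty _ hlt (↥T ⧸ Q) rfl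
  have hQns : ¬ Group.IsSolvable ↥Q := fun h => hns (isSolvable_of_normal Q h hquot)
  have hQ60 : Nat.card ↥Q = 60 := by
    by_contra hne
    have hlt : Nat.card ↥Q < 60 := lt_of_le_of_ne hle hne
    exact hQns (solvable_of_card_lt_sixty _ hlt ↥Q rfl)
  have hQs : IsSimpleGroup ↥Q := isSimpleGroup_of_card_sixty hQ60 hQns
  obtain ⟨e⟩ := Cfsg.Agent.S0494.result (G := ↥Q) hQ60
  have hcardT : Nat.card ↥T = 60 * Q.index := by
    rw [← hQ60]
    exact (Subgroup.card_mul_index Q).symm
  have hi : Q.index = 1 ∨ Q.index = 2 := by
    have := Nat.le_of_dvd (by norm_num) hQi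
    have hpos : 0 < Q.index := Nat.pos_of_ne_zero Subgroup.index_ne_zero_of_finite
    interval_cases h : Q.index
    · exact Or.inl rfl
    · exact Or.inr rfl
  rcases hi with h1 | h2
  · left
    have hQtop : Q = ⊤ := Subgroup.index_eq_one.mp h1
    have e1 : ↥T ≃* ↥Q := by
      rw [hQtop]
      exact Subgroup.topEquiv.symm
    exact ⟨e1.trans e⟩
  · right
    have h120 : Nat.card ↥T = 120 := by rw [hcardT, h2]
    -- the centralizer of Q in T is trivial
    have hcen : Subgroup.centralizer (Q : Set ↥T) = ⊥ := by
      apply hC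
      · exact inferInstance
      · -- commutative
        have hdisj : ∀ c ∈ Subgroup.centralizer (Q : Set ↥T), c ∈ Q → c = 1 := by
          intro c hc hcQ
          -- c is central in Q
          have hcen : (⟨c, hcQ⟩ : ↥Q) ∈ Subgroup.center ↥Q := by
            rw [Subgroup.mem_center_iff]
            intro q
            apply Subtype.ext
            have := hc q.1 q.2
            simpa using this
          have hcb : Subgroup.center ↥Q = ⊥ := by
            have hn : (Subgroup.center ↥Q).Normal := inferInstance
            rcases hn.eq_bot_or_eq_top with h | h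
            · exact h
            · exfalso
              apply hQns
              have hcomm : ∀ a b : ↥Q, a * b = b * a := by
                intro a b
                have hb : b ∈ Subgroup.center ↥Q := by rw [h]; trivial
                exact ((Subgroup.mem_center_iff.mp hb) a)
              exact Group.isSolvable_of_comm hcomm
          rw [hcb, Subgroup.mem_bot] at hcen
          exact congrArg Subtype.val hcen
        have hcomm : ∀ a b : ↥(Subgroup.centralizer (Q : Set ↥T)), a * b = b * a := by
          intro a b
          -- the commutator lies in Q and in the centralizer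
          have hq2 : Nat.card (↥T ⧸ Q) = 2 := h2
          haveI : Fact (Nat.Prime 2) := ⟨Nat.prime_two⟩
          have hcyc : IsCyclic (↥T ⧸ Q) := isCyclic_of_prime_card hq2
          have hcq : (QuotientGroup.mk' Q) (a.1 * b.1 * a.1⁻¹ * b.1⁻¹) = 1 := by
            have hc := (IsCyclic.commGroup (α := ↥T ⧸ Q)).mul_comm
              ((QuotientGroup.mk' Q) a.1) ((QuotientGroup.mk' Q) b.1)
            simp only [map_mul, map_inv]
            rw [hc]
            group
          have hmemQ : a.1 * b.1 * a.1⁻¹ * b.1⁻¹ ∈ Q := by
            exact (QuotientGroup.eq_one_iff _).mp hcq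
          have hmemC : a.1 * b.1 * a.1⁻¹ * b.1⁻¹ ∈ Subgroup.centralizer (Q : Set ↥T) :=
            ((a * b * a⁻¹ * b⁻¹ : ↥(Subgroup.centralizer (Q : Set ↥T)))).2
          have h1 := hdisj _ hmemC hmemQ
          apply Subtype.ext
          have : a.1 * b.1 = b.1 * a.1 := by
            have h2' : a.1 * b.1 * a.1⁻¹ * b.1⁻¹ * (b.1 * a.1) = 1 * (b.1 * a.1) := by rw [h1]
            simpa [mul_assoc] using h2'
          simpa using this
        exact Group.isSolvable_of_comm hcomm
    exact Cfsg.Agent.Lib.Helper67.FC91.equiv_perm_five Q e h120 hcen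

end Cfsg.Agent.Lib.Helper72.G42
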