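import Mathlib
import Cfsg.Agent.Lib.Helper72.G42Defs

/-!
# K-G42: transfer of the configuration to the action on `Δ`
-/

set_option autoImplicit false
set_option linter.style.haveILetI false
set_option linter.unusedSectionVars false

namespace Cfsg.Agent.Lib.Helper72.G42

/-- Transport of "no solvable normal subgroup" along an isomorphism `K ≃* T`. -/
theorem hsolv_transport {G : Type*} [Group G] (K : Subgroup G)
    (hsolv : ∀ M : Subgroup G, M ≤ K → NormalizedBy K M → Group.IsSolvable ↥M → M = ⊥)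
    {T : Type*} [Group T] (φ : ↥K ≃* T) (C : Subgroup T) (hCn : C.Normal) (hCs : Group.IsSolvable ↥C) :
    C = ⊥ := by
  let M : Subgroup G := (C.comap φ.toMonoidHom).map K.subtype
  have hMK : M ≤ K := Subgroup.map_subtype_le _
  have hmem : ∀ x (hx : x ∈ M), φ ⟨x, hMK hx⟩ ∈ C := by
    intro x hx
    obtain ⟨y, hy, hyx⟩ := Subgroup.mem_map.mp hx
    have : y = ⟨x, hMK hx⟩ := Subtype.ext hyx
    rw [← this]
    exact hy
  have hMn : NormalizedBy K M := by
    intro k hk m hm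
    refine Subgroup.mem_map.mpr ⟨⟨k, hk⟩ * ⟨m, hMK hm⟩ * ⟨k, hk⟩⁻¹, ?_, rfl⟩
    show φ.toMonoidHom (⟨k, hk⟩ * ⟨m, hMK hm⟩ * ⟨k, hk⟩⁻¹) ∈ C
    have h1 : φ.toMonoidHom (⟨k, hk⟩ * ⟨m, hMK hm⟩ * ⟨k, hk⟩⁻¹) =
        φ ⟨k, hk⟩ * φ ⟨m, hMK hm⟩ * (φ ⟨k, hk⟩)⁻¹ := by
      show φ (⟨k, hk⟩ * ⟨m, hMK hm⟩ * ⟨k, hk⟩⁻¹) = _
      rw [map_mul, map_mul, map_inv]
    rw [h1]
    exact hCn.conj_mem _ (hmem m hm) _
  let f : ↥M →* ↥C :=
    { toFun := fun x => ⟨φ ⟨x.1, hMK x.2⟩, hmem x.1 x.2⟩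
      map_one' := by
        apply Subtype.ext
        show φ ⟨1, _⟩ = 1
        exact map_one φ
      map_mul' := by
        intro a b
        apply Subtype.ext
        show φ ⟨a.1 * b.1, _⟩ = φ ⟨a.1, _⟩ * φ ⟨b.1, _⟩
        rw [← map_mul]
        rfl }
  have hf : Function.Injective f := by
    intro a b hab
    have h1 : φ ⟨a.1, hMK a.2⟩ = φ ⟨b.1, hMK b.2⟩ := congrArg (fun z : ↥C => (z : T)) hab
    have h2 := φ.injective h1
    exact Subtype.ext (congrArg (fun z : ↥K => (z : G)) h2)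
  have hMs : Group.IsSolvable ↥M := Group.isSolvable_of_isSolvable_injective hf
  have hM : M = ⊥ := hsolv M hMK hMn hMs
  rw [Subgroup.eq_bot_iff_forall]
  intro c hc
  have h1 : ((φ.symm c : ↥K) : G) ∈ M := by
    refine Subgroup.mem_map.mpr ⟨φ.symm c, ?_, rfl⟩
    show φ.toMonoidHom (φ.symm c) ∈ C
    have : φ.toMonoidHom (φ.symm c) = c := φ.apply_symm_apply c
    rw [this]
    exact hc
  rw [hM, Subgroup.mem_bot] at h1
  have h2 : φ.symm c = 1 := Subtype.ext h1
  have h3 := congrArg φ h2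
  simpa using h3

/-- The action of `K` on `Δ`, transported to `Fin m`: an isomorphic copy `T ≤ Perm (Fin m)` of `K`, not solvable,
without nontrivial solvable normal subgroups. -/
theorem exists_image {K N : Subgroup (Equiv.Perm (Fin 8))} {Δ : Finset (Fin 8)} (h : Cfg K N Δ)
    (hpres : ∀ k ∈ K, ∀ x ∈ Δ, k x ∈ Δ) (hfaith : ∀ k ∈ K, (∀ x ∈ Δ, k x = x) → k = 1)
    {m : ℕ} (hm : Δ.card = m) :
    ∃ T : Subgroup (Equiv.Perm (Fin m)), Nonempty (↥K ≃* ↥T) ∧ ¬ Group.IsSolvable ↥T ∧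
      (∀ C : Subgroup ↥T, C.Normal → Group.IsSolvable ↥C → C = ⊥) := by
  classical
  have hk : ∀ k : ↥K, ∀ x, (k.1 x ∈ Δ) ↔ x ∈ Δ := by
    intro k x
    constructor
    · intro hx
      have := hpres k.1⁻¹ (K.inv_mem k.2) _ hx
      simpa using this
    · intro hx
      exact hpres k.1 k.2 x hx
  let ρ : ↥K →* Equiv.Perm {x // x ∈ Δ} :=
    { toFun := fun k => Equiv.Perm.subtypePerm k.1 (hk k)
      map_one' := by
        ext x
        simp
      map_mul' := by
        intro a b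
        ext x
        rfl }
  let e : {x // x ∈ Δ} ≃ Fin m := Finset.equivFinOfCardEq hm
  let ρ' : ↥K →* Equiv.Perm (Fin m) := (e.permCongrHom).toMonoidHom.comp ρ
  have hinj : Function.Injective ρ' := by
    rw [injective_iff_map_eq_one]
    intro k hk1
    have h1 : ρ k = 1 := by
      have : e.permCongrHom (ρ k) = e.permCongrHom 1 := by
        rw [map_one]
        exact hk1
      exact e.permCongrHom.injective this
    have h2 : k.1 = 1 := by
      apply hfaith k.1 k.2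
      intro x hx
      have := congrArg (fun σ : Equiv.Perm {x // x ∈ Δ} => ((σ ⟨x, hx⟩ : {x // x ∈ Δ}) : Fin 8)) h1
      simpa [ρ] using this
    exact Subtype.ext h2
  let φ : ↥K ≃* ↥(ρ'.range) := MonoidHom.ofInjective hinj
  refine ⟨ρ'.range, ⟨φ⟩, ?_, ?_⟩
  · intro hs
    have hKs : Group.IsSolvable ↥K := Group.isSolvable_of_isSolvable_injective φ.injective
    have hKn : NormalizedBy K K := fun k hk m hm => K.mul_mem (K.mul_mem hk hm) (K.inv_mem hk)
    have := h.hsolv K le_rfl hKn hKs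
    apply h.hN1
    rw [eq_bot_iff]
    rw [← this]
    exact h.hNK
  · intro C hCn hCs
    exact hsolv_transport K h.hsolv φ C hCn hCs

end Cfsg.Agent.Lib.Helper72.G42
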