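import Mathlib
import Cfsg.Agent.Lib.Helper72.G42Defs
import Cfsg.Agent.Lib.Helper72.G42S6
import Cfsg.Agent.Lib.Helper72.G42Transfer

/-!
# K-G42: the cases `|Δ| = 5` and `|Δ| = 6` (parallel hand of the architect), modulo leaf L4 (`faithful_on`)
-/

set_option autoImplicit false
set_option linter.style.haveILetI false
set_option linter.unusedSectionVars false

namespace Cfsg.Agent.Lib.Helper72.G42

open Cfsg.Agent.Lib.Helper62.Small120

theorem card_subgroupOf_le {X : Type*} [Group X] [Finite X] (A T : Subgroup X) :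
    Nat.card ↥(A.subgroupOf T) ≤ Nat.card ↥A := by
  let f : ↥(A.subgroupOf T) → ↥A := fun x => ⟨x.1.1, x.2⟩
  have hf : Function.Injective f := by
    intro a b hab
    have : a.1.1 = b.1.1 := congrArg (fun z : ↥A => (z : X)) hab
    exact Subtype.ext (Subtype.ext this)
  exact Nat.card_le_card_of_injective f hf

theorem card_subgroupOf_comm {X : Type*} [Group X] [Finite X] (A T : Subgroup X) :
    Nat.card ↥(A.subgroupOf T) = Nat.card ↥(T.subgroupOf A) := by
  let f : ↥(A.subgroupOf T) → ↥(T.subgroupOf A) := fun x => ⟨⟨x.1.1, x.2⟩, x.1.2⟩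
  let g : ↥(T.subgroupOf A) → ↥(A.subgroupOf T) := fun x => ⟨⟨x.1.1, x.2⟩, x.1.2⟩
  exact Nat.card_congr ⟨f, g, fun x => rfl, fun x => rfl⟩

theorem card_A5' : Nat.card (alternatingGroup (Fin 5)) = 60 := by
  have h := two_mul_card_alternatingGroup (α := Fin 5)
  rw [Fintype.card_perm, Fintype.card_fin] at h
  rw [Nat.card_eq_fintype_card]
  have : (5 : ℕ).factorial = 120 := by decide
  omega

theorem case5_of {K N : Subgroup (Equiv.Perm (Fin 8))} {Δ : Finset (Fin 8)} (h : Cfg K N Δ) (h5 : Δ.card = 5)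
    (hpres : ∀ k ∈ K, ∀ x ∈ Δ, k x ∈ Δ) (hfaith : ∀ k ∈ K, (∀ x ∈ Δ, k x = x) → k = 1) :
    Nonempty (↥K ≃* ↥(alternatingGroup (Fin 5))) ∨ Nonempty (↥K ≃* Equiv.Perm (Fin 5)) := by
  obtain ⟨T, ⟨φ⟩, hns, hC⟩ := exists_image h hpres hfaith h5
  have hle : Nat.card ↥((alternatingGroup (Fin 5)).subgroupOf T) ≤ 60 := by
    have := card_subgroupOf_le (alternatingGroup (Fin 5)) T
    rw [card_A5'] at this
    exact this
  rcases iso_A5_or_S5 (alternatingGroup (Fin 5)) alternatingGroup.index_eq_two T hns hC hle with g | g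
  · obtain ⟨g⟩ := g
    exact Or.inl ⟨φ.trans g⟩
  · obtain ⟨g⟩ := g
    exact Or.inr ⟨φ.trans g⟩

theorem case6_of {K N : Subgroup (Equiv.Perm (Fin 8))} {Δ : Finset (Fin 8)} (h : Cfg K N Δ) (h6 : Δ.card = 6)
    (hpres : ∀ k ∈ K, ∀ x ∈ Δ, k x ∈ Δ) (hfaith : ∀ k ∈ K, (∀ x ∈ Δ, k x = x) → k = 1) :
    Nonempty (↥K ≃* ↥(alternatingGroup (Fin 6))) ∨ Nonempty (↥K ≃* Equiv.Perm (Fin 6)) ∨
      Nonempty (↥K ≃* ↥(alternatingGroup (Fin 5))) ∨ Nonempty (↥K ≃* Equiv.Perm (Fin 5)) := by
  obtain ⟨T, ⟨φ⟩, hns, hC⟩ := exists_image h hpres hfaith h6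
  by_cases hA : alternatingGroup (Fin 6) ≤ T
  · -- T = A_6 or T = ⊤
    have hidx : (alternatingGroup (Fin 6)).relIndex T * T.index = 2 := by
      rw [Subgroup.relIndex_mul_index hA, alternatingGroup.index_eq_two]
    have hTi : T.index = 1 ∨ T.index = 2 := by
      have hd : T.index ∣ 2 := Dvd.intro_left _ hidx
      have := Nat.le_of_dvd (by norm_num) hd
      have hpos : 0 < T.index := Nat.pos_of_ne_zero Subgroup.index_ne_zero_of_finite
      interval_cases hh : T.index
      · exact Or.inl rfl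
      · exact Or.inr rfl
    rcases hTi with h1 | h2
    · right; left
      have hT : T = ⊤ := Subgroup.index_eq_one.mp h1
      have e1 : ↥T ≃* Equiv.Perm (Fin 6) := by
        rw [hT]
        exact Subgroup.topEquiv
      exact ⟨φ.trans e1⟩
    · left
      have hr : (alternatingGroup (Fin 6)).relIndex T = 1 := by
        rw [h2] at hidx
        omega
      have hTA : T ≤ alternatingGroup (Fin 6) := Subgroup.relIndex_eq_one.mp hr
      have hT : T = alternatingGroup (Fin 6) := le_antisymm hTA hA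
      have e1 : ↥T ≃* ↥(alternatingGroup (Fin 6)) := by
        rw [hT]
      exact ⟨φ.trans e1⟩
  · right; right
    have hA6 : IsSimpleGroup (alternatingGroup (Fin 6)) := alternatingGroup.isSimpleGroup (by simp)
    have hP : T.subgroupOf (alternatingGroup (Fin 6)) ≠ ⊤ := by
      intro htop
      exact hA (Subgroup.subgroupOf_eq_top.mp htop)
    have hdvd := card_dvd_factorial_index (T.subgroupOf (alternatingGroup (Fin 6))) hP
    rw [card_A6] at hdvd
    have hmul := Subgroup.card_mul_index (T.subgroupOf (alternatingGroup (Fin 6)))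
    rw [card_A6] at hmul
    have hle : Nat.card ↥((alternatingGroup (Fin 6)).subgroupOf T) ≤ 60 := by
      rw [card_subgroupOf_comm]
      set i := (T.subgroupOf (alternatingGroup (Fin 6))).index with hi
      set c := Nat.card ↥(T.subgroupOf (alternatingGroup (Fin 6))) with hc
      have hi6 : 6 ≤ i := by
        by_contra hlt
        have hlt := Nat.lt_of_not_le hlt
        have : i.factorial ∣ (5 : ℕ).factorial := Nat.factorial_dvd_factorial (by omega)
        have h360 : 360 ∣ (5 : ℕ).factorial := dvd_trans hdvd this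
        revert h360
        decide
      nlinarith
    rcases iso_A5_or_S5 (alternatingGroup (Fin 6)) alternatingGroup.index_eq_two T hns hC hle with g | g
    · obtain ⟨g⟩ := g
      exact Or.inl ⟨φ.trans g⟩
    · obtain ⟨g⟩ := g
      exact Or.inr ⟨φ.trans g⟩

end Cfsg.Agent.Lib.Helper72.G42
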