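import Mathlib
import Cfsg.Agent.Lib.Helper72.G42Defs
import Cfsg.Agent.Lib.Helper72.G42L56
import Cfsg.Agent.Lib.Helper84.G42L4

/-!
# K-G42: leaves L5 (`case5`) and L6 (`case6`), exact spec signatures (architect's parallel hand)
-/

set_option autoImplicit false

namespace Cfsg.Agent.Lib.Helper72.G42

theorem case5 {K N : Subgroup (Equiv.Perm (Fin 8))} {Δ : Finset (Fin 8)} (h : Cfg K N Δ) (h5 : Δ.card = 5) :
    Nonempty (↥K ≃* ↥(alternatingGroup (Fin 5))) ∨ Nonempty (↥K ≃* Equiv.Perm (Fin 5)) :=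
  case5_of h h5 (Cfsg.Agent.Lib.Helper84.G42.faithful_on h).1 (Cfsg.Agent.Lib.Helper84.G42.faithful_on h).2

theorem case6 {K N : Subgroup (Equiv.Perm (Fin 8))} {Δ : Finset (Fin 8)} (h : Cfg K N Δ) (h6 : Δ.card = 6) :
    Nonempty (↥K ≃* ↥(alternatingGroup (Fin 6))) ∨ Nonempty (↥K ≃* Equiv.Perm (Fin 6)) ∨
      Nonempty (↥K ≃* ↥(alternatingGroup (Fin 5))) ∨ Nonempty (↥K ≃* Equiv.Perm (Fin 5)) :=
  case6_of h h6 (Cfsg.Agent.Lib.Helper84.G42.faithful_on h).1 (Cfsg.Agent.Lib.Helper84.G42.faithful_on h).2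

end Cfsg.Agent.Lib.Helper72.G42
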