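import Mathlib
import Cfsg.Agent.Lib.Helper03.PGroupFrattini
import Cfsg.Agent.Lib.Helper72.ExtTwo

/-!
Groups of order `64` with Klein four centre and an automorphism `α` of order dividing `5`
whose commutators `d⁻¹ α(d)` generate the group: structure theory.
-/

set_option autoImplicit false
set_option linter.unusedSectionVars false

open scoped commutatorElement

namespace Cfsg.Agent.Lib.Helper72.Sp64

variable {D : Type*} [Group D]

/-- the fixed points of an automorphism -/
def fixedSub (α : MulAut D) : Subgroup D where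
  carrier := {d | α d = d}
  one_mem' := map_one α
  mul_mem' {a b} ha hb := by
    change α (a * b) = a * b
    rw [map_mul, ha, hb]
  inv_mem' {a} ha := by
    change α a⁻¹ = a⁻¹
    rw [map_inv, ha]

theorem mem_fixedSub {α : MulAut D} {d : D} : d ∈ fixedSub α ↔ α d = d := Iff.rfl

/-- counting fixed points modulo `5` -/
theorem card_modEq [Finite D] (α : MulAut D) (h5 : α ^ 5 = 1) (Y : Subgroup D)
    (hY : ∀ d ∈ Y, α d ∈ Y) :
    Nat.card ↥Y ≡ Nat.card ↥(Y ⊓ fixedSub α) [MOD 5] := by
  classical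
  have : Fintype ↥Y := Fintype.ofFinite _
  have : Fact (Nat.Prime 5) := ⟨by norm_num⟩
  let f : Function.End ↥Y := fun y => ⟨α y, hY y y.2⟩
  have hf : f ^ 5 ^ 1 = 1 := by
    rw [pow_one]
    funext y
    apply Subtype.ext
    have h1 : ((f ^ 5) y : D) = (α ^ 5) y := rfl
    rw [h1, h5]
    rfl
  have h1 := Equiv.Perm.card_fixedPoints_modEq (f := f) (p := 5) (n := 1) hf
  have h2 : Fintype.card ↥Y = Nat.card ↥Y := (Nat.card_eq_fintype_card).symm
  have h3 : Fintype.card ↥(Function.fixedPoints f) = Nat.card ↥(Y ⊓ fixedSub α) := by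
    rw [← Nat.card_eq_fintype_card]
    apply Nat.card_congr
    refine ⟨fun y => ⟨y.1.1, y.1.2, ?_⟩, fun y => ⟨⟨y.1, y.2.1⟩, ?_⟩, fun y => rfl, fun y => rfl⟩
    · have := y.2
      exact congrArg Subtype.val this
    · apply Subtype.ext
      exact y.2.2
  rw [h2, h3] at h1
  exact h1


/-- an invariant subgroup of order four is fixed pointwise -/
theorem fixed_of_card_four [Finite D] (α : MulAut D) (h5 : α ^ 5 = 1) (S : Subgroup D)
    (hS : ∀ d ∈ S, α d ∈ S) (hc : Nat.card ↥S = 4) : ∀ d ∈ S, α d = d := by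
  have h1 := card_modEq α h5 S hS
  rw [hc] at h1
  have h2 : Nat.card ↥(S ⊓ fixedSub α) ≤ 4 := by
    rw [← hc]
    exact Subgroup.card_le_of_le inf_le_left
  have h3 : 0 < Nat.card ↥(S ⊓ fixedSub α) := Nat.card_pos
  have h4 : Nat.card ↥(S ⊓ fixedSub α) = 4 := by
    unfold Nat.ModEq at h1
    omega
  have h5' : S ⊓ fixedSub α = S := by
    apply Subgroup.eq_of_le_of_card_ge inf_le_left
    rw [h4, hc]
  intro d hd
  rw [← h5'] at hd
  exact hd.2

/-- the quotient by a subgroup containing all commutators is commutative -/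
@[reducible] def commQuot (N : Subgroup D) [N.Normal] (hN : ∀ a b : D, ⁅a, b⁆ ∈ N) :
    CommGroup (D ⧸ N) :=
  { (inferInstance : Group (D ⧸ N)) with
    mul_comm := by
      intro a b
      induction a using QuotientGroup.induction_on with
      | H a =>
        induction b using QuotientGroup.induction_on with
        | H b =>
          rw [← QuotientGroup.mk_mul, ← QuotientGroup.mk_mul, QuotientGroup.eq]
          have h2 : (a * b)⁻¹ * (b * a) = ⁅b⁻¹, a⁻¹⁆ := by
            rw [commutatorElement_def]; group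
          rw [h2]
          exact hN _ _ }

/-- the norm `d · α d · α² d · α³ d · α⁴ d` -/
def nu (α : MulAut D) (d : D) : D := d * α d * (α ^ 2) d * (α ^ 3) d * (α ^ 4) d

theorem nu_mem (α : MulAut D) (h5 : α ^ 5 = 1)
    (hgen : Subgroup.closure {x : D | ∃ d : D, x = d⁻¹ * α d} = ⊤)
    (N : Subgroup D) [N.Normal] (hN : ∀ a b : D, ⁅a, b⁆ ∈ N) (e : D) : nu α e ∈ N := by
  let _ : CommGroup (D ⧸ N) := commQuot N hN
  let π : D →* D ⧸ N := QuotientGroup.mk' N
  let ψ : D →* D ⧸ N := π * π.comp α.toMonoidHom * π.comp (α ^ 2).toMonoidHom *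
    π.comp (α ^ 3).toMonoidHom * π.comp (α ^ 4).toMonoidHom
  have hψ : ∀ d : D, ψ d = π d * π (α d) * π ((α ^ 2) d) * π ((α ^ 3) d) * π ((α ^ 4) d) :=
    fun d => rfl
  have hker : ψ.ker = ⊤ := by
    rw [eq_top_iff, ← hgen, Subgroup.closure_le]
    rintro x ⟨d, rfl⟩
    rw [SetLike.mem_coe, MonoidHom.mem_ker, map_mul, map_inv, inv_mul_eq_one, hψ, hψ]
    have h1 : (α ^ 2) (α d) = (α ^ 3) d := by
      rw [← MulAut.mul_apply, ← pow_succ]
    have h2 : (α ^ 3) (α d) = (α ^ 4) d := by
      rw [← MulAut.mul_apply, ← pow_succ]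
    have h3 : (α ^ 4) (α d) = d := by
      rw [← MulAut.mul_apply, ← pow_succ, h5]; rfl
    have h4 : α (α d) = (α ^ 2) d := by
      rw [pow_two]; rfl
    rw [h1, h2, h3, h4]
    simp only [mul_comm, mul_left_comm]
  have h1 : ψ e = 1 := by
    rw [← MonoidHom.mem_ker, hker]
    exact Subgroup.mem_top e
  rw [hψ, ← map_mul, ← map_mul, ← map_mul, ← map_mul] at h1
  exact (QuotientGroup.eq_one_iff _).mp h1

/-- no fixed points on abelian invariant quotients -/
theorem mem_of_comm_mem [Finite D] (α : MulAut D) (h5 : α ^ 5 = 1) {m : ℕ}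
    (hcard : Nat.card D = 2 ^ m)
    (hgen : Subgroup.closure {x : D | ∃ d : D, x = d⁻¹ * α d} = ⊤)
    (N : Subgroup D) [N.Normal] (hN : ∀ a b : D, ⁅a, b⁆ ∈ N) (hNα : ∀ d ∈ N, α d ∈ N)
    {d : D} (hd : d⁻¹ * α d ∈ N) : d ∈ N := by
  let π : D →* D ⧸ N := QuotientGroup.mk' N
  have hstep : ∀ x : D, π x = π d → π (α x) = π d := by
    intro x hx
    have h1 : x⁻¹ * d ∈ N := by
      rw [← QuotientGroup.eq]; exact hx
    have h2 : α (x⁻¹ * d) ∈ N := hNα _ h1
    have h3 : π (α x) = π (α d) := by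
      change (QuotientGroup.mk (α x) : D ⧸ N) = QuotientGroup.mk (α d)
      rw [QuotientGroup.eq, ← map_inv, ← map_mul]
      exact h2
    have h4 : π d = π (α d) := by
      change (QuotientGroup.mk d : D ⧸ N) = QuotientGroup.mk (α d)
      rw [QuotientGroup.eq]
      exact hd
    rw [h3, ← h4]
  have e1 : π (α d) = π d := hstep d rfl
  have e2 : π ((α ^ 2) d) = π d := by
    have : (α ^ 2) d = α (α d) := by rw [pow_two]; rfl
    rw [this]; exact hstep _ e1
  have e3 : π ((α ^ 3) d) = π d := by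
    have : (α ^ 3) d = α ((α ^ 2) d) := by rw [pow_succ']; rfl
    rw [this]; exact hstep _ e2
  have e4 : π ((α ^ 4) d) = π d := by
    have : (α ^ 4) d = α ((α ^ 3) d) := by rw [pow_succ']; rfl
    rw [this]; exact hstep _ e3
  have h1 : π (nu α d) = 1 := (QuotientGroup.eq_one_iff _).mpr (nu_mem α h5 hgen N hN d)
  unfold nu at h1
  rw [map_mul, map_mul, map_mul, map_mul, e1, e2, e3, e4] at h1
  have h2 : (π d) ^ 5 = 1 := by
    rw [← h1]; simp only [pow_succ, pow_zero, one_mul]
  have h3 : (π d) ^ (2 ^ m) = 1 := by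
    rw [← map_pow, ← hcard, pow_card_eq_one', map_one]
  have h4 : orderOf (π d) ∣ Nat.gcd 5 (2 ^ m) :=
    Nat.dvd_gcd (orderOf_dvd_of_pow_eq_one h2) (orderOf_dvd_of_pow_eq_one h3)
  have h5' : Nat.gcd 5 (2 ^ m) = 1 := Nat.Coprime.pow_right _ (by norm_num)
  rw [h5', Nat.dvd_one, orderOf_eq_one_iff] at h4
  exact (QuotientGroup.eq_one_iff _).mp h4


/-! ### The hypotheses -/

/-- the standing hypotheses -/
structure Hyp (α : MulAut D) : Prop where
  card : Nat.card D = 64
  pow5 : α ^ 5 = 1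
  cardZ : Nat.card ↥(Subgroup.center D) = 4
  expZ : ∀ z ∈ Subgroup.center D, z * z = 1
  gen : Subgroup.closure {x : D | ∃ d : D, x = d⁻¹ * α d} = ⊤

namespace Hyp

variable [Finite D] {α : MulAut D} (h : Hyp α)
include h

theorem card' : Nat.card D = 2 ^ 6 := by rw [h.card]; norm_num

theorem isPGroup : IsPGroup 2 D := IsPGroup.of_card h.card'

theorem map_mem_center {z : D} (hz : z ∈ Subgroup.center D) : α z ∈ Subgroup.center D := by
  rw [Subgroup.mem_center_iff] at hz ⊢
  intro g
  have h1 := hz (α.symm g)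
  have h2 := congrArg α h1
  rw [map_mul, map_mul, MulEquiv.apply_symm_apply] at h2
  exact h2

theorem center_fixed {z : D} (hz : z ∈ Subgroup.center D) : α z = z :=
  fixed_of_card_four α h.pow5 (Subgroup.center D) (fun _ hd => h.map_mem_center hd) h.cardZ z hz

theorem map_mem_of_characteristic (N : Subgroup D) [hN : N.Characteristic] {d : D} (hd : d ∈ N) :
    α d ∈ N := by
  have h1 := hN.fixed α
  rw [← h1] at hd
  exact hd

theorem fixed_le_frattini : fixedSub α ≤ frattini D := by
  intro d hd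
  have : Fact (Nat.Prime 2) := ⟨Nat.prime_two⟩
  apply mem_of_comm_mem α h.pow5 h.card' h.gen (frattini D)
  · intro a b
    apply Cfsg.Agent.Lib.Helper03.commutator_le_frattini_of_isPGroup h.isPGroup
    exact Subgroup.commutator_mem_commutator (Subgroup.mem_top a) (Subgroup.mem_top b)
  · intro d hd
    exact h.map_mem_of_characteristic (frattini D) hd
  · rw [mem_fixedSub.mp hd, inv_mul_cancel]
    exact Subgroup.one_mem _

theorem frattini_ne_top : frattini D ≠ ⊤ := by
  intro h1
  have h2 : (⊥ : Subgroup D) = ⊤ := by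
    apply frattini_nongenerating
    rw [h1, bot_sup_eq]
  have h3 : Nat.card ↥(⊥ : Subgroup D) = Nat.card ↥(⊤ : Subgroup D) := by rw [h2]
  rw [Subgroup.card_bot, Subgroup.card_top, h.card] at h3
  norm_num at h3

theorem card_frattini : Nat.card ↥(frattini D) = 4 := by
  have h1 := card_modEq α h.pow5 (frattini D)
    (fun d hd => h.map_mem_of_characteristic (frattini D) hd)
  have h2 := card_modEq α h.pow5 (⊤ : Subgroup D) (fun d _ => Subgroup.mem_top _)
  have h3 : frattini D ⊓ fixedSub α = fixedSub α := inf_eq_right.mpr h.fixed_le_frattini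
  rw [h3] at h1
  rw [top_inf_eq, Subgroup.card_top, h.card] at h2
  have h4 : Nat.card ↥(frattini D) ∣ 64 := by
    rw [← h.card]; exact Subgroup.card_subgroup_dvd_card _
  have h5 : Nat.card ↥(frattini D) ≠ 64 := by
    intro h6
    apply h.frattini_ne_top
    apply Subgroup.eq_top_of_card_eq
    rw [h6, h.card]
  have h6 : Nat.card ↥(frattini D) ≡ 64 [MOD 5] := h1.trans h2.symm
  have h7 : Nat.card ↥(frattini D) ∈ Nat.divisors 64 := Nat.mem_divisors.mpr ⟨h4, by norm_num⟩
  have h8 : Nat.divisors 64 = {1, 2, 4, 8, 16, 32, 64} := by decide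
  rw [h8] at h7
  simp only [Finset.mem_insert, Finset.mem_singleton] at h7
  unfold Nat.ModEq at h6
  rcases h7 with h7 | h7 | h7 | h7 | h7 | h7 | h7 <;> rw [h7] at h6 <;> first | exact h7 | omega

theorem frattini_eq_center : frattini D = Subgroup.center D := by
  symm
  apply Subgroup.eq_of_le_of_card_ge
  · intro z hz
    exact h.fixed_le_frattini (mem_fixedSub.mpr (h.center_fixed hz))
  · rw [h.card_frattini, h.cardZ]

theorem sq_mem (d : D) : d * d ∈ Subgroup.center D := by
  have : Fact (Nat.Prime 2) := ⟨Nat.prime_two⟩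
  rw [← h.frattini_eq_center, ← pow_two]
  exact Cfsg.Agent.Lib.Helper03.pow_mem_frattini_of_isPGroup h.isPGroup d

theorem comm_mem (a b : D) : ⁅a, b⁆ ∈ Subgroup.center D := by
  have : Fact (Nat.Prime 2) := ⟨Nat.prime_two⟩
  rw [← h.frattini_eq_center]
  apply Cfsg.Agent.Lib.Helper03.commutator_le_frattini_of_isPGroup h.isPGroup
  exact Subgroup.commutator_mem_commutator (Subgroup.mem_top a) (Subgroup.mem_top b)

theorem fixed_eq_center : fixedSub α = Subgroup.center D := by
  apply le_antisymm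
  · rw [← h.frattini_eq_center]
    exact h.fixed_le_frattini
  · intro z hz
    exact mem_fixedSub.mpr (h.center_fixed hz)

theorem commutator_eq_center : commutator D = Subgroup.center D := by
  apply le_antisymm
  · rw [commutator_def, Subgroup.commutator_le]
    intro a _ b _
    exact h.comm_mem a b
  · rw [← h.fixed_eq_center]
    intro d hd
    apply mem_of_comm_mem α h.pow5 h.card' h.gen (commutator D)
    · intro a b
      exact Subgroup.commutator_mem_commutator (Subgroup.mem_top a) (Subgroup.mem_top b)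
    · intro d hd
      exact h.map_mem_of_characteristic (commutator D) hd
    · rw [mem_fixedSub.mp hd, inv_mul_cancel]
      exact Subgroup.one_mem _

theorem nu_mem_center (d : D) : nu α d ∈ Subgroup.center D :=
  nu_mem α h.pow5 h.gen (Subgroup.center D) h.comm_mem d

end Hyp


/-! ### Commutator calculus in class two -/

section classTwo

variable (hc : ∀ a b : D, ⁅a, b⁆ ∈ Subgroup.center D)
include hc

theorem comm_mul_left (a b c : D) : ⁅a * b, c⁆ = ⁅a, c⁆ * ⁅b, c⁆ := by
  have h1 : ⁅a * b, c⁆ = a * ⁅b, c⁆ * a⁻¹ * ⁅a, c⁆ := by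
    simp only [commutatorElement_def]; group
  have h2 : a * ⁅b, c⁆ = ⁅b, c⁆ * a := ((Subgroup.mem_center_iff.mp (hc b c)) a)
  rw [h1, h2, mul_inv_cancel_right]
  exact ((Subgroup.mem_center_iff.mp (hc b c)) _).symm

theorem comm_mul_right (a b c : D) : ⁅a, b * c⁆ = ⁅a, b⁆ * ⁅a, c⁆ := by
  have h1 : ⁅a, b * c⁆ = ⁅a, b⁆ * (b * ⁅a, c⁆ * b⁻¹) := by
    simp only [commutatorElement_def]; group
  have h2 : b * ⁅a, c⁆ = ⁅a, c⁆ * b := ((Subgroup.mem_center_iff.mp (hc a c)) b)
  rw [h1, h2, mul_inv_cancel_right]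

theorem comm_inv_left (a c : D) : ⁅a⁻¹, c⁆ = ⁅a, c⁆⁻¹ := by
  have h1 := comm_mul_left hc a a⁻¹ c
  rw [mul_inv_cancel, commutatorElement_one_left] at h1
  exact eq_inv_of_mul_eq_one_right h1.symm

theorem comm_inv_right (a c : D) : ⁅a, c⁻¹⁆ = ⁅a, c⁆⁻¹ := by
  have h1 := comm_mul_right hc a c c⁻¹
  rw [mul_inv_cancel, commutatorElement_one_right] at h1
  exact eq_inv_of_mul_eq_one_right h1.symm

theorem mul_mul_self (x y : D) : (x * y) * (x * y) = (x * x) * (y * y) * ⁅y, x⁆ := by
  have hz := Subgroup.mem_center_iff.mp (hc y x)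
  have h1 : y * x = ⁅y, x⁆ * (x * y) := by
    rw [commutatorElement_def]; group
  generalize ⁅y, x⁆ = c at hz h1
  calc (x * y) * (x * y) = x * (y * x) * y := by simp only [mul_assoc]
    _ = x * (c * (x * y)) * y := by rw [h1]
    _ = (x * c) * (x * y * y) := by simp only [mul_assoc]
    _ = (c * x) * (x * y * y) := by rw [hz x]
    _ = c * (x * x * (y * y)) := by simp only [mul_assoc]
    _ = (x * x) * (y * y) * c := by rw [← hz]

/-- commutators of generators in a central subgroup `K` force the derived subgroup into `K` -/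
theorem commutator_le_of_generators (K : Subgroup D) (S : Set D) (hS : Subgroup.closure S = ⊤)
    (hK : ∀ x ∈ S, ∀ y ∈ S, ⁅x, y⁆ ∈ K) : commutator D ≤ K := by
  have h1 : ∀ y ∈ S, ∀ a : D, ⁅a, y⁆ ∈ K := by
    intro y hy a
    have ha : a ∈ Subgroup.closure S := by rw [hS]; exact Subgroup.mem_top a
    induction ha using Subgroup.closure_induction with
    | mem x hx => exact hK x hx y hy
    | one => rw [commutatorElement_one_left]; exact K.one_mem
    | mul x z _ _ ihx ihz => rw [comm_mul_left hc]; exact K.mul_mem ihx ihz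
    | inv x _ ihx => rw [comm_inv_left hc]; exact K.inv_mem ihx
  have h2 : ∀ a b : D, ⁅a, b⁆ ∈ K := by
    intro a b
    have hb : b ∈ Subgroup.closure S := by rw [hS]; exact Subgroup.mem_top b
    induction hb using Subgroup.closure_induction with
    | mem x hx => exact h1 x hx a
    | one => rw [commutatorElement_one_right]; exact K.one_mem
    | mul x z _ _ ihx ihz => rw [comm_mul_right hc]; exact K.mul_mem ihx ihz
    | inv x _ ihx => rw [comm_inv_right hc]; exact K.inv_mem ihx
  rw [commutator_def, Subgroup.commutator_le]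
  intro a _ b _
  exact h2 a b

end classTwo

/-! ### The orbit of a non-central element -/

/-- the orbit `u, α u, α² u, …` -/
def us (α : MulAut D) (u : D) (i : ℕ) : D := (α ^ i) u

theorem us_zero (α : MulAut D) (u : D) : us α u 0 = u := by
  unfold us; rw [pow_zero]; rfl

theorem us_succ (α : MulAut D) (u : D) (i : ℕ) : us α u (i + 1) = α (us α u i) := by
  unfold us; rw [pow_succ']; rfl

theorem us_add (α : MulAut D) (u : D) (i k : ℕ) : us α u (i + k) = (α ^ k) (us α u i) := by
  unfold us; rw [add_comm, pow_add]; rfl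

theorem nu_eq_us (α : MulAut D) (u : D) :
    nu α u = us α u 0 * us α u 1 * us α u 2 * us α u 3 * us α u 4 := by
  unfold nu us; rw [pow_zero, pow_one]; rfl

theorem us_four (α : MulAut D) {u : D} (hnu : nu α u = 1) :
    us α u 4 = (us α u 0 * us α u 1 * us α u 2 * us α u 3)⁻¹ := by
  rw [nu_eq_us] at hnu
  exact eq_inv_of_mul_eq_one_right hnu

namespace Hyp

variable [Finite D] {α : MulAut D} (h : Hyp α)
include h

theorem pow_fixed {z : D} (hz : z ∈ Subgroup.center D) (k : ℕ) : (α ^ k) z = z := by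
  induction k with
  | zero => rw [pow_zero]; rfl
  | succ k ih => rw [pow_succ', MulAut.mul_apply, ih, h.center_fixed hz]

theorem us_add_five (u : D) (i : ℕ) : us α u (i + 5) = us α u i := by
  rw [us_add, h.pow5]; rfl

theorem us_sq (u : D) (i : ℕ) : us α u i * us α u i = u * u := by
  unfold us
  rw [← map_mul, h.pow_fixed (h.sq_mem u)]

theorem comm_shift (u : D) (i j k : ℕ) :
    ⁅us α u (i + k), us α u (j + k)⁆ = ⁅us α u i, us α u j⁆ := by
  rw [us_add, us_add, ← map_commutatorElement, h.pow_fixed (h.comm_mem _ _)]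

theorem inv_eq_self {z : D} (hz : z ∈ Subgroup.center D) : z⁻¹ = z :=
  inv_eq_of_mul_eq_one_left (h.expZ z hz)

theorem comm_symm (a b : D) : ⁅a, b⁆ = ⁅b, a⁆ := by
  rw [← h.inv_eq_self (h.comm_mem a b), commutatorElement_inv]

theorem exists_u : ∃ u : D, u ∉ Subgroup.center D ∧ nu α u = 1 := by
  by_contra hne
  push Not at hne
  have h1 : ∀ v : D, nu α (v⁻¹ * α v) = 1 := by
    intro v
    unfold nu
    simp only [map_mul, map_inv]
    have e2 : (α ^ 2) (α v) = (α ^ 3) v := by rw [← MulAut.mul_apply, ← pow_succ]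
    have e3 : (α ^ 3) (α v) = (α ^ 4) v := by rw [← MulAut.mul_apply, ← pow_succ]
    have e4 : (α ^ 4) (α v) = v := by rw [← MulAut.mul_apply, ← pow_succ, h.pow5]; rfl
    have e1 : α (α v) = (α ^ 2) v := by rw [pow_two]; rfl
    rw [e1, e2, e3, e4]
    group
  have h2 : Subgroup.closure {x : D | ∃ d : D, x = d⁻¹ * α d} ≤ Subgroup.center D := by
    rw [Subgroup.closure_le]
    rintro x ⟨d, rfl⟩
    by_contra hx
    exact hne _ hx (h1 d)
  rw [h.gen] at h2
  have h3 : Subgroup.center D = ⊤ := top_le_iff.mp h2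
  have h4 := h.cardZ
  rw [h3, Subgroup.card_top, h.card] at h4
  norm_num at h4

/-- the orbit of `u` generates `D` over the centre -/
theorem orbit_top {u : D} (hu : u ∉ Subgroup.center D) (hnu : nu α u = 1) :
    ExtTwo.Qk (Subgroup.center D) (us α u) 4 = ⊤ := by
  have hZY : Subgroup.center D ≤ ExtTwo.Qk (Subgroup.center D) (us α u) 4 :=
    ExtTwo.Z_le_Qk _ _ 4
  have hu4 : us α u 4 ∈ ExtTwo.Qk (Subgroup.center D) (us α u) 4 := by
    rw [us_four α hnu]
    apply Subgroup.inv_mem
    apply Subgroup.mul_mem _ (Subgroup.mul_mem _ (Subgroup.mul_mem _ _ _) _) _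
    · exact ExtTwo.u_mem_Qk _ _ (by norm_num)
    · exact ExtTwo.u_mem_Qk _ _ (by norm_num)
    · exact ExtTwo.u_mem_Qk _ _ (by norm_num)
    · exact ExtTwo.u_mem_Qk _ _ (by norm_num)
  have hinv : ∀ d ∈ ExtTwo.Qk (Subgroup.center D) (us α u) 4,
      α d ∈ ExtTwo.Qk (Subgroup.center D) (us α u) 4 := by
    intro d hd
    have hd' : d ∈ Subgroup.closure
        ((Subgroup.center D : Set D) ∪ {x | ∃ i < 4, x = us α u i}) := hd
    induction hd' using Subgroup.closure_induction with
    | mem x hx =>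
      rcases hx with hx | ⟨i, hi, rfl⟩
      · rw [h.center_fixed hx]; exact hZY hx
      · rw [← us_succ]
        by_cases h3 : i + 1 < 4
        · exact ExtTwo.u_mem_Qk _ _ h3
        · have h4 : i + 1 = 4 := by omega
          rw [h4]; exact hu4
    | one => rw [map_one]; exact Subgroup.one_mem _
    | mul x y _ _ ihx ihy => rw [map_mul]; exact Subgroup.mul_mem _ (ihx ‹_›) (ihy ‹_›)
    | inv x _ ihx => rw [map_inv]; exact Subgroup.inv_mem _ (ihx ‹_›)
  have hfix : ExtTwo.Qk (Subgroup.center D) (us α u) 4 ⊓ fixedSub α = Subgroup.center D := by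
    rw [h.fixed_eq_center]; exact inf_eq_right.mpr hZY
  have h1 := card_modEq α h.pow5 _ hinv
  rw [hfix, h.cardZ] at h1
  have h4 : Nat.card ↥(ExtTwo.Qk (Subgroup.center D) (us α u) 4) ∣ 64 := by
    rw [← h.card]; exact Subgroup.card_subgroup_dvd_card _
  have h7 : Nat.card ↥(ExtTwo.Qk (Subgroup.center D) (us α u) 4) ∈ Nat.divisors 64 :=
    Nat.mem_divisors.mpr ⟨h4, by norm_num⟩
  have h8 : Nat.divisors 64 = {1, 2, 4, 8, 16, 32, 64} := by decide
  rw [h8] at h7
  simp only [Finset.mem_insert, Finset.mem_singleton] at h7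
  unfold Nat.ModEq at h1
  have h9 : Nat.card ↥(ExtTwo.Qk (Subgroup.center D) (us α u) 4) = 4 ∨
      Nat.card ↥(ExtTwo.Qk (Subgroup.center D) (us α u) 4) = 64 := by
    rcases h7 with h7 | h7 | h7 | h7 | h7 | h7 | h7 <;> rw [h7] at h1 <;>
      first | exact Or.inl h7 | exact Or.inr h7 | omega
  rcases h9 with h9 | h9
  · exfalso
    apply hu
    have h10 : Subgroup.center D = ExtTwo.Qk (Subgroup.center D) (us α u) 4 :=
      Subgroup.eq_of_le_of_card_ge hZY (by rw [h.cardZ, h9])
    rw [h10]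
    have := ExtTwo.u_mem_Qk (Subgroup.center D) (us α u) (show 0 < 4 by norm_num)
    rwa [us_zero] at this
  · apply Subgroup.eq_top_of_card_eq
    rw [h9, h.card]

/-! the table of commutators -/

theorem c21 (u : D) : ⁅us α u 2, us α u 1⁆ = ⁅us α u 1, us α u 0⁆ := h.comm_shift u 1 0 1

theorem c31 (u : D) : ⁅us α u 3, us α u 1⁆ = ⁅us α u 2, us α u 0⁆ := h.comm_shift u 2 0 1

theorem c32 (u : D) : ⁅us α u 3, us α u 2⁆ = ⁅us α u 1, us α u 0⁆ := h.comm_shift u 1 0 2

theorem c30 (u : D) : ⁅us α u 3, us α u 0⁆ = ⁅us α u 2, us α u 0⁆ := by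
  have h1 := h.comm_shift u 0 2 3
  have h2 : us α u (2 + 3) = us α u 0 := h.us_add_five u 0
  rw [h2] at h1
  rw [h.comm_symm (us α u 2) (us α u 0)]
  exact h1

/-- the square of `u` is the product of the two basic commutators -/
theorem sq_eq {u : D} (hnu : nu α u = 1) :
    u * u = ⁅us α u 1, us α u 0⁆ * ⁅us α u 2, us α u 0⁆ := by
  have hc := h.comm_mem
  have e4 := us_four α hnu
  have s4 : us α u 4 * us α u 4 = u * u := h.us_sq u 4
  rw [e4] at s4
  have hp : (us α u 0 * us α u 1 * us α u 2 * us α u 3) *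
      (us α u 0 * us α u 1 * us α u 2 * us α u 3) = u * u := by
    have h1 : ((us α u 0 * us α u 1 * us α u 2 * us α u 3) *
      (us α u 0 * us α u 1 * us α u 2 * us α u 3))⁻¹ = u * u := by
      rw [mul_inv_rev]; exact s4
    rw [← h.inv_eq_self (h.sq_mem u), ← h1, inv_inv]
  rw [mul_mul_self hc (us α u 0 * us α u 1 * us α u 2) (us α u 3),
    mul_mul_self hc (us α u 0 * us α u 1) (us α u 2),
    mul_mul_self hc (us α u 0) (us α u 1),
    comm_mul_right hc (us α u 3) (us α u 0 * us α u 1) (us α u 2),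
    comm_mul_right hc (us α u 3) (us α u 0) (us α u 1),
    comm_mul_right hc (us α u 2) (us α u 0) (us α u 1),
    h.us_sq u 0, h.us_sq u 1, h.us_sq u 2, h.us_sq u 3, h.c21, h.c30, h.c31, h.c32] at hp
  -- move to the commutative centre
  let S : ↥(Subgroup.center D) := ⟨u * u, h.sq_mem u⟩
  let C1 : ↥(Subgroup.center D) := ⟨⁅us α u 1, us α u 0⁆, hc _ _⟩
  let C2 : ↥(Subgroup.center D) := ⟨⁅us α u 2, us α u 0⁆, hc _ _⟩
  have hx : ∀ x : ↥(Subgroup.center D), x * x = 1 := fun x => Subtype.ext (h.expZ x.1 x.2)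
  have hp' : S * S * C1 * S * (C2 * C1) * S * (C2 * C2 * C1) = S := Subtype.ext hp
  have key : S * S * C1 * S * (C2 * C1) * S * (C2 * C2 * C1) =
      (S * S) * (S * S) * (C1 * C1) * (C2 * C2) * (C1 * C2) := by ac_rfl
  rw [key, hx S, hx C1, hx C2, one_mul, one_mul, one_mul, one_mul] at hp'
  exact (congrArg Subtype.val hp').symm

end Hyp

end Cfsg.Agent.Lib.Helper72.Sp64
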