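import Mathlib
import Cfsg.Agent.Lib.Helper72.Sp64

/-!
General lemmas on automorphisms of finite groups used for the `2`-rank `2` theorem:
counting modulo `3` and `9`, fixed points in invariant cosets, restriction to invariant subgroups
and passage to quotients.
-/

set_option autoImplicit false

open scoped commutatorElement

namespace Cfsg.Agent.Lib.Helper72.R2

open Cfsg.Agent.Lib.Helper72.Sp64 (fixedSub mem_fixedSub)

/-! ### Counting modulo nine -/

theorem nine_dvd_card_of_free {X : Type*} [Fintype X] (π : Equiv.Perm X) (h9 : π ^ 9 = 1)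
    (hfree : ∀ x, (π ^ 3) x ≠ x) : 9 ∣ Fintype.card X := by
  classical
  rcases isEmpty_or_nonempty X with hX | ⟨⟨x₀⟩⟩
  · rw [Fintype.card_eq_zero]; exact dvd_zero 9
  have : Fact (Nat.Prime 3) := ⟨Nat.prime_three⟩
  have hord : orderOf π = 3 ^ (1 + 1) := by
    apply orderOf_eq_prime_pow
    · intro h
      apply hfree x₀
      rw [pow_one] at h
      rw [h]; rfl
    · norm_num; exact h9
  -- every nontrivial power moves every point
  have hmove : ∀ r : ℕ, 0 < r → r < 9 → ∀ x, (π ^ r) x ≠ x := by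
    intro r hr0 hr9 x hx
    have hiter : ∀ m : ℕ, ((π ^ r) ^ m) x = x := by
      intro m
      induction m with
      | zero => rfl
      | succ m ih => rw [pow_succ, Equiv.Perm.mul_apply, hx, ih]
    have hq : ∀ q : ℕ, (π ^ (9 * q + 3)) x = (π ^ 3) x := by
      intro q
      rw [pow_add, pow_mul, h9, one_pow, one_mul]
    apply hfree x
    interval_cases r
    · have := hiter 3; rwa [← pow_mul] at this
    · have := hiter 6; rw [← pow_mul] at this; rw [← hq 1]; exact this
    · have := hiter 1; rwa [← pow_mul] at this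
    · have := hiter 3; rw [← pow_mul] at this; rw [← hq 1]; exact this
    · have := hiter 6; rw [← pow_mul] at this; rw [← hq 3]; exact this
    · have := hiter 2; rw [← pow_mul] at this; rw [← hq 1]; exact this
    · have := hiter 3; rw [← pow_mul] at this; rw [← hq 2]; exact this
    · have := hiter 6; rw [← pow_mul] at this; rw [← hq 5]; exact this
  let G := Subgroup.zpowers π
  have hG : Nat.card G = 9 := by
    rw [Nat.card_zpowers, hord]; norm_num
  have hfix : ∀ g : G, g ≠ 1 → IsEmpty (MulAction.fixedBy X g) := by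
    intro g hg
    constructor
    rintro ⟨x, hx⟩
    obtain ⟨g, hgm⟩ := g
    rw [MulAction.mem_fixedBy] at hx
    have hx' : g x = x := hx
    rw [mem_zpowers_iff_mem_range_orderOf, hord] at hgm
    simp only [Finset.mem_image, Finset.mem_range] at hgm
    obtain ⟨r, hr, rfl⟩ := hgm
    have hr0 : 0 < r := by
      rcases Nat.eq_zero_or_pos r with h | h
      · exfalso
        apply hg
        apply Subtype.ext
        change π ^ r = 1
        rw [h, pow_zero]
      · exact h
    exact hmove r hr0 (by norm_num at hr; exact hr) x hx'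
  have h1 := Nat.card_congr (MulAction.sigmaFixedByEquivOrbitsProdGroup G X)
  have : Finite G := Nat.finite_of_card_ne_zero (by rw [hG]; norm_num)
  have : Fintype G := Fintype.ofFinite G
  rw [Nat.card_sigma, Nat.card_prod, hG] at h1
  rw [Finset.sum_eq_single (1 : G)] at h1
  · have h2 : Nat.card (MulAction.fixedBy X (1 : G)) = Fintype.card X := by
      rw [← Nat.card_eq_fintype_card]
      apply Nat.card_congr
      exact ⟨fun x => x.1, fun x => ⟨x, by rw [MulAction.mem_fixedBy, one_smul]⟩,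
        fun x => rfl, fun x => rfl⟩
    rw [h2] at h1
    exact ⟨_, h1.trans (mul_comm _ _)⟩
  · intro g _ hg
    have := hfix g hg
    exact Nat.card_of_isEmpty
  · intro h
    exact absurd (Finset.mem_univ _) h

/-- counting modulo `9` for an automorphism of order dividing `9` -/
theorem nine_dvd_card_sub {T : Type*} [Group T] [Finite T] (ρ : MulAut T) (h9 : ρ ^ 9 = 1) :
    9 ∣ Nat.card T - Nat.card ↥(fixedSub (ρ ^ 3)) := by
  classical
  have : Fintype T := Fintype.ofFinite T
  let p : T → Prop := fun t => (ρ ^ 3) t ≠ t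
  have hp : ∀ t, p (ρ t) ↔ p t := by
    intro t
    change (ρ ^ 3) (ρ t) ≠ ρ t ↔ (ρ ^ 3) t ≠ t
    have h1 : (ρ ^ 3) (ρ t) = ρ ((ρ ^ 3) t) := by
      rw [← MulAut.mul_apply, ← MulAut.mul_apply, ← pow_succ, ← pow_succ']
    rw [h1, Ne, Ne, ρ.injective.eq_iff]
  let π : Equiv.Perm {t // p t} := Equiv.Perm.subtypePerm (ρ.toEquiv : Equiv.Perm T) hp
  have hπ : ∀ (k : ℕ) (x : {t // p t}), ((π ^ k) x : T) = (ρ ^ k) x := by
    intro k
    induction k with
    | zero => intro x; rfl
    | succ k ih =>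
      intro x
      rw [pow_succ', Equiv.Perm.mul_apply, pow_succ', MulAut.mul_apply, ← ih x]
      rfl
  have h1 : 9 ∣ Fintype.card {t // p t} := by
    apply nine_dvd_card_of_free π
    · ext x
      rw [hπ, h9]; rfl
    · intro x hx
      have h2 := congrArg Subtype.val hx
      rw [hπ] at h2
      exact x.2 h2
  have h2 : Fintype.card {t // p t} + Fintype.card {t // ¬ p t} = Fintype.card T :=
    Fintype.card_subtype_compl p ▸ (by
      have := Fintype.card_subtype_le p
      omega)
  have h3 : Fintype.card {t // ¬ p t} = Nat.card ↥(fixedSub (ρ ^ 3)) := by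
    rw [← Nat.card_eq_fintype_card]
    apply Nat.card_congr
    exact ⟨fun x => ⟨x.1, not_not.mp x.2⟩, fun x => ⟨x.1, not_not.mpr x.2⟩, fun x => rfl,
      fun x => rfl⟩
  rw [Nat.card_eq_fintype_card (α := T), ← h2, h3, Nat.add_sub_cancel]
  exact h1


/-! ### Counting modulo three, fixed points in cosets -/

section

variable {T : Type*} [Group T]

theorem aut_cube_apply (ψ : MulAut T) (t : T) : (ψ ^ 3) t = ψ (ψ (ψ t)) := by
  rw [pow_succ, pow_two, MulAut.mul_apply, MulAut.mul_apply]

/-- counting fixed points modulo `3` -/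
theorem card_modEq3 [Finite T] (ψ : MulAut T) (h3 : ψ ^ 3 = 1) (Y : Subgroup T)
    (hY : ∀ d ∈ Y, ψ d ∈ Y) :
    Nat.card ↥Y ≡ Nat.card ↥(Y ⊓ fixedSub ψ) [MOD 3] := by
  classical
  have : Fintype ↥Y := Fintype.ofFinite _
  have : Fact (Nat.Prime 3) := ⟨Nat.prime_three⟩
  let f : Function.End ↥Y := fun y => ⟨ψ y, hY y y.2⟩
  have hf : f ^ 3 ^ 1 = 1 := by
    rw [pow_one]
    funext y
    apply Subtype.ext
    have h1 : ((f ^ 3) y : T) = (ψ ^ 3) y := by
      rw [aut_cube_apply]; rfl
    rw [h1, h3]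
    rfl
  have h1 := Equiv.Perm.card_fixedPoints_modEq (f := f) (p := 3) (n := 1) hf
  have h2 : Fintype.card ↥Y = Nat.card ↥Y := (Nat.card_eq_fintype_card).symm
  have h3 : Fintype.card ↥(Function.fixedPoints f) = Nat.card ↥(Y ⊓ fixedSub ψ) := by
    rw [← Nat.card_eq_fintype_card]
    apply Nat.card_congr
    refine ⟨fun y => ⟨y.1.1, y.1.2, ?_⟩, fun y => ⟨⟨y.1, y.2.1⟩, ?_⟩, fun y => rfl, fun y => rfl⟩
    · have := y.2
      exact congrArg Subtype.val this
    · apply Subtype.ext
      exact y.2.2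
  rw [h2, h3] at h1
  exact h1

/-- an invariant coset of an invariant subgroup of order prime to `3` contains a fixed point -/
theorem exists_fixed_mul [Finite T] (ψ : MulAut T) (h3 : ψ ^ 3 = 1) (N : Subgroup T)
    (hN : ∀ n ∈ N, ψ n ∈ N) (hcop : ¬ 3 ∣ Nat.card N) (x : T) (hx : x⁻¹ * ψ x ∈ N) :
    ∃ n ∈ N, ψ (x * n) = x * n := by
  classical
  have : Fintype ↥N := Fintype.ofFinite _
  have : Fact (Nat.Prime 3) := ⟨Nat.prime_three⟩
  have h3' : ∀ t : T, ψ (ψ (ψ t)) = t := by
    intro t
    rw [← aut_cube_apply, h3]; rfl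
  let f : Function.End ↥N := fun n => ⟨x⁻¹ * ψ x * ψ n, N.mul_mem hx (hN n n.2)⟩
  have hf : f ^ 3 ^ 1 = 1 := by
    rw [pow_one]
    funext n
    apply Subtype.ext
    have h1 : ((f ^ 3) n : T) =
        x⁻¹ * ψ x * ψ (x⁻¹ * ψ x * ψ (x⁻¹ * ψ x * ψ (n : T))) := by
      rw [pow_succ, pow_two]; rfl
    rw [h1]
    simp only [map_mul, map_inv, h3']
    change _ = (n : T)
    group
  have h1 := Equiv.Perm.card_fixedPoints_modEq (f := f) (p := 3) (n := 1) hf
  have h2 : Nonempty ↥(Function.fixedPoints f) := by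
    by_contra hne
    rw [not_nonempty_iff] at hne
    have h5 : Fintype.card ↥(Function.fixedPoints f) = 0 := Fintype.card_eq_zero
    rw [h5, ← Nat.card_eq_fintype_card] at h1
    exact hcop (Nat.modEq_zero_iff_dvd.mp h1)
  obtain ⟨⟨n, hn⟩⟩ := h2
  refine ⟨n, n.2, ?_⟩
  have h4 : x⁻¹ * ψ x * ψ (n : T) = n := congrArg Subtype.val hn
  rw [map_mul]
  calc ψ x * ψ (n : T) = x * (x⁻¹ * ψ x * ψ (n : T)) := by group
    _ = x * n := by rw [h4]

/-! ### Restriction and quotients -/

/-- restriction of an automorphism to an invariant subgroup, as a homomorphism -/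
def resHom (ψ : MulAut T) (S : Subgroup T) (hS : ∀ s ∈ S, ψ s ∈ S) : S →* S where
  toFun s := ⟨ψ s, hS s s.2⟩
  map_one' := Subtype.ext (map_one ψ)
  map_mul' a b := Subtype.ext (map_mul ψ _ _)

/-- restriction of an automorphism to an invariant subgroup -/
noncomputable def resAut [Finite T] (ψ : MulAut T) (S : Subgroup T) (hS : ∀ s ∈ S, ψ s ∈ S) :
    MulAut S :=
  MulEquiv.ofBijective (resHom ψ S hS) (by
    have hinj : Function.Injective (resHom ψ S hS) := by
      intro a b h
      exact Subtype.ext (ψ.injective (congrArg Subtype.val h))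
    exact Finite.injective_iff_bijective.mp hinj)

theorem resAut_apply [Finite T] (ψ : MulAut T) (S : Subgroup T) (hS : ∀ s ∈ S, ψ s ∈ S) (s : S) :
    ((resAut ψ S hS s : S) : T) = ψ s := rfl

theorem resAut_pow_apply [Finite T] (ψ : MulAut T) (S : Subgroup T) (hS : ∀ s ∈ S, ψ s ∈ S)
    (k : ℕ) (s : S) : (((resAut ψ S hS) ^ k) s : T) = (ψ ^ k) s := by
  induction k with
  | zero => rfl
  | succ k ih =>
    rw [pow_succ', MulAut.mul_apply, resAut_apply, ih, pow_succ', MulAut.mul_apply]

theorem map_eq_of_invariant [Finite T] (ψ : MulAut T) (N : Subgroup T)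
    (hN : ∀ n ∈ N, ψ n ∈ N) : N.map (ψ : T →* T) = N := by
  apply Subgroup.eq_of_le_of_card_ge
  · rintro _ ⟨n, hn, rfl⟩
    exact hN n hn
  · rw [Subgroup.card_map_of_injective ψ.injective]

theorem symm_mem_of_invariant [Finite T] (ψ : MulAut T) (N : Subgroup T)
    (hN : ∀ n ∈ N, ψ n ∈ N) {n : T} (hn : n ∈ N) : ψ.symm n ∈ N := by
  have h1 : n ∈ N.map (ψ : T →* T) := by rw [map_eq_of_invariant ψ N hN]; exact hn
  obtain ⟨m, hm, rfl⟩ := h1
  change ψ.symm (ψ m) ∈ N
  rw [MulEquiv.symm_apply_apply]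
  exact hm

theorem mem_iff_of_invariant [Finite T] (ψ : MulAut T) (N : Subgroup T)
    (hN : ∀ n ∈ N, ψ n ∈ N) (t : T) : ψ t ∈ N ↔ t ∈ N := by
  constructor
  · intro h
    have := symm_mem_of_invariant ψ N hN h
    rwa [MulEquiv.symm_apply_apply] at this
  · exact hN t

/-- the induced automorphism of a quotient -/
noncomputable def quotAut [Finite T] (ψ : MulAut T) (N : Subgroup T) [N.Normal]
    (hN : ∀ n ∈ N, ψ n ∈ N) : MulAut (T ⧸ N) :=
  QuotientGroup.congr N N ψ (map_eq_of_invariant ψ N hN)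

theorem quotAut_mk [Finite T] (ψ : MulAut T) (N : Subgroup T) [N.Normal]
    (hN : ∀ n ∈ N, ψ n ∈ N) (x : T) :
    quotAut ψ N hN (QuotientGroup.mk x) = QuotientGroup.mk (ψ x) := rfl

theorem quotAut_pow_mk [Finite T] (ψ : MulAut T) (N : Subgroup T) [N.Normal]
    (hN : ∀ n ∈ N, ψ n ∈ N) (k : ℕ) (x : T) :
    ((quotAut ψ N hN) ^ k) (QuotientGroup.mk x) = QuotientGroup.mk ((ψ ^ k) x) := by
  induction k with
  | zero => rfl
  | succ k ih =>
    rw [pow_succ', MulAut.mul_apply, ih, quotAut_mk, pow_succ', MulAut.mul_apply]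

theorem quotAut_pow_eq_one [Finite T] (ψ : MulAut T) (N : Subgroup T) [N.Normal]
    (hN : ∀ n ∈ N, ψ n ∈ N) {k : ℕ} (hk : ψ ^ k = 1) : (quotAut ψ N hN) ^ k = 1 := by
  ext w
  induction w using QuotientGroup.induction_on with
  | H x => rw [quotAut_pow_mk, hk]; rfl

end

end Cfsg.Agent.Lib.Helper72.R2
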