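import Mathlib
import Cfsg.Agent.Lib.Helper72.R2Basic

/-!
Involutory automorphisms of finite `2`-groups: fixed points in invariant subgroups, and the
inequality `|C_{T/N}(τ)| ≤ |C_T(τ)|`.
-/

set_option autoImplicit false
set_option linter.unusedSectionVars false

namespace Cfsg.Agent.Lib.Helper72.G4

open Cfsg.Agent.Lib.Helper72
open Cfsg.Agent.Lib.Helper72.Sp64 (fixedSub mem_fixedSub)
open Cfsg.Agent.Lib.Helper72.R2

variable {T : Type*} [Group T]

theorem aut_sq_apply (τ : MulAut T) (t : T) : (τ ^ 2) t = τ (τ t) := by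
  rw [pow_two, MulAut.mul_apply]

/-- counting fixed points modulo `2` -/
theorem card_modEq2 [Finite T] (τ : MulAut T) (h2 : τ ^ 2 = 1) (Y : Subgroup T)
    (hY : ∀ d ∈ Y, τ d ∈ Y) :
    Nat.card ↥Y ≡ Nat.card ↥(Y ⊓ fixedSub τ) [MOD 2] := by
  classical
  have : Fintype ↥Y := Fintype.ofFinite _
  have : Fact (Nat.Prime 2) := ⟨Nat.prime_two⟩
  let f : Function.End ↥Y := fun y => ⟨τ y, hY y y.2⟩
  have hf : f ^ 2 ^ 1 = 1 := by
    rw [pow_one]
    funext y
    apply Subtype.ext
    have h1 : ((f ^ 2) y : T) = (τ ^ 2) y := by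
      rw [aut_sq_apply]; rfl
    rw [h1, h2]
    rfl
  have h1 := Equiv.Perm.card_fixedPoints_modEq (f := f) (p := 2) (n := 1) hf
  have h2 : Fintype.card ↥Y = Nat.card ↥Y := (Nat.card_eq_fintype_card).symm
  have h3 : Fintype.card ↥(Function.fixedPoints f) = Nat.card ↥(Y ⊓ fixedSub τ) := by
    rw [← Nat.card_eq_fintype_card]
    apply Nat.card_congr
    refine ⟨fun y => ⟨y.1.1, y.1.2, ?_⟩, fun y => ⟨⟨y.1, y.2.1⟩, ?_⟩, fun y => rfl, fun y => rfl⟩
    · have := y.2
      exact congrArg Subtype.val this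
    · apply Subtype.ext
      exact y.2.2
  rw [h2, h3] at h1
  exact h1

/-- an involutory automorphism of a `2`-group fixes a nontrivial element of every nontrivial
invariant subgroup -/
theorem invol_fixed [Finite T] (hT : IsPGroup 2 T) (τ : MulAut T) (h2 : τ ^ 2 = 1)
    (Y : Subgroup T) (hY : ∀ d ∈ Y, τ d ∈ Y) (hne : Y ≠ ⊥) : ∃ y ∈ Y, y ≠ 1 ∧ τ y = y := by
  have h1 := card_modEq2 τ h2 Y hY
  obtain ⟨k, hk⟩ := IsPGroup.iff_card.mp (hT.to_subgroup Y)
  have hk1 : 1 ≤ k := by
    by_contra h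
    have h0 : k = 0 := by omega
    rw [h0, pow_zero] at hk
    exact hne (Subgroup.card_eq_one.mp hk)
  have heven : 2 ∣ Nat.card Y := by
    rw [hk]; exact dvd_pow_self 2 (by omega)
  have h3 : 2 ∣ Nat.card ↥(Y ⊓ fixedSub τ) := (Nat.ModEq.dvd_iff h1 (dvd_refl 2)).mp heven
  have h4 : Y ⊓ fixedSub τ ≠ ⊥ := by
    intro hb
    rw [hb, Subgroup.card_bot] at h3
    omega
  obtain ⟨⟨y, hy⟩, hy1⟩ := (Subgroup.ne_bot_iff_exists_ne_one).mp h4
  exact ⟨y, hy.1, fun e => hy1 (Subtype.ext e), hy.2⟩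

/-- `|C_{T/N}(τ)| ≤ |C_T(τ)|` -/
theorem card_fixed_quot_le [Finite T] (τ : MulAut T) (N : Subgroup T) [N.Normal]
    (hN : ∀ n ∈ N, τ n ∈ N) :
    Nat.card (fixedSub (quotAut τ N hN)) ≤ Nat.card (fixedSub τ) := by
  classical
  set C := fixedSub τ with hC
  set Cb := fixedSub (quotAut τ N hN) with hCb
  set D : Subgroup T := Cb.comap (QuotientGroup.mk' N) with hD
  have hmemD : ∀ x : T, x ∈ D ↔ τ x * x⁻¹ ∈ N := by
    intro x
    rw [hD, Subgroup.mem_comap, hCb, mem_fixedSub]
    change quotAut τ N hN (QuotientGroup.mk x) = QuotientGroup.mk x ↔ _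
    rw [quotAut_mk, QuotientGroup.eq]
    constructor
    · intro h
      have h2 := N.inv_mem h
      have h3 : τ x * x⁻¹ = τ x * ((τ x)⁻¹ * x)⁻¹ * (τ x)⁻¹ := by group
      rw [h3]
      exact (inferInstance : N.Normal).conj_mem _ h2 _
    · intro h
      have h3 : (τ x)⁻¹ * x = (τ x)⁻¹ * (τ x * x⁻¹)⁻¹ * (τ x)⁻¹⁻¹ := by group
      rw [h3]
      exact (inferInstance : N.Normal).conj_mem _ (N.inv_mem h) _
  have hCD : C ≤ D := by
    intro x hx
    rw [hmemD]
    have h1 : τ x = x := hx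
    rw [h1, mul_inv_cancel]
    exact N.one_mem
  -- the injection
  have hinj : C.relIndex D ≤ Nat.card N := by
    rw [Subgroup.relIndex, Subgroup.index_eq_card]
    let Φ : D → N := fun x => ⟨τ (x : T) * (x : T)⁻¹, (hmemD x).mp x.2⟩
    have hΦ : ∀ a b : D, (QuotientGroup.leftRel (C.subgroupOf D)) a b → Φ a = Φ b := by
      intro a b hab
      rw [QuotientGroup.leftRel_apply, Subgroup.mem_subgroupOf] at hab
      have h1 : τ ((a : T)⁻¹ * b) = (a : T)⁻¹ * b := hab
      rw [map_mul, map_inv] at h1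
      apply Subtype.ext
      change τ (a : T) * (a : T)⁻¹ = τ (b : T) * (b : T)⁻¹
      have h2 : τ (b : T) = τ (a : T) * ((a : T)⁻¹ * b) := by
        rw [← h1]; group
      rw [h2]; group
    let Ψ : D ⧸ (C.subgroupOf D) → N := Quotient.lift Φ hΦ
    apply Nat.card_le_card_of_injective Ψ
    intro u v huv
    induction u using QuotientGroup.induction_on with
    | H a =>
    induction v using QuotientGroup.induction_on with
    | H b =>
    have h1 : Φ a = Φ b := huv
    have h2 : τ (a : T) * (a : T)⁻¹ = τ (b : T) * (b : T)⁻¹ := congrArg Subtype.val h1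
    apply QuotientGroup.eq.mpr
    rw [Subgroup.mem_subgroupOf]
    change τ (((a⁻¹ * b : D) : T)) = ((a⁻¹ * b : D) : T)
    rw [Subgroup.coe_mul, Subgroup.coe_inv, map_mul, map_inv]
    have h3 : τ (b : T) = τ (a : T) * (a : T)⁻¹ * b := by
      rw [h2]; group
    rw [h3]; group
  have h1 : C.relIndex D * D.index = C.index := Subgroup.relIndex_mul_index hCD
  have h2 : D.index = Cb.index :=
    Subgroup.index_comap_of_surjective Cb (QuotientGroup.mk'_surjective N)
  have h3 : Nat.card C * C.index = Nat.card T := Subgroup.card_mul_index C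
  have h4 : Nat.card Cb * Cb.index = Nat.card (T ⧸ N) := Subgroup.card_mul_index Cb
  have h5 : Nat.card T = Nat.card (T ⧸ N) * Nat.card N :=
    Subgroup.card_eq_card_quotient_mul_card_subgroup N
  have h6 : 0 < Cb.index := Nat.pos_of_ne_zero Subgroup.index_ne_zero_of_finite
  have h7 : 0 < Nat.card N := Nat.card_pos
  have h8 : Nat.card C * C.relIndex D * Cb.index = Nat.card Cb * Nat.card N * Cb.index := by
    calc Nat.card C * C.relIndex D * Cb.index = Nat.card C * (C.relIndex D * D.index) := by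
          rw [h2]; ring
      _ = Nat.card T := by rw [h1, h3]
      _ = Nat.card Cb * Cb.index * Nat.card N := by rw [h5, h4]
      _ = _ := by ring
  have h9 : Nat.card C * C.relIndex D = Nat.card Cb * Nat.card N :=
    Nat.eq_of_mul_eq_mul_right h6 h8
  have h10 : Nat.card Cb * Nat.card N ≤ Nat.card C * Nat.card N := by
    rw [← h9]
    exact Nat.mul_le_mul_left _ hinj
  exact Nat.le_of_mul_le_mul_right h10 h7

end Cfsg.Agent.Lib.Helper72.G4
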