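import Mathlib
import Cfsg.Agent.Lib.Helper72.G4Basic

/-!
Abelian `2`-groups with a fixed-point-free automorphism `ρ` of order `3` and a commuting
involutory automorphism `τ` with at most four fixed points: either there are at most three
involutions, or the group is elementary abelian of order `16`.
-/

set_option autoImplicit false
set_option linter.unusedSectionVars false

namespace Cfsg.Agent.Lib.Helper72.G4

open Cfsg.Agent.Lib.Helper72
open Cfsg.Agent.Lib.Helper72.Sp64 (fixedSub mem_fixedSub)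
open Cfsg.Agent.Lib.Helper72.R2

variable {M : Type*} [Group M]

/-- powers of two at most sixteen congruent to one modulo three -/
theorem pow_cases {k : ℕ} (h1 : 2 ^ k ≤ 16) (h2 : 2 ^ k ≡ 1 [MOD 3]) : 2 ^ k ≤ 4 ∨ 2 ^ k = 16 := by
  have hk : k ≤ 4 := by
    by_contra h
    have : 2 ^ 5 ≤ 2 ^ k := Nat.pow_le_pow_right (by norm_num) (by omega)
    omega
  interval_cases k
  · left; norm_num
  · exfalso; revert h2; decide
  · left; norm_num
  · exfalso; revert h2; decide
  · right; norm_num

theorem card_of_dvd_four {n : ℕ} (h1 : n ∣ 4) (h2 : n ≡ 1 [MOD 3]) (h3 : n ≠ 1) : n = 4 := by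
  have h4 : n ≤ 4 := Nat.le_of_dvd (by norm_num) h1
  interval_cases n
  · exfalso; revert h1; decide
  · exact absurd rfl h3
  · exfalso; revert h2; decide
  · exfalso; revert h1; decide
  · rfl

theorem ab_dichotomy [Finite M] (hM : IsPGroup 2 M) (hcomm : ∀ a b : M, a * b = b * a)
    (ρ τ : MulAut M) (h3 : ρ ^ 3 = 1) (hfpf : ∀ m : M, ρ m = m → m = 1) (h2 : τ ^ 2 = 1)
    (hρτ : ∀ m : M, ρ (τ m) = τ (ρ m)) (hC : Nat.card (fixedSub τ) ≤ 4) :
    (∃ V' : Subgroup M, Nat.card V' ≤ 4 ∧ ∀ x : M, x * x = 1 → x ∈ V') ∨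
      (Nat.card M = 16 ∧ ∀ x : M, x * x = 1) := by
  classical
  let _ : CommGroup M := { (inferInstance : Group M) with mul_comm := hcomm }
  have hττ : ∀ m : M, τ (τ m) = m := by
    intro m
    rw [← aut_sq_apply, h2]; rfl
  set C := fixedSub τ with hCdef
  -- the squaring map
  let s : M →* M := powMonoidHom 2
  have hs : ∀ m : M, s m = m * m := fun m => pow_two m
  set Ω : Subgroup M := s.ker with hΩ
  have hmemΩ : ∀ m : M, m ∈ Ω ↔ m * m = 1 := by
    intro m
    rw [hΩ, MonoidHom.mem_ker, hs]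
  -- invariance
  have hΩρ : ∀ d ∈ Ω, ρ d ∈ Ω := by
    intro d hd
    rw [hmemΩ] at hd ⊢
    rw [← map_mul, hd, map_one]
  have hCρ : ∀ d ∈ C, ρ d ∈ C := by
    intro d hd
    have h1 : τ d = d := hd
    change τ (ρ d) = ρ d
    rw [← hρτ, h1]
  have hfix_bot : ∀ Y : Subgroup M, Nat.card ↥(Y ⊓ fixedSub ρ) = 1 := by
    intro Y
    rw [Subgroup.card_eq_one, eq_bot_iff]
    intro y hy
    rw [Subgroup.mem_bot]
    exact hfpf y hy.2
  -- the norm map
  let F : M →* M :=
    { toFun := fun x => x * τ x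
      map_one' := by rw [map_one, one_mul]
      map_mul' := by
        intro a b
        rw [map_mul]
        calc a * b * (τ a * τ b) = a * (b * τ a) * τ b := by group
          _ = a * (τ a * b) * τ b := by rw [hcomm b (τ a)]
          _ = _ := by group }
  have hF : ∀ x : M, F x = x * τ x := fun x => rfl
  let g : Ω →* M := F.comp Ω.subtype
  have hg : ∀ x : Ω, g x = (x : M) * τ (x : M) := fun x => rfl
  have hcard1 : Nat.card g.ker * Nat.card g.range = Nat.card Ω := by
    have := Subgroup.card_mul_index g.ker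
    rwa [Subgroup.index_ker] at this
  have hker_le : Nat.card g.ker ≤ Nat.card ↥(C ⊓ Ω) := by
    apply Nat.card_le_card_of_injective (fun z : g.ker => (⟨((z : Ω) : M), by
      have h5 : g (z : Ω) = 1 := z.2
      rw [hg] at h5
      have h6 : ((z : Ω) : M) * ((z : Ω) : M) = 1 := (hmemΩ _).mp (z : Ω).2
      refine ⟨?_, (z : Ω).2⟩
      change τ ((z : Ω) : M) = ((z : Ω) : M)
      exact mul_left_cancel (h5.trans h6.symm)⟩ : ↥(C ⊓ Ω)))
    intro a b hab
    apply Subtype.ext
    apply Subtype.ext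
    exact congrArg (fun v : ↥(C ⊓ Ω) => (v : M)) hab
  have hrange_le : Nat.card g.range ≤ Nat.card ↥(C ⊓ Ω) := by
    apply Subgroup.card_le_of_le
    rintro _ ⟨x, rfl⟩
    rw [hg]
    have h6 : ((x : Ω) : M) * ((x : Ω) : M) = 1 := (hmemΩ _).mp x.2
    refine ⟨?_, ?_⟩
    · change τ ((x : M) * τ (x : M)) = (x : M) * τ (x : M)
      rw [map_mul, hττ, hcomm]
    · apply (hmemΩ _).mpr
      have h7 : τ (x : M) * τ (x : M) = 1 := by rw [← map_mul, h6, map_one]
      calc (x : M) * τ (x : M) * ((x : M) * τ (x : M))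
          = (x : M) * (τ (x : M) * (x : M)) * τ (x : M) := by group
        _ = (x : M) * ((x : M) * τ (x : M)) * τ (x : M) := by rw [hcomm (τ (x : M)) (x : M)]
        _ = ((x : M) * (x : M)) * (τ (x : M) * τ (x : M)) := by group
        _ = 1 := by rw [h6, h7, one_mul]
  have hCΩ_le : Nat.card ↥(C ⊓ Ω) ≤ Nat.card C := Subgroup.card_le_of_le inf_le_left
  have hΩ16 : Nat.card Ω ≤ 16 := by
    rw [← hcard1]
    calc Nat.card g.ker * Nat.card g.range ≤ 4 * 4 :=
          Nat.mul_le_mul (hker_le.trans (hCΩ_le.trans hC)) (hrange_le.trans (hCΩ_le.trans hC))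
      _ = 16 := by norm_num
  obtain ⟨k, hk⟩ := IsPGroup.iff_card.mp (hM.to_subgroup Ω)
  have hΩ3 : Nat.card Ω ≡ 1 [MOD 3] := by
    have := card_modEq3 ρ h3 Ω hΩρ
    rwa [hfix_bot] at this
  rw [hk] at hΩ16 hΩ3
  rcases pow_cases hΩ16 hΩ3 with h4 | h16
  · left
    refine ⟨Ω, by rw [hk]; exact h4, fun x hx => (hmemΩ x).mpr hx⟩
  · right
    rw [← hk] at h16
    -- `C ≤ Ω` and `|C| = 4`
    have hCΩ4 : Nat.card ↥(C ⊓ Ω) = 4 := by
      have h5 : 16 ≤ Nat.card ↥(C ⊓ Ω) * Nat.card ↥(C ⊓ Ω) := by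
        rw [← h16, ← hcard1]
        exact Nat.mul_le_mul hker_le hrange_le
      have h6 := hCΩ_le.trans hC
      apply le_antisymm h6
      by_contra h7
      have h8 : Nat.card ↥(C ⊓ Ω) ≤ 3 := by omega
      have : Nat.card ↥(C ⊓ Ω) * Nat.card ↥(C ⊓ Ω) ≤ 3 * 3 := Nat.mul_le_mul h8 h8
      omega
    have hC4 : Nat.card C = 4 := le_antisymm hC (hCΩ4 ▸ hCΩ_le)
    -- all squares are trivial
    have hsq : ∀ x : M, x * x = 1 := by
      by_contra hne
      push Not at hne
      obtain ⟨m0, hm0⟩ := hne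
      set S : Subgroup M := s.range with hS
      have hSne : S ≠ ⊥ := by
        intro hb
        apply hm0
        have : s m0 ∈ S := ⟨m0, rfl⟩
        rw [hb, Subgroup.mem_bot, hs] at this
        exact this
      have hSτ : ∀ d ∈ S, τ d ∈ S := by
        rintro _ ⟨m, rfl⟩
        refine ⟨τ m, ?_⟩
        rw [hs, hs, map_mul]
      have hSρ : ∀ d ∈ S, ρ d ∈ S := by
        rintro _ ⟨m, rfl⟩
        refine ⟨ρ m, ?_⟩
        rw [hs, hs, map_mul]
      obtain ⟨y, hyS, hy1, hyτ⟩ := invol_fixed hM τ h2 S hSτ hSne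
      have hCS : C ≤ S := by
        have h5 : Nat.card ↥(C ⊓ S) ≡ 1 [MOD 3] := by
          have := card_modEq3 ρ h3 (C ⊓ S) (fun d hd => ⟨hCρ d hd.1, hSρ d hd.2⟩)
          rwa [hfix_bot] at this
        have h6 : Nat.card ↥(C ⊓ S) ∣ 4 := by
          rw [← hC4]
          exact Subgroup.card_dvd_of_le inf_le_left
        have h7 : Nat.card ↥(C ⊓ S) ≠ 1 := by
          intro h
          rw [Subgroup.card_eq_one] at h
          apply hy1
          have : y ∈ C ⊓ S := ⟨hyτ, hyS⟩
          rw [h, Subgroup.mem_bot] at this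
          exact this
        have h8 := card_of_dvd_four h6 h5 h7
        have h9 : C ⊓ S = C := by
          apply Subgroup.eq_of_le_of_card_ge inf_le_left
          rw [h8, hC4]
        rw [← h9]
        exact inf_le_right
      let K : M →* M :=
        { toFun := fun x => x * (τ x)⁻¹
          map_one' := by rw [map_one, inv_one, one_mul]
          map_mul' := by
            intro a b
            rw [map_mul, mul_inv_rev]
            calc a * b * ((τ b)⁻¹ * (τ a)⁻¹) = a * (b * (τ b)⁻¹ * (τ a)⁻¹) := by group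
              _ = a * ((τ a)⁻¹ * (b * (τ b)⁻¹)) := by rw [hcomm (b * (τ b)⁻¹) (τ a)⁻¹]
              _ = _ := by group }
      have hK : ∀ x : M, K x = x * (τ x)⁻¹ := fun x => rfl
      have hKker : Nat.card K.ker = 4 := by
        rw [← hC4]
        apply Nat.card_congr
        refine ⟨fun z => ⟨z.1, ?_⟩, fun z => ⟨z.1, ?_⟩, fun z => rfl, fun z => rfl⟩
        · have h5 : K z.1 = 1 := z.2
          rw [hK, mul_inv_eq_one] at h5
          exact h5.symm
        · have h5 : τ z.1 = z.1 := z.2
          change K z.1 = 1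
          rw [hK, h5, mul_inv_cancel]
      have hKrange : Nat.card K.range ≤ Nat.card S := by
        apply Subgroup.card_le_of_le
        rintro _ ⟨m, rfl⟩
        rw [hK]
        have h5 : m * τ m ∈ S := by
          apply hCS
          change τ (m * τ m) = m * τ m
          rw [map_mul, hττ, hcomm]
        have h6 : m * m ∈ S := ⟨m, hs m⟩
        have h7 : m * (τ m)⁻¹ = m * m * (m * τ m)⁻¹ := by
          rw [mul_inv_rev, hcomm (τ m)⁻¹ m⁻¹]; group
        rw [h7]
        exact S.mul_mem h6 (S.inv_mem h5)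
      have h10 : Nat.card K.ker * Nat.card K.range = Nat.card M := by
        have := Subgroup.card_mul_index K.ker
        rwa [Subgroup.index_ker] at this
      have h11 : Nat.card Ω * Nat.card S = Nat.card M := by
        have := Subgroup.card_mul_index s.ker
        rwa [Subgroup.index_ker] at this
      have h12 : 0 < Nat.card S := Nat.card_pos
      rw [hKker] at h10
      rw [h16] at h11
      have h13 : 4 * Nat.card K.range ≤ 4 * Nat.card S := Nat.mul_le_mul_left 4 hKrange
      omega
    refine ⟨?_, hsq⟩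
    rw [← h16]
    have : Ω = ⊤ := by
      rw [eq_top_iff]
      intro x _
      exact (hmemΩ x).mpr (hsq x)
    rw [this, Subgroup.card_top]

end Cfsg.Agent.Lib.Helper72.G4
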