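import Mathlib

/-!
Finite abelian `2`-groups with at most three involutions admitting a fixed-point-free
automorphism `ψ` are homocyclic of rank two: `B = ⟨x⟩ × ⟨ψ x⟩`.
-/

set_option autoImplicit false

namespace Cfsg.Agent.Lib.Helper72.R2

variable {B : Type*} [Group B]

/-- bound on the order from the exponent and the number of involutions -/
theorem card_le_four_pow [Finite B] (hcomm : ∀ a b : B, a * b = b * a) (V : Subgroup B)
    (hV4 : Nat.card V ≤ 4) (hΩ : ∀ b : B, b * b = 1 → b ∈ V) :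
    ∀ (n : ℕ) (H : Subgroup B), (∀ h ∈ H, h ^ (2 ^ n) = 1) → Nat.card H ≤ 4 ^ n := by
  intro n
  induction n with
  | zero =>
    intro H hH
    have h1 : H = ⊥ := by
      rw [eq_bot_iff]
      intro h hh
      have := hH h hh
      rw [pow_zero, pow_one] at this
      rw [Subgroup.mem_bot]; exact this
    rw [h1, Subgroup.card_bot, pow_zero]
  | succ n ih =>
    intro H hH
    let _ : CommGroup B := { (inferInstance : Group B) with mul_comm := hcomm }
    let f : H →* B := (powMonoidHom 2).comp H.subtype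
    have hf : ∀ h : H, f h = (h : B) * h := by
      intro h
      change (h : B) ^ 2 = _
      rw [pow_two]
    have h1 : Nat.card f.range ≤ 4 ^ n := by
      apply ih
      rintro _ ⟨h, rfl⟩
      rw [hf, ← pow_two, ← pow_mul, ← pow_succ']
      exact hH h h.2
    have h2 := Subgroup.card_mul_index f.ker
    rw [Subgroup.index_ker] at h2
    have h3 : Nat.card f.ker ≤ 4 := by
      refine le_trans ?_ hV4
      apply Nat.card_le_card_of_injective (fun z : f.ker => (⟨((z : H) : B), hΩ _ (by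
        have h5 : f (z : H) = 1 := z.2
        rw [← hf, h5])⟩ : V))
      intro a b hab
      apply Subtype.ext
      apply Subtype.ext
      exact congrArg (fun v : V => (v : B)) hab
    calc Nat.card H = Nat.card f.ker * Nat.card f.range := h2.symm
      _ ≤ 4 * 4 ^ n := Nat.mul_le_mul h3 h1
      _ = 4 ^ (n + 1) := by rw [pow_succ']

/-- the unique involution of a cyclic `2`-group -/
theorem invol_of_mem_zpowers {x h : B} {n : ℕ} (hn : 1 ≤ n) (hx : orderOf x = 2 ^ n)
    (hh : h ∈ Subgroup.zpowers x) (h2 : h * h = 1) (h1 : h ≠ 1) : h = x ^ (2 ^ (n - 1)) := by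
  have hfin : IsOfFinOrder x := by
    rw [← orderOf_pos_iff, hx]; positivity
  rw [← hfin.mem_powers_iff_mem_zpowers] at hh
  obtain ⟨i, hi⟩ := hh
  have hi' : x ^ i = h := hi
  subst hi'
  have h3 : x ^ (2 * i) = 1 := by
    rw [two_mul, pow_add]; exact h2
  have h4 : 2 ^ n ∣ 2 * i := by
    rw [← hx]; exact orderOf_dvd_of_pow_eq_one h3
  have h5 : (2 : ℕ) ^ n = 2 * 2 ^ (n - 1) := by
    rw [← pow_succ']; congr 1; omega
  rw [h5] at h4
  obtain ⟨j, hj⟩ := (Nat.mul_dvd_mul_iff_left (by norm_num : 0 < 2)).mp h4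
  have hu : (x ^ (2 ^ (n - 1))) ^ 2 = 1 := by
    rw [← pow_mul, mul_comm, ← h5, ← hx, pow_orderOf_eq_one]
  rw [hj, pow_mul]
  rcases Nat.even_or_odd' j with ⟨k, rfl | rfl⟩
  · exfalso
    apply h1
    rw [hj, pow_mul, pow_mul, hu, one_pow]
  · rw [pow_succ, pow_mul, hu, one_pow, one_mul]

theorem ab_core [Finite B] (hB : IsPGroup 2 B) (hcomm : ∀ a b : B, a * b = b * a) (ψ : MulAut B)
    (hfpf : ∀ b : B, ψ b = b → b = 1) (V : Subgroup B) (hV4 : Nat.card V ≤ 4)
    (hΩ : ∀ b : B, b * b = 1 → b ∈ V) (hnt : ∃ b : B, b ≠ 1) :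
    ∃ n : ℕ, 1 ≤ n ∧ ∃ x : B, orderOf x = 2 ^ n ∧ orderOf (ψ x) = 2 ^ n ∧
      Subgroup.zpowers x ⊓ Subgroup.zpowers (ψ x) = ⊥ ∧ Nat.card B = 2 ^ n * 2 ^ n ∧
      ∀ b : B, ∃ a ∈ Subgroup.zpowers x, ∃ c ∈ Subgroup.zpowers (ψ x), b = a * c := by
  classical
  obtain ⟨x, hxmax⟩ := Finite.exists_max (fun b : B => orderOf b)
  obtain ⟨n, hn⟩ := (IsPGroup.iff_orderOf.mp hB) x
  have hexp : ∀ b : B, b ^ (2 ^ n) = 1 := by
    intro b
    obtain ⟨k, hk⟩ := (IsPGroup.iff_orderOf.mp hB) b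
    have h1 : orderOf b ≤ orderOf x := hxmax b
    rw [hk, hn] at h1
    have h2 : k ≤ n := (Nat.pow_le_pow_iff_right (by norm_num)).mp h1
    have h3 : orderOf b ∣ 2 ^ n := by rw [hk]; exact pow_dvd_pow 2 h2
    exact orderOf_dvd_iff_pow_eq_one.mp h3
  have hn1 : 1 ≤ n := by
    obtain ⟨b, hb⟩ := hnt
    by_contra h
    have h0 : n = 0 := by omega
    apply hb
    have := hexp b
    rwa [h0, pow_zero, pow_one] at this
  have hy : orderOf (ψ x) = 2 ^ n := by rw [MulEquiv.orderOf_eq, hn]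
  set u := x ^ (2 ^ (n - 1)) with hu
  have hu1 : u ≠ 1 := by
    apply pow_ne_one_of_lt_orderOf (by positivity)
    rw [hn]
    exact Nat.pow_lt_pow_right (by norm_num) (by omega)
  have hinf : Subgroup.zpowers x ⊓ Subgroup.zpowers (ψ x) = ⊥ := by
    rw [eq_bot_iff]
    intro g hg
    rw [Subgroup.mem_bot]
    by_contra hg1
    obtain ⟨k, hk⟩ := (IsPGroup.iff_orderOf.mp hB) g
    have hk1 : 1 ≤ k := by
      by_contra h
      have h0 : k = 0 := by omega
      rw [h0, pow_zero, orderOf_eq_one_iff] at hk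
      exact hg1 hk
    set h := g ^ (2 ^ (k - 1)) with hh
    have hh1 : h ≠ 1 := by
      apply pow_ne_one_of_lt_orderOf (by positivity)
      rw [hk]
      exact Nat.pow_lt_pow_right (by norm_num) (by omega)
    have hh2 : h * h = 1 := by
      have e : 2 ^ (k - 1) + 2 ^ (k - 1) = 2 ^ k := by
        have : k = (k - 1) + 1 := by omega
        conv_rhs => rw [this, pow_succ]
        ring
      rw [hh, ← pow_add, e, ← hk, pow_orderOf_eq_one]
    have e1 := invol_of_mem_zpowers hn1 hn (Subgroup.pow_mem _ hg.1 _) hh2 hh1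
    have e2 := invol_of_mem_zpowers hn1 hy (Subgroup.pow_mem _ hg.2 _) hh2 hh1
    apply hu1
    apply hfpf
    rw [hu, map_pow, ← e2, e1]
  -- the product map
  let φ : Subgroup.zpowers x × Subgroup.zpowers (ψ x) → B := fun p => (p.1 : B) * (p.2 : B)
  have hφ : Function.Injective φ := by
    rintro ⟨a, c⟩ ⟨a', c'⟩ h
    change (a : B) * c = (a' : B) * c' at h
    have h1 : (a' : B)⁻¹ * a = (c' : B) * (c : B)⁻¹ := by
      rw [inv_mul_eq_iff_eq_mul, ← mul_assoc, ← h, mul_inv_cancel_right]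
    have h2 : (a' : B)⁻¹ * a ∈ Subgroup.zpowers x ⊓ Subgroup.zpowers (ψ x) :=
      ⟨Subgroup.mul_mem _ (Subgroup.inv_mem _ a'.2) a.2,
        h1 ▸ Subgroup.mul_mem _ c'.2 (Subgroup.inv_mem _ c.2)⟩
    rw [hinf, Subgroup.mem_bot] at h2
    have h3 : (a : B) = a' := by
      rw [inv_mul_eq_one] at h2; exact h2.symm
    have h4 : (c : B) = c' := by
      rw [h3] at h; exact mul_left_cancel h
    exact Prod.ext (Subtype.ext h3) (Subtype.ext h4)
  have hcardP : Nat.card (Subgroup.zpowers x × Subgroup.zpowers (ψ x)) = 2 ^ n * 2 ^ n := by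
    rw [Nat.card_prod, Nat.card_zpowers, Nat.card_zpowers, hn, hy]
  have hle : Nat.card B ≤ 2 ^ n * 2 ^ n := by
    have h1 := card_le_four_pow hcomm V hV4 hΩ n ⊤ (fun b _ => hexp b)
    rw [Subgroup.card_top] at h1
    have h2 : (4 : ℕ) ^ n = 2 ^ n * 2 ^ n := by
      rw [← mul_pow]; norm_num
    rw [h2] at h1; exact h1
  have hge : 2 ^ n * 2 ^ n ≤ Nat.card B := by
    rw [← hcardP]
    exact Nat.card_le_card_of_injective φ hφ
  have hbij : Function.Bijective φ :=
    hφ.bijective_of_nat_card_le (by rw [hcardP]; exact hle)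
  refine ⟨n, hn1, x, hn, hy, hinf, le_antisymm hle hge, ?_⟩
  intro b
  obtain ⟨⟨a, c⟩, hac⟩ := hbij.2 b
  exact ⟨a, a.2, c, c.2, hac.symm⟩

/-- the isomorphism type -/
theorem ab_iso [Finite B] (hB : IsPGroup 2 B) (hcomm : ∀ a b : B, a * b = b * a) (ψ : MulAut B)
    (hfpf : ∀ b : B, ψ b = b → b = 1) (V : Subgroup B) (hV4 : Nat.card V ≤ 4)
    (hΩ : ∀ b : B, b * b = 1 → b ∈ V) (hnt : ∃ b : B, b ≠ 1) :
    ∃ n : ℕ, 1 ≤ n ∧ Nonempty (B ≃* Multiplicative (ZMod (2 ^ n) × ZMod (2 ^ n))) := by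
  classical
  obtain ⟨n, hn1, x, hx, hy, hinf, hcard, -⟩ := ab_core hB hcomm ψ hfpf V hV4 hΩ hnt
  refine ⟨n, hn1, ?_⟩
  set m := 2 ^ n with hm
  have : NeZero m := ⟨by positivity⟩
  set y := ψ x with hy'
  have hpx : ∀ i i' : ZMod m, x ^ (i + i').val = x ^ i.val * x ^ i'.val := by
    intro i i'
    rw [ZMod.val_add, ← pow_add]
    have h1 := pow_mod_orderOf x (i.val + i'.val)
    rw [hx] at h1
    exact h1
  have hpy : ∀ i i' : ZMod m, y ^ (i + i').val = y ^ i.val * y ^ i'.val := by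
    intro i i'
    rw [ZMod.val_add, ← pow_add]
    have h1 := pow_mod_orderOf y (i.val + i'.val)
    rw [hy] at h1
    exact h1
  let φ : Multiplicative (ZMod m × ZMod m) →* B :=
    { toFun := fun a => x ^ (Multiplicative.toAdd a).1.val * y ^ (Multiplicative.toAdd a).2.val
      map_one' := by
        change x ^ (0 : ZMod m).val * y ^ (0 : ZMod m).val = 1
        rw [ZMod.val_zero, pow_zero, pow_zero, one_mul]
      map_mul' := by
        intro a b
        change x ^ ((Multiplicative.toAdd a).1 + (Multiplicative.toAdd b).1).val *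
          y ^ ((Multiplicative.toAdd a).2 + (Multiplicative.toAdd b).2).val = _
        rw [hpx, hpy]
        simp only [mul_assoc]
        congr 1
        rw [← mul_assoc, hcomm (x ^ _) (y ^ _), mul_assoc] }
  have hφ : Function.Injective φ := by
    rw [injective_iff_map_eq_one]
    intro a ha
    change x ^ (Multiplicative.toAdd a).1.val * y ^ (Multiplicative.toAdd a).2.val = 1 at ha
    have h1 : x ^ (Multiplicative.toAdd a).1.val ∈
        Subgroup.zpowers x ⊓ Subgroup.zpowers y := by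
      refine ⟨Subgroup.pow_mem _ (Subgroup.mem_zpowers x) _, ?_⟩
      rw [eq_inv_of_mul_eq_one_left ha]
      exact Subgroup.inv_mem _ (Subgroup.pow_mem _ (Subgroup.mem_zpowers y) _)
    rw [hinf, Subgroup.mem_bot] at h1
    have h2 : y ^ (Multiplicative.toAdd a).2.val = 1 := by
      rw [h1, one_mul] at ha; exact ha
    have h3 : (Multiplicative.toAdd a).1 = 0 := by
      rw [← ZMod.val_eq_zero]
      have h4 := orderOf_dvd_of_pow_eq_one h1
      rw [hx] at h4
      exact Nat.eq_zero_of_dvd_of_lt h4 (ZMod.val_lt _)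
    have h5 : (Multiplicative.toAdd a).2 = 0 := by
      rw [← ZMod.val_eq_zero]
      have h4 := orderOf_dvd_of_pow_eq_one h2
      rw [hy] at h4
      exact Nat.eq_zero_of_dvd_of_lt h4 (ZMod.val_lt _)
    apply Multiplicative.toAdd.injective
    exact Prod.ext h3 h5
  have hc : Nat.card (Multiplicative (ZMod m × ZMod m)) = m * m := by
    rw [Nat.card_eq_fintype_card, Fintype.card_multiplicative, Fintype.card_prod, ZMod.card]
  have hbij : Function.Bijective φ :=
    hφ.bijective_of_nat_card_le (by rw [hc, hcard])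
  exact ⟨(MulEquiv.ofBijective φ hbij).symm⟩

end Cfsg.Agent.Lib.Helper72.R2
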