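import Mathlib
import Cfsg.Agent.Lib.Helper72.R2Basic

/-!
The standing configuration for the `2`-rank `2` theorem: a finite `2`-group `T` with exactly
three involutions `z, ψ z, ψ² z`, all central, permuted by the automorphism `ψ`.
-/

set_option autoImplicit false
set_option linter.unusedSectionVars false

open scoped commutatorElement

namespace Cfsg.Agent.Lib.Helper72.R2

open Cfsg.Agent.Lib.Helper72.Sp64 (fixedSub mem_fixedSub)

/-- the standing configuration -/
structure Cfg {T : Type*} [Group T] (ψ : MulAut T) (z : T) : Prop where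
  isP : IsPGroup 2 T
  z_ne : z ≠ 1
  z_sq : z * z = 1
  z_move : ψ z ≠ z
  invol : ∀ x : T, x * x = 1 → x = 1 ∨ x = z ∨ x = ψ z ∨ x = ψ (ψ z)
  central : ∀ x : T, x * x = 1 → ∀ y : T, y * x = x * y

namespace Cfg

variable {T : Type*} [Group T] {ψ : MulAut T} {z : T} (h : Cfg ψ z)
include h

theorem map_sq {x : T} (hx : x * x = 1) : ψ x * ψ x = 1 := by
  rw [← map_mul, hx, map_one]

theorem z1_sq : ψ z * ψ z = 1 := h.map_sq h.z_sq

theorem z2_sq : ψ (ψ z) * ψ (ψ z) = 1 := h.map_sq h.z1_sq

theorem z1_ne : ψ z ≠ 1 := by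
  intro h1
  apply h.z_ne
  have := ψ.injective (h1.trans (map_one ψ).symm)
  exact this

theorem z2_ne : ψ (ψ z) ≠ 1 := by
  intro h1
  apply h.z1_ne
  exact ψ.injective (h1.trans (map_one ψ).symm)

theorem z2_ne_z1 : ψ (ψ z) ≠ ψ z := fun h1 => h.z_move (ψ.injective h1)

/-- the product of the first two involutions is the third -/
theorem z_mul_z1 : z * ψ z = ψ (ψ z) := by
  have hc : ψ z * z = z * ψ z := h.central z h.z_sq (ψ z)
  have h1 : (z * ψ z) * (z * ψ z) = 1 := by
    calc (z * ψ z) * (z * ψ z) = z * (ψ z * z) * ψ z := by simp only [mul_assoc]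
      _ = z * (z * ψ z) * ψ z := by rw [hc]
      _ = (z * z) * (ψ z * ψ z) := by simp only [mul_assoc]
      _ = 1 := by rw [h.z_sq, h.z1_sq, mul_one]
  rcases h.invol _ h1 with h2 | h2 | h2 | h2
  · exfalso
    apply h.z_move
    have h3 : ψ z = z⁻¹ := eq_inv_of_mul_eq_one_right h2
    rw [h3]
    exact inv_eq_of_mul_eq_one_left h.z_sq
  · exfalso
    apply h.z1_ne
    exact mul_eq_left.mp h2
  · exfalso
    apply h.z_ne
    exact mul_eq_right.mp h2
  · exact h2

theorem z2_ne_z : ψ (ψ z) ≠ z := by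
  intro h1
  apply h.z1_ne
  have := h.z_mul_z1
  rw [h1] at this
  exact mul_eq_left.mp this

theorem cube_z : ψ (ψ (ψ z)) = z := by
  have h1 := congrArg ψ h.z_mul_z1
  rw [map_mul] at h1
  rw [← h1, ← h.z_mul_z1]
  have hc : ψ z * z = z * ψ z := h.central z h.z_sq (ψ z)
  calc ψ z * (z * ψ z) = (ψ z * z) * ψ z := by rw [mul_assoc]
    _ = (z * ψ z) * ψ z := by rw [hc]
    _ = z * (ψ z * ψ z) := by rw [mul_assoc]
    _ = z := by rw [h.z1_sq, mul_one]

/-- the subgroup of elements of order at most two -/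
def V : Subgroup T where
  carrier := {x | x * x = 1}
  one_mem' := mul_one 1
  mul_mem' {a b} ha hb := by
    change a * b * (a * b) = 1
    have hc : b * a = a * b := h.central a ha b
    calc a * b * (a * b) = a * (b * a) * b := by simp only [mul_assoc]
      _ = a * (a * b) * b := by rw [hc]
      _ = (a * a) * (b * b) := by simp only [mul_assoc]
      _ = 1 := by rw [ha, hb, mul_one]
  inv_mem' {a} ha := by
    change a⁻¹ * a⁻¹ = 1
    rw [← mul_inv_rev, ha, inv_one]

theorem mem_V {x : T} : x ∈ h.V ↔ x * x = 1 := Iff.rfl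

theorem V_le_center : h.V ≤ Subgroup.center T := by
  intro x hx
  rw [Subgroup.mem_center_iff]
  intro y
  exact h.central x hx y

theorem z_mem : z ∈ h.V := h.z_sq
theorem z1_mem : ψ z ∈ h.V := h.z1_sq
theorem z2_mem : ψ (ψ z) ∈ h.V := h.z2_sq

theorem V_cases {x : T} (hx : x ∈ h.V) : x = 1 ∨ x = z ∨ x = ψ z ∨ x = ψ (ψ z) := h.invol x hx

theorem psi_V {v : T} (hv : v ∈ h.V) : ψ v ∈ h.V := h.map_sq hv

theorem card_V : Nat.card h.V = 4 := by
  classical
  have h1 : (h.V : Set T) = ↑({1, z, ψ z, ψ (ψ z)} : Finset T) := by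
    ext x
    simp only [SetLike.mem_coe, Finset.coe_insert, Finset.coe_singleton, Set.mem_insert_iff,
      Set.mem_singleton_iff]
    constructor
    · exact h.V_cases
    · rintro (rfl | rfl | rfl | rfl)
      · exact Subgroup.one_mem _
      · exact h.z_mem
      · exact h.z1_mem
      · exact h.z2_mem
  have h2 : Nat.card h.V = Nat.card ((h.V : Set T)) := rfl
  rw [h2, h1, Nat.card_coe_set_eq, Set.ncard_coe_finset]
  rw [Finset.card_insert_of_notMem, Finset.card_insert_of_notMem, Finset.card_insert_of_notMem,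
    Finset.card_singleton]
  · simp only [Finset.mem_singleton]
    exact fun e => h.z2_ne_z1 e.symm
  · simp only [Finset.mem_insert, Finset.mem_singleton, not_or]
    exact ⟨fun e => h.z_move e.symm, fun e => h.z2_ne_z e.symm⟩
  · simp only [Finset.mem_insert, Finset.mem_singleton, not_or]
    exact ⟨fun e => h.z_ne e.symm, fun e => h.z1_ne e.symm, fun e => h.z2_ne e.symm⟩

theorem cube_fix {v : T} (hv : v ∈ h.V) : ψ (ψ (ψ v)) = v := by
  rcases h.V_cases hv with rfl | rfl | rfl | rfl
  · rw [map_one, map_one, map_one]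
  · exact h.cube_z
  · rw [h.cube_z]
  · rw [h.cube_z]

theorem pow_cube_fix {v : T} (hv : v ∈ h.V) (k : ℕ) : ((ψ ^ 3) ^ k) v = v := by
  induction k with
  | zero => rfl
  | succ k ih =>
    rw [pow_succ, MulAut.mul_apply, aut_cube_apply, h.cube_fix hv, ih]

/-- no involution is fixed -/
theorem V_fix {v : T} (hv : v ∈ h.V) (hf : ψ v = v) : v = 1 := by
  rcases h.V_cases hv with rfl | rfl | rfl | rfl
  · rfl
  · exact absurd hf h.z_move
  · exact absurd (ψ.injective hf) h.z_move
  · exact absurd (ψ.injective (ψ.injective hf)) h.z_move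

/-- every nontrivial subgroup contains an involution -/
theorem exists_invol_mem [Finite T] (S : Subgroup T) (hS : S ≠ ⊥) :
    ∃ v ∈ S, v ≠ 1 ∧ v * v = 1 := by
  obtain ⟨⟨s, hs⟩, hs1'⟩ := (Subgroup.ne_bot_iff_exists_ne_one).mp hS
  have hs1 : s ≠ 1 := fun e => hs1' (Subtype.ext e)
  obtain ⟨k, hk⟩ := (IsPGroup.iff_orderOf.mp h.isP) s
  have hk1 : 1 ≤ k := by
    by_contra hk0
    have h0 : k = 0 := by omega
    rw [h0, pow_zero, orderOf_eq_one_iff] at hk
    exact hs1 hk
  refine ⟨s ^ (2 ^ (k - 1)), Subgroup.pow_mem _ hs _, ?_, ?_⟩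
  · apply pow_ne_one_of_lt_orderOf (by positivity)
    rw [hk]
    exact Nat.pow_lt_pow_right (by norm_num) (by omega)
  · have e : 2 ^ (k - 1) + 2 ^ (k - 1) = 2 ^ k := by
      have : k = (k - 1) + 1 := by omega
      conv_rhs => rw [this, pow_succ]
      ring
    rw [← pow_add, e, ← hk, pow_orderOf_eq_one]

/-- `ψ` is fixed-point-free -/
theorem fpf [Finite T] (t : T) (ht : ψ t = t) : t = 1 := by
  by_contra ht1
  have hS : fixedSub ψ ≠ ⊥ := by
    intro hb
    have : t ∈ fixedSub ψ := ht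
    rw [hb, Subgroup.mem_bot] at this
    exact ht1 this
  obtain ⟨v, hv, hv1, hv2⟩ := h.exists_invol_mem _ hS
  exact hv1 (h.V_fix hv2 hv)

/-- nontrivial invariant subgroups contain all involutions -/
theorem V_le_of_invariant [Finite T] (S : Subgroup T) (hS : S ≠ ⊥)
    (hinv : ∀ s ∈ S, ψ s ∈ S) : h.V ≤ S := by
  obtain ⟨v, hv, hv1, hv2⟩ := h.exists_invol_mem S hS
  have hz : z ∈ S := by
    rcases h.V_cases hv2 with rfl | rfl | rfl | rfl
    · exact absurd rfl hv1
    · exact hv
    · have := hinv _ (hinv _ hv)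
      rwa [h.cube_z] at this
    · have := hinv _ hv
      rwa [h.cube_z] at this
  intro x hx
  rcases h.V_cases hx with rfl | rfl | rfl | rfl
  · exact S.one_mem
  · exact hz
  · exact hinv _ hz
  · exact hinv _ (hinv _ hz)

/-- restriction to an invariant subgroup -/
theorem restrict [Finite T] (S : Subgroup T) (hinv : ∀ s ∈ S, ψ s ∈ S) (hz : z ∈ S) :
    Cfg (resAut ψ S hinv) (⟨z, hz⟩ : S) where
  isP := h.isP.to_subgroup S
  z_ne := fun e => h.z_ne (congrArg Subtype.val e)
  z_sq := Subtype.ext h.z_sq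
  z_move := fun e => h.z_move (congrArg Subtype.val e)
  invol := by
    intro x hx
    have hx' : (x : T) * x = 1 := congrArg Subtype.val hx
    rcases h.invol _ hx' with h1 | h1 | h1 | h1
    · exact Or.inl (Subtype.ext h1)
    · exact Or.inr (Or.inl (Subtype.ext h1))
    · exact Or.inr (Or.inr (Or.inl (Subtype.ext h1)))
    · exact Or.inr (Or.inr (Or.inr (Subtype.ext h1)))
  central := by
    intro x hx y
    have hx' : (x : T) * x = 1 := congrArg Subtype.val hx
    exact Subtype.ext (h.central _ hx' y)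

end Cfg

end Cfsg.Agent.Lib.Helper72.R2
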