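import Mathlib
import Cfsg.Agent.Lib.Helper72.Sp64

/-!
A Chevalley--Warning type lemma over `ZMod 2` without coordinates: functions of bounded degree
(in the sense of iterated differences) on an elementary abelian `2`-group sum to zero, and the
resulting bound for groups `T` with a central Klein four subgroup `V` containing all squares and
all involutions: `|T| < 256`.
-/

set_option autoImplicit false

open scoped commutatorElement

namespace Cfsg.Agent.Lib.Helper72.R2CW

universe u

section Deg

variable {W : Type*} [Group W]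

theorem two_eq_zero : (2 : ZMod 2) = 0 := by decide

/-- the difference operator -/
def D (h : W) (f : W → ZMod 2) : W → ZMod 2 := fun w => f (w * h) + f w

/-- `Deg k f`: all `k`-fold differences of `f` vanish (degree `< k`) -/
def Deg : ℕ → (W → ZMod 2) → Prop
  | 0, f => ∀ w, f w = 0
  | (k + 1), f => ∀ h, Deg k (D h f)

theorem deg_zero_iff (f : W → ZMod 2) : Deg 0 f ↔ ∀ w, f w = 0 := Iff.rfl

theorem deg_succ_iff (k : ℕ) (f : W → ZMod 2) : Deg (k + 1) f ↔ ∀ h, Deg k (D h f) := Iff.rfl

theorem Deg.congr {k : ℕ} {f g : W → ZMod 2} (h : Deg k f) (hfg : ∀ w, f w = g w) : Deg k g := by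
  have : f = g := funext hfg
  rwa [← this]

theorem Deg.mono {k : ℕ} : ∀ {f : W → ZMod 2}, Deg k f → Deg (k + 1) f := by
  induction k with
  | zero =>
    intro f hf h w
    change f (w * h) + f w = 0
    rw [hf, hf, add_zero]
  | succ k ih =>
    intro f hf h
    exact ih (hf h)

theorem Deg.mono' {k l : ℕ} (hkl : k ≤ l) {f : W → ZMod 2} (hf : Deg k f) : Deg l f := by
  induction hkl with
  | refl => exact hf
  | step _ ih => exact ih.mono

theorem Deg.add {k : ℕ} : ∀ {f g : W → ZMod 2}, Deg k f → Deg k g →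
    Deg k (fun w => f w + g w) := by
  induction k with
  | zero =>
    intro f g hf hg w
    change f w + g w = 0
    rw [hf, hg, add_zero]
  | succ k ih =>
    intro f g hf hg h
    refine (ih (hf h) (hg h)).congr ?_
    intro w
    change (f (w * h) + f w) + (g (w * h) + g w) = (f (w * h) + g (w * h)) + (f w + g w)
    ring

theorem Deg.const (c : ZMod 2) : Deg 1 (fun _ : W => c) := by
  intro h w
  change c + c = 0
  linear_combination c * two_eq_zero

theorem Deg.mul : ∀ (n a b : ℕ), a + b = n → ∀ {f g : W → ZMod 2}, Deg a f → Deg b g →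
    Deg (a + b) (fun w => f w * g w) := by
  intro n
  induction n using Nat.strong_induction_on with
  | _ n ih =>
    intro a b hab f g hf hg
    rcases a with _ | a
    · have h0 : Deg 0 (fun w => f w * g w) := by
        intro w
        change f w * g w = 0
        rw [hf w, zero_mul]
      exact h0.mono' (Nat.zero_le _)
    rcases b with _ | b
    · have h0 : Deg 0 (fun w => f w * g w) := by
        intro w
        change f w * g w = 0
        rw [hg w, mul_zero]
      exact h0.mono' (Nat.zero_le _)
    have e : a + 1 + (b + 1) = (a + b + 1) + 1 := by ring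
    rw [e]
    intro h
    have h1 : Deg (a + 1 + b) (fun w => f w * D h g w) :=
      ih (a + 1 + b) (by omega) (a + 1) b rfl hf (hg h)
    have h2 : Deg (a + (b + 1)) (fun w => D h f w * g w) :=
      ih (a + (b + 1)) (by omega) a (b + 1) rfl (hf h) hg
    have h3 : Deg (a + b) (fun w => D h f w * D h g w) :=
      ih (a + b) (by omega) a b rfl (hf h) (hg h)
    have h1' : Deg (a + b + 1) (fun w => f w * D h g w) := h1.mono' (by omega)
    have h2' : Deg (a + b + 1) (fun w => D h f w * g w) := h2.mono' (by omega)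
    have h3' : Deg (a + b + 1) (fun w => D h f w * D h g w) := h3.mono' (by omega)
    refine ((h1'.add h2').add h3').congr ?_
    intro w
    change f w * (g (w * h) + g w) + (f (w * h) + f w) * g w +
      (f (w * h) + f w) * (g (w * h) + g w) = f (w * h) * g (w * h) + f w * g w
    linear_combination (f w * g (w * h) + f (w * h) * g w + f w * g w) * two_eq_zero

theorem Deg.comp_subtype {k : ℕ} (K : Subgroup W) : ∀ {f : W → ZMod 2}, Deg k f →
    Deg k (fun u : K => f (u : W)) := by
  induction k with
  | zero =>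
    intro f hf u
    exact hf u
  | succ k ih =>
    intro f hf h
    exact ih (hf (h : W))

/-- a quadratic function has degree `< 3` -/
theorem deg_three_of_quadratic (f : W → ZMod 2) (β : W → W → ZMod 2)
    (hf : ∀ w h, f (w * h) = f w + f h + β w h)
    (hβ : ∀ w w' h, β (w * w') h = β w h + β w' h) : Deg 3 f := by
  intro h h' h'' w
  change ((f (w * h'' * h' * h) + f (w * h'' * h')) + (f (w * h'' * h) + f (w * h''))) +
    ((f (w * h' * h) + f (w * h')) + (f (w * h) + f w)) = 0
  rw [hf (w * h'' * h') h, hf (w * h'') h, hf (w * h') h, hf w h, hβ (w * h'') h' h,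
    hβ w h'' h, hβ w h' h]
  linear_combination (2 * f h + 2 * β w h + β h'' h + β h' h + f (w * h'' * h') +
    f (w * h'') + f (w * h') + f w) * two_eq_zero

end Deg

/-- functions of degree `< k` on an elementary abelian `2`-group of order `≥ 2 ^ k` sum to `0` -/
theorem sum_eq_zero : ∀ (k : ℕ) (W : Type u) [Group W] [Fintype W], (∀ w : W, w * w = 1) →
    ∀ f : W → ZMod 2, Deg k f → 2 ^ k ≤ Fintype.card W → ∑ w, f w = 0 := by
  intro k
  induction k with
  | zero =>
    intro W _ _ _ f hf _
    exact Finset.sum_eq_zero (fun w _ => hf w)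
  | succ k ih =>
    intro W _ _ hexp f hf hcard
    classical
    have hP : IsPGroup 2 W := by
      intro g
      exact ⟨1, by rw [pow_one, pow_two]; exact hexp g⟩
    obtain ⟨m, hm⟩ := IsPGroup.iff_card.mp hP
    rw [Nat.card_eq_fintype_card] at hm
    have hm1 : k + 1 ≤ m := by
      rw [hm] at hcard
      exact (Nat.pow_le_pow_iff_right (by norm_num)).mp hcard
    have : Fact (Nat.Prime 2) := ⟨Nat.prime_two⟩
    obtain ⟨K, hK⟩ := Sylow.exists_subgroup_card_pow_prime (G := W) 2 (n := m - 1)
      (by rw [Nat.card_eq_fintype_card, hm]; exact pow_dvd_pow 2 (Nat.sub_le m 1))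
    have hidx : K.index = 2 := by
      have h1 := K.card_mul_index
      rw [hK, Nat.card_eq_fintype_card, hm] at h1
      have h2 : 2 ^ m = 2 ^ (m - 1) * 2 := by
        rw [← pow_succ]; congr 1; omega
      rw [h2] at h1
      exact Nat.eq_of_mul_eq_mul_left (by positivity) h1
    obtain ⟨a, ha⟩ := Subgroup.index_eq_two_iff.mp hidx
    -- the decomposition of `W`
    let e : K ⊕ K → W := fun x => Sum.elim (fun u : K => (u : W)) (fun u : K => (u : W) * a⁻¹) x
    have he : Function.Bijective e := by
      constructor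
      · rintro (u | u) (v | v) huv
        · exact congrArg Sum.inl (Subtype.ext huv)
        · exfalso
          change (u : W) = (v : W) * a⁻¹ at huv
          have h1 := ha ((v : W) * a⁻¹)
          rw [inv_mul_cancel_right] at h1
          rcases h1 with ⟨_, h2⟩ | ⟨h2, _⟩
          · exact h2 (huv ▸ u.2)
          · exact absurd (huv ▸ u.2) (fun h => by
              have := ha ((v : W) * a⁻¹)
              rw [inv_mul_cancel_right] at this
              rcases this with ⟨_, h3⟩ | ⟨_, h3⟩
              · exact h3 h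
              · exact h3 v.2)
        · exfalso
          change (u : W) * a⁻¹ = (v : W) at huv
          have h1 := ha ((u : W) * a⁻¹)
          rw [inv_mul_cancel_right] at h1
          rcases h1 with ⟨_, h2⟩ | ⟨_, h2⟩
          · exact h2 (huv ▸ v.2)
          · exact h2 u.2
        · change (u : W) * a⁻¹ = (v : W) * a⁻¹ at huv
          exact congrArg Sum.inr (Subtype.ext (mul_right_cancel huv))
      · intro w
        by_cases hw : w ∈ K
        · exact ⟨Sum.inl ⟨w, hw⟩, rfl⟩
        · have h1 : w * a ∈ K := by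
            rcases ha w with ⟨h2, _⟩ | ⟨h2, _⟩
            · exact h2
            · exact absurd h2 hw
          exact ⟨Sum.inr ⟨w * a, h1⟩, mul_inv_cancel_right w a⟩
    have hsum : ∑ w, f w = ∑ u : K, D a⁻¹ f (u : W) := by
      rw [← he.sum_comp f, Fintype.sum_sum_type, ← Finset.sum_add_distrib]
      apply Finset.sum_congr rfl
      intro u _
      change f (u : W) + f ((u : W) * a⁻¹) = f ((u : W) * a⁻¹) + f (u : W)
      ring
    rw [hsum]
    apply ih K (fun u => Subtype.ext (hexp u)) (fun u : K => D a⁻¹ f (u : W))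
      ((hf a⁻¹).comp_subtype K)
    rw [← Nat.card_eq_fintype_card, hK]
    exact Nat.pow_le_pow_right (by norm_num) (by omega)

/-- two quadratic functions on an elementary abelian `2`-group of order at least `64` have a
common nontrivial zero -/
theorem exists_common_zero {W : Type u} [Group W] [Finite W] (hexp : ∀ w : W, w * w = 1)
    (f₁ f₂ : W → ZMod 2) (h1 : Deg 3 f₁) (h2 : Deg 3 f₂) (h01 : f₁ 1 = 0) (h02 : f₂ 1 = 0)
    (hcard : 64 ≤ Nat.card W) : ∃ w : W, w ≠ 1 ∧ f₁ w = 0 ∧ f₂ w = 0 := by
  classical
  by_contra hcon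
  push Not at hcon
  let _ : Fintype W := Fintype.ofFinite W
  have hd1 : Deg 3 (fun w => 1 + f₁ w) := ((Deg.const (W := W) 1).mono' (by norm_num)).add h1
  have hd2 : Deg 3 (fun w => 1 + f₂ w) := ((Deg.const (W := W) 1).mono' (by norm_num)).add h2
  have hd : Deg (3 + 3) (fun w => (1 + f₁ w) * (1 + f₂ w)) := Deg.mul 6 3 3 rfl hd1 hd2
  have h64 : (2 : ℕ) ^ (3 + 3) = 64 := by norm_num
  have hs := sum_eq_zero (3 + 3) W hexp _ hd (by
    rw [h64, ← Nat.card_eq_fintype_card]; exact hcard)
  have hval : ∀ w : W, (1 + f₁ w) * (1 + f₂ w) = if w = 1 then 1 else 0 := by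
    intro w
    by_cases hw : w = 1
    · rw [if_pos hw, hw, h01, h02]; ring
    · rw [if_neg hw]
      have h3 := hcon w hw
      by_cases h4 : f₁ w = 0
      · have h5 := h3 h4
        have h6 : f₂ w = 1 := by
          have : ∀ x : ZMod 2, x ≠ 0 → x = 1 := by decide
          exact this _ h5
        rw [h6]
        linear_combination (1 + f₁ w) * two_eq_zero
      · have h6 : f₁ w = 1 := by
          have : ∀ x : ZMod 2, x ≠ 0 → x = 1 := by decide
          exact this _ h4
        rw [h6]
        linear_combination (1 + f₂ w) * two_eq_zero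
  rw [Finset.sum_congr rfl (fun w _ => hval w), Finset.sum_ite_eq' Finset.univ (1 : W)] at hs
  simp at hs


/-! ### The bound -/

section Concrete

open Cfsg.Agent.Lib.Helper72

variable {T : Type u} [Group T]

/-- a commutator is a product of squares -/
theorem commutator_eq_squares (y x : T) :
    ⁅y, x⁆ = (y * x) * (y * x) * x⁻¹ * (y⁻¹ * y⁻¹) * x⁻¹ := by
  rw [commutatorElement_def]; group

theorem commutator_mem_of_squares (V : Subgroup T) (hVc : V ≤ Subgroup.center T)
    (hsq : ∀ x : T, x * x ∈ V) (y x : T) : ⁅y, x⁆ ∈ V := by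
  have h1 : ⁅y, x⁆ = (y * x) * (y * x) * ((y⁻¹ * y⁻¹) * (x⁻¹ * x⁻¹)) := by
    rw [commutator_eq_squares]
    have h2 := Subgroup.mem_center_iff.mp (hVc (hsq y⁻¹)) x⁻¹
    calc (y * x) * (y * x) * x⁻¹ * (y⁻¹ * y⁻¹) * x⁻¹
        = (y * x) * (y * x) * (x⁻¹ * (y⁻¹ * y⁻¹)) * x⁻¹ := by simp only [mul_assoc]
      _ = (y * x) * (y * x) * ((y⁻¹ * y⁻¹) * x⁻¹) * x⁻¹ := by rw [h2]
      _ = _ := by simp only [mul_assoc]
  rw [h1]
  exact V.mul_mem (hsq _) (V.mul_mem (hsq _) (hsq _))

/-- **The bound**: a finite group with a central Klein four subgroup containing all squares and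
all involutions has order less than `256`. -/
theorem card_lt [Finite T] (V : Subgroup T) (hVc : V ≤ Subgroup.center T)
    (hV4 : Nat.card V = 4) (hVexp : ∀ v ∈ V, v * v = 1) (hsq : ∀ x : T, x * x ∈ V)
    (hinv : ∀ x : T, x * x = 1 → x ∈ V) : Nat.card T < 256 := by
  classical
  by_contra hcon
  push Not at hcon
  have hVn : V.Normal := by
    constructor
    intro n hn g
    have h1 := Subgroup.mem_center_iff.mp (hVc hn) g
    rw [h1, mul_inv_cancel_right]
    exact hn
  have hcomm : ∀ a b : T, ⁅a, b⁆ ∈ Subgroup.center T := fun a b =>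
    hVc (commutator_mem_of_squares V hVc hsq a b)
  -- Klein four
  have hK : IsKleinFour V := by
    refine ⟨hV4, ?_⟩
    have h4 : Monoid.exponent V ∣ 2 := by
      apply Monoid.exponent_dvd_of_forall_pow_eq_one
      intro v
      rw [pow_two]
      exact Subtype.ext (hVexp v v.2)
    rcases (Nat.dvd_prime Nat.prime_two).mp h4 with h5 | h5
    · exfalso
      have h6 : Subsingleton V := Monoid.exp_eq_one_iff.mp h5
      have h7 : Nat.card V = 1 := Nat.card_unique
      omega
    · exact h5
  obtain ⟨e⟩ := IsKleinFour.nonempty_mulEquiv (G₁ := V) (G₂ := Multiplicative (ZMod 2 × ZMod 2))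
  -- the coordinate functions
  let χ₁ : V → ZMod 2 := fun v => (Multiplicative.toAdd (e v)).1
  let χ₂ : V → ZMod 2 := fun v => (Multiplicative.toAdd (e v)).2
  have hχ₁ : ∀ v w : V, χ₁ (v * w) = χ₁ v + χ₁ w := by
    intro v w
    change (Multiplicative.toAdd (e (v * w))).1 = _
    rw [map_mul, toAdd_mul, Prod.fst_add]
  have hχ₂ : ∀ v w : V, χ₂ (v * w) = χ₂ v + χ₂ w := by
    intro v w
    change (Multiplicative.toAdd (e (v * w))).2 = _
    rw [map_mul, toAdd_mul, Prod.snd_add]
  have hχ0 : ∀ v : V, χ₁ v = 0 → χ₂ v = 0 → v = 1 := by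
    intro v h1 h2
    apply e.injective
    rw [map_one]
    apply Multiplicative.toAdd.injective
    exact Prod.ext h1 h2
  have hχ₁1 : χ₁ 1 = 0 := by
    change (Multiplicative.toAdd (e 1)).1 = 0
    rw [map_one]; rfl
  have hχ₂1 : χ₂ 1 = 0 := by
    change (Multiplicative.toAdd (e 1)).2 = 0
    rw [map_one]; rfl
  -- general facts on functions of squares
  have key : ∀ χ : V → ZMod 2, (∀ v w : V, χ (v * w) = χ v + χ w) → χ 1 = 0 →
      ∃ f : T ⧸ V → ZMod 2, (∀ x : T, f (QuotientGroup.mk x) = χ ⟨x * x, hsq x⟩) ∧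
        Deg 3 f ∧ f 1 = 0 := by
    intro χ hχ hχ1
    let g : T → ZMod 2 := fun x => χ ⟨x * x, hsq x⟩
    have hg : ∀ (x : T) (v : T), v ∈ V → g (x * v) = g x := by
      intro x v hv
      change χ ⟨x * v * (x * v), hsq _⟩ = χ ⟨x * x, hsq x⟩
      congr 2
      have h1 := Subgroup.mem_center_iff.mp (hVc hv) x
      calc x * v * (x * v) = x * (v * x) * v := by simp only [mul_assoc]
        _ = x * (x * v) * v := by rw [← h1]
        _ = x * x * (v * v) := by simp only [mul_assoc]
        _ = x * x := by rw [hVexp v hv, mul_one]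
    let f : T ⧸ V → ZMod 2 := fun w => g w.out
    have hf : ∀ x : T, f (QuotientGroup.mk x) = g x := by
      intro x
      obtain ⟨v, hv⟩ := QuotientGroup.mk_out_eq_mul V x
      change g (QuotientGroup.mk x : T ⧸ V).out = g x
      rw [hv]
      exact hg x v v.2
    have hgmul : ∀ x y : T, g (x * y) = g x + g y +
        χ ⟨⁅y, x⁆, commutator_mem_of_squares V hVc hsq y x⟩ := by
      intro x y
      change χ ⟨x * y * (x * y), hsq _⟩ = χ ⟨x * x, hsq x⟩ + χ ⟨y * y, hsq y⟩ + _
      rw [← hχ, ← hχ]
      congr 1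
      apply Subtype.ext
      exact Sp64.mul_mul_self hcomm x y
    refine ⟨f, hf, ?_, ?_⟩
    · apply deg_three_of_quadratic f (fun w h => f (w * h) + f w + f h)
      · intro w h
        linear_combination (-(f w + f h)) * two_eq_zero
      · intro w w' h
        induction w using QuotientGroup.induction_on with
        | H x =>
        induction w' using QuotientGroup.induction_on with
        | H x' =>
        induction h using QuotientGroup.induction_on with
        | H y =>
        rw [← QuotientGroup.mk_mul, ← QuotientGroup.mk_mul, ← QuotientGroup.mk_mul,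
          ← QuotientGroup.mk_mul, hf, hf, hf, hf, hf, hf, hf, hgmul (x * x') y, hgmul x y,
          hgmul x' y]
        have h1 : (⟨⁅y, x * x'⁆, commutator_mem_of_squares V hVc hsq y (x * x')⟩ : V) =
            ⟨⁅y, x⁆, commutator_mem_of_squares V hVc hsq y x⟩ *
              ⟨⁅y, x'⁆, commutator_mem_of_squares V hVc hsq y x'⟩ := by
          apply Subtype.ext
          exact Sp64.comm_mul_right hcomm y x x'
        rw [h1, hχ]
        linear_combination (g (x * x') - g x - g x' - g y) * two_eq_zero
    · have h1 : (1 : T ⧸ V) = QuotientGroup.mk (1 : T) := rfl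
      rw [h1, hf]
      change χ ⟨1 * 1, hsq 1⟩ = 0
      have h2 : (⟨1 * 1, hsq 1⟩ : V) = 1 := Subtype.ext (mul_one 1)
      rw [h2, hχ1]
  obtain ⟨f₁, hf₁, hd₁, h01⟩ := key χ₁ hχ₁ hχ₁1
  obtain ⟨f₂, hf₂, hd₂, h02⟩ := key χ₂ hχ₂ hχ₂1
  have hexp : ∀ w : T ⧸ V, w * w = 1 := by
    intro w
    induction w using QuotientGroup.induction_on with
    | H x =>
    rw [← QuotientGroup.mk_mul]
    exact (QuotientGroup.eq_one_iff _).mpr (hsq x)
  have hcard : 64 ≤ Nat.card (T ⧸ V) := by
    have h1 := Subgroup.card_eq_card_quotient_mul_card_subgroup V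
    rw [hV4] at h1
    omega
  obtain ⟨w, hw1, hw2, hw3⟩ := exists_common_zero hexp f₁ f₂ hd₁ hd₂ h01 h02 hcard
  induction w using QuotientGroup.induction_on with
  | H x =>
  rw [hf₁] at hw2
  rw [hf₂] at hw3
  have h1 := hχ0 _ hw2 hw3
  have h2 : x * x = 1 := congrArg Subtype.val h1
  apply hw1
  exact (QuotientGroup.eq_one_iff _).mpr (hinv x h2)

end Concrete

end Cfsg.Agent.Lib.Helper72.R2CW
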