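import Mathlib
import Cfsg.Agent.Lib.Helper72.R2CW

/-!
The squaring homomorphism `T → Z / Z²` for a central subgroup `Z` containing all squares and all
involutions: if the involutions of `Z` are squares in `Z`, then `|T : Z| ≤ |Ω₁(Z)|`.
-/

set_option autoImplicit false

open scoped commutatorElement

namespace Cfsg.Agent.Lib.Helper72.R2

open Cfsg.Agent.Lib.Helper72

variable {T : Type*} [Group T]

/-- the square of a commutator is trivial when squares are central -/
theorem commutator_sq_eq_one (Z : Subgroup T) (hZc : Z ≤ Subgroup.center T)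
    (hsq : ∀ x : T, x * x ∈ Z) (y x : T) : ⁅y, x⁆ * ⁅y, x⁆ = 1 := by
  have hcomm : ∀ a b : T, ⁅a, b⁆ ∈ Subgroup.center T := fun a b =>
    hZc (R2CW.commutator_mem_of_squares Z hZc hsq a b)
  rw [← Sp64.comm_mul_left hcomm]
  rw [commutatorElement_eq_one_iff_mul_comm]
  exact ((Subgroup.mem_center_iff.mp (hZc (hsq y))) x).symm

theorem index_le_four [Finite T] (Z V : Subgroup T) (hZc : Z ≤ Subgroup.center T)
    (hV4 : Nat.card V ≤ 4) (hsq : ∀ x : T, x * x ∈ Z) (hinv : ∀ x : T, x * x = 1 → x ∈ Z)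
    (hΩ : ∀ z ∈ Z, z * z = 1 → z ∈ V) (hVsq : ∀ z ∈ Z, z * z = 1 → ∃ a ∈ Z, a * a = z) :
    Z.index ≤ 4 := by
  classical
  have hcomm : ∀ a b : T, ⁅a, b⁆ ∈ Subgroup.center T := fun a b =>
    hZc (R2CW.commutator_mem_of_squares Z hZc hsq a b)
  let _ : CommGroup Z := { (inferInstance : Group Z) with
    mul_comm := fun a b => Subtype.ext ((Subgroup.mem_center_iff.mp (hZc b.2)) a.1) }
  let q : Z →* Z := powMonoidHom 2
  have hq : ∀ z : Z, ((q z : Z) : T) = (z : T) * z := by
    intro z
    change ((z ^ 2 : Z) : T) = _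
    rw [pow_two]; rfl
  -- the size of the quotient
  have hQ : Nat.card (Z ⧸ q.range) ≤ 4 := by
    have h1 := Subgroup.card_mul_index q.ker
    rw [Subgroup.index_ker] at h1
    have h2 := Subgroup.card_mul_index q.range
    have h3 : Nat.card (Z ⧸ q.range) = q.range.index := (Subgroup.index_eq_card _).symm
    have h4 : Nat.card q.ker ≤ Nat.card V := by
      apply Nat.card_le_card_of_injective (fun z : q.ker => (⟨(z : Z), hΩ _ (z : Z).2 (by
        have h5 : q (z : Z) = 1 := z.2
        rw [← hq, h5]; rfl)⟩ : V))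
      intro a b hab
      apply Subtype.ext
      apply Subtype.ext
      exact congrArg (fun v : V => (v : T)) hab
    have h5 : 0 < Nat.card q.range := Nat.card_pos
    have h6 : q.range.index = Nat.card q.ker := by
      have : Nat.card q.range * q.range.index = Nat.card q.range * Nat.card q.ker := by
        rw [h2, mul_comm, h1]
      exact Nat.eq_of_mul_eq_mul_left h5 this
    omega
  -- the squaring homomorphism
  let s : T →* Z ⧸ q.range := MonoidHom.mk' (fun x => QuotientGroup.mk ⟨x * x, hsq x⟩) (by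
    intro x y
    rw [← QuotientGroup.mk_mul]
    apply QuotientGroup.eq.mpr
    obtain ⟨a, ha, haa⟩ := hVsq ⁅y, x⁆ (R2CW.commutator_mem_of_squares Z hZc hsq y x)
      (commutator_sq_eq_one Z hZc hsq y x)
    refine ⟨⟨a⁻¹, Z.inv_mem ha⟩, ?_⟩
    apply Subtype.ext
    rw [hq]
    change a⁻¹ * a⁻¹ = (x * y * (x * y))⁻¹ * (x * x * (y * y))
    rw [Sp64.mul_mul_self hcomm x y, ← haa]
    have h1 := Subgroup.mem_center_iff.mp (hZc ha)
    have h2 : a * a * (x * x * (y * y)) = x * x * (y * y) * (a * a) := by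
      rw [mul_assoc a a, ← h1 (x * x * (y * y)), ← mul_assoc, ← h1, mul_assoc]
    rw [mul_inv_rev, mul_inv_rev a a]
    calc a⁻¹ * a⁻¹ = a⁻¹ * a⁻¹ * (x * x * (y * y))⁻¹ * (x * x * (y * y)) := by group
      _ = _ := rfl)
  have hs : ∀ x, s x = QuotientGroup.mk ⟨x * x, hsq x⟩ := fun x => rfl
  have hker : s.ker = Z := by
    ext x
    rw [MonoidHom.mem_ker, hs, QuotientGroup.eq_one_iff]
    constructor
    · rintro ⟨a, ha⟩
      have h1 : (a : T) * a = x * x := by
        rw [← hq, ha]
      have h2 := Subgroup.mem_center_iff.mp (hZc a.2)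
      have h3 : (x * (a : T)⁻¹) * (x * (a : T)⁻¹) = 1 := by
        have h4 : (a : T)⁻¹ * x = x * (a : T)⁻¹ := by
          rw [inv_mul_eq_iff_eq_mul, ← mul_assoc, ← h2 x, mul_inv_cancel_right]
        calc (x * (a : T)⁻¹) * (x * (a : T)⁻¹) = x * ((a : T)⁻¹ * x) * (a : T)⁻¹ := by
              simp only [mul_assoc]
          _ = x * (x * (a : T)⁻¹) * (a : T)⁻¹ := by rw [h4]
          _ = (x * x) * ((a : T) * a)⁻¹ := by group
          _ = 1 := by rw [h1, mul_inv_cancel]
      have h5 := hinv _ h3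
      have h6 : x = (x * (a : T)⁻¹) * a := by group
      rw [h6]
      exact Z.mul_mem h5 a.2
    · intro hx
      exact ⟨⟨x, hx⟩, Subtype.ext (hq _)⟩
  have h1 : Z.index = Nat.card s.range := by
    have h2 := Subgroup.index_ker s
    rw [hker] at h2
    exact h2
  rw [h1]
  exact le_trans (Nat.card_le_card_of_injective _ Subtype.val_injective) hQ

end Cfsg.Agent.Lib.Helper72.R2
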