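import Mathlib
import Cfsg.Agent.Lib.Helper72.R2Cfg
import Cfsg.Agent.Lib.Helper72.R2S

/-!
In the standing configuration an automorphism of `3`-power order moving the involutions has
order `3`.
-/

set_option autoImplicit false
set_option maxHeartbeats 800000

open scoped commutatorElement

namespace Cfsg.Agent.Lib.Helper72.R2

open Cfsg.Agent.Lib.Helper72
open Cfsg.Agent.Lib.Helper72.Sp64 (fixedSub mem_fixedSub)

universe u

theorem pow_comm_apply {T : Type*} [Group T] (ψ : MulAut T) (k : ℕ) (t : T) :
    (ψ ^ k) (ψ t) = ψ ((ψ ^ k) t) := by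
  rw [← MulAut.mul_apply, ← MulAut.mul_apply, ← pow_succ, ← pow_succ']

theorem pow_fix_of_fix {T : Type*} [Group T] (θ : MulAut T) {s : T} (hs : θ s = s) (k : ℕ) :
    (θ ^ k) s = s := by
  induction k with
  | zero => rfl
  | succ k ih => rw [pow_succ, MulAut.mul_apply, hs, ih]

theorem eq_one_of_cube_of_isPGroup {T : Type*} [Group T] (hT : IsPGroup 2 T) {c : T}
    (hc : c ^ 3 = 1) : c = 1 := by
  obtain ⟨k, hk⟩ := (IsPGroup.iff_orderOf.mp hT) c
  have h2 : orderOf c ∣ 3 := orderOf_dvd_of_pow_eq_one hc
  rw [hk] at h2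
  have h4 : k = 0 := by
    by_contra hk0
    have h5 : 2 ∣ 3 := dvd_trans (dvd_pow_self 2 hk0) h2
    omega
  rw [h4, pow_zero] at hk
  exact orderOf_eq_one_iff.mp hk

theorem frattini_ne_top_of_nontrivial {T : Type*} [Group T] [Finite T] [Nontrivial T] :
    frattini T ≠ ⊤ := by
  intro h1
  have h2 : (⊥ : Subgroup T) = ⊤ := by
    apply frattini_nongenerating
    rw [h1, bot_sup_eq]
  exact bot_ne_top h2

theorem cube_eq_one : ∀ (n : ℕ) (T : Type u) [Group T] [Finite T], Nat.card T = n →
    ∀ (ψ : MulAut T) (z : T), Cfg ψ z → (∃ a : ℕ, ψ ^ (3 ^ a) = 1) → ψ ^ 3 = 1 := by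
  intro n
  induction n using Nat.strong_induction_on with
  | _ n ih =>
    intro T _ _ hcard ψ z h hpow
    by_contra hne
    classical
    have : Fact (Nat.Prime 2) := ⟨Nat.prime_two⟩
    have hT := h.isP
    have ha : ψ ^ (3 ^ (Nat.find hpow)) = 1 := Nat.find_spec hpow
    have hmin : ∀ m < Nat.find hpow, ¬ ψ ^ (3 ^ m) = 1 := fun m hm => Nat.find_min hpow hm
    have ha2 : 2 ≤ Nat.find hpow := by
      by_contra hlt
      push Not at hlt
      interval_cases (Nat.find hpow)
      · apply h.z_move
        rw [pow_zero, pow_one] at ha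
        rw [ha]; rfl
      · apply hne
        rw [pow_one] at ha
        exact ha
    obtain ⟨b, hb⟩ : ∃ b, Nat.find hpow = b + 2 := ⟨Nat.find hpow - 2, by omega⟩
    rw [hb] at ha hmin
    set σ := ψ ^ (3 ^ (b + 1)) with hσdef
    set ρ := ψ ^ (3 ^ b) with hρdef
    have hσ1 : σ ≠ 1 := hmin (b + 1) (by omega)
    have hρ3 : ρ ^ 3 = σ := by
      rw [hρdef, hσdef, ← pow_mul, ← pow_succ]
    have hρ9 : ρ ^ 9 = 1 := by
      rw [hρdef, ← pow_mul, ← ha]
      congr 1
      rw [pow_succ, pow_succ]; ring
    have hσcube : σ ^ 3 = 1 := by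
      rw [← hρ3, ← pow_mul]; exact hρ9
    have hσ3 : ∀ t : T, σ (σ (σ t)) = t := by
      intro t
      rw [← aut_cube_apply, hσcube]; rfl
    have hσψ : ∀ t : T, σ (ψ t) = ψ (σ t) := fun t => pow_comm_apply ψ _ t
    have hσeq : σ = (ψ ^ 3) ^ (3 ^ b) := by
      rw [hσdef, ← pow_mul, pow_succ']
    -- (D1)
    have key1 : ∀ S : Subgroup T, S ≠ ⊤ → (∀ s ∈ S, ψ s ∈ S) → ∀ s ∈ S, σ s = s := by
      intro S hS hinv s hs
      by_cases hSb : S = ⊥
      · rw [hSb, Subgroup.mem_bot] at hs
        rw [hs, map_one]
      have hz : z ∈ S := h.V_le_of_invariant S hSb hinv h.z_mem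
      have hlt : Nat.card S < n := by
        have h1 := Subgroup.card_le_card_group S
        have h2 : Nat.card S ≠ Nat.card T := fun e => hS (Subgroup.eq_top_of_card_eq S e)
        omega
      have h3 := ih (Nat.card S) hlt S rfl (resAut ψ S hinv) ⟨z, hz⟩ (h.restrict S hinv hz)
        ⟨b + 2, by
          ext s
          rw [resAut_pow_apply, ha]; rfl⟩
      have h4 : (ψ ^ 3) s = s := by
        have h5 := DFunLike.congr_fun h3 ⟨s, hs⟩
        have h6 := congrArg Subtype.val h5
        rw [resAut_pow_apply] at h6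
        exact h6
      rw [hσeq]
      exact pow_fix_of_fix _ h4 _
    -- (D2)
    set T₀ := fixedSub σ with hT₀def
    have hT₀ne : T₀ ≠ ⊤ := by
      intro e
      apply hσ1
      ext t
      have : t ∈ T₀ := by rw [e]; exact Subgroup.mem_top t
      exact this
    have hT₀inv : ∀ t ∈ T₀, ψ t ∈ T₀ := by
      intro t ht
      change σ (ψ t) = ψ t
      rw [hσψ, mem_fixedSub.mp ht]
    -- (D3)
    have hnil : Group.IsNilpotent T := hT.isNilpotent
    have hnormal : ∀ g : T, ∀ t ∈ T₀, g * t * g⁻¹ ∈ T₀ := by
      have hNinv : ∀ g ∈ Subgroup.normalizer (T₀ : Set T), ψ g ∈ Subgroup.normalizer (T₀ : Set T) := by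
        intro g hg
        rw [Subgroup.mem_normalizer_iff] at hg ⊢
        intro t
        have h1 := hg (ψ.symm t)
        have h2 : ψ g * t * (ψ g)⁻¹ = ψ (g * ψ.symm t * g⁻¹) := by
          rw [map_mul, map_mul, map_inv, MulEquiv.apply_symm_apply]
        rw [h2, mem_iff_of_invariant ψ T₀ hT₀inv, ← h1]
        constructor
        · intro ht
          exact symm_mem_of_invariant ψ T₀ hT₀inv ht
        · intro ht
          have := hT₀inv _ ht
          rwa [MulEquiv.apply_symm_apply] at this
      have hlt : T₀ < Subgroup.normalizer (T₀ : Set T) :=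
        Group.normalizerCondition_of_isNilpotent T₀ (lt_top_iff_ne_top.mpr hT₀ne)
      have htop : Subgroup.normalizer (T₀ : Set T) = ⊤ := by
        by_contra hN
        have h1 : Subgroup.normalizer (T₀ : Set T) ≤ T₀ := fun g hg => key1 _ hN hNinv g hg
        exact absurd (lt_of_lt_of_le hlt h1) (lt_irrefl _)
      intro g t ht
      have hg : g ∈ Subgroup.normalizer (T₀ : Set T) := by rw [htop]; exact Subgroup.mem_top g
      exact (Subgroup.mem_normalizer_iff.mp hg t).mp ht
    -- (D4)
    have hcentral : T₀ ≤ Subgroup.center T := by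
      have hCinv : ∀ c ∈ Subgroup.centralizer (T₀ : Set T),
          ψ c ∈ Subgroup.centralizer (T₀ : Set T) := by
        intro c hc
        rw [Subgroup.mem_centralizer_iff] at hc ⊢
        intro t ht
        have h1 := hc (ψ.symm t) (symm_mem_of_invariant ψ T₀ hT₀inv ht)
        have h2 := congrArg ψ h1
        rw [map_mul, map_mul, MulEquiv.apply_symm_apply] at h2
        exact h2
      have hmem : ∀ t : T, σ t * t⁻¹ ∈ Subgroup.centralizer (T₀ : Set T) := by
        intro t
        rw [Subgroup.mem_centralizer_iff]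
        intro s hs
        have hs' : σ s = s := hs
        have h1 : t⁻¹ * s * t ∈ T₀ := by
          have := hnormal t⁻¹ s hs
          rwa [inv_inv] at this
        have h2 : σ (t⁻¹ * s * t) = t⁻¹ * s * t := h1
        rw [map_mul, map_mul, map_inv, hs'] at h2
        calc s * (σ t * t⁻¹) = σ t * ((σ t)⁻¹ * s * σ t) * t⁻¹ := by group
          _ = σ t * (t⁻¹ * s * t) * t⁻¹ := by rw [h2]
          _ = σ t * t⁻¹ * s := by group
      have htop : Subgroup.centralizer (T₀ : Set T) = ⊤ := by
        by_contra hC
        apply hσ1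
        ext t
        have h1 : σ (σ t * t⁻¹) = σ t * t⁻¹ := key1 _ hC hCinv _ (hmem t)
        set c := σ t * t⁻¹ with hc
        have e1 : σ t = c * t := by rw [hc]; group
        have e2 : σ (σ t) = c * c * t := by rw [e1, map_mul, h1, e1]; group
        have e3 : σ (σ (σ t)) = c * c * c * t := by
          rw [e2, map_mul, map_mul, h1, e1]; group
        rw [hσ3] at e3
        have h2 : c ^ 3 = 1 := by
          rw [pow_succ, pow_two]
          exact (mul_eq_right.mp e3.symm)
        have h3 := eq_one_of_cube_of_isPGroup hT h2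
        rw [e1, h3, one_mul]; rfl
      intro t ht
      rw [Subgroup.mem_center_iff]
      intro g
      have hg : g ∈ Subgroup.centralizer (T₀ : Set T) := by rw [htop]; exact Subgroup.mem_top g
      exact ((Subgroup.mem_centralizer_iff.mp hg) t ht).symm
    -- (D5)
    have hnt : Nontrivial T := ⟨⟨z, 1, h.z_ne⟩⟩
    have hsq : ∀ x : T, x * x ∈ T₀ := by
      intro x
      have h1 : x ^ 2 ∈ frattini T := Cfsg.Agent.Lib.Helper03.pow_mem_frattini_of_isPGroup hT x
      rw [pow_two] at h1
      have hchar : (frattini T).Characteristic := frattini_characteristic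
      have hinv : ∀ s ∈ frattini T, ψ s ∈ frattini T := by
        intro s hs
        have h2 := hchar.fixed ψ
        rw [← h2] at hs
        exact hs
      exact key1 _ frattini_ne_top_of_nontrivial hinv _ h1
    -- (D6)
    have hV : h.V ≤ T₀ := by
      intro v hv
      change σ v = v
      rw [hσeq]
      exact h.pow_cube_fix hv _
    have hinvol : ∀ x : T, x * x = 1 → x ∈ T₀ := fun x hx => hV hx
    -- (D8) counting
    have h9 : 9 ∣ Nat.card T - Nat.card T₀ := by
      have := nine_dvd_card_sub ρ hρ9
      rw [hρ3] at this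
      exact this
    have hidx := Subgroup.card_mul_index T₀
    obtain ⟨j, hj⟩ := IsPGroup.iff_card.mp (hT.to_subgroup T₀)
    obtain ⟨m, hm⟩ := IsPGroup.iff_card.mp hT
    have hidx2 : ∃ e, T₀.index = 2 ^ e := by
      have h1 : T₀.index ∣ 2 ^ m := by rw [← hm]; exact Subgroup.index_dvd_card T₀
      obtain ⟨e, -, he⟩ := (Nat.dvd_prime_pow Nat.prime_two).mp h1
      exact ⟨e, he⟩
    obtain ⟨e, he⟩ := hidx2
    have he0 : e ≠ 0 := by
      intro e0
      rw [e0, pow_zero] at he
      exact hT₀ne (Subgroup.index_eq_one.mp he)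
    have h9' : 9 ∣ 2 ^ e - 1 := by
      rw [← hidx, he, hj] at h9
      have h1 : 2 ^ j * 2 ^ e - 2 ^ j = 2 ^ j * (2 ^ e - 1) := by
        rw [Nat.mul_sub, mul_one]
      rw [h1] at h9
      have hcop : Nat.Coprime 9 (2 ^ j) := by
        apply Nat.Coprime.pow_right
        norm_num
      exact hcop.dvd_of_dvd_mul_left h9
    -- (D7) the index bound
    have hebound : e < 6 := by
      by_cases hcase : ∀ t ∈ T₀, t * t = 1
      · have hT₀V : T₀ = h.V := le_antisymm (fun t ht => hcase t ht) hV
        have h1 := R2CW.card_lt T₀ hcentral (by rw [hT₀V]; exact h.card_V) hcase hsq hinvol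
        rw [← hidx, he, hT₀V, h.card_V] at h1
        by_contra hge
        push Not at hge
        have : 2 ^ 6 ≤ 2 ^ e := Nat.pow_le_pow_right (by norm_num) hge
        omega
      · push Not at hcase
        obtain ⟨t₁, ht₁, ht₁sq⟩ := hcase
        have hVsq : ∀ v ∈ T₀, v * v = 1 → ∃ a ∈ T₀, a * a = v := by
          -- an element of order four
          obtain ⟨k, hk⟩ := (IsPGroup.iff_orderOf.mp hT) t₁
          have hk2 : 2 ≤ k := by
            by_contra hlt
            push Not at hlt
            apply ht₁sq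
            have h1 : orderOf t₁ ∣ 2 := by
              rw [hk]
              interval_cases k <;> norm_num
            rw [← pow_two]
            exact orderOf_dvd_iff_pow_eq_one.mp h1
          set bb := t₁ ^ (2 ^ (k - 2)) with hbb
          have hbbT : bb ∈ T₀ := Subgroup.pow_mem _ ht₁ _
          have e1 : 2 ^ (k - 2) + 2 ^ (k - 2) = 2 ^ (k - 1) := by
            have : k - 1 = (k - 2) + 1 := by omega
            rw [this, pow_succ]; ring
          have e2 : 2 ^ (k - 1) + 2 ^ (k - 1) = 2 ^ k := by
            have : k = (k - 1) + 1 := by omega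
            conv_rhs => rw [this, pow_succ]
            ring
          have hw1 : bb * bb ≠ 1 := by
            rw [hbb, ← pow_add, e1]
            apply pow_ne_one_of_lt_orderOf (by positivity)
            rw [hk]
            exact Nat.pow_lt_pow_right (by norm_num) (by omega)
          have hw2 : (bb * bb) * (bb * bb) = 1 := by
            rw [hbb, ← pow_add, e1, ← pow_add, e2, ← hk, pow_orderOf_eq_one]
          have hclosed : ∀ v : T, (∃ a ∈ T₀, a * a = v) → ∃ a ∈ T₀, a * a = ψ v := by
            rintro v ⟨a, ha, rfl⟩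
            exact ⟨ψ a, hT₀inv a ha, (map_mul ψ a a).symm⟩
          have hw : ∃ a ∈ T₀, a * a = bb * bb := ⟨bb, hbbT, rfl⟩
          have hzs : ∃ a ∈ T₀, a * a = z := by
            rcases h.invol _ hw2 with h1 | h1 | h1 | h1
            · exact absurd h1 hw1
            · rw [← h1]; exact hw
            · have := hclosed _ (hclosed _ hw)
              rwa [h1, h.cube_z] at this
            · have := hclosed _ hw
              rwa [h1, h.cube_z] at this
          intro v _ hv
          rcases h.invol v hv with rfl | rfl | rfl | rfl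
          · exact ⟨1, Subgroup.one_mem _, mul_one 1⟩
          · exact hzs
          · exact hclosed _ hzs
          · exact hclosed _ (hclosed _ hzs)
        have h1 := index_le_four T₀ h.V hcentral (le_of_eq h.card_V) hsq hinvol
          (fun v _ hv => hv) hVsq
        rw [he] at h1
        by_contra hge
        push Not at hge
        have : 2 ^ 6 ≤ 2 ^ e := Nat.pow_le_pow_right (by norm_num) hge
        omega
    interval_cases e
    · exact he0 rfl
    all_goals omega

end Cfsg.Agent.Lib.Helper72.R2
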