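import Mathlib
import Cfsg.Agent.Lib.Helper72.R2Basic

/-!
A finite `2`-group with a fixed-point-free automorphism of order three has class at most two
(Burnside, Neumann), via the `2`-Engel property and Levi's computation in class three.
-/

set_option autoImplicit false

open scoped commutatorElement

namespace Cfsg.Agent.Lib.Helper72.R2

universe u

/-! ### Levi's computation -/

section Levi

variable {G : Type*} [Group G]

theorem comm_central_mul_left {t w z : G} (ht : t ∈ Subgroup.center G) : ⁅t * w, z⁆ = ⁅w, z⁆ := by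
  have h1 := Subgroup.mem_center_iff.mp ht
  rw [commutatorElement_def, commutatorElement_def, mul_inv_rev]
  calc t * w * z * (w⁻¹ * t⁻¹) * z⁻¹ = t * (w * z * w⁻¹) * t⁻¹ * z⁻¹ := by group
    _ = (w * z * w⁻¹) * t * t⁻¹ * z⁻¹ := by rw [h1 (w * z * w⁻¹)]
    _ = w * z * w⁻¹ * z⁻¹ := by group

theorem cr_mul (A : G) (hA : ∀ z, ⁅A, z⁆ ∈ Subgroup.center G) (z z' : G) :
    ⁅A, z * z'⁆ = ⁅A, z⁆ * ⁅A, z'⁆ := by
  have h1 : ⁅A, z * z'⁆ = ⁅A, z⁆ * (z * ⁅A, z'⁆ * z⁻¹) := by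
    simp only [commutatorElement_def]; group
  have h2 : z * ⁅A, z'⁆ = ⁅A, z'⁆ * z := (Subgroup.mem_center_iff.mp (hA z')) z
  rw [h1, h2, mul_inv_cancel_right]

theorem cr_inv (A : G) (hA : ∀ z, ⁅A, z⁆ ∈ Subgroup.center G) (z : G) :
    ⁅A, z⁻¹⁆ = ⁅A, z⁆⁻¹ := by
  have h1 := cr_mul A hA z z⁻¹
  rw [mul_inv_cancel, commutatorElement_one_right] at h1
  exact eq_inv_of_mul_eq_one_right h1.symm

theorem cr_comm (A : G) (hA : ∀ z, ⁅A, z⁆ ∈ Subgroup.center G) (b c : G) :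
    ⁅A, ⁅b, c⁆⁆ = 1 := by
  rw [commutatorElement_def b c, cr_mul A hA, cr_mul A hA, cr_mul A hA, cr_inv A hA,
    cr_inv A hA]
  have h1 := Subgroup.mem_center_iff.mp (hA c)
  calc ⁅A, b⁆ * ⁅A, c⁆ * ⁅A, b⁆⁻¹ * ⁅A, c⁆⁻¹ = ⁅A, b⁆ * (⁅A, c⁆ * ⁅A, b⁆⁻¹) * ⁅A, c⁆⁻¹ := by
        simp only [mul_assoc]
    _ = ⁅A, b⁆ * (⁅A, b⁆⁻¹ * ⁅A, c⁆) * ⁅A, c⁆⁻¹ := by rw [h1]
    _ = 1 := by group

theorem cl_mul (a b z : G) (ha : ⁅a, z⁆ ∈ Subgroup.center G) :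
    ⁅b * a, z⁆ = ⁅a, z⁆ * ⁅b, z⁆ := by
  have h1 : ⁅b * a, z⁆ = b * ⁅a, z⁆ * b⁻¹ * ⁅b, z⁆ := by
    simp only [commutatorElement_def]; group
  have h2 : b * ⁅a, z⁆ = ⁅a, z⁆ * b := (Subgroup.mem_center_iff.mp ha) b
  rw [h1, h2, mul_inv_cancel_right]

variable (h3 : ∀ x y z : G, ⁅⁅x, y⁆, z⁆ ∈ Subgroup.center G)
include h3

theorem c_mul_right (x y z z' : G) : ⁅⁅x, y⁆, z * z'⁆ = ⁅⁅x, y⁆, z⁆ * ⁅⁅x, y⁆, z'⁆ :=
  cr_mul _ (h3 x y) z z'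

theorem c_swap (x y z : G) : ⁅⁅y, x⁆, z⁆ = ⁅⁅x, y⁆, z⁆⁻¹ := by
  rw [← commutatorElement_inv x y, commutatorElement_inv_left]
  have h1 := Subgroup.mem_center_iff.mp (h3 x y z)
  rw [← commutatorElement_inv ⁅x, y⁆ z]
  have h2 : ∀ g : G, g * ⁅⁅x, y⁆, z⁆⁻¹ = ⁅⁅x, y⁆, z⁆⁻¹ * g := by
    intro g
    have := h1 g
    calc g * ⁅⁅x, y⁆, z⁆⁻¹ = ⁅⁅x, y⁆, z⁆⁻¹ * (⁅⁅x, y⁆, z⁆ * g) * ⁅⁅x, y⁆, z⁆⁻¹ := by group
      _ = ⁅⁅x, y⁆, z⁆⁻¹ * (g * ⁅⁅x, y⁆, z⁆) * ⁅⁅x, y⁆, z⁆⁻¹ := by rw [this]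
      _ = _ := by group
  rw [mul_assoc, ← h2 ⁅x, y⁆, inv_mul_cancel_left]

theorem c_mul_left (x x' y z : G) : ⁅⁅x * x', y⁆, z⁆ = ⁅⁅x, y⁆, z⁆ * ⁅⁅x', y⁆, z⁆ := by
  have h1 : ⁅x * x', y⁆ = ⁅x, ⁅x', y⁆⁆ * (⁅x', y⁆ * ⁅x, y⁆) := by
    simp only [commutatorElement_def]; group
  have h2 : ⁅x, ⁅x', y⁆⁆ ∈ Subgroup.center G := by
    rw [← commutatorElement_inv]
    exact Subgroup.inv_mem _ (h3 x' y x)
  rw [h1, comm_central_mul_left h2, cl_mul _ _ _ (h3 x y z)]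

theorem c_mul_mid (x y y' z : G) : ⁅⁅x, y * y'⁆, z⁆ = ⁅⁅x, y⁆, z⁆ * ⁅⁅x, y'⁆, z⁆ := by
  rw [c_swap h3 (y * y') x z, c_mul_left h3, mul_inv_rev, ← c_swap h3, ← c_swap h3]
  have h1 := Subgroup.mem_center_iff.mp (h3 x y z)
  exact h1 _

theorem c_jacobi (a b c : G) : ⁅⁅a, b⁆, c⁆ * ⁅⁅b, c⁆, a⁆ * ⁅⁅c, a⁆, b⁆ = 1 := by
  have key : ∀ a b c : G, ⁅⁅a, b⁆, b * c * b⁻¹⁆ = ⁅⁅a, b⁆, c⁆ := by
    intro a b c
    have h1 : b * c * b⁻¹ = ⁅b, c⁆ * c := by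
      rw [commutatorElement_def]; group
    rw [h1, c_mul_right h3, cr_comm _ (h3 a b), one_mul]
  have h := commutatorElement_commutatorElement_conj_mul a b c
  rw [key a b c, key b c a, key c a b] at h
  exact h

variable (hE : ∀ g x : G, ⁅⁅g, x⁆, x⁆ = 1)
include hE

theorem c_engel_swap (g x y : G) : ⁅⁅g, x⁆, y⁆ = ⁅⁅g, y⁆, x⁆⁻¹ := by
  have h1 := hE g (x * y)
  rw [c_mul_right h3, c_mul_mid h3, c_mul_mid h3, hE, hE, one_mul, mul_one] at h1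
  exact eq_inv_of_mul_eq_one_right h1

theorem c_cube (a b c : G) : ⁅⁅a, b⁆, c⁆ ^ 3 = 1 := by
  have h1 := c_jacobi h3 a b c
  have e1 : ⁅⁅b, c⁆, a⁆ = ⁅⁅a, b⁆, c⁆ := by
    rw [c_engel_swap h3 hE b c a, ← c_swap h3]
  have e2 : ⁅⁅c, a⁆, b⁆ = ⁅⁅a, b⁆, c⁆ := by
    rw [c_engel_swap h3 hE c a b, ← c_swap h3, e1]
  rw [e1, e2] at h1
  rw [pow_succ, pow_two]; exact h1

end Levi

/-! ### Fixed-point-free automorphisms of order three -/

section fpf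

variable {T : Type*} [Group T] [Finite T] (ψ : MulAut T) (h3 : ψ ^ 3 = 1)
  (hfpf : ∀ t : T, ψ t = t → t = 1)
include hfpf

theorem fpf_surj (x : T) : ∃ t : T, x = t⁻¹ * ψ t := by
  have hinj : Function.Injective (fun t : T => t⁻¹ * ψ t) := by
    intro t s h
    have h1 : ψ (t * s⁻¹) = t * s⁻¹ := by
      have h' : t⁻¹ * ψ t = s⁻¹ * ψ s := h
      rw [map_mul, map_inv]
      calc ψ t * (ψ s)⁻¹ = t * (t⁻¹ * ψ t) * (ψ s)⁻¹ := by group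
        _ = t * (s⁻¹ * ψ s) * (ψ s)⁻¹ := by rw [h']
        _ = t * s⁻¹ := by group
    have h2 := hfpf _ h1
    exact mul_inv_eq_one.mp h2
  obtain ⟨t, ht⟩ := (Finite.injective_iff_surjective.mp hinj) x
  exact ⟨t, ht.symm⟩

theorem fpf_surj' (g : T) : ∃ s : T, g = s * (ψ s)⁻¹ := by
  have hinj : Function.Injective (fun s : T => s * (ψ s)⁻¹) := by
    intro s r h
    have h1 : ψ (r⁻¹ * s) = r⁻¹ * s := by
      have h' : s * (ψ s)⁻¹ = r * (ψ r)⁻¹ := h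
      rw [map_mul, map_inv]
      calc (ψ r)⁻¹ * ψ s = r⁻¹ * (r * (ψ r)⁻¹) * ψ s := by group
        _ = r⁻¹ * (s * (ψ s)⁻¹) * ψ s := by rw [h']
        _ = r⁻¹ * s := by group
    have h2 := hfpf _ h1
    exact (inv_mul_eq_one.mp h2).symm
  obtain ⟨s, hs⟩ := (Finite.injective_iff_surjective.mp hinj) g
  exact ⟨s, hs.symm⟩

include h3

theorem fpf_n1 (x : T) : x * ψ x * ψ (ψ x) = 1 := by
  obtain ⟨t, rfl⟩ := fpf_surj ψ hfpf x
  have h4 : ψ (ψ (ψ t)) = t := by rw [← aut_cube_apply, h3]; rfl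
  simp only [map_mul, map_inv, h4]
  group

theorem fpf_n2 (x : T) : ψ (ψ x) * ψ x * x = 1 := by
  have h1 := fpf_n1 ψ h3 hfpf x⁻¹
  simp only [map_inv] at h1
  have h2 := congrArg (fun g => g⁻¹) h1
  simp only [mul_inv_rev, inv_inv, inv_one] at h2
  rw [← mul_assoc] at h2
  exact h2

theorem fpf_comm (x : T) : x * ψ x = ψ x * x := by
  have h1 := fpf_n1 ψ h3 hfpf x
  have h2 := fpf_n2 ψ h3 hfpf x
  have e1 : ψ (ψ x) = (x * ψ x)⁻¹ := eq_inv_of_mul_eq_one_right h1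
  have e2 : ψ (ψ x) = (ψ x * x)⁻¹ := by
    rw [mul_assoc] at h2
    exact eq_inv_of_mul_eq_one_left h2
  exact inv_injective (e1.symm.trans e2)

theorem fpf_n4 (x g : T) : x * (g * ψ x * g⁻¹) = (g * ψ x * g⁻¹) * x := by
  obtain ⟨s, rfl⟩ := fpf_surj' ψ hfpf g
  have h1 := fpf_comm ψ h3 hfpf (s⁻¹ * x * s)
  rw [map_mul, map_mul, map_inv] at h1
  calc x * (s * (ψ s)⁻¹ * ψ x * (s * (ψ s)⁻¹)⁻¹)
      = s * ((s⁻¹ * x * s) * ((ψ s)⁻¹ * ψ x * ψ s)) * s⁻¹ := by group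
    _ = s * (((ψ s)⁻¹ * ψ x * ψ s) * (s⁻¹ * x * s)) * s⁻¹ := by rw [h1]
    _ = _ := by group

theorem fpf_n5 (x g : T) : x * (g * ψ (ψ x) * g⁻¹) = (g * ψ (ψ x) * g⁻¹) * x := by
  have h4 : ψ (ψ (ψ x)) = x := by rw [← aut_cube_apply, h3]; rfl
  have h1 := fpf_n4 ψ h3 hfpf (ψ (ψ x)) g⁻¹
  rw [h4, inv_inv] at h1
  calc x * (g * ψ (ψ x) * g⁻¹) = g * ((g⁻¹ * x * g) * ψ (ψ x)) * g⁻¹ := by group
    _ = g * (ψ (ψ x) * (g⁻¹ * x * g)) * g⁻¹ := by rw [h1]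
    _ = _ := by group

theorem fpf_conj_comm (x g : T) : x * (g * x * g⁻¹) = (g * x * g⁻¹) * x := by
  have h1 := fpf_n1 ψ h3 hfpf x
  have e : x⁻¹ = ψ x * ψ (ψ x) := by
    rw [mul_assoc] at h1
    exact (eq_inv_of_mul_eq_one_right h1).symm ▸ (by group)
  have h4 := fpf_n4 ψ h3 hfpf x g
  have h5 := fpf_n5 ψ h3 hfpf x g
  have h6 : x * (g * x⁻¹ * g⁻¹) = (g * x⁻¹ * g⁻¹) * x := by
    have : g * x⁻¹ * g⁻¹ = (g * ψ x * g⁻¹) * (g * ψ (ψ x) * g⁻¹) := by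
      rw [e]; group
    rw [this]
    generalize g * ψ x * g⁻¹ = A at h4 ⊢
    generalize g * ψ (ψ x) * g⁻¹ = B at h5 ⊢
    calc x * (A * B) = (x * A) * B := by rw [mul_assoc]
      _ = (A * x) * B := by rw [h4]
      _ = A * (x * B) := by rw [mul_assoc]
      _ = A * (B * x) := by rw [h5]
      _ = A * B * x := by rw [mul_assoc]
  have h7 : g * x * g⁻¹ = (g * x⁻¹ * g⁻¹)⁻¹ := by group
  rw [h7]
  calc x * (g * x⁻¹ * g⁻¹)⁻¹
      = (g * x⁻¹ * g⁻¹)⁻¹ * ((g * x⁻¹ * g⁻¹) * x) * (g * x⁻¹ * g⁻¹)⁻¹ := by group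
    _ = (g * x⁻¹ * g⁻¹)⁻¹ * (x * (g * x⁻¹ * g⁻¹)) * (g * x⁻¹ * g⁻¹)⁻¹ := by rw [h6]
    _ = _ := by group

theorem fpf_engel (g x : T) : ⁅⁅g, x⁆, x⁆ = 1 := by
  rw [commutatorElement_eq_one_iff_mul_comm]
  have h1 := fpf_conj_comm ψ h3 hfpf x g
  rw [commutatorElement_def]
  generalize g * x * g⁻¹ = c at h1 ⊢
  calc c * x⁻¹ * x = (c * x) * x⁻¹ := by group
    _ = (x * c) * x⁻¹ := by rw [h1]
    _ = x * (c * x⁻¹) := by group

end fpf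

/-- fixed-point-freeness passes to quotients -/
theorem fpf_quot {T : Type*} [Group T] [Finite T] (hT : IsPGroup 2 T) (ψ : MulAut T)
    (h3 : ψ ^ 3 = 1) (hfpf : ∀ t : T, ψ t = t → t = 1) (N : Subgroup T)
    (hN : ∀ n ∈ N, ψ n ∈ N) {x : T} (hx : x⁻¹ * ψ x ∈ N) : x ∈ N := by
  have hcop : ¬ 3 ∣ Nat.card N := by
    obtain ⟨k, hk⟩ := IsPGroup.iff_card.mp (hT.to_subgroup N)
    rw [hk]
    intro h
    have := (Nat.Prime.dvd_of_dvd_pow Nat.prime_three h)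
    omega
  obtain ⟨n, hn, hfix⟩ := exists_fixed_mul ψ h3 N hN hcop x hx
  have h1 := hfpf _ hfix
  have h2 : x = n⁻¹ := eq_inv_of_mul_eq_one_left h1
  rw [h2]; exact N.inv_mem hn

theorem center_invariant {T : Type*} [Group T] (ψ : MulAut T) :
    ∀ n ∈ Subgroup.center T, ψ n ∈ Subgroup.center T := by
  intro n hn
  rw [Subgroup.mem_center_iff] at hn ⊢
  intro g
  have h1 := hn (ψ.symm g)
  have h2 := congrArg ψ h1
  rw [map_mul, map_mul, MulEquiv.apply_symm_apply] at h2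
  exact h2

/-- **Neumann's theorem** for `2`-groups -/
theorem class_two : ∀ (n : ℕ) (T : Type u) [Group T] [Finite T], Nat.card T = n →
    IsPGroup 2 T → ∀ ψ : MulAut T, ψ ^ 3 = 1 → (∀ t : T, ψ t = t → t = 1) →
    ∀ x y : T, ⁅x, y⁆ ∈ Subgroup.center T := by
  intro n
  induction n using Nat.strong_induction_on with
  | _ n ih =>
    intro T _ _ hcard hT ψ h3 hfpf x y
    rcases subsingleton_or_nontrivial T with hs | hnt
    · rw [Subsingleton.elim ⁅x, y⁆ 1]; exact Subgroup.one_mem _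
    have : Fact (Nat.Prime 2) := ⟨Nat.prime_two⟩
    have hZnt : Nontrivial (Subgroup.center T) := hT.center_nontrivial
    have hZ1 : 1 < Nat.card (Subgroup.center T) := Finite.one_lt_card
    have hlt : Nat.card (T ⧸ Subgroup.center T) < n := by
      have h1 := Subgroup.card_eq_card_quotient_mul_card_subgroup (Subgroup.center T)
      rw [hcard] at h1
      have h2 : 0 < Nat.card (T ⧸ Subgroup.center T) := Nat.card_pos
      nlinarith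
    have hinv := center_invariant ψ
    have key := ih _ hlt (T ⧸ Subgroup.center T) rfl (hT.to_quotient _)
      (quotAut ψ (Subgroup.center T) hinv) (quotAut_pow_eq_one ψ _ hinv h3) (by
        intro w hw
        induction w using QuotientGroup.induction_on with
        | H t =>
        rw [quotAut_mk] at hw
        have h1 : t⁻¹ * ψ t ∈ Subgroup.center T := QuotientGroup.eq.mp hw.symm
        exact (QuotientGroup.eq_one_iff _).mpr (fpf_quot hT ψ h3 hfpf _ hinv h1))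
    have hc3 : ∀ a b c : T, ⁅⁅a, b⁆, c⁆ ∈ Subgroup.center T := by
      intro a b c
      have h1 := key (QuotientGroup.mk a) (QuotientGroup.mk b)
      rw [Subgroup.mem_center_iff] at h1
      have h2 := h1 (QuotientGroup.mk c)
      rw [← (QuotientGroup.eq_one_iff (N := Subgroup.center T) ⁅⁅a, b⁆, c⁆)]
      change ((QuotientGroup.mk' (Subgroup.center T)) ⁅⁅a, b⁆, c⁆) = 1
      rw [map_commutatorElement, map_commutatorElement, commutatorElement_eq_one_iff_mul_comm]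
      exact h2.symm
    have hcube : ∀ c : T, ⁅⁅x, y⁆, c⁆ = 1 := by
      intro c
      have h1 := c_cube hc3 (fpf_engel ψ h3 hfpf) x y c
      obtain ⟨k, hk⟩ := (IsPGroup.iff_orderOf.mp hT) ⁅⁅x, y⁆, c⁆
      have h2 : orderOf ⁅⁅x, y⁆, c⁆ ∣ 3 := orderOf_dvd_of_pow_eq_one h1
      rw [hk] at h2
      have h4 : k = 0 := by
        by_contra hk0
        have h5 : 2 ∣ 3 := dvd_trans (dvd_pow_self 2 hk0) h2
        omega
      rw [h4, pow_zero] at hk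
      exact orderOf_eq_one_iff.mp hk
    rw [Subgroup.mem_center_iff]
    intro c
    exact (commutatorElement_eq_one_iff_mul_comm.mp (hcube c)).symm

end Cfsg.Agent.Lib.Helper72.R2
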