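import Mathlib
import Cfsg.Agent.Lib.Helper72.R2Cube
import Cfsg.Agent.Lib.Helper72.R2Neumann
import Cfsg.Agent.Lib.Helper72.R2Ab

/-!
Structure of the standing configuration when `ψ` has order three: `T` is abelian, or
`|T| = 64`, `Z(T) = Ω₁(T)` and `T / Z(T)` is elementary abelian.
-/

set_option autoImplicit false
set_option maxHeartbeats 800000

open scoped commutatorElement

namespace Cfsg.Agent.Lib.Helper72.R2

open Cfsg.Agent.Lib.Helper72
open Cfsg.Agent.Lib.Helper72.Sp64 (fixedSub mem_fixedSub)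

universe u

/-- if `T / A` is abelian with at most three involutions, for a central invariant subgroup `A`,
then `T` is abelian -/
theorem abelian_of_quot {T : Type*} [Group T] [Finite T] (hT : IsPGroup 2 T) (ψ : MulAut T)
    (h3 : ψ ^ 3 = 1) (hfpf : ∀ t : T, ψ t = t → t = 1) (A : Subgroup T) [A.Normal]
    (hAc : A ≤ Subgroup.center T) (hAinv : ∀ a ∈ A, ψ a ∈ A) (hcomm : ∀ x y : T, ⁅x, y⁆ ∈ A)
    (VB : Subgroup (T ⧸ A)) (hV4 : Nat.card VB ≤ 4) (hΩ : ∀ b : T ⧸ A, b * b = 1 → b ∈ VB) :
    ∀ a b : T, a * b = b * a := by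
  have hcen : (∀ t : T, t ∈ Subgroup.center T) → ∀ a b : T, a * b = b * a := by
    intro hc a b
    exact ((Subgroup.mem_center_iff.mp (hc a)) b).symm
  apply hcen
  by_cases hB : ∃ b : T ⧸ A, b ≠ 1
  · have hBcomm : ∀ a b : T ⧸ A, a * b = b * a := by
      intro a b
      induction a using QuotientGroup.induction_on with
      | H x =>
      induction b using QuotientGroup.induction_on with
      | H y =>
      rw [← QuotientGroup.mk_mul, ← QuotientGroup.mk_mul]
      apply QuotientGroup.eq.mpr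
      have h1 : (x * y)⁻¹ * (y * x) = ⁅y⁻¹, x⁻¹⁆ := by
        rw [commutatorElement_def]; group
      rw [h1]
      exact hcomm _ _
    have hBfpf : ∀ w : T ⧸ A, quotAut ψ A hAinv w = w → w = 1 := by
      intro w hw
      induction w using QuotientGroup.induction_on with
      | H t =>
      rw [quotAut_mk] at hw
      have h1 : t⁻¹ * ψ t ∈ A := QuotientGroup.eq.mp hw.symm
      exact (QuotientGroup.eq_one_iff _).mpr (fpf_quot hT ψ h3 hfpf _ hAinv h1)
    obtain ⟨n, -, xb, -, -, -, -, hgen⟩ := ab_core (hT.to_quotient A) hBcomm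
      (quotAut ψ A hAinv) hBfpf VB hV4 hΩ hB
    induction xb using QuotientGroup.induction_on with
    | H x =>
    have hxψ : x * ψ x = ψ x * x := fpf_comm ψ h3 hfpf x
    have hdecomp : ∀ t : T, ∃ (i j : ℤ) (a : T), a ∈ A ∧ t = x ^ i * (ψ x) ^ j * a := by
      intro t
      obtain ⟨a, ha, c, hc, hb⟩ := hgen (QuotientGroup.mk t)
      obtain ⟨i, rfl⟩ := Subgroup.mem_zpowers_iff.mp ha
      obtain ⟨j, rfl⟩ := Subgroup.mem_zpowers_iff.mp hc
      rw [quotAut_mk, ← QuotientGroup.mk_zpow, ← QuotientGroup.mk_zpow,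
        ← QuotientGroup.mk_mul] at hb
      have h1 : (x ^ i * (ψ x) ^ j)⁻¹ * t ∈ A := QuotientGroup.eq.mp hb.symm
      exact ⟨i, j, _, h1, by group⟩
    have hxc : x ∈ Subgroup.center T := by
      rw [Subgroup.mem_center_iff]
      intro t
      obtain ⟨i, j, a, ha, rfl⟩ := hdecomp t
      have c1 : Commute x (x ^ i) := (Commute.refl x).zpow_right i
      have c2 : Commute x ((ψ x) ^ j) := (show Commute x (ψ x) from hxψ).zpow_right j
      have c3 : Commute x a := ((Subgroup.mem_center_iff.mp (hAc ha)) x)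
      exact ((c1.mul_right c2).mul_right c3).symm
    have hyc : ψ x ∈ Subgroup.center T := center_invariant ψ x hxc
    intro t
    obtain ⟨i, j, a, ha, rfl⟩ := hdecomp t
    exact Subgroup.mul_mem _ (Subgroup.mul_mem _ (Subgroup.zpow_mem _ hxc i)
      (Subgroup.zpow_mem _ hyc j)) (hAc ha)
  · push Not at hB
    intro t
    have h1 := hB (QuotientGroup.mk t)
    exact hAc ((QuotientGroup.eq_one_iff t).mp h1)

namespace Cfg

variable {T : Type u} [Group T] [Finite T] {ψ : MulAut T} {z : T} (h : Cfg ψ z)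
include h

/-- square roots of involutions in an invariant subgroup of exponent at least four -/
theorem exists_sqrt (S : Subgroup T) (hSinv : ∀ s ∈ S, ψ s ∈ S) {t₁ : T} (ht₁ : t₁ ∈ S)
    (ht₁sq : t₁ * t₁ ≠ 1) : ∀ v : T, v * v = 1 → ∃ a ∈ S, a * a = v := by
  have hT := h.isP
  obtain ⟨k, hk⟩ := (IsPGroup.iff_orderOf.mp hT) t₁
  have hk2 : 2 ≤ k := by
    by_contra hlt
    push Not at hlt
    apply ht₁sq
    have h1 : orderOf t₁ ∣ 2 := by
      rw [hk]
      interval_cases k <;> norm_num
    rw [← pow_two]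
    exact orderOf_dvd_iff_pow_eq_one.mp h1
  set bb := t₁ ^ (2 ^ (k - 2)) with hbb
  have hbbT : bb ∈ S := Subgroup.pow_mem _ ht₁ _
  have e1 : 2 ^ (k - 2) + 2 ^ (k - 2) = 2 ^ (k - 1) := by
    have : k - 1 = (k - 2) + 1 := by omega
    rw [this, pow_succ]; ring
  have e2 : 2 ^ (k - 1) + 2 ^ (k - 1) = 2 ^ k := by
    have : k = (k - 1) + 1 := by omega
    conv_rhs => rw [this, pow_succ]
    ring
  have hw1 : bb * bb ≠ 1 := by
    rw [hbb, ← pow_add, e1]
    apply pow_ne_one_of_lt_orderOf (by positivity)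
    rw [hk]
    exact Nat.pow_lt_pow_right (by norm_num) (by omega)
  have hw2 : (bb * bb) * (bb * bb) = 1 := by
    rw [hbb, ← pow_add, e1, ← pow_add, e2, ← hk, pow_orderOf_eq_one]
  have hclosed : ∀ v : T, (∃ a ∈ S, a * a = v) → ∃ a ∈ S, a * a = ψ v := by
    rintro v ⟨a, ha, rfl⟩
    exact ⟨ψ a, hSinv a ha, (map_mul ψ a a).symm⟩
  have hw : ∃ a ∈ S, a * a = bb * bb := ⟨bb, hbbT, rfl⟩
  have hzs : ∃ a ∈ S, a * a = z := by
    rcases h.invol _ hw2 with h1 | h1 | h1 | h1
    · exact absurd h1 hw1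
    · rw [← h1]; exact hw
    · have := hclosed _ (hclosed _ hw)
      rwa [h1, h.cube_z] at this
    · have := hclosed _ hw
      rwa [h1, h.cube_z] at this
  intro v hv
  rcases h.invol v hv with rfl | rfl | rfl | rfl
  · exact ⟨1, Subgroup.one_mem _, mul_one 1⟩
  · exact hzs
  · exact hclosed _ hzs
  · exact hclosed _ (hclosed _ hzs)

variable (h3 : ψ ^ 3 = 1)
include h3

theorem comm_central (x y : T) : ⁅x, y⁆ ∈ Subgroup.center T :=
  class_two _ T rfl h.isP ψ h3 h.fpf x y

/-- in the non-abelian case the centre has exponent two -/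
theorem center_sq (hna : ∃ a b : T, a * b ≠ b * a) : ∀ a ∈ Subgroup.center T, a * a = 1 := by
  by_contra hcon
  push Not at hcon
  obtain ⟨a₁, ha₁, ha₁sq⟩ := hcon
  obtain ⟨p, q, hpq⟩ := hna
  apply hpq
  have hc2 := h.comm_central h3
  -- the subgroup of elements with central square
  let N : Subgroup T :=
    { carrier := {x | x * x ∈ Subgroup.center T}
      one_mem' := by
        show (1 : T) * 1 ∈ Subgroup.center T
        rw [mul_one]; exact Subgroup.one_mem _
      mul_mem' := by
        intro x y hx hy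
        show x * y * (x * y) ∈ Subgroup.center T
        rw [Sp64.mul_mul_self hc2 x y]
        exact Subgroup.mul_mem _ (Subgroup.mul_mem _ hx hy) (hc2 y x)
      inv_mem' := by
        intro x hx
        show x⁻¹ * x⁻¹ ∈ Subgroup.center T
        rw [← mul_inv_rev]
        exact Subgroup.inv_mem _ hx }
  have hN : ∀ x : T, x ∈ N ↔ x * x ∈ Subgroup.center T := fun x => Iff.rfl
  have hAN : Subgroup.center T ≤ N := by
    intro a ha
    exact Subgroup.mul_mem _ ha ha
  -- the index bound inside `N`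
  have hidx : ((Subgroup.center T).subgroupOf N).index ≤ 4 := by
    apply index_le_four ((Subgroup.center T).subgroupOf N) (h.V.subgroupOf N)
    · intro x hx
      rw [Subgroup.mem_center_iff]
      intro y
      apply Subtype.ext
      exact (Subgroup.mem_center_iff.mp (Subgroup.mem_subgroupOf.mp hx)) y
    · rw [Nat.card_congr (Subgroup.subgroupOfEquivOfLe
        (le_trans h.V_le_center hAN)).toEquiv, h.card_V]
    · intro x
      exact Subgroup.mem_subgroupOf.mpr x.2
    · intro x hx
      apply Subgroup.mem_subgroupOf.mpr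
      apply h.V_le_center
      exact congrArg Subtype.val hx
    · intro x _ hx
      apply Subgroup.mem_subgroupOf.mpr
      exact congrArg Subtype.val hx
    · intro x _ hx
      have hx' : (x : T) * x = 1 := congrArg Subtype.val hx
      obtain ⟨a, ha, haa⟩ := h.exists_sqrt (Subgroup.center T) (center_invariant ψ) ha₁ ha₁sq
        _ hx'
      exact ⟨⟨a, hAN ha⟩, Subgroup.mem_subgroupOf.mpr ha, Subtype.ext haa⟩
  -- the involutions of the quotient
  let f : N →* T ⧸ Subgroup.center T := (QuotientGroup.mk' (Subgroup.center T)).comp N.subtype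
  have hker : f.ker = (Subgroup.center T).subgroupOf N := by
    ext x
    rw [MonoidHom.mem_ker, Subgroup.mem_subgroupOf]
    change (QuotientGroup.mk (x : T) : T ⧸ Subgroup.center T) = 1 ↔ _
    rw [QuotientGroup.eq_one_iff]
  have hrange : Nat.card f.range ≤ 4 := by
    rw [← Subgroup.index_ker, hker]; exact hidx
  apply abelian_of_quot h.isP ψ h3 h.fpf (Subgroup.center T) le_rfl (center_invariant ψ)
    hc2 f.range hrange
  intro b hb
  induction b using QuotientGroup.induction_on with
  | H x =>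
  rw [← QuotientGroup.mk_mul] at hb
  have hx : x ∈ N := (hN x).mpr ((QuotientGroup.eq_one_iff (x * x)).mp hb)
  exact ⟨⟨x, hx⟩, rfl⟩

theorem center_eq (hna : ∃ a b : T, a * b ≠ b * a) : Subgroup.center T = h.V :=
  le_antisymm (fun a ha => h.center_sq h3 hna a ha) h.V_le_center

theorem sq_mem_V (hna : ∃ a b : T, a * b ≠ b * a) (x : T) : x * x ∈ h.V := by
  have hc2 := h.comm_central h3
  rw [← h.center_eq h3 hna, Subgroup.mem_center_iff]
  intro y
  have h1 : ⁅x * x, y⁆ = ⁅x, y⁆ * ⁅x, y⁆ := Sp64.comm_mul_left hc2 x x y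
  have h2 : ⁅x, y⁆ * ⁅x, y⁆ = 1 := h.center_sq h3 hna _ (hc2 x y)
  rw [h2] at h1
  exact (commutatorElement_eq_one_iff_mul_comm.mp h1).symm

theorem card_mod : Nat.card T ≡ 1 [MOD 3] := by
  have h1 := card_modEq3 ψ h3 ⊤ (fun d _ => Subgroup.mem_top _)
  have h2 : (⊤ : Subgroup T) ⊓ fixedSub ψ = ⊥ := by
    rw [eq_bot_iff]
    intro t ht
    rw [Subgroup.mem_bot]
    exact h.fpf t ht.2
  rw [h2, Subgroup.card_top, Subgroup.card_bot] at h1
  exact h1

/-- the order in the non-abelian case -/
theorem card_eq (hna : ∃ a b : T, a * b ≠ b * a) : Nat.card T = 64 := by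
  have hlt := R2CW.card_lt h.V h.V_le_center h.card_V (fun v hv => hv)
    (h.sq_mem_V h3 hna) (fun x hx => hx)
  obtain ⟨m, hm⟩ := IsPGroup.iff_card.mp h.isP
  have hmod := h.card_mod h3
  rw [hm] at hlt hmod
  have hm8 : m < 8 := by
    by_contra hge
    push Not at hge
    have : 2 ^ 8 ≤ 2 ^ m := Nat.pow_le_pow_right (by norm_num) hge
    omega
  have hV : h.V.Normal := by
    constructor
    intro n hn g
    have h1 := Subgroup.mem_center_iff.mp (h.V_le_center hn) g
    rw [h1, mul_inv_cancel_right]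
    exact hn
  have hcq := Subgroup.card_eq_card_quotient_mul_card_subgroup h.V
  rw [h.card_V, hm] at hcq
  -- the quotient has more than four elements
  have hq : 4 < Nat.card (T ⧸ h.V) := by
    by_contra hle
    push Not at hle
    obtain ⟨p, q, hpq⟩ := hna
    apply hpq
    have hcV : ∀ x y : T, ⁅x, y⁆ ∈ h.V := by
      intro x y
      rw [← h.center_eq h3 ⟨p, q, hpq⟩]
      exact h.comm_central h3 x y
    exact abelian_of_quot h.isP ψ h3 h.fpf h.V h.V_le_center (fun v hv => h.psi_V hv) hcV ⊤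
      (by rw [Subgroup.card_top]; exact hle) (fun b _ => Subgroup.mem_top b) p q
  rw [hm]
  have hpar : ∀ m < 8, 2 ^ m % 3 = 1 % 3 → m = 0 ∨ m = 2 ∨ m = 4 ∨ m = 6 := by decide
  rcases hpar m hm8 hmod with rfl | rfl | rfl | rfl
  · norm_num at hcq; omega
  · norm_num at hcq; omega
  · norm_num at hcq; omega
  · norm_num

end Cfg

end Cfsg.Agent.Lib.Helper72.R2
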