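import Mathlib
import Cfsg.Agent.Lib.Helper72.R2Struct

/-!
The non-abelian case of order `64`: generators `u, ψ u, w, ψ w` and their relations.
-/

set_option autoImplicit false
set_option maxHeartbeats 800000
set_option linter.unusedSectionVars false

open scoped commutatorElement

namespace Cfsg.Agent.Lib.Helper72.R2

open Cfsg.Agent.Lib.Helper72
open Cfsg.Agent.Lib.Helper72.Sp64 (fixedSub mem_fixedSub)

universe u

/-- the generating sequence -/
def seq {T : Type*} [Group T] (ψ : MulAut T) (u w : T) : ℕ → T := fun k =>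
  if k = 0 then u else if k = 1 then ψ u else if k = 2 then w else if k = 3 then ψ w else 1

theorem seq_zero {T : Type*} [Group T] (ψ : MulAut T) (u w : T) : seq ψ u w 0 = u := rfl
theorem seq_one {T : Type*} [Group T] (ψ : MulAut T) (u w : T) : seq ψ u w 1 = ψ u := rfl
theorem seq_two {T : Type*} [Group T] (ψ : MulAut T) (u w : T) : seq ψ u w 2 = w := rfl
theorem seq_three {T : Type*} [Group T] (ψ : MulAut T) (u w : T) : seq ψ u w 3 = ψ w := rfl
theorem seq_ge {T : Type*} [Group T] (ψ : MulAut T) (u w : T) {k : ℕ} (hk : 4 ≤ k) :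
    seq ψ u w k = 1 := by
  unfold seq
  rw [if_neg (by omega), if_neg (by omega), if_neg (by omega), if_neg (by omega)]

namespace Cfg

variable {T : Type u} [Group T] [Finite T] {ψ : MulAut T} {z : T} (h : Cfg ψ z)
include h

/-- the configuration may be based at any involution -/
theorem rebase {v : T} (hv : v ∈ h.V) (hv1 : v ≠ 1) : Cfg ψ v where
  isP := h.isP
  z_ne := hv1
  z_sq := hv
  z_move := fun e => hv1 (h.V_fix hv e)
  central := h.central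
  invol := by
    intro x hx
    rcases h.V_cases hv with rfl | rfl | rfl | rfl
    · exact absurd rfl hv1
    · exact h.invol x hx
    · rw [h.cube_z]
      rcases h.invol x hx with h1 | h1 | h1 | h1
      · exact Or.inl h1
      · exact Or.inr (Or.inr (Or.inr h1))
      · exact Or.inr (Or.inl h1)
      · exact Or.inr (Or.inr (Or.inl h1))
    · rw [h.cube_z]
      rcases h.invol x hx with h1 | h1 | h1 | h1
      · exact Or.inl h1
      · exact Or.inr (Or.inr (Or.inl h1))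
      · exact Or.inr (Or.inr (Or.inr h1))
      · exact Or.inr (Or.inl h1)

theorem V_inv {v : T} (hv : v ∈ h.V) : v⁻¹ = v := inv_eq_of_mul_eq_one_left hv

variable (h3 : ψ ^ 3 = 1) (hna : ∃ a b : T, a * b ≠ b * a)
include h3 hna

theorem comm_mem_V (a b : T) : ⁅a, b⁆ ∈ h.V := by
  rw [← h.center_eq h3 hna]
  exact h.comm_central h3 a b

theorem conj_mem (Q : Subgroup T) (hVQ : h.V ≤ Q) (v : T) {q : T} (hq : q ∈ Q) :
    v * q * v⁻¹ ∈ Q :=
  ExtTwo.conj_mem_of_comm_mem (h.comm_mem_V h3 hna) hVQ v hq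

/-- `ψ v` lies outside `Q ⟨v⟩` for an invariant subgroup `Q ≥ V` not containing `v` -/
theorem psi_not_mem_sup (Q : Subgroup T) (hVQ : h.V ≤ Q) (hQinv : ∀ q ∈ Q, ψ q ∈ Q) {v : T}
    (hv : v ∉ Q) : ψ v ∉ Q ⊔ Subgroup.zpowers v := by
  intro hm
  rcases ExtTwo.mem_or_of_mem_sup (fun q hq => h.conj_mem h3 hna Q hVQ v hq)
    (hVQ (h.sq_mem_V h3 hna v)) hm with h1 | h1
  · exact hv ((mem_iff_of_invariant ψ Q hQinv v).mp h1)
  · apply hv
    apply fpf_quot h.isP ψ h3 h.fpf Q hQinv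
    have h2 := h.conj_mem h3 hna Q hVQ v⁻¹ h1
    have h4 : v⁻¹ * (ψ v * v⁻¹) * v⁻¹⁻¹ = v⁻¹ * ψ v := by group
    rw [h4] at h2
    exact h2

theorem card_sup_ge (Q : Subgroup T) {v : T} (hv : v ∉ Q) :
    2 * Nat.card Q ≤ Nat.card ↥(Q ⊔ Subgroup.zpowers v) := by
  have hle : Q ≤ Q ⊔ Subgroup.zpowers v := le_sup_left
  obtain ⟨k, hk⟩ := Subgroup.card_dvd_of_le hle
  have hpos : 0 < Nat.card Q := Nat.card_pos
  have hk1 : k ≠ 1 := by
    intro e
    rw [e, mul_one] at hk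
    have h2 := Subgroup.eq_of_le_of_card_ge hle (le_of_eq hk)
    apply hv
    rw [h2]
    exact (le_sup_right : Subgroup.zpowers v ≤ _) (Subgroup.mem_zpowers v)
  have hk0 : k ≠ 0 := by
    intro e
    rw [e, mul_zero] at hk
    have : 0 < Nat.card ↥(Q ⊔ Subgroup.zpowers v) := Nat.card_pos
    omega
  rw [hk]
  have : 2 ≤ k := by omega
  nlinarith

/-- the subgroup `V ⟨u, ψ u⟩` -/
def H (u : T) : Subgroup T := h.V ⊔ Subgroup.zpowers u ⊔ Subgroup.zpowers (ψ u)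

theorem V_le_H (u : T) : h.V ≤ h.H u := le_trans le_sup_left le_sup_left

theorem H_invariant (u : T) : ∀ q ∈ h.H u, ψ q ∈ h.H u := by
  have h1 : (h.H u).map (ψ : T →* T) ≤ h.H u := by
    unfold H
    rw [Subgroup.map_sup, Subgroup.map_sup, MonoidHom.map_zpowers, MonoidHom.map_zpowers]
    apply sup_le
    · apply sup_le
      · rintro _ ⟨v, hv, rfl⟩
        exact (le_sup_left : h.V ⊔ Subgroup.zpowers u ≤ _) (le_sup_left (a := h.V) (h.psi_V hv))
      · exact le_sup_right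
    · rw [Subgroup.zpowers_le]
      have e : ψ (ψ u) = (u * ψ u)⁻¹ := eq_inv_of_mul_eq_one_right (fpf_n1 ψ h3 h.fpf u)
      change ψ (ψ u) ∈ _
      rw [e]
      apply Subgroup.inv_mem
      apply Subgroup.mul_mem
      · exact (le_sup_left : h.V ⊔ Subgroup.zpowers u ≤ _)
          ((le_sup_right : Subgroup.zpowers u ≤ _) (Subgroup.mem_zpowers u))
      · exact (le_sup_right : Subgroup.zpowers (ψ u) ≤ _) (Subgroup.mem_zpowers _)
  intro q hq
  exact h1 ⟨q, hq, rfl⟩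

theorem card_H_le (u : T) : Nat.card (h.H u) ≤ 16 := by
  have h1 : Nat.card ↥(h.V ⊔ Subgroup.zpowers u) ≤ 2 * Nat.card h.V :=
    ExtTwo.card_sup_le (fun q hq => h.conj_mem h3 hna h.V le_rfl u hq) (h.sq_mem_V h3 hna u)
  have h2 : Nat.card (h.H u) ≤ 2 * Nat.card ↥(h.V ⊔ Subgroup.zpowers u) :=
    ExtTwo.card_sup_le (fun q hq => h.conj_mem h3 hna _ le_sup_left (ψ u) hq)
      (le_sup_left (a := h.V) (h.sq_mem_V h3 hna (ψ u)))
  rw [h.card_V] at h1
  omega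

/-- a suitable second generator -/
theorem exists_w (u : T) : ∃ w : T, w ∉ h.H u ∧ w * w = z := by
  have hcard := h.card_eq h3 hna
  have hne : ∃ w₀ : T, w₀ ∉ h.H u := by
    by_contra hall
    push Not at hall
    have h1 : h.H u = ⊤ := by
      rw [eq_top_iff]; intro x _; exact hall x
    have h2 := h.card_H_le h3 hna u
    rw [h1, Subgroup.card_top, hcard] at h2
    omega
  obtain ⟨w₀, hw₀⟩ := hne
  have hinv := h.H_invariant h3 hna u
  have hsq := h.sq_mem_V h3 hna w₀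
  rcases h.V_cases hsq with h1 | h1 | h1 | h1
  · exact absurd (h.V_le_H h3 hna u h1) hw₀
  · exact ⟨w₀, hw₀, h1⟩
  · refine ⟨ψ (ψ w₀), ?_, ?_⟩
    · intro hm
      exact hw₀ ((mem_iff_of_invariant ψ _ hinv _).mp ((mem_iff_of_invariant ψ _ hinv _).mp hm))
    · rw [← map_mul, ← map_mul, h1, h.cube_z]
  · refine ⟨ψ w₀, ?_, ?_⟩
    · intro hm
      exact hw₀ ((mem_iff_of_invariant ψ _ hinv _).mp hm)
    · rw [← map_mul, h1, h.cube_z]

/-- the chain reaches the whole group -/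
theorem Qk_top {u w : T} (hu : u ∉ h.V) (hw : w ∉ h.H u) :
    ExtTwo.Qk h.V (seq ψ u w) 4 = ⊤ := by
  have hcard := h.card_eq h3 hna
  have e1 : ExtTwo.Qk h.V (seq ψ u w) 1 = h.V ⊔ Subgroup.zpowers u := by
    rw [ExtTwo.Qk_succ, ExtTwo.Qk_zero, seq_zero]
  have e2 : ExtTwo.Qk h.V (seq ψ u w) 2 = h.H u := by
    rw [ExtTwo.Qk_succ, e1, seq_one]; rfl
  have e3 : ExtTwo.Qk h.V (seq ψ u w) 3 = h.H u ⊔ Subgroup.zpowers w := by
    rw [ExtTwo.Qk_succ, e2, seq_two]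
  have e4 : ExtTwo.Qk h.V (seq ψ u w) 4 = h.H u ⊔ Subgroup.zpowers w ⊔ Subgroup.zpowers (ψ w) := by
    rw [ExtTwo.Qk_succ, e3, seq_three]
  have c1 := h.card_sup_ge h3 hna h.V hu
  have hu1 : ψ u ∉ h.V ⊔ Subgroup.zpowers u :=
    h.psi_not_mem_sup h3 hna h.V le_rfl (fun v hv => h.psi_V hv) hu
  have c2 : 2 * Nat.card ↥(h.V ⊔ Subgroup.zpowers u) ≤ Nat.card (h.H u) :=
    h.card_sup_ge h3 hna _ hu1
  have c3 := h.card_sup_ge h3 hna (h.H u) hw
  have hw1 : ψ w ∉ h.H u ⊔ Subgroup.zpowers w :=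
    h.psi_not_mem_sup h3 hna (h.H u) (h.V_le_H h3 hna u) (h.H_invariant h3 hna u) hw
  have c4 := h.card_sup_ge h3 hna _ hw1
  rw [h.card_V] at c1
  rw [e4]
  apply Subgroup.eq_top_of_card_eq
  have h5 := Subgroup.card_le_card_group (h.H u ⊔ Subgroup.zpowers w ⊔ Subgroup.zpowers (ψ w))
  omega

/-! ### The relations -/

theorem comm_central' (a b : T) : ⁅a, b⁆ ∈ Subgroup.center T := h.comm_central h3 a b

/-- polarization of `[x, ψ x] = 1` -/
theorem comm_psi (x y : T) : ⁅x, ψ y⁆ = ⁅ψ x, y⁆ := by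
  have hc := h.comm_central h3
  have h1 : ⁅x * y, ψ (x * y)⁆ = 1 := by
    rw [commutatorElement_eq_one_iff_mul_comm]
    exact fpf_comm ψ h3 h.fpf (x * y)
  have hx : ⁅x, ψ x⁆ = 1 := by
    rw [commutatorElement_eq_one_iff_mul_comm]; exact fpf_comm ψ h3 h.fpf x
  have hy : ⁅y, ψ y⁆ = 1 := by
    rw [commutatorElement_eq_one_iff_mul_comm]; exact fpf_comm ψ h3 h.fpf y
  rw [map_mul, Sp64.comm_mul_left hc, Sp64.comm_mul_right hc, Sp64.comm_mul_right hc, hx, hy,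
    one_mul, mul_one] at h1
  rw [← commutatorElement_inv y (ψ x)]
  exact eq_inv_of_mul_eq_one_left h1

theorem psi_comm (x y : T) : ψ ⁅x, y⁆ = ⁅x, y⁆ * ⁅x, ψ y⁆ := by
  have hc := h.comm_central h3
  have e : ψ (ψ y) = (y * ψ y)⁻¹ := eq_inv_of_mul_eq_one_right (fpf_n1 ψ h3 h.fpf y)
  have hm : ⁅x, y⁆ * ⁅x, ψ y⁆ ∈ h.V :=
    Subgroup.mul_mem _ (h.comm_mem_V h3 hna _ _) (h.comm_mem_V h3 hna _ _)
  rw [map_commutatorElement, ← h.comm_psi h3 hna x (ψ y), e, Sp64.comm_inv_right hc,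
    Sp64.comm_mul_right hc, h.V_inv hm]

/-- the relations between the generators -/
theorem relations (u w : T) :
    ⁅u, w⁆ = ψ ⁅u, ψ w⁆ ∧ ⁅ψ u, w⁆ = ⁅u, ψ w⁆ ∧ ⁅ψ u, ψ w⁆ = ψ (ψ ⁅u, ψ w⁆) := by
  have hc := h.comm_central h3
  have he := h.comm_mem_V h3 hna u w
  have hd := h.comm_mem_V h3 hna u (ψ w)
  have h1 := fpf_n1 ψ h3 h.fpf ⁅u, w⁆
  rw [h.psi_comm h3 hna u w] at h1
  have h2 : ⁅u, w⁆ * (⁅u, w⁆ * ⁅u, ψ w⁆) = ⁅u, ψ w⁆ := by
    rw [← mul_assoc, (show ⁅u, w⁆ * ⁅u, w⁆ = 1 from he), one_mul]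
  rw [h2] at h1
  have h4 : ψ (⁅u, w⁆ * ⁅u, ψ w⁆) = ⁅u, ψ w⁆⁻¹ := eq_inv_of_mul_eq_one_right h1
  rw [h.V_inv hd, ← h.psi_comm h3 hna u w] at h4
  -- `h4 : ψ (ψ [u,w]) = [u, ψ w]`
  have h5 : ⁅u, w⁆ = ψ ⁅u, ψ w⁆ := by
    rw [← h4, h.cube_fix he]
  refine ⟨h5, (h.comm_psi h3 hna u w).symm, ?_⟩
  rw [← map_commutatorElement, h5]

end Cfg

end Cfsg.Agent.Lib.Helper72.R2
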