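import Mathlib
import Cfsg.Agent.Lib.Helper72.U3qMain
import Cfsg.Agent.Lib.Helper72.U3qCenter

/-!
The Sylow `2`-subgroup model of `U₃(4)` together with the scaling automorphism of order `5`:
explicit elements and their relations.
-/

set_option autoImplicit false
set_option linter.unusedSectionVars false

open scoped commutatorElement

namespace Cfsg.Agent.Lib.Helper72.Sp64M

open Cfsg.Agent.Lib.Helper72.U3q

variable {F : Type*} [Field F] [Fintype F]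

theorem exists_zeta (hF : Fintype.card F = 16) :
    ∃ ζ : F, ζ ^ 4 + ζ ^ 3 + ζ ^ 2 + ζ + 1 = 0 := by
  classical
  have h1 : Fintype.card Fˣ = 15 := by rw [Fintype.card_units, hF]
  have : Fact (Nat.Prime 5) := ⟨by norm_num⟩
  obtain ⟨g, hg⟩ := exists_prime_orderOf_dvd_card (G := Fˣ) 5 (by rw [h1]; norm_num)
  refine ⟨(g : F), ?_⟩
  have h2 : (g : F) ^ 5 = 1 := by
    rw [← Units.val_pow_eq_pow_val, ← hg, pow_orderOf_eq_one, Units.val_one]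
  have h3 : (g : F) ≠ 1 := by
    intro h
    have : g = 1 := Units.ext h
    rw [this, orderOf_one] at hg
    norm_num at hg
  have h4 : ((g : F) - 1) * ((g : F) ^ 4 + (g : F) ^ 3 + (g : F) ^ 2 + (g : F) + 1) = 0 := by
    linear_combination h2
  rcases mul_eq_zero.mp h4 with h5 | h5
  · exact absurd (sub_eq_zero.mp h5) h3
  · exact h5

variable (I : Inv2 F 2) (ζ : F) (hζ : ζ ^ 4 + ζ ^ 3 + ζ ^ 2 + ζ + 1 = 0)
include I hζ

theorem zeta_pow_five : ζ ^ 5 = 1 := by linear_combination (ζ - 1) * hζ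

omit hζ in
theorem phi_eq (x : F) : I.φ x = x ^ 4 := by rw [I.pow]; norm_num

theorem norm_pow (i : ℕ) : ζ ^ i * I.φ (ζ ^ i) = 1 := by
  rw [phi_eq, ← pow_mul, ← pow_add]
  have : i + i * 4 = 5 * i := by ring
  rw [this, pow_mul, zeta_pow_five I ζ hζ, one_pow]

theorem beta_rel : I.φ (ζ + ζ ^ 3) + (ζ + ζ ^ 3) = 1 := by
  have h5 := zeta_pow_five I ζ hζ
  rw [map_add, phi_eq, phi_eq]
  linear_combination ζ ^ 2 * (ζ ^ 5 + 1) * h5 + hζ - I.two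

/-- the elements `(ζ ^ i, ζ + ζ ^ 3)` -/
def mm (i : ℕ) : Model I :=
  ⟨(ζ ^ i, ζ + ζ ^ 3), by
    change I.φ (ζ + ζ ^ 3) + (ζ + ζ ^ 3) = ζ ^ i * I.φ (ζ ^ i)
    rw [beta_rel I ζ hζ, norm_pow I ζ hζ]⟩

theorem mm_fst (i : ℕ) : (mm I ζ hζ i).1.1 = ζ ^ i := rfl
theorem mm_snd (i : ℕ) : (mm I ζ hζ i).1.2 = ζ + ζ ^ 3 := rfl

omit hζ in
theorem cen_congr {s t : F} (hs : I.φ s = s) (ht : I.φ t = t) (h : s = t) :
    Model.cen (I := I) s hs = Model.cen t ht := by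
  subst h; rfl

omit hζ in
theorem comm_fixed (a c : F) : I.φ (a * I.φ c + c * I.φ a) = a * I.φ c + c * I.φ a := by
  rw [map_add, map_mul, map_mul, I.invol, I.invol]; ring

omit hζ in
theorem comm_eq_cen (x y : Model I) :
    ⁅x, y⁆ = Model.cen (x.1.1 * I.φ y.1.1 + y.1.1 * I.φ x.1.1) (comm_fixed I _ _) := by
  have h1 : x * y = Model.cen (x.1.1 * I.φ y.1.1 + y.1.1 * I.φ x.1.1) (comm_fixed I _ _) *
      (y * x) := by
    apply Model.ext
    · rw [Model.mul_fst, Model.mul_fst, Model.mul_fst, Model.cen_fst]; ring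
    · rw [Model.mul_snd, Model.mul_snd, Model.mul_snd, Model.cen_snd, Model.cen_fst]
      linear_combination (-(y.1.1 * I.φ x.1.1)) * I.two
  rw [commutatorElement_def]
  calc x * y * x⁻¹ * y⁻¹ = (x * y) * (y * x)⁻¹ := by group
    _ = _ := by rw [h1]; group

omit hζ in
theorem cen_central {t : F} (ht : I.φ t = t) (y : Model I) :
    y * Model.cen t ht = Model.cen t ht * y :=
  (Subgroup.mem_center_iff.mp (Model.Zm_le_center (Model.cen_mem_Zm t ht))) y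

theorem omega_fixed : I.φ (ζ + ζ ^ 4) = ζ + ζ ^ 4 := by
  have h5 := zeta_pow_five I ζ hζ
  rw [map_add, phi_eq, phi_eq]
  linear_combination ζ * (ζ ^ 10 + ζ ^ 5 + 1) * h5

theorem omega'_fixed : I.φ (ζ ^ 2 + ζ ^ 3) = ζ ^ 2 + ζ ^ 3 := by
  have h5 := zeta_pow_five I ζ hζ
  rw [map_add, phi_eq, phi_eq]
  linear_combination (ζ ^ 3 + ζ ^ 2 * (ζ ^ 5 + 1)) * h5

/-- the central involution `(0, ζ + ζ⁴)` -/
def z1 : Model I := Model.cen (ζ + ζ ^ 4) (omega_fixed I ζ hζ)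

/-- the central involution `(0, ζ² + ζ³)` -/
def z2 : Model I := Model.cen (ζ ^ 2 + ζ ^ 3) (omega'_fixed I ζ hζ)

theorem z1_central (y : Model I) : y * z1 I ζ hζ = z1 I ζ hζ * y := cen_central I _ y
theorem z2_central (y : Model I) : y * z2 I ζ hζ = z2 I ζ hζ * y := cen_central I _ y
theorem z1_sq : z1 I ζ hζ * z1 I ζ hζ = 1 := Model.cen_mul_self _ _
theorem z2_sq : z2 I ζ hζ * z2 I ζ hζ = 1 := Model.cen_mul_self _ _

theorem mm_sq (k : ℕ) : mm I ζ hζ k * mm I ζ hζ k = z1 I ζ hζ * z2 I ζ hζ := by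
  unfold z1 z2
  rw [Model.mul_self_eq_cen, ← Model.cen_add]
  apply cen_congr
  rw [mm_fst, norm_pow I ζ hζ]
  linear_combination I.two - hζ

theorem comm_mm (k i : ℕ) : ⁅mm I ζ hζ k, mm I ζ hζ i⁆ =
    Model.cen (ζ ^ k * (ζ ^ i) ^ 4 + ζ ^ i * (ζ ^ k) ^ 4)
      (by rw [← phi_eq I, ← phi_eq I]; exact comm_fixed I _ _) := by
  rw [comm_eq_cen]
  apply cen_congr
  rw [mm_fst, mm_fst, phi_eq, phi_eq]

theorem c10 : ⁅mm I ζ hζ 1, mm I ζ hζ 0⁆ = z1 I ζ hζ := by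
  rw [comm_mm]; apply cen_congr; ring

theorem c20 : ⁅mm I ζ hζ 2, mm I ζ hζ 0⁆ = z2 I ζ hζ := by
  have h5 := zeta_pow_five I ζ hζ
  rw [comm_mm]; apply cen_congr
  linear_combination ζ ^ 3 * h5

theorem c21 : ⁅mm I ζ hζ 2, mm I ζ hζ 1⁆ = z1 I ζ hζ := by
  have h5 := zeta_pow_five I ζ hζ
  rw [comm_mm]; apply cen_congr
  linear_combination (ζ + ζ ^ 4) * h5

theorem c30 : ⁅mm I ζ hζ 3, mm I ζ hζ 0⁆ = z2 I ζ hζ := by
  have h5 := zeta_pow_five I ζ hζ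
  rw [comm_mm]; apply cen_congr
  linear_combination ζ ^ 2 * (ζ ^ 5 + 1) * h5

theorem c31 : ⁅mm I ζ hζ 3, mm I ζ hζ 1⁆ = z2 I ζ hζ := by
  have h5 := zeta_pow_five I ζ hζ
  rw [comm_mm]; apply cen_congr
  linear_combination (ζ ^ 2 + ζ ^ 3 * (ζ ^ 5 + 1)) * h5

theorem c32 : ⁅mm I ζ hζ 3, mm I ζ hζ 2⁆ = z1 I ζ hζ := by
  have h5 := zeta_pow_five I ζ hζ
  rw [comm_mm]; apply cen_congr
  linear_combination (ζ + ζ ^ 4) * (ζ ^ 5 + 1) * h5

omit hζ in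
theorem cen_eq_one_iff {t : F} (ht : I.φ t = t) : Model.cen (I := I) t ht = 1 ↔ t = 0 := by
  constructor
  · intro h
    have := congrArg (fun x : Model I => x.1.2) h
    exact this
  · intro h
    subst h
    apply Model.ext <;> rfl

theorem omega_add : (ζ + ζ ^ 4) + (ζ ^ 2 + ζ ^ 3) = 1 := by
  linear_combination hζ - I.two

theorem omega_sq : (ζ + ζ ^ 4) ^ 2 = ζ ^ 2 + ζ ^ 3 := by
  have h5 := zeta_pow_five I ζ hζ
  linear_combination ζ ^ 3 * h5 + ζ ^ 5 * I.two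

theorem z1_ne_one : z1 I ζ hζ ≠ 1 := by
  unfold z1
  rw [Ne, cen_eq_one_iff]
  intro h
  have h1 := omega_add I ζ hζ
  have h2 := omega_sq I ζ hζ
  rw [h] at h1 h2
  rw [← h2] at h1
  norm_num at h1

theorem z2_ne_one : z2 I ζ hζ ≠ 1 := by
  unfold z2
  rw [Ne, cen_eq_one_iff]
  intro h
  have h1 := omega_add I ζ hζ
  have h2 := omega_sq I ζ hζ
  rw [h] at h1 h2
  have h3 : ζ + ζ ^ 4 = 0 := by
    have := pow_eq_zero_iff (two_ne_zero) |>.mp h2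
    exact this
  rw [h3] at h1
  norm_num at h1

theorem z1_ne_z2 : z1 I ζ hζ ≠ z2 I ζ hζ := by
  intro h
  have h1 : (z1 I ζ hζ).1.2 = (z2 I ζ hζ).1.2 := by rw [h]
  change ζ + ζ ^ 4 = ζ ^ 2 + ζ ^ 3 at h1
  have h2 := omega_add I ζ hζ
  rw [h1] at h2
  have h3 : (ζ ^ 2 + ζ ^ 3) + (ζ ^ 2 + ζ ^ 3) = 0 := I.add_self _
  rw [h3] at h2
  exact zero_ne_one h2

/-- the scaling automorphism attached to `ζ` fixes central elements -/
theorem scaleFun_cen {t : F} (ht : I.φ t = t) :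
    Model.scaleFun ζ (Model.cen (I := I) t ht) = Model.cen t ht := by
  apply Model.ext
  · rw [Model.scaleFun_fst, Model.cen_fst, mul_zero]
  · rw [Model.scaleFun_snd, Model.cen_snd]
    have := norm_pow I ζ hζ 1
    rw [pow_one] at this
    rw [this, one_mul]

theorem scaleFun_mm (i : ℕ) : Model.scaleFun ζ (mm I ζ hζ i) = mm I ζ hζ (i + 1) := by
  apply Model.ext
  · rw [Model.scaleFun_fst, mm_fst, mm_fst, pow_succ']
  · rw [Model.scaleFun_snd, mm_snd, mm_snd]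
    have := norm_pow I ζ hζ 1
    rw [pow_one] at this
    rw [this, one_mul]

theorem mm_prod : mm I ζ hζ 0 * mm I ζ hζ 1 * mm I ζ hζ 2 * mm I ζ hζ 3 * mm I ζ hζ 4 = 1 := by
  apply Model.ext
  · simp only [Model.mul_fst, mm_fst, Model.one_fst]
    linear_combination hζ
  · simp only [Model.mul_snd, Model.mul_fst, mm_fst, mm_snd, Model.one_snd, phi_eq]
    linear_combination (4 - ζ - ζ ^ 2 - ζ ^ 3 + 3 * ζ ^ 5 - ζ ^ 6 - ζ ^ 7 + 2 * ζ ^ 10 - ζ ^ 11 +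
      ζ ^ 15) * hζ + (-2 + ζ - ζ ^ 2 + 2 * ζ ^ 3) * I.two

theorem mm_four : mm I ζ hζ 4 = (mm I ζ hζ 0 * mm I ζ hζ 1 * mm I ζ hζ 2 * mm I ζ hζ 3)⁻¹ :=
  eq_inv_of_mul_eq_one_right (mm_prod I ζ hζ)

end Cfsg.Agent.Lib.Helper72.Sp64M
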