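import Mathlib
import Cfsg.Agent.Lib.Helper72.R2Rec1
import Cfsg.Agent.Lib.Helper72.Sp64Model

/-!
The non-abelian case of order `64`: the homomorphism to the Sylow `2`-subgroup model of `U₃(4)`.
-/

set_option autoImplicit false
set_option maxHeartbeats 800000
set_option linter.unusedSectionVars false

open scoped commutatorElement

namespace Cfsg.Agent.Lib.Helper72.R2

open Cfsg.Agent.Lib.Helper72
open Cfsg.Agent.Lib.Helper72.U3q

universe u v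

/-- squares in groups with central commutators -/
theorem mul_sq_of_central {G : Type*} [Group G] (a b : G)
    (hc : ⁅b, a⁆ ∈ Subgroup.center G) :
    (a * b) * (a * b) = ⁅b, a⁆ * (a * a) * (b * b) := by
  have h1 : b * a = ⁅b, a⁆ * a * b := by
    rw [commutatorElement_def]; group
  have h2 : a * ⁅b, a⁆ = ⁅b, a⁆ * a := (Subgroup.mem_center_iff.mp hc a)
  calc (a * b) * (a * b) = a * (b * a) * b := by simp only [mul_assoc]
    _ = a * (⁅b, a⁆ * a * b) * b := by rw [← h1]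
    _ = (a * ⁅b, a⁆) * a * b * b := by simp only [mul_assoc]
    _ = ⁅b, a⁆ * a * a * b * b := by rw [h2]
    _ = ⁅b, a⁆ * (a * a) * (b * b) := by simp only [mul_assoc]

/-- a four-term sequence -/
def seq4 {P : Type*} [One P] (a b c d : P) : ℕ → P := fun k =>
  if k = 0 then a else if k = 1 then b else if k = 2 then c else if k = 3 then d else 1

open Classical in
/-- the map on the four-group -/
noncomputable def iota {T : Type*} [Group T] {P : Type*} [Group P] (ψ : MulAut T) (z : T)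
    (Z1 Z2 : P) (t : T) : P :=
  if t = z then Z1 * Z2 else if t = ψ z then Z2 else if t = ψ (ψ z) then Z1 else 1

namespace Cfg

variable {T : Type u} [Group T] [Finite T] {ψ : MulAut T} {z : T} (h : Cfg ψ z)
include h

theorem z_mul_z2 : z * ψ (ψ z) = ψ z := by
  rw [← h.z_mul_z1, ← mul_assoc, h.z_sq, one_mul]

theorem z1_mul_z : ψ z * z = ψ (ψ z) := by
  rw [h.central z h.z_sq (ψ z)]; exact h.z_mul_z1

theorem z1_mul_z2 : ψ z * ψ (ψ z) = z := by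
  rw [← map_mul, h.z_mul_z1, h.cube_z]

theorem z2_mul_z : ψ (ψ z) * z = ψ z := by
  rw [h.central z h.z_sq (ψ (ψ z))]; exact h.z_mul_z2

theorem z2_mul_z1 : ψ (ψ z) * ψ z = z := by
  rw [h.central (ψ z) h.z1_sq (ψ (ψ z))]; exact h.z1_mul_z2

section Iota

variable {P : Type v} [Group P] (Z1 Z2 : P)

theorem iota_z : iota ψ z Z1 Z2 z = Z1 * Z2 := if_pos rfl

theorem iota_z1 : iota ψ z Z1 Z2 (ψ z) = Z2 := by
  unfold iota
  rw [if_neg h.z_move, if_pos rfl]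

theorem iota_z2 : iota ψ z Z1 Z2 (ψ (ψ z)) = Z1 := by
  unfold iota
  rw [if_neg h.z2_ne_z, if_neg h.z2_ne_z1, if_pos rfl]

theorem iota_one : iota ψ z Z1 Z2 1 = 1 := by
  unfold iota
  rw [if_neg (Ne.symm h.z_ne), if_neg (Ne.symm h.z1_ne), if_neg (Ne.symm h.z2_ne)]

theorem iota_mulOn (hZ1 : Z1 * Z1 = 1) (hZ2 : Z2 * Z2 = 1) (hc : Z1 * Z2 = Z2 * Z1) :
    ExtTwo.MulOn (iota ψ z Z1 Z2) h.V := by
  have e1 : Z1 * Z2 * (Z1 * Z2) = 1 := by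
    calc Z1 * Z2 * (Z1 * Z2) = Z1 * (Z2 * Z1) * Z2 := by simp only [mul_assoc]
      _ = Z1 * (Z1 * Z2) * Z2 := by rw [hc]
      _ = (Z1 * Z1) * (Z2 * Z2) := by simp only [mul_assoc]
      _ = 1 := by rw [hZ1, hZ2, mul_one]
  have e2 : Z1 * Z2 * Z2 = Z1 := by rw [mul_assoc, hZ2, mul_one]
  have e3 : Z1 * Z2 * Z1 = Z2 := by rw [hc, mul_assoc, hZ1, mul_one]
  have e4 : Z2 * (Z1 * Z2) = Z1 := by rw [hc, ← mul_assoc, hZ2, one_mul]
  have e5 : Z1 * (Z1 * Z2) = Z2 := by rw [← mul_assoc, hZ1, one_mul]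
  intro a ha b hb
  rcases h.V_cases ha with ea | ea | ea | ea <;>
  rcases h.V_cases hb with eb | eb | eb | eb <;> rw [ea, eb]
  · rw [mul_one, h.iota_one, mul_one]
  · rw [one_mul, h.iota_one, one_mul]
  · rw [one_mul, h.iota_one, one_mul]
  · rw [one_mul, h.iota_one, one_mul]
  · rw [mul_one, h.iota_one, mul_one]
  · rw [h.z_sq, h.iota_one, h.iota_z, e1]
  · rw [h.z_mul_z1, h.iota_z2, h.iota_z, h.iota_z1, e2]
  · rw [h.z_mul_z2, h.iota_z1, h.iota_z, h.iota_z2, e3]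
  · rw [mul_one, h.iota_one, mul_one]
  · rw [h.z1_mul_z, h.iota_z2, h.iota_z1, h.iota_z, e4]
  · rw [h.z1_sq, h.iota_one, h.iota_z1, hZ2]
  · rw [h.z1_mul_z2, h.iota_z, h.iota_z1, h.iota_z2, hc]
  · rw [mul_one, h.iota_one, mul_one]
  · rw [h.z2_mul_z, h.iota_z1, h.iota_z2, h.iota_z, e5]
  · rw [h.z2_mul_z1, h.iota_z, h.iota_z2, h.iota_z1]
  · rw [h.z2_sq, h.iota_one, h.iota_z2, hZ1]

theorem iota_central (hc1 : ∀ y : P, y * Z1 = Z1 * y) (hc2 : ∀ y : P, y * Z2 = Z2 * y) :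
    ∀ v ∈ h.V, ∀ y : P, y * iota ψ z Z1 Z2 v = iota ψ z Z1 Z2 v * y := by
  intro v hv y
  rcases h.V_cases hv with e | e | e | e <;> rw [e]
  · rw [h.iota_one, mul_one, one_mul]
  · rw [h.iota_z, ← mul_assoc, hc1 y, mul_assoc, hc2 y, mul_assoc]
  · rw [h.iota_z1, hc2 y]
  · rw [h.iota_z2, hc1 y]

theorem iota_eq_one (hZ1 : Z1 ≠ 1) (hZ2 : Z2 ≠ 1) (hZ12 : Z1 * Z2 ≠ 1) {v : T} (hv : v ∈ h.V)
    (hι : iota ψ z Z1 Z2 v = 1) : v = 1 := by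
  rcases h.V_cases hv with e | e | e | e
  · exact e
  · rw [e, h.iota_z] at hι; exact absurd hι hZ12
  · rw [e, h.iota_z1] at hι; exact absurd hι hZ2
  · rw [e, h.iota_z2] at hι; exact absurd hι hZ1

end Iota

variable (h3 : ψ ^ 3 = 1) (hna : ∃ a b : T, a * b ≠ b * a)
include h3 hna

theorem comm_symm (a b : T) : ⁅b, a⁆ = ⁅a, b⁆ := by
  rw [← commutatorElement_inv, h.V_inv (h.comm_mem_V h3 hna a b)]

theorem mem_H_self (u : T) : u ∈ h.H u :=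
  (le_sup_left : h.V ⊔ Subgroup.zpowers u ≤ _)
    ((le_sup_right : Subgroup.zpowers u ≤ _) (Subgroup.mem_zpowers u))

theorem psi_mem_H (u : T) : ψ u ∈ h.H u :=
  (le_sup_right : Subgroup.zpowers (ψ u) ≤ h.V ⊔ Subgroup.zpowers u ⊔ Subgroup.zpowers (ψ u))
    (Subgroup.mem_zpowers _)

/-- `[u, ψ w] ≠ 1` -/
theorem d_ne_one {u w : T} (hu : u * u = z) (hw : w ∉ h.H u) (hw2 : w * w = z) :
    ⁅u, ψ w⁆ ≠ 1 := by
  intro hd
  obtain ⟨r1, -, -⟩ := h.relations h3 hna u w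
  rw [hd, map_one] at r1
  have h1 : (u * w) * (u * w) = 1 := by
    rw [mul_sq_of_central u w (h.comm_central h3 w u), h.comm_symm h3 hna u w, r1, hu, hw2,
      one_mul, h.z_sq]
  apply hw
  have h2 : u * w ∈ h.H u := h.V_le_H h3 hna u h1
  have h4 : w = u⁻¹ * (u * w) := by group
  rw [h4]
  exact Subgroup.mul_mem _ (Subgroup.inv_mem _ (h.mem_H_self h3 hna u)) h2

/-- `[u, ψ w] ≠ ψ² z` -/
theorem d_ne_z2 {u w : T} (hu : u * u = z) (hw : w ∉ h.H u) (hw2 : w * w = z) :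
    ⁅u, ψ w⁆ ≠ ψ (ψ z) := by
  intro hd
  obtain ⟨-, r2, -⟩ := h.relations h3 hna u w
  have h1 : (ψ u * w) * (ψ u * w) = 1 := by
    rw [mul_sq_of_central (ψ u) w (h.comm_central h3 w (ψ u)), h.comm_symm h3 hna (ψ u) w, r2,
      hd, ← map_mul, hu, hw2, h.z2_mul_z1, h.z_sq]
  apply hw
  have h2 : ψ u * w ∈ h.H u := h.V_le_H h3 hna u h1
  have h4 : w = (ψ u)⁻¹ * (ψ u * w) := by group
  rw [h4]
  exact Subgroup.mul_mem _ (Subgroup.inv_mem _ (h.psi_mem_H h3 hna u)) h2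

/-- the abstract homomorphism -/
theorem exists_hom_core {P : Type v} [Group P] (Z1 Z2 : P) (hZ1 : Z1 * Z1 = 1)
    (hZ2 : Z2 * Z2 = 1) (hc1 : ∀ y : P, y * Z1 = Z1 * y) (hc2 : ∀ y : P, y * Z2 = Z2 * y)
    {u w : T} (hu : u * u = z) (hw : w ∉ h.H u) (hw2 : w * w = z)
    (a b c e : P) (s0 : a * a = Z1 * Z2) (s1 : b * b = Z2) (s2 : c * c = Z1 * Z2)
    (s3 : e * e = Z2) (c10 : ⁅b, a⁆ = 1) (c32 : ⁅e, c⁆ = 1)
    (c20 : ⁅c, a⁆ = iota ψ z Z1 Z2 (ψ ⁅u, ψ w⁆)) (c21 : ⁅c, b⁆ = iota ψ z Z1 Z2 ⁅u, ψ w⁆)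
    (c30 : ⁅e, a⁆ = iota ψ z Z1 Z2 ⁅u, ψ w⁆)
    (c31 : ⁅e, b⁆ = iota ψ z Z1 Z2 (ψ (ψ ⁅u, ψ w⁆))) :
    ∃ f : T →* P, ∀ v ∈ h.V, f v = iota ψ z Z1 Z2 v := by
  have huV : u ∉ h.V := by
    intro hm
    have : u * u = 1 := hm
    rw [hu] at this
    exact h.z_ne this
  obtain ⟨r1, r2, r3⟩ := h.relations h3 hna u w
  have hι := h.iota_mulOn Z1 Z2 hZ1 hZ2 (hc2 Z1)
  have hιc := h.iota_central Z1 Z2 hc1 hc2
  have hcard : Nat.card T = 2 ^ 4 * Nat.card h.V := by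
    rw [h.card_eq h3 hna, h.card_V]; norm_num
  have k10 : ⁅ψ u, u⁆ = 1 := by
    rw [commutatorElement_eq_one_iff_mul_comm]
    exact (fpf_comm ψ h3 h.fpf u).symm
  have k32 : ⁅ψ w, w⁆ = 1 := by
    rw [commutatorElement_eq_one_iff_mul_comm]
    exact (fpf_comm ψ h3 h.fpf w).symm
  have k20 : ⁅w, u⁆ = ψ ⁅u, ψ w⁆ := by rw [h.comm_symm h3 hna u w, r1]
  have k21 : ⁅w, ψ u⁆ = ⁅u, ψ w⁆ := by rw [h.comm_symm h3 hna (ψ u) w, r2]
  have k30 : ⁅ψ w, u⁆ = ⁅u, ψ w⁆ := h.comm_symm h3 hna u (ψ w)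
  have k31 : ⁅ψ w, ψ u⁆ = ψ (ψ ⁅u, ψ w⁆) := by rw [h.comm_symm h3 hna (ψ u) (ψ w), r3]
  have q1 : ψ u * ψ u = ψ z := by rw [← map_mul, hu]
  have q3 : ψ w * ψ w = ψ z := by rw [← map_mul, hw2]
  obtain ⟨f, hf, -⟩ := ExtTwo.exists_hom (Z := h.V) (u := seq ψ u w) (n := 4)
    (h.comm_mem_V h3 hna) (fun v hv y => h.central v hv y) (fun k => h.sq_mem_V h3 hna _)
    (h.Qk_top h3 hna huV hw) hcard (iota ψ z Z1 Z2) hι hιc (seq4 a b c e)
    (by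
      intro k hk
      interval_cases k
      · change iota ψ z Z1 Z2 (u * u) = a * a
        rw [hu, h.iota_z, s0]
      · change iota ψ z Z1 Z2 (ψ u * ψ u) = b * b
        rw [q1, h.iota_z1, s1]
      · change iota ψ z Z1 Z2 (w * w) = c * c
        rw [hw2, h.iota_z, s2]
      · change iota ψ z Z1 Z2 (ψ w * ψ w) = e * e
        rw [q3, h.iota_z1, s3])
    (by
      intro k hk i hi
      interval_cases k <;> interval_cases i
      · change iota ψ z Z1 Z2 ⁅ψ u, u⁆ = ⁅b, a⁆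
        rw [k10, h.iota_one, c10]
      · change iota ψ z Z1 Z2 ⁅w, u⁆ = ⁅c, a⁆
        rw [k20, c20]
      · change iota ψ z Z1 Z2 ⁅w, ψ u⁆ = ⁅c, b⁆
        rw [k21, c21]
      · change iota ψ z Z1 Z2 ⁅ψ w, u⁆ = ⁅e, a⁆
        rw [k30, c30]
      · change iota ψ z Z1 Z2 ⁅ψ w, ψ u⁆ = ⁅e, b⁆
        rw [k31, c31]
      · change iota ψ z Z1 Z2 ⁅ψ w, w⁆ = ⁅e, c⁆
        rw [k32, h.iota_one, c32])
  exact ⟨f, hf⟩

end Cfg

/-! ### The model side -/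

section ModelSide

open Sp64M

variable {F : Type*} [Field F] [Fintype F] (I : Inv2 F 2) (ζ : F)
  (hζ : ζ ^ 4 + ζ ^ 3 + ζ ^ 2 + ζ + 1 = 0)
include hζ

theorem sq_lift_eq1 (c : F) (hc : c * c ^ 4 = (ζ + ζ ^ 4) + (ζ ^ 2 + ζ ^ 3)) :
    Model.lift (I := I) c * Model.lift c = z1 I ζ hζ * z2 I ζ hζ := by
  unfold z1 z2
  rw [Model.mul_self_eq_cen, ← Model.cen_add]
  apply cen_congr
  rw [Model.lift_fst, phi_eq]
  exact hc

theorem sq_lift_eq2 (c : F) (hc : c * c ^ 4 = ζ ^ 2 + ζ ^ 3) :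
    Model.lift (I := I) c * Model.lift c = z2 I ζ hζ := by
  unfold z2
  rw [Model.mul_self_eq_cen]
  apply cen_congr
  rw [Model.lift_fst, phi_eq]
  exact hc

theorem comm_lift_one (a b : F) (hc : a * b ^ 4 + b * a ^ 4 = 0) :
    ⁅Model.lift (I := I) a, Model.lift (I := I) b⁆ = 1 := by
  rw [comm_eq_cen, cen_eq_one_iff, Model.lift_fst, Model.lift_fst, phi_eq, phi_eq]
  exact hc

theorem comm_lift_z1 (a b : F) (hc : a * b ^ 4 + b * a ^ 4 = ζ + ζ ^ 4) :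
    ⁅Model.lift (I := I) a, Model.lift (I := I) b⁆ = z1 I ζ hζ := by
  unfold z1
  rw [comm_eq_cen]
  apply cen_congr
  rw [Model.lift_fst, Model.lift_fst, phi_eq, phi_eq]
  exact hc

theorem comm_lift_z2 (a b : F) (hc : a * b ^ 4 + b * a ^ 4 = ζ ^ 2 + ζ ^ 3) :
    ⁅Model.lift (I := I) a, Model.lift (I := I) b⁆ = z2 I ζ hζ := by
  unfold z2
  rw [comm_eq_cen]
  apply cen_congr
  rw [Model.lift_fst, Model.lift_fst, phi_eq, phi_eq]
  exact hc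

theorem comm_lift_z12 (a b : F)
    (hc : a * b ^ 4 + b * a ^ 4 = (ζ + ζ ^ 4) + (ζ ^ 2 + ζ ^ 3)) :
    ⁅Model.lift (I := I) a, Model.lift (I := I) b⁆ = z1 I ζ hζ * z2 I ζ hζ := by
  unfold z1 z2
  rw [comm_eq_cen, ← Model.cen_add]
  apply cen_congr
  rw [Model.lift_fst, Model.lift_fst, phi_eq, phi_eq]
  exact hc

theorem z12_ne_one : z1 I ζ hζ * z2 I ζ hζ ≠ 1 := by
  intro e
  apply z1_ne_z2 I ζ hζ
  have h1 : z1 I ζ hζ = (z2 I ζ hζ)⁻¹ := eq_inv_of_mul_eq_one_left e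
  rw [h1]
  exact inv_eq_of_mul_eq_one_left (z2_sq I ζ hζ)

end ModelSide

end Cfsg.Agent.Lib.Helper72.R2
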