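import Mathlib
import Cfsg.Agent.Lib.Helper72.G4Basic
import Cfsg.Agent.Lib.Helper72.R2Rec2

/-!
A finite `2`-group `T` with a fixed-point-free automorphism `ρ` of order three and a central
invariant subgroup `Z` of index `16` containing all commutators and all squares: generators,
relations, and the bound `|[T, T]| ≤ 4`.
-/

set_option autoImplicit false
set_option maxHeartbeats 800000
set_option linter.unusedSectionVars false

open scoped commutatorElement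

namespace Cfsg.Agent.Lib.Helper72.G4

open Cfsg.Agent.Lib.Helper72
open Cfsg.Agent.Lib.Helper72.Sp64 (fixedSub mem_fixedSub)
open Cfsg.Agent.Lib.Helper72.R2

universe u

/-- the standing configuration -/
structure Pre {T : Type*} [Group T] (ρ : MulAut T) (Z : Subgroup T) : Prop where
  isP : IsPGroup 2 T
  h3 : ρ ^ 3 = 1
  fpf : ∀ t : T, ρ t = t → t = 1
  central : Z ≤ Subgroup.center T
  inv : ∀ v ∈ Z, ρ v ∈ Z
  comm_mem : ∀ a b : T, ⁅a, b⁆ ∈ Z
  sq_mem : ∀ a : T, a * a ∈ Z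
  card : Nat.card T = 16 * Nat.card Z

/-- the subgroup `Z ⟨u, ρ u⟩` -/
def HH {T : Type*} [Group T] (ρ : MulAut T) (Z : Subgroup T) (u : T) : Subgroup T :=
  Z ⊔ Subgroup.zpowers u ⊔ Subgroup.zpowers (ρ u)

theorem card_sup_ge' {T : Type*} [Group T] [Finite T] (Q : Subgroup T) {v : T} (hv : v ∉ Q) :
    2 * Nat.card Q ≤ Nat.card ↥(Q ⊔ Subgroup.zpowers v) := by
  have hle : Q ≤ Q ⊔ Subgroup.zpowers v := le_sup_left
  obtain ⟨k, hk⟩ := Subgroup.card_dvd_of_le hle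
  have hpos : 0 < Nat.card Q := Nat.card_pos
  have hk1 : k ≠ 1 := by
    intro e
    rw [e, mul_one] at hk
    have h2 := Subgroup.eq_of_le_of_card_ge hle (le_of_eq hk)
    apply hv
    rw [h2]
    exact (le_sup_right : Subgroup.zpowers v ≤ _) (Subgroup.mem_zpowers v)
  have hk0 : k ≠ 0 := by
    intro e
    rw [e, mul_zero] at hk
    have : 0 < Nat.card ↥(Q ⊔ Subgroup.zpowers v) := Nat.card_pos
    omega
  rw [hk]
  have : 2 ≤ k := by omega
  nlinarith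

namespace Pre

variable {T : Type u} [Group T] [Finite T] {ρ : MulAut T} {Z : Subgroup T} (h : Pre ρ Z)
include h

theorem comm_central (a b : T) : ⁅a, b⁆ ∈ Subgroup.center T := h.central (h.comm_mem a b)

theorem cen {v : T} (hv : v ∈ Z) (y : T) : y * v = v * y :=
  Subgroup.mem_center_iff.mp (h.central hv) y

theorem comm_sq (a b : T) : ⁅a, b⁆ * ⁅a, b⁆ = 1 := by
  rw [← Sp64.comm_mul_left h.comm_central a a b, commutatorElement_eq_one_iff_mul_comm]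
  exact (h.cen (h.sq_mem a) b).symm

theorem comm_inv (a b : T) : ⁅a, b⁆⁻¹ = ⁅a, b⁆ := inv_eq_of_mul_eq_one_left (h.comm_sq a b)

theorem comm_symm (a b : T) : ⁅b, a⁆ = ⁅a, b⁆ := by
  rw [← commutatorElement_inv, h.comm_inv]

theorem cube (t : T) : ρ (ρ (ρ t)) = t := by
  rw [← aut_cube_apply, h.h3]; rfl

theorem comm_of_mem_left {a : T} (ha : a ∈ Z) (b : T) : ⁅a, b⁆ = 1 := by
  rw [commutatorElement_eq_one_iff_mul_comm]
  exact (h.cen ha b).symm

theorem conj_mem (Q : Subgroup T) (hZQ : Z ≤ Q) (v : T) {q : T} (hq : q ∈ Q) :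
    v * q * v⁻¹ ∈ Q :=
  ExtTwo.conj_mem_of_comm_mem h.comm_mem hZQ v hq

/-- `ρ v` lies outside `Q ⟨v⟩` for an invariant subgroup `Q ≥ Z` not containing `v` -/
theorem psi_not_mem_sup (Q : Subgroup T) (hZQ : Z ≤ Q) (hQinv : ∀ q ∈ Q, ρ q ∈ Q) {v : T}
    (hv : v ∉ Q) : ρ v ∉ Q ⊔ Subgroup.zpowers v := by
  intro hm
  rcases ExtTwo.mem_or_of_mem_sup (fun q hq => h.conj_mem Q hZQ v hq)
    (hZQ (h.sq_mem v)) hm with h1 | h1
  · exact hv ((mem_iff_of_invariant ρ Q hQinv v).mp h1)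
  · apply hv
    apply fpf_quot h.isP ρ h.h3 h.fpf Q hQinv
    have h2 := h.conj_mem Q hZQ v⁻¹ h1
    have h4 : v⁻¹ * (ρ v * v⁻¹) * v⁻¹⁻¹ = v⁻¹ * ρ v := by group
    rw [h4] at h2
    exact h2

theorem Z_le_HH (u : T) : Z ≤ HH ρ Z u := le_trans le_sup_left le_sup_left

theorem mem_HH_self (u : T) : u ∈ HH ρ Z u :=
  (le_sup_left : Z ⊔ Subgroup.zpowers u ≤ _)
    ((le_sup_right : Subgroup.zpowers u ≤ _) (Subgroup.mem_zpowers u))

theorem psi_mem_HH (u : T) : ρ u ∈ HH ρ Z u :=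
  (le_sup_right : Subgroup.zpowers (ρ u) ≤ Z ⊔ Subgroup.zpowers u ⊔ Subgroup.zpowers (ρ u))
    (Subgroup.mem_zpowers _)

theorem HH_invariant (u : T) : ∀ q ∈ HH ρ Z u, ρ q ∈ HH ρ Z u := by
  have h1 : (HH ρ Z u).map (ρ : T →* T) ≤ HH ρ Z u := by
    unfold HH
    rw [Subgroup.map_sup, Subgroup.map_sup, MonoidHom.map_zpowers, MonoidHom.map_zpowers]
    apply sup_le
    · apply sup_le
      · rintro _ ⟨v, hv, rfl⟩
        exact (le_sup_left : Z ⊔ Subgroup.zpowers u ≤ _) (le_sup_left (a := Z) (h.inv v hv))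
      · exact le_sup_right
    · rw [Subgroup.zpowers_le]
      have e : ρ (ρ u) = (u * ρ u)⁻¹ := eq_inv_of_mul_eq_one_right (fpf_n1 ρ h.h3 h.fpf u)
      change ρ (ρ u) ∈ _
      rw [e]
      apply Subgroup.inv_mem
      apply Subgroup.mul_mem
      · exact (le_sup_left : Z ⊔ Subgroup.zpowers u ≤ _)
          ((le_sup_right : Subgroup.zpowers u ≤ _) (Subgroup.mem_zpowers u))
      · exact (le_sup_right : Subgroup.zpowers (ρ u) ≤ _) (Subgroup.mem_zpowers _)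
  intro q hq
  exact h1 ⟨q, hq, rfl⟩

theorem card_HH_le (u : T) : Nat.card (HH ρ Z u) ≤ 4 * Nat.card Z := by
  have h1 : Nat.card ↥(Z ⊔ Subgroup.zpowers u) ≤ 2 * Nat.card Z :=
    ExtTwo.card_sup_le (fun q hq => h.conj_mem Z le_rfl u hq) (h.sq_mem u)
  have h2 : Nat.card (HH ρ Z u) ≤ 2 * Nat.card ↥(Z ⊔ Subgroup.zpowers u) :=
    ExtTwo.card_sup_le (fun q hq => h.conj_mem _ le_sup_left (ρ u) hq)
      (le_sup_left (a := Z) (h.sq_mem (ρ u)))
  omega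

theorem exists_not_mem_Z : ∃ u : T, u ∉ Z := by
  by_contra hall
  push Not at hall
  have h1 : Z = ⊤ := by
    rw [eq_top_iff]; intro x _; exact hall x
  have h2 := h.card
  have hpos : 0 < Nat.card Z := Nat.card_pos
  rw [h1, Subgroup.card_top] at h2 hpos
  omega

theorem exists_not_mem_HH (u : T) : ∃ w : T, w ∉ HH ρ Z u := by
  by_contra hall
  push Not at hall
  have h1 : HH ρ Z u = ⊤ := by
    rw [eq_top_iff]; intro x _; exact hall x
  have h2 := h.card_HH_le u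
  have hpos : 0 < Nat.card Z := Nat.card_pos
  rw [h1, Subgroup.card_top, h.card] at h2
  omega

/-- the chain reaches the whole group -/
theorem Qk_top {u w : T} (hu : u ∉ Z) (hw : w ∉ HH ρ Z u) :
    ExtTwo.Qk Z (seq ρ u w) 4 = ⊤ := by
  have hcard := h.card
  have e1 : ExtTwo.Qk Z (seq ρ u w) 1 = Z ⊔ Subgroup.zpowers u := by
    rw [ExtTwo.Qk_succ, ExtTwo.Qk_zero, seq_zero]
  have e2 : ExtTwo.Qk Z (seq ρ u w) 2 = HH ρ Z u := by
    rw [ExtTwo.Qk_succ, e1, seq_one]; rfl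
  have e3 : ExtTwo.Qk Z (seq ρ u w) 3 = HH ρ Z u ⊔ Subgroup.zpowers w := by
    rw [ExtTwo.Qk_succ, e2, seq_two]
  have e4 : ExtTwo.Qk Z (seq ρ u w) 4 =
      HH ρ Z u ⊔ Subgroup.zpowers w ⊔ Subgroup.zpowers (ρ w) := by
    rw [ExtTwo.Qk_succ, e3, seq_three]
  have c1 := card_sup_ge' Z hu
  have hu1 : ρ u ∉ Z ⊔ Subgroup.zpowers u :=
    h.psi_not_mem_sup Z le_rfl h.inv hu
  have c2 : 2 * Nat.card ↥(Z ⊔ Subgroup.zpowers u) ≤ Nat.card (HH ρ Z u) :=
    card_sup_ge' _ hu1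
  have c3 := card_sup_ge' (HH ρ Z u) hw
  have hw1 : ρ w ∉ HH ρ Z u ⊔ Subgroup.zpowers w :=
    h.psi_not_mem_sup (HH ρ Z u) (h.Z_le_HH u) (h.HH_invariant u) hw
  have c4 := card_sup_ge' _ hw1
  rw [e4]
  apply Subgroup.eq_top_of_card_eq
  have h5 := Subgroup.card_le_card_group
    (HH ρ Z u ⊔ Subgroup.zpowers w ⊔ Subgroup.zpowers (ρ w))
  omega

/-! ### The relations -/

/-- polarization of `[x, ρ x] = 1` -/
theorem comm_psi (x y : T) : ⁅x, ρ y⁆ = ⁅ρ x, y⁆ := by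
  have hc := h.comm_central
  have h1 : ⁅x * y, ρ (x * y)⁆ = 1 := by
    rw [commutatorElement_eq_one_iff_mul_comm]
    exact fpf_comm ρ h.h3 h.fpf (x * y)
  have hx : ⁅x, ρ x⁆ = 1 := by
    rw [commutatorElement_eq_one_iff_mul_comm]; exact fpf_comm ρ h.h3 h.fpf x
  have hy : ⁅y, ρ y⁆ = 1 := by
    rw [commutatorElement_eq_one_iff_mul_comm]; exact fpf_comm ρ h.h3 h.fpf y
  rw [map_mul, Sp64.comm_mul_left hc, Sp64.comm_mul_right hc, Sp64.comm_mul_right hc, hx, hy,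
    one_mul, mul_one] at h1
  rw [← commutatorElement_inv y (ρ x)]
  exact eq_inv_of_mul_eq_one_left h1

theorem psi_comm (x y : T) : ρ ⁅x, y⁆ = ⁅x, y⁆ * ⁅x, ρ y⁆ := by
  have hc := h.comm_central
  have e : ρ (ρ y) = (y * ρ y)⁻¹ := eq_inv_of_mul_eq_one_right (fpf_n1 ρ h.h3 h.fpf y)
  have hm : (⁅x, y⁆ * ⁅x, ρ y⁆)⁻¹ = ⁅x, y⁆ * ⁅x, ρ y⁆ := by
    rw [mul_inv_rev, h.comm_inv, h.comm_inv]
    exact (h.cen (h.comm_mem x y) _)
  rw [map_commutatorElement, ← h.comm_psi x (ρ y), e, Sp64.comm_inv_right hc,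
    Sp64.comm_mul_right hc, hm]

/-- the relations between the generators -/
theorem relations (u w : T) :
    ⁅u, w⁆ = ρ ⁅u, ρ w⁆ ∧ ⁅ρ u, w⁆ = ⁅u, ρ w⁆ ∧ ⁅ρ u, ρ w⁆ = ρ (ρ ⁅u, ρ w⁆) := by
  have hc := h.comm_central
  have h1 := fpf_n1 ρ h.h3 h.fpf ⁅u, w⁆
  rw [h.psi_comm u w] at h1
  have h2 : ⁅u, w⁆ * (⁅u, w⁆ * ⁅u, ρ w⁆) = ⁅u, ρ w⁆ := by
    rw [← mul_assoc, h.comm_sq u w, one_mul]
  rw [h2] at h1
  have h4 : ρ (⁅u, w⁆ * ⁅u, ρ w⁆) = ⁅u, ρ w⁆⁻¹ := eq_inv_of_mul_eq_one_right h1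
  rw [h.comm_inv, ← h.psi_comm u w] at h4
  -- `h4 : ρ (ρ [u,w]) = [u, ρ w]`
  have h5 : ⁅u, w⁆ = ρ ⁅u, ρ w⁆ := by
    rw [← h4, h.cube]
  refine ⟨h5, (h.comm_psi u w).symm, ?_⟩
  rw [← map_commutatorElement, h5]

/-! ### The commutator subgroup has order at most four -/

/-- the four-group spanned by `d` and `ρ d` -/
def KK {T : Type*} [Group T] (ρ : MulAut T) (d : T) : Subgroup T :=
  Subgroup.zpowers d ⊔ Subgroup.zpowers (ρ d)

omit h in
theorem d_mem_KK (d : T) : d ∈ KK ρ d :=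
  (le_sup_left : Subgroup.zpowers d ≤ _) (Subgroup.mem_zpowers d)

omit h in
theorem d1_mem_KK (d : T) : ρ d ∈ KK ρ d :=
  (le_sup_right : Subgroup.zpowers (ρ d) ≤ _) (Subgroup.mem_zpowers _)

theorem d2_mem_KK (d : T) : ρ (ρ d) ∈ KK ρ d := by
  have e : ρ (ρ d) = (d * ρ d)⁻¹ := eq_inv_of_mul_eq_one_right (fpf_n1 ρ h.h3 h.fpf d)
  rw [e]
  exact Subgroup.inv_mem _ (Subgroup.mul_mem _ (d_mem_KK d) (d1_mem_KK d))

theorem card_KK_le (a b : T) : Nat.card (KK ρ ⁅a, b⁆) ≤ 4 := by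
  set d := ⁅a, b⁆ with hd
  have hdZ : d ∈ Z := h.comm_mem a b
  have h1 : Nat.card (Subgroup.zpowers d) ≤ 2 := by
    rw [Nat.card_zpowers]
    apply Nat.le_of_dvd (by norm_num)
    apply orderOf_dvd_of_pow_eq_one
    rw [pow_two]
    exact h.comm_sq a b
  have h2 : Nat.card (KK ρ d) ≤ 2 * Nat.card (Subgroup.zpowers d) := by
    apply ExtTwo.card_sup_le
    · intro q hq
      rw [← h.cen (h.inv d hdZ) q, mul_inv_cancel_right]
      exact hq
    · rw [← map_mul, hd, h.comm_sq a b, map_one]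
      exact Subgroup.one_mem _
  omega

/-- all commutators lie in the four-group spanned by `d = [u, ρ w]` -/
theorem comm_mem_KK {u w : T} (hu : u ∉ Z) (hw : w ∉ HH ρ Z u) (a b : T) :
    ⁅a, b⁆ ∈ KK ρ ⁅u, ρ w⁆ := by
  have hc := h.comm_central
  set d := ⁅u, ρ w⁆ with hd
  set K := KK ρ d with hK
  obtain ⟨r1, r2, r3⟩ := h.relations u w
  have htop := h.Qk_top hu hw
  have k1 : (1 : T) ∈ K := K.one_mem
  have kd : d ∈ K := d_mem_KK d
  have kd1 : ρ d ∈ K := d1_mem_KK d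
  have kd2 : ρ (ρ d) ∈ K := h.d2_mem_KK d
  have c01 : ⁅u, ρ u⁆ = 1 := by
    rw [commutatorElement_eq_one_iff_mul_comm]; exact fpf_comm ρ h.h3 h.fpf u
  have c23 : ⁅w, ρ w⁆ = 1 := by
    rw [commutatorElement_eq_one_iff_mul_comm]; exact fpf_comm ρ h.h3 h.fpf w
  -- the general principle
  have key : ∀ b : T, (∀ i < 4, ⁅seq ρ u w i, b⁆ ∈ K) → ∀ a : T, ⁅a, b⁆ ∈ K := by
    intro b hb a
    have ha : a ∈ ExtTwo.Qk Z (seq ρ u w) 4 := by rw [htop]; exact Subgroup.mem_top a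
    unfold ExtTwo.Qk at ha
    induction ha using Subgroup.closure_induction with
    | mem x hx =>
      rcases hx with hx | ⟨i, hi, rfl⟩
      · rw [h.comm_of_mem_left hx b]; exact k1
      · exact hb i hi
    | one => rw [commutatorElement_one_left]; exact k1
    | mul x y _ _ ihx ihy =>
      rw [Sp64.comm_mul_left hc]
      exact K.mul_mem ihx ihy
    | inv x _ ihx =>
      rw [Sp64.comm_inv_left hc]
      exact K.inv_mem ihx
  have hgen : ∀ j < 4, ∀ a : T, ⁅a, seq ρ u w j⁆ ∈ K := by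
    intro j hj
    apply key
    intro i hi
    interval_cases j <;> interval_cases i
    · change ⁅u, u⁆ ∈ K
      rw [commutatorElement_self]; exact k1
    · change ⁅ρ u, u⁆ ∈ K
      rw [h.comm_symm u (ρ u), c01]; exact k1
    · change ⁅w, u⁆ ∈ K
      rw [h.comm_symm u w, r1]; exact kd1
    · change ⁅ρ w, u⁆ ∈ K
      rw [h.comm_symm u (ρ w)]; exact kd
    · change ⁅u, ρ u⁆ ∈ K
      rw [c01]; exact k1
    · change ⁅ρ u, ρ u⁆ ∈ K
      rw [commutatorElement_self]; exact k1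
    · change ⁅w, ρ u⁆ ∈ K
      rw [h.comm_symm (ρ u) w, r2]; exact kd
    · change ⁅ρ w, ρ u⁆ ∈ K
      rw [h.comm_symm (ρ u) (ρ w), r3]; exact kd2
    · change ⁅u, w⁆ ∈ K
      rw [r1]; exact kd1
    · change ⁅ρ u, w⁆ ∈ K
      rw [r2]; exact kd
    · change ⁅w, w⁆ ∈ K
      rw [commutatorElement_self]; exact k1
    · change ⁅ρ w, w⁆ ∈ K
      rw [h.comm_symm w (ρ w), c23]; exact k1
    · change ⁅u, ρ w⁆ ∈ K
      exact kd
    · change ⁅ρ u, ρ w⁆ ∈ K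
      rw [r3]; exact kd2
    · change ⁅w, ρ w⁆ ∈ K
      rw [c23]; exact k1
    · change ⁅ρ w, ρ w⁆ ∈ K
      rw [commutatorElement_self]; exact k1
  rw [h.comm_symm b a]
  apply key a
  intro i hi
  rw [h.comm_symm a _]
  exact hgen i hi a

theorem card_commutator_le : Nat.card (commutator T) ≤ 4 := by
  obtain ⟨u, hu⟩ := h.exists_not_mem_Z
  obtain ⟨w, hw⟩ := h.exists_not_mem_HH u
  refine le_trans (Subgroup.card_le_of_le ?_) (h.card_KK_le u (ρ w))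
  rw [commutator_def, Subgroup.commutator_le]
  intro a _ b _
  exact h.comm_mem_KK hu hw a b

end Pre

end Cfsg.Agent.Lib.Helper72.G4
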