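import Mathlib
import Cfsg.Agent.Lib.Helper72.R2Cube
import Cfsg.Agent.Lib.Helper72.R2Neumann

/-!
From the hypotheses of the `2`-rank `2` theorem (a finite `2`-group of rank exactly two with an
automorphism whose powers permute the involutions transitively) to the standing configuration.
-/

set_option autoImplicit false
set_option maxHeartbeats 800000
set_option linter.unusedSectionVars false

open scoped commutatorElement

namespace Cfsg.Agent.Lib.Helper72.R2

open Cfsg.Agent.Lib.Helper72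

universe u

theorem four_elems {α : Type*} (S : Set α) (hS : S.Finite) (hc : S.ncard = 4) {a b c d : α}
    (ha : a ∈ S) (hb : b ∈ S) (hc' : c ∈ S) (hd : d ∈ S) (hab : a ≠ b) (hac : a ≠ c)
    (had : a ≠ d) (hbc : b ≠ c) (hbd : b ≠ d) (hcd : c ≠ d) :
    ∀ x ∈ S, x = a ∨ x = b ∨ x = c ∨ x = d := by
  classical
  have hF : ({a, b, c, d} : Finset α).card = 4 := by
    rw [Finset.card_insert_of_notMem, Finset.card_insert_of_notMem,
      Finset.card_insert_of_notMem, Finset.card_singleton]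
    · simpa using hcd
    · simp [hbc, hbd]
    · simp [hab, hac, had]
  have hsub : ((({a, b, c, d} : Finset α)) : Set α) ⊆ S := by
    intro x hx
    simp only [Finset.coe_insert, Finset.coe_singleton, Set.mem_insert_iff,
      Set.mem_singleton_iff] at hx
    rcases hx with rfl | rfl | rfl | rfl <;> assumption
  have heq := Set.eq_of_subset_of_ncard_le hsub (by rw [Set.ncard_coe_finset, hF, hc]) hS
  intro x hx
  rw [← heq] at hx
  simpa using hx

theorem card_le_of_forall_mem_finset {T : Type*} [Group T] (S : Subgroup T) (F : Finset T)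
    (h : ∀ x ∈ S, x ∈ F) : Nat.card S ≤ F.card := by
  have h2 : Nat.card S = Nat.card ((S : Set T)) := rfl
  rw [h2, Nat.card_coe_set_eq, ← Set.ncard_coe_finset F]
  exact Set.ncard_le_ncard (fun x hx => h x hx) F.finite_toSet

/-- the elements of order at most two, when these are central -/
def Om {T : Type*} [Group T] (hcen : ∀ x : T, x * x = 1 → ∀ y : T, y * x = x * y) :
    Subgroup T where
  carrier := {x | x * x = 1}
  one_mem' := mul_one 1
  mul_mem' {a b} ha hb := by
    change a * b * (a * b) = 1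
    have hc : b * a = a * b := hcen a ha b
    calc a * b * (a * b) = a * (b * a) * b := by simp only [mul_assoc]
      _ = a * (a * b) * b := by rw [hc]
      _ = (a * a) * (b * b) := by simp only [mul_assoc]
      _ = 1 := by rw [ha, hb, mul_one]
  inv_mem' {a} ha := by
    change a⁻¹ * a⁻¹ = 1
    rw [← mul_inv_rev, ha, inv_one]

theorem exists_cfg {T : Type u} [Group T] [Finite T] (hT : IsPGroup 2 T)
    (h2 : ∀ A : Subgroup T, IsMulCommutative A → (∀ a ∈ A, a ^ 2 = 1) → Nat.card A ≤ 2 ^ 2)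
    (h1 : ¬ ∀ A : Subgroup T, IsMulCommutative A → (∀ a ∈ A, a ^ 2 = 1) → Nat.card A ≤ 2 ^ 1)
    (φ : MulAut T)
    (htrans : ∀ s t : T, orderOf s = 2 → orderOf t = 2 → ∃ k : ℕ, (φ ^ k) s = t) :
    ∃ (ψ : MulAut T) (z : T), Cfg ψ z ∧ ψ ^ 3 = 1 := by
  classical
  have : Fact (Nat.Prime 2) := ⟨Nat.prime_two⟩
  have hord : ∀ s : T, orderOf s = 2 ↔ s ≠ 1 ∧ s * s = 1 := by
    intro s
    rw [orderOf_eq_prime_iff, pow_two]
    exact and_comm
  obtain ⟨A, hAc, hAe, hA⟩ : ∃ A : Subgroup T, IsMulCommutative A ∧ (∀ a ∈ A, a ^ 2 = 1) ∧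
      2 < Nat.card A := by
    by_contra hno
    apply h1
    intro A hAc hAe
    by_contra hlt
    rw [pow_one] at hlt
    exact hno ⟨A, hAc, hAe, by omega⟩
  have hnt : Nontrivial T := by
    by_contra hnt
    rw [not_nontrivial_iff_subsingleton] at hnt
    have h5 : Nat.card A ≤ 1 := Finite.card_le_one_iff_subsingleton.mpr inferInstance
    omega
  obtain ⟨z₀, hz₀c, hz₀⟩ : ∃ z₀ : T, z₀ ∈ Subgroup.center T ∧ orderOf z₀ = 2 := by
    have hZp : IsPGroup 2 (Subgroup.center T) := hT.to_subgroup _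
    have hZnt : Nontrivial (Subgroup.center T) := hT.center_nontrivial
    rcases hZp.card_eq_or_dvd with h | h
    · exfalso
      have h5 := (Nat.card_eq_one_iff_unique.mp h).1
      exact not_subsingleton _ h5
    · obtain ⟨g, hg⟩ := exists_prime_orderOf_dvd_card' 2 h
      exact ⟨g, g.2, by rw [← hg, Subgroup.orderOf_coe]⟩
  have hcenI : ∀ t : T, orderOf t = 2 → t ∈ Subgroup.center T := by
    intro t ht
    obtain ⟨k, hk⟩ := htrans z₀ t hz₀ ht
    rw [← hk]
    exact center_invariant (φ ^ k) z₀ hz₀c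
  have hcen : ∀ x : T, x * x = 1 → ∀ y : T, y * x = x * y := by
    intro x hx y
    by_cases hx1 : x = 1
    · rw [hx1, mul_one, one_mul]
    · exact (Subgroup.mem_center_iff.mp (hcenI x ((hord x).mpr ⟨hx1, hx⟩)) y)
  have hΩle : Nat.card (Om hcen) ≤ 4 := by
    have h5 := h2 (Om hcen) ⟨⟨fun a b => Subtype.ext (hcen b.1 b.2 a.1)⟩⟩
      (fun a ha => by rw [pow_two]; exact ha)
    norm_num at h5
    exact h5
  have hAΩ : A ≤ Om hcen := fun a ha => by
    have h5 := hAe a ha
    rw [pow_two] at h5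
    exact h5
  have hΩ4 : Nat.card (Om hcen) = 4 := by
    have h3 : Nat.card A ≤ Nat.card (Om hcen) := Subgroup.card_le_of_le hAΩ
    obtain ⟨n, hn⟩ := IsPGroup.iff_card.mp (hT.to_subgroup (Om hcen))
    have hn2 : n = 2 := by
      rw [hn] at h3 hΩle
      have h4 : 2 < 2 ^ n := by omega
      have h5 : n < 3 := by
        by_contra h6
        push Not at h6
        have : 2 ^ 3 ≤ 2 ^ n := Nat.pow_le_pow_right (by norm_num) h6
        omega
      have h6 : 1 < n := by
        by_contra h7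
        push Not at h7
        have : 2 ^ n ≤ 2 ^ 1 := Nat.pow_le_pow_right (by norm_num) h7
        omega
      omega
    rw [hn, hn2]
    norm_num
  have hfour : ∀ a b c : T, a ≠ 1 → b ≠ 1 → c ≠ 1 → a ≠ b → a ≠ c → b ≠ c → a * a = 1 →
      b * b = 1 → c * c = 1 → ∀ x : T, x * x = 1 → x = 1 ∨ x = a ∨ x = b ∨ x = c := by
    intro a b c ha hb hc hab hac hbc ha2 hb2 hc2 x hx
    have hS : ((Om hcen : Subgroup T) : Set T).ncard = 4 := by
      rw [← Nat.card_coe_set_eq]
      exact hΩ4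
    exact four_elems _ (Set.toFinite _) hS (Subgroup.one_mem _) ha2 hb2 hc2 (Ne.symm ha)
      (Ne.symm hb) (Ne.symm hc) hab hac hbc x hx
  have hautI : ∀ (α : MulAut T) (t : T), t ≠ 1 ∧ t * t = 1 → α t ≠ 1 ∧ α t * α t = 1 := by
    rintro α t ⟨ht1, ht2⟩
    refine ⟨fun e => ht1 ?_, by rw [← map_mul, ht2, map_one]⟩
    exact α.injective (e.trans (map_one _).symm)
  have hsq_ne : ∀ t : T, t ≠ 1 → t * t = 1 → φ (φ t) ≠ t := by
    intro t ht1 ht2 hfix
    have horb : ∀ k : ℕ, (φ ^ k) t = t ∨ (φ ^ k) t = φ t := by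
      intro k
      induction k with
      | zero => left; rfl
      | succ k ih =>
        rw [pow_succ', MulAut.mul_apply]
        rcases ih with h | h
        · right; rw [h]
        · left; rw [h, hfix]
    have hall : ∀ x ∈ Om hcen, x ∈ ({1, t, φ t} : Finset T) := by
      intro x hx
      by_cases hx1 : x = 1
      · simp [hx1]
      · obtain ⟨k, hk⟩ := htrans t x ((hord t).mpr ⟨ht1, ht2⟩) ((hord x).mpr ⟨hx1, hx⟩)
        rcases horb k with h | h
        · simp [← hk, h]
        · simp [← hk, h]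
    have h5 := card_le_of_forall_mem_finset (Om hcen) _ hall
    have h6 : ({1, t, φ t} : Finset T).card ≤ 3 := Finset.card_le_three
    omega
  have hne1 : ∀ t : T, t ≠ 1 → t * t = 1 → φ t ≠ t := by
    intro t ht1 ht2 hfix
    exact hsq_ne t ht1 ht2 (by rw [hfix, hfix])
  have hcube : ∀ t : T, t ≠ 1 → t * t = 1 → φ (φ (φ t)) = t := by
    intro t ht1 ht2
    have i1 := hautI φ t ⟨ht1, ht2⟩
    have i2 := hautI φ _ i1
    have i3 := hautI φ _ i2
    rcases hfour t (φ t) (φ (φ t)) ht1 i1.1 i2.1 (Ne.symm (hne1 t ht1 ht2))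
      (Ne.symm (hsq_ne t ht1 ht2)) (Ne.symm (hne1 _ i1.1 i1.2)) ht2 i1.2 i2.2 _ i3.2
      with h | h | h | h
    · exact absurd h i3.1
    · exact h
    · exact absurd (φ.injective h) (hsq_ne t ht1 ht2)
    · exact absurd (φ.injective h) (hne1 _ i1.1 i1.2)
  have hkey : ∀ j : ℕ, ¬ 3 ∣ j → ∀ t : T, t ≠ 1 → t * t = 1 → (φ ^ j) t ≠ t := by
    intro j hj t ht1 ht2
    have hc3 : ∀ q : ℕ, (φ ^ (3 * q)) t = t := by
      intro q
      rw [pow_mul]
      apply pow_fix_of_fix
      rw [aut_cube_apply]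
      exact hcube t ht1 ht2
    obtain ⟨q, r, hr, rfl⟩ : ∃ q r : ℕ, (r = 1 ∨ r = 2) ∧ j = 3 * q + r :=
      ⟨j / 3, j % 3, by omega, by omega⟩
    rw [add_comm, pow_add, MulAut.mul_apply, hc3]
    rcases hr with hr | hr <;> rw [hr]
    · rw [pow_one]
      exact hne1 t ht1 ht2
    · rw [pow_two, MulAut.mul_apply]
      exact hsq_ne t ht1 ht2
  have hfin : Finite (MulAut T) := inferInstance
  obtain ⟨a, m', hm', hfac⟩ : ∃ a m' : ℕ, ¬ 3 ∣ m' ∧ orderOf φ = 3 ^ a * m' :=
    Nat.exists_eq_pow_mul_and_not_dvd (orderOf_pos φ).ne' 3 (by norm_num)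
  obtain ⟨hz1, hz2⟩ := (hord z₀).mp hz₀
  have hpow : (φ ^ m') ^ (3 ^ a) = 1 := by
    rw [← pow_mul, mul_comm, ← hfac, pow_orderOf_eq_one]
  have hmove : (φ ^ m') z₀ ≠ z₀ := hkey m' hm' z₀ hz1 hz2
  have hmove2 : (φ ^ m') ((φ ^ m') z₀) ≠ z₀ := by
    rw [← MulAut.mul_apply, ← pow_add]
    exact hkey (m' + m') (by omega) z₀ hz1 hz2
  have j1 := hautI (φ ^ m') z₀ ⟨hz1, hz2⟩
  have j2 := hautI (φ ^ m') _ j1
  have hC : Cfg (φ ^ m') z₀ :=
    { isP := hT
      z_ne := hz1
      z_sq := hz2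
      z_move := hmove
      invol := hfour z₀ _ _ hz1 j1.1 j2.1 (Ne.symm hmove) (Ne.symm hmove2)
        (fun e => hmove ((φ ^ m').injective e.symm)) hz2 j1.2 j2.2
      central := hcen }
  exact ⟨φ ^ m', z₀, hC, cube_eq_one (Nat.card T) T rfl (φ ^ m') z₀ hC ⟨a, hpow⟩⟩

end Cfsg.Agent.Lib.Helper72.R2
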