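import Mathlib
import Cfsg.Agent.Lib.Helper72.G4Ab
import Cfsg.Agent.Lib.Helper72.G4Pre
import Cfsg.Agent.Lib.Helper72.R2Main

/-!
Structure of a finite `2`-group `T` with commuting automorphisms `ρ` (of order three) and `τ`
(of order two) such that `C_T(τ) = V` is a central four-group on which `ρ` acts without fixed
points: `T` is abelian, or of order `64` with explicit generators and relations.
-/

set_option autoImplicit false
set_option maxHeartbeats 800000
set_option linter.unusedSectionVars false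

open scoped commutatorElement

namespace Cfsg.Agent.Lib.Helper72.G4

open Cfsg.Agent.Lib.Helper72
open Cfsg.Agent.Lib.Helper72.Sp64 (fixedSub mem_fixedSub)
open Cfsg.Agent.Lib.Helper72.R2

universe u

/-- the standing hypotheses -/
structure Setup {T : Type*} [Group T] (ρ τ : MulAut T) (V : Subgroup T) : Prop where
  isP : IsPGroup 2 T
  h3 : ρ ^ 3 = 1
  h2 : τ ^ 2 = 1
  comm : ∀ x : T, ρ (τ x) = τ (ρ x)
  Vc : V ≤ Subgroup.center T
  V4 : Nat.card V = 4
  Vsq : ∀ v ∈ V, v * v = 1
  Vρ : ∀ v ∈ V, ρ v ∈ V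
  Vfpf : ∀ v ∈ V, ρ v = v → v = 1
  fix : fixedSub τ = V

/-- generators of the non-abelian groups of order `64` -/
structure Gens {T : Type*} [Group T] (ρ : MulAut T) (V : Subgroup T) (c x y : T) : Prop where
  pre : Pre ρ V
  cardV : Nat.card V = 4
  Vsq : ∀ v ∈ V, v * v = 1
  c_mem : c ∈ V
  c_ne : c ≠ 1
  hx : x ∉ V
  hy : y ∉ HH ρ V x
  xx : x * x = c
  xy : ⁅x, y⁆ = c

/-- the elements of an invariant four-group -/
theorem four_cases {T : Type u} [Group T] [Finite T] (ρ : MulAut T) (h3 : ρ ^ 3 = 1)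
    (V : Subgroup T) (hV4 : Nat.card V = 4) (hVρ : ∀ v ∈ V, ρ v ∈ V)
    (hVfpf : ∀ v ∈ V, ρ v = v → v = 1) {c : T} (hc : c ∈ V) (hc1 : c ≠ 1) :
    ∀ v ∈ V, v = 1 ∨ v = c ∨ v = ρ c ∨ v = ρ (ρ c) := by
  have hcube : ρ (ρ (ρ c)) = c := by rw [← aut_cube_apply, h3]; rfl
  have n1 : ρ c ≠ 1 := by
    intro e
    apply hc1
    apply ρ.injective
    rw [e, map_one]
  have n2 : ρ (ρ c) ≠ 1 := by
    intro e
    apply n1
    apply ρ.injective
    rw [e, map_one]
  have n3 : c ≠ ρ c := fun e => hc1 (hVfpf c hc e.symm)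
  have n4 : ρ c ≠ ρ (ρ c) := fun e => n3 (ρ.injective e)
  have n5 : c ≠ ρ (ρ c) := by
    intro e
    apply n3
    have := congrArg ρ e
    rw [hcube] at this
    exact this.symm
  have hS : ((V : Set T)).ncard = 4 := by
    rw [← Nat.card_coe_set_eq]; exact hV4
  exact four_elems (V : Set T) (Set.toFinite _) hS V.one_mem hc (hVρ c hc)
    (hVρ _ (hVρ c hc)) (Ne.symm hc1) (Ne.symm n1) (Ne.symm n2) n3 n5 n4

namespace Setup

variable {T : Type u} [Group T] [Finite T] {ρ τ : MulAut T} {V : Subgroup T} (h : Setup ρ τ V)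
include h

theorem tau_tau (x : T) : τ (τ x) = x := by
  rw [← aut_sq_apply, h.h2]; rfl

theorem mem_V_iff (x : T) : x ∈ V ↔ τ x = x := by
  rw [← h.fix]; exact mem_fixedSub

theorem Vτ : ∀ v ∈ V, τ v ∈ V := by
  intro v hv
  rw [(h.mem_V_iff v).mp hv]; exact hv

/-- `ρ` acts without fixed points -/
theorem fpf : ∀ t : T, ρ t = t → t = 1 := by
  by_contra hne
  push Not at hne
  obtain ⟨t, ht, ht1⟩ := hne
  have hY : ∀ d ∈ fixedSub ρ, τ d ∈ fixedSub ρ := by
    intro d hd
    have h1 : ρ d = d := hd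
    change ρ (τ d) = τ d
    rw [h.comm, h1]
  have hYne : fixedSub ρ ≠ ⊥ := by
    intro hb
    apply ht1
    have : t ∈ fixedSub ρ := ht
    rw [hb, Subgroup.mem_bot] at this
    exact this
  obtain ⟨y, hy, hy1, hyτ⟩ := invol_fixed h.isP τ h.h2 (fixedSub ρ) hY hYne
  exact hy1 (h.Vfpf y ((h.mem_V_iff y).mpr hyτ) hy)

theorem card_fix : Nat.card (fixedSub τ) = 4 := by rw [h.fix, h.V4]

/-- the abelian case -/
theorem abelian_case (hcomm : ∀ a b : T, a * b = b * a) :
    (Nat.card T = 16 ∧ ∀ x : T, x * x = 1) ∨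
      ∃ n : ℕ, 1 ≤ n ∧ Nonempty (T ≃* Multiplicative (ZMod (2 ^ n) × ZMod (2 ^ n))) := by
  rcases ab_dichotomy h.isP hcomm ρ τ h.h3 h.fpf h.h2 h.comm (le_of_eq h.card_fix) with
    ⟨V', hV', hΩ⟩ | h16
  · right
    have hnt : ∃ b : T, b ≠ 1 := by
      by_contra hall
      push Not at hall
      have h1 : V = ⊥ := by
        rw [eq_bot_iff]; intro v _; rw [Subgroup.mem_bot]; exact hall v
      have h2 := h.V4
      rw [h1, Subgroup.card_bot] at h2
      omega
    exact ab_iso h.isP hcomm ρ h.fpf V' hV' hΩ hnt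
  · left; exact h16

/-- the quotient by a central invariant subgroup containing the commutators -/
theorem pre_aux (D : Subgroup T) [D.Normal] (hDc : D ≤ Subgroup.center T)
    (hDρ : ∀ d ∈ D, ρ d ∈ D) (hDτ : ∀ d ∈ D, τ d ∈ D) (hDmem : ∀ a b : T, ⁅a, b⁆ ∈ D)
    (hna : ∃ a b : T, a * b ≠ b * a) : Pre ρ D := by
  have hfpf := h.fpf
  have hMcomm : ∀ a b : T ⧸ D, a * b = b * a := by
    intro a b
    induction a using QuotientGroup.induction_on with
    | H x =>
    induction b using QuotientGroup.induction_on with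
    | H y =>
    rw [← QuotientGroup.mk_mul, ← QuotientGroup.mk_mul]
    apply QuotientGroup.eq.mpr
    have h1 : (x * y)⁻¹ * (y * x) = ⁅y⁻¹, x⁻¹⁆ := by
      rw [commutatorElement_def]; group
    rw [h1]
    exact hDmem _ _
  have hfpf' : ∀ w : T ⧸ D, quotAut ρ D hDρ w = w → w = 1 := by
    intro w hw
    induction w using QuotientGroup.induction_on with
    | H t =>
    rw [quotAut_mk] at hw
    have h1 : t⁻¹ * ρ t ∈ D := QuotientGroup.eq.mp hw.symm
    exact (QuotientGroup.eq_one_iff _).mpr (fpf_quot h.isP ρ h.h3 hfpf _ hDρ h1)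
  have hcomm' : ∀ m : T ⧸ D, quotAut ρ D hDρ (quotAut τ D hDτ m) =
      quotAut τ D hDτ (quotAut ρ D hDρ m) := by
    intro m
    induction m using QuotientGroup.induction_on with
    | H t =>
    rw [quotAut_mk, quotAut_mk, quotAut_mk, quotAut_mk, h.comm]
  have hC' : Nat.card (fixedSub (quotAut τ D hDτ)) ≤ 4 :=
    le_trans (card_fixed_quot_le τ D hDτ) (le_of_eq h.card_fix)
  rcases ab_dichotomy (h.isP.to_quotient D) hMcomm (quotAut ρ D hDρ) (quotAut τ D hDτ)
    (quotAut_pow_eq_one ρ D hDρ h.h3) hfpf' (quotAut_pow_eq_one τ D hDτ h.h2) hcomm' hC' with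
    ⟨V', hV', hΩ⟩ | ⟨h16, hsq⟩
  · exfalso
    obtain ⟨a, b, hab⟩ := hna
    exact hab (abelian_of_quot h.isP ρ h.h3 hfpf D hDc hDρ hDmem V' hV' hΩ a b)
  · exact
      { isP := h.isP
        h3 := h.h3
        fpf := hfpf
        central := hDc
        inv := hDρ
        comm_mem := hDmem
        sq_mem := fun a => (QuotientGroup.eq_one_iff (a * a)).mp (by
          rw [QuotientGroup.mk_mul]; exact hsq _)
        card := by rw [Subgroup.card_eq_card_quotient_mul_card_subgroup D, h16] }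

theorem aut_commutator (φ : MulAut T) : ∀ d ∈ commutator T, φ d ∈ commutator T := by
  intro d hd
  have h1 : (commutator T).map (φ : T →* T) ≤ commutator T := by
    rw [commutator_def, Subgroup.map_commutator]
    exact Subgroup.commutator_mono le_top le_top
  exact h1 ⟨d, hd, rfl⟩

/-- the non-abelian case -/
theorem pre (hna : ∃ a b : T, a * b ≠ b * a) : Pre ρ V := by
  have hfpf := h.fpf
  have hc2 : ∀ x y : T, ⁅x, y⁆ ∈ Subgroup.center T :=
    class_two (Nat.card T) T rfl h.isP ρ h.h3 hfpf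
  have hDc : commutator T ≤ Subgroup.center T := by
    rw [commutator_def, Subgroup.commutator_le]
    intro a _ b _
    exact hc2 a b
  have hDmem : ∀ a b : T, ⁅a, b⁆ ∈ commutator T := by
    intro a b
    rw [commutator_def]
    exact Subgroup.commutator_mem_commutator (Subgroup.mem_top a) (Subgroup.mem_top b)
  have hDρ := h.aut_commutator ρ
  have hDτ := h.aut_commutator τ
  have P := h.pre_aux (commutator T) hDc hDρ hDτ hDmem hna
  have hD4 := P.card_commutator_le
  have hDne : commutator T ≠ ⊥ := by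
    intro hb
    obtain ⟨a, b, hab⟩ := hna
    apply hab
    have h1 := hDmem a b
    rw [hb, Subgroup.mem_bot, commutatorElement_eq_one_iff_mul_comm] at h1
    exact h1
  obtain ⟨y, hyD, hy1, hyτ⟩ := invol_fixed h.isP τ h.h2 (commutator T) hDτ hDne
  have hyV : y ∈ V := (h.mem_V_iff y).mpr hyτ
  have h5 : Nat.card ↥(commutator T ⊓ V) ≡ 1 [MOD 3] := by
    have := card_modEq3 ρ h.h3 (commutator T ⊓ V) (fun d hd => ⟨hDρ d hd.1, h.Vρ d hd.2⟩)
    have hb : Nat.card ↥((commutator T ⊓ V) ⊓ fixedSub ρ) = 1 := by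
      rw [Subgroup.card_eq_one, eq_bot_iff]
      intro t ht
      rw [Subgroup.mem_bot]
      exact hfpf t ht.2
    rwa [hb] at this
  have h6 : Nat.card ↥(commutator T ⊓ V) ∣ 4 := by
    rw [← h.V4]
    exact Subgroup.card_dvd_of_le inf_le_right
  have h7 : Nat.card ↥(commutator T ⊓ V) ≠ 1 := by
    intro e
    rw [Subgroup.card_eq_one] at e
    apply hy1
    have : y ∈ commutator T ⊓ V := ⟨hyD, hyV⟩
    rw [e, Subgroup.mem_bot] at this
    exact this
  have h8 := card_of_dvd_four h6 h5 h7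
  have h9 : commutator T ⊓ V = V := by
    apply Subgroup.eq_of_le_of_card_ge inf_le_right
    rw [h8, h.V4]
  have hVD : V ≤ commutator T := by
    rw [← h9]; exact inf_le_left
  have hVD' : V = commutator T := by
    apply Subgroup.eq_of_le_of_card_ge hVD
    rw [h.V4]; exact hD4
  rw [hVD']
  exact P

theorem exists_gens (hna : ∃ a b : T, a * b ≠ b * a) :
    ∃ c x y : T, Gens ρ V c x y ∧ (y * y = 1 ∨ y * y = ρ c) := by
  have P := h.pre hna
  have hcard : Nat.card T = 64 := by rw [P.card, h.V4]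
  have : V.Normal := ⟨fun n hn g => by
    have := Subgroup.mem_center_iff.mp (h.Vc hn) g
    rw [this, mul_inv_cancel_right]; exact hn⟩
  -- an element moved by `τ` modulo `V`
  have hex : ∃ y : T, y * τ y ∉ V := by
    by_contra hall
    push Not at hall
    have hfixtop : fixedSub (quotAut τ V h.Vτ) = ⊤ := by
      rw [eq_top_iff]
      intro m _
      induction m using QuotientGroup.induction_on with
      | H y =>
      change quotAut τ V h.Vτ (QuotientGroup.mk y) = QuotientGroup.mk y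
      rw [quotAut_mk]
      apply QuotientGroup.eq.mpr
      have h1 : (τ y)⁻¹ * y = (y * τ y)⁻¹ * (y * y) := by group
      rw [h1]
      exact V.mul_mem (V.inv_mem (hall y)) (P.sq_mem y)
    have h1 := card_fixed_quot_le τ V h.Vτ
    rw [hfixtop, Subgroup.card_top, h.card_fix] at h1
    have h2 := Subgroup.card_eq_card_quotient_mul_card_subgroup V
    rw [hcard, h.V4] at h2
    omega
  obtain ⟨y, hy⟩ := hex
  set x := y * τ y with hx
  set c := ⁅τ y, y⁆ with hc
  have hcV : c ∈ V := P.comm_mem _ _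
  have hy2 : τ y * τ y = y * y := by
    rw [← map_mul]
    exact (h.mem_V_iff _).mp (P.sq_mem y)
  have hxx : x * x = c := by
    rw [hx, mul_sq_of_central y (τ y) (P.comm_central _ _), hy2, mul_assoc,
      h.Vsq _ (P.sq_mem y), mul_one]
  have hxy : ⁅x, y⁆ = c := by
    rw [hx, Sp64.comm_mul_left P.comm_central, commutatorElement_self, one_mul]
  have hτx : τ x = c * x := by
    rw [hx, map_mul, h.tau_tau, hc, commutatorElement_def]; group
  have hc1 : c ≠ 1 := by
    intro e
    rw [e, one_mul] at hτx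
    exact hy ((h.mem_V_iff x).mpr hτx)
  have hHle : HH ρ V x ≤ Subgroup.centralizer ({x} : Set T) := by
    unfold HH
    apply sup_le
    · apply sup_le
      · intro v hv
        rw [Subgroup.mem_centralizer_iff]
        intro g hg
        rw [Set.mem_singleton_iff] at hg
        rw [hg]
        exact P.cen hv x
      · rw [Subgroup.zpowers_le, Subgroup.mem_centralizer_iff]
        intro g hg
        rw [Set.mem_singleton_iff] at hg
        rw [hg]
    · rw [Subgroup.zpowers_le, Subgroup.mem_centralizer_iff]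
      intro g hg
      rw [Set.mem_singleton_iff] at hg
      rw [hg]
      exact fpf_comm ρ h.h3 h.fpf x
  have hyH : y ∉ HH ρ V x := by
    intro hm
    have h1 := hHle hm
    rw [Subgroup.mem_centralizer_iff] at h1
    have h2 := h1 x (Set.mem_singleton x)
    apply hc1
    rw [← hxy, commutatorElement_eq_one_iff_mul_comm]
    exact h2
  have G0 : Gens ρ V c x y :=
    { pre := P, cardV := h.V4, Vsq := h.Vsq, c_mem := hcV, c_ne := hc1, hx := hy, hy := hyH,
      xx := hxx, xy := hxy }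
  -- the second generator modified by `ρ x`
  obtain ⟨r1, r2, -⟩ := P.relations x y
  have hd : ⁅x, ρ y⁆ = ρ (ρ c) := by
    rw [← hxy, r1, P.cube]
  have hn1 := fpf_n1 ρ h.h3 h.fpf c
  have hc2 : c * c = 1 := h.Vsq c hcV
  have hc12 : ρ c * ρ c = 1 := h.Vsq _ (h.Vρ c hcV)
  have hc22 : ρ (ρ c) * ρ (ρ c) = 1 := h.Vsq _ (h.Vρ _ (h.Vρ c hcV))
  have hy'H : y * ρ x ∉ HH ρ V x := by
    intro hm
    apply hyH
    have h4 : y = (y * ρ x) * (ρ x)⁻¹ := by group
    rw [h4]
    exact Subgroup.mul_mem _ hm (Subgroup.inv_mem _ (P.psi_mem_HH x))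
  have hxy' : ⁅x, y * ρ x⁆ = c := by
    have c01 : ⁅x, ρ x⁆ = 1 := by
      rw [commutatorElement_eq_one_iff_mul_comm]; exact fpf_comm ρ h.h3 h.fpf x
    rw [Sp64.comm_mul_right P.comm_central, hxy, c01, mul_one]
  have hsq' : (y * ρ x) * (y * ρ x) = ρ (ρ c) * (y * y) * ρ c := by
    rw [mul_sq_of_central y (ρ x) (P.comm_central _ _), r2, hd, ← map_mul, hxx]
  have G1 : Gens ρ V c x (y * ρ x) :=
    { pre := P, cardV := h.V4, Vsq := h.Vsq, c_mem := hcV, c_ne := hc1, hx := hy, hy := hy'H,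
      xx := hxx, xy := hxy' }
  rcases four_cases ρ h.h3 V h.V4 h.Vρ h.Vfpf hcV hc1 (y * y) (P.sq_mem y) with e | e | e | e
  · exact ⟨c, x, y, G0, Or.inl e⟩
  · refine ⟨c, x, y * ρ x, G1, Or.inl ?_⟩
    have hcen2 : ρ (ρ c) * (c * ρ c) = (c * ρ c) * ρ (ρ c) :=
      P.cen (V.mul_mem hcV (h.Vρ c hcV)) _
    rw [hsq', e, mul_assoc, hcen2, hn1]
  · exact ⟨c, x, y, G0, Or.inr e⟩
  · refine ⟨c, x, y * ρ x, G1, Or.inr ?_⟩
    rw [hsq', e, hc22, one_mul]

end Setup

end Cfsg.Agent.Lib.Helper72.G4
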