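import Mathlib
import Cfsg.Agent.Lib.Helper72.G4Struct

/-!
Recognition of the non-abelian groups of order `64` with generators `x, ρ x, y, ρ y`:
homomorphisms to a model group, and their bijectivity.
-/

set_option autoImplicit false
set_option maxHeartbeats 800000
set_option linter.unusedSectionVars false

open scoped commutatorElement

namespace Cfsg.Agent.Lib.Helper72.G4

open Cfsg.Agent.Lib.Helper72
open Cfsg.Agent.Lib.Helper72.Sp64 (fixedSub mem_fixedSub)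
open Cfsg.Agent.Lib.Helper72.R2

universe u v

namespace Gens

variable {T : Type u} [Group T] [Finite T] {ρ : MulAut T} {V : Subgroup T} {c x y : T}
  (g : Gens ρ V c x y)
include g

theorem V_cases : ∀ v ∈ V, v = 1 ∨ v = c ∨ v = ρ c ∨ v = ρ (ρ c) :=
  four_cases ρ g.pre.h3 V g.cardV g.pre.inv (fun v _ hv => g.pre.fpf v hv) g.c_mem g.c_ne

theorem c1_mem : ρ c ∈ V := g.pre.inv c g.c_mem
theorem c2_mem : ρ (ρ c) ∈ V := g.pre.inv _ g.c1_mem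

theorem c_sq : c * c = 1 := g.Vsq c g.c_mem
theorem c1_sq : ρ c * ρ c = 1 := g.Vsq _ g.c1_mem
theorem c2_sq : ρ (ρ c) * ρ (ρ c) = 1 := g.Vsq _ g.c2_mem

theorem c_move : ρ c ≠ c := fun e => g.c_ne (g.pre.fpf c e)

theorem c1_ne : ρ c ≠ 1 := by
  intro e
  apply g.c_ne
  apply ρ.injective
  rw [e, map_one]

theorem c2_ne : ρ (ρ c) ≠ 1 := by
  intro e
  apply g.c1_ne
  apply ρ.injective
  rw [e, map_one]

theorem c2_ne_c1 : ρ (ρ c) ≠ ρ c := fun e => g.c_move (ρ.injective e)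

theorem cube_c : ρ (ρ (ρ c)) = c := g.pre.cube c

theorem c2_ne_c : ρ (ρ c) ≠ c := by
  intro e
  apply g.c_move
  have := congrArg ρ e
  rw [g.cube_c] at this
  exact this.symm

theorem central {v : T} (hv : v ∈ V) (t : T) : t * v = v * t := g.pre.cen hv t

theorem c_mul_c1 : c * ρ c = ρ (ρ c) := by
  have h1 := fpf_n1 ρ g.pre.h3 g.pre.fpf c
  have h2 : c * ρ c = (ρ (ρ c))⁻¹ := eq_inv_of_mul_eq_one_left h1
  rw [h2]
  exact inv_eq_of_mul_eq_one_left g.c2_sq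

theorem c_mul_c2 : c * ρ (ρ c) = ρ c := by
  rw [← g.c_mul_c1, ← mul_assoc, g.c_sq, one_mul]

theorem c1_mul_c : ρ c * c = ρ (ρ c) := by
  rw [g.central g.c_mem (ρ c)]; exact g.c_mul_c1

theorem c1_mul_c2 : ρ c * ρ (ρ c) = c := by
  rw [← map_mul, g.c_mul_c1, g.cube_c]

theorem c2_mul_c : ρ (ρ c) * c = ρ c := by
  rw [g.central g.c_mem (ρ (ρ c))]; exact g.c_mul_c2

theorem c2_mul_c1 : ρ (ρ c) * ρ c = c := by
  rw [g.central g.c1_mem (ρ (ρ c))]; exact g.c1_mul_c2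

section Iota

variable {P : Type v} [Group P] (Z1 Z2 : P)

theorem iota_c : iota ρ c Z1 Z2 c = Z1 * Z2 := if_pos rfl

theorem iota_c1 : iota ρ c Z1 Z2 (ρ c) = Z2 := by
  unfold iota
  rw [if_neg g.c_move, if_pos rfl]

theorem iota_c2 : iota ρ c Z1 Z2 (ρ (ρ c)) = Z1 := by
  unfold iota
  rw [if_neg g.c2_ne_c, if_neg g.c2_ne_c1, if_pos rfl]

theorem iota_one : iota ρ c Z1 Z2 1 = 1 := by
  unfold iota
  rw [if_neg (Ne.symm g.c_ne), if_neg (Ne.symm g.c1_ne), if_neg (Ne.symm g.c2_ne)]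

theorem iota_mulOn (hZ1 : Z1 * Z1 = 1) (hZ2 : Z2 * Z2 = 1) (hc : Z1 * Z2 = Z2 * Z1) :
    ExtTwo.MulOn (iota ρ c Z1 Z2) V := by
  have e1 : Z1 * Z2 * (Z1 * Z2) = 1 := by
    calc Z1 * Z2 * (Z1 * Z2) = Z1 * (Z2 * Z1) * Z2 := by simp only [mul_assoc]
      _ = Z1 * (Z1 * Z2) * Z2 := by rw [hc]
      _ = (Z1 * Z1) * (Z2 * Z2) := by simp only [mul_assoc]
      _ = 1 := by rw [hZ1, hZ2, mul_one]
  have e2 : Z1 * Z2 * Z2 = Z1 := by rw [mul_assoc, hZ2, mul_one]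
  have e3 : Z1 * Z2 * Z1 = Z2 := by rw [hc, mul_assoc, hZ1, mul_one]
  have e4 : Z2 * (Z1 * Z2) = Z1 := by rw [hc, ← mul_assoc, hZ2, one_mul]
  have e5 : Z1 * (Z1 * Z2) = Z2 := by rw [← mul_assoc, hZ1, one_mul]
  intro a ha b hb
  rcases g.V_cases a ha with ea | ea | ea | ea <;>
  rcases g.V_cases b hb with eb | eb | eb | eb <;> rw [ea, eb]
  · rw [mul_one, g.iota_one, mul_one]
  · rw [one_mul, g.iota_one, one_mul]
  · rw [one_mul, g.iota_one, one_mul]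
  · rw [one_mul, g.iota_one, one_mul]
  · rw [mul_one, g.iota_one, mul_one]
  · rw [g.c_sq, g.iota_one, g.iota_c, e1]
  · rw [g.c_mul_c1, g.iota_c2, g.iota_c, g.iota_c1, e2]
  · rw [g.c_mul_c2, g.iota_c1, g.iota_c, g.iota_c2, e3]
  · rw [mul_one, g.iota_one, mul_one]
  · rw [g.c1_mul_c, g.iota_c2, g.iota_c1, g.iota_c, e4]
  · rw [g.c1_sq, g.iota_one, g.iota_c1, hZ2]
  · rw [g.c1_mul_c2, g.iota_c, g.iota_c1, g.iota_c2, hc]
  · rw [mul_one, g.iota_one, mul_one]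
  · rw [g.c2_mul_c, g.iota_c1, g.iota_c2, g.iota_c, e5]
  · rw [g.c2_mul_c1, g.iota_c, g.iota_c2, g.iota_c1]
  · rw [g.c2_sq, g.iota_one, g.iota_c2, hZ1]

theorem iota_central (hc1 : ∀ t : P, t * Z1 = Z1 * t) (hc2 : ∀ t : P, t * Z2 = Z2 * t) :
    ∀ v ∈ V, ∀ t : P, t * iota ρ c Z1 Z2 v = iota ρ c Z1 Z2 v * t := by
  intro v hv t
  rcases g.V_cases v hv with e | e | e | e <;> rw [e]
  · rw [g.iota_one, mul_one, one_mul]
  · rw [g.iota_c, ← mul_assoc, hc1 t, mul_assoc, hc2 t, mul_assoc]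
  · rw [g.iota_c1, hc2 t]
  · rw [g.iota_c2, hc1 t]

theorem iota_eq_one (hZ1 : Z1 ≠ 1) (hZ2 : Z2 ≠ 1) (hZ12 : Z1 * Z2 ≠ 1) {v : T} (hv : v ∈ V)
    (hι : iota ρ c Z1 Z2 v = 1) : v = 1 := by
  rcases g.V_cases v hv with e | e | e | e
  · exact e
  · rw [e, g.iota_c] at hι; exact absurd hι hZ12
  · rw [e, g.iota_c1] at hι; exact absurd hι hZ2
  · rw [e, g.iota_c2] at hι; exact absurd hι hZ1

end Iota

/-- the abstract homomorphism -/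
theorem exists_hom_core {P : Type v} [Group P] (Z1 Z2 : P) (hZ1 : Z1 * Z1 = 1)
    (hZ2 : Z2 * Z2 = 1) (hc1 : ∀ t : P, t * Z1 = Z1 * t) (hc2 : ∀ t : P, t * Z2 = Z2 * t)
    {u w : T} (hu : u ∉ V) (hw : w ∉ HH ρ V u)
    (a b cc e : P) (s0 : a * a = iota ρ c Z1 Z2 (u * u))
    (s1 : b * b = iota ρ c Z1 Z2 (ρ (u * u))) (s2 : cc * cc = iota ρ c Z1 Z2 (w * w))
    (s3 : e * e = iota ρ c Z1 Z2 (ρ (w * w))) (c10 : ⁅b, a⁆ = 1) (c32 : ⁅e, cc⁆ = 1)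
    (c20 : ⁅cc, a⁆ = iota ρ c Z1 Z2 (ρ ⁅u, ρ w⁆)) (c21 : ⁅cc, b⁆ = iota ρ c Z1 Z2 ⁅u, ρ w⁆)
    (c30 : ⁅e, a⁆ = iota ρ c Z1 Z2 ⁅u, ρ w⁆)
    (c31 : ⁅e, b⁆ = iota ρ c Z1 Z2 (ρ (ρ ⁅u, ρ w⁆))) :
    ∃ f : T →* P, ∀ v ∈ V, f v = iota ρ c Z1 Z2 v := by
  have P0 := g.pre
  obtain ⟨r1, r2, r3⟩ := P0.relations u w
  have hι := g.iota_mulOn Z1 Z2 hZ1 hZ2 (hc2 Z1)
  have hιc := g.iota_central Z1 Z2 hc1 hc2
  have hcard : Nat.card T = 2 ^ 4 * Nat.card V := by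
    rw [P0.card]; norm_num
  have k10 : ⁅ρ u, u⁆ = 1 := by
    rw [commutatorElement_eq_one_iff_mul_comm]
    exact (fpf_comm ρ P0.h3 P0.fpf u).symm
  have k32 : ⁅ρ w, w⁆ = 1 := by
    rw [commutatorElement_eq_one_iff_mul_comm]
    exact (fpf_comm ρ P0.h3 P0.fpf w).symm
  have k20 : ⁅w, u⁆ = ρ ⁅u, ρ w⁆ := by rw [P0.comm_symm u w, r1]
  have k21 : ⁅w, ρ u⁆ = ⁅u, ρ w⁆ := by rw [P0.comm_symm (ρ u) w, r2]
  have k30 : ⁅ρ w, u⁆ = ⁅u, ρ w⁆ := P0.comm_symm u (ρ w)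
  have k31 : ⁅ρ w, ρ u⁆ = ρ (ρ ⁅u, ρ w⁆) := by rw [P0.comm_symm (ρ u) (ρ w), r3]
  obtain ⟨f, hf, -⟩ := ExtTwo.exists_hom (Z := V) (u := seq ρ u w) (n := 4)
    P0.comm_mem (fun v hv t => g.central hv t) (fun k => P0.sq_mem _)
    (P0.Qk_top hu hw) hcard (iota ρ c Z1 Z2) hι hιc (seq4 a b cc e)
    (by
      intro k hk
      interval_cases k
      · change iota ρ c Z1 Z2 (u * u) = a * a
        rw [s0]
      · change iota ρ c Z1 Z2 (ρ u * ρ u) = b * b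
        rw [s1, map_mul]
      · change iota ρ c Z1 Z2 (w * w) = cc * cc
        rw [s2]
      · change iota ρ c Z1 Z2 (ρ w * ρ w) = e * e
        rw [s3, map_mul])
    (by
      intro k hk i hi
      interval_cases k <;> interval_cases i
      · change iota ρ c Z1 Z2 ⁅ρ u, u⁆ = ⁅b, a⁆
        rw [k10, g.iota_one, c10]
      · change iota ρ c Z1 Z2 ⁅w, u⁆ = ⁅cc, a⁆
        rw [k20, c20]
      · change iota ρ c Z1 Z2 ⁅w, ρ u⁆ = ⁅cc, b⁆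
        rw [k21, c21]
      · change iota ρ c Z1 Z2 ⁅ρ w, u⁆ = ⁅e, a⁆
        rw [k30, c30]
      · change iota ρ c Z1 Z2 ⁅ρ w, ρ u⁆ = ⁅e, b⁆
        rw [k31, c31]
      · change iota ρ c Z1 Z2 ⁅ρ w, w⁆ = ⁅e, cc⁆
        rw [k32, g.iota_one, c32])
  exact ⟨f, hf⟩

/-- `[x, ρ y] = ρ² c` -/
theorem comm_x_rho_y : ⁅x, ρ y⁆ = ρ (ρ c) := by
  obtain ⟨r1, -, -⟩ := g.pre.relations x y
  rw [← g.xy, r1, g.pre.cube]

/-- the homomorphism in the case `y² = 1` -/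
theorem exists_hom_L (hyy : y * y = 1) {P : Type v} [Group P] (Z1 Z2 : P) (hZ1 : Z1 * Z1 = 1)
    (hZ2 : Z2 * Z2 = 1) (hc1 : ∀ t : P, t * Z1 = Z1 * t) (hc2 : ∀ t : P, t * Z2 = Z2 * t)
    (a b cc e : P) (s0 : a * a = Z1 * Z2) (s1 : b * b = Z2) (s2 : cc * cc = 1)
    (s3 : e * e = 1) (c10 : ⁅b, a⁆ = 1) (c32 : ⁅e, cc⁆ = 1)
    (c20 : ⁅cc, a⁆ = Z1 * Z2) (c21 : ⁅cc, b⁆ = Z1) (c30 : ⁅e, a⁆ = Z1) (c31 : ⁅e, b⁆ = Z2) :
    ∃ f : T →* P, ∀ v ∈ V, f v = iota ρ c Z1 Z2 v := by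
  apply g.exists_hom_core Z1 Z2 hZ1 hZ2 hc1 hc2 g.hx g.hy a b cc e
  · rw [g.xx, g.iota_c, s0]
  · rw [g.xx, g.iota_c1, s1]
  · rw [hyy, g.iota_one, s2]
  · rw [hyy, map_one, g.iota_one, s3]
  · exact c10
  · exact c32
  · rw [g.comm_x_rho_y, g.cube_c, g.iota_c, c20]
  · rw [g.comm_x_rho_y, g.iota_c2, c21]
  · rw [g.comm_x_rho_y, g.iota_c2, c30]
  · rw [g.comm_x_rho_y, g.cube_c, g.iota_c1, c31]

/-- the homomorphism in the case `y² = ρ c` -/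
theorem exists_hom_U (hyy : y * y = ρ c) {P : Type v} [Group P] (Z1 Z2 : P) (hZ1 : Z1 * Z1 = 1)
    (hZ2 : Z2 * Z2 = 1) (hc1 : ∀ t : P, t * Z1 = Z1 * t) (hc2 : ∀ t : P, t * Z2 = Z2 * t)
    (a b cc e : P) (s0 : a * a = Z1 * Z2) (s1 : b * b = Z2) (s2 : cc * cc = Z1 * Z2)
    (s3 : e * e = Z2) (c10 : ⁅b, a⁆ = 1) (c32 : ⁅e, cc⁆ = 1)
    (c20 : ⁅cc, a⁆ = Z2) (c21 : ⁅cc, b⁆ = Z1 * Z2) (c30 : ⁅e, a⁆ = Z1 * Z2)
    (c31 : ⁅e, b⁆ = Z1) :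
    ∃ f : T →* P, ∀ v ∈ V, f v = iota ρ c Z1 Z2 v := by
  have hw : ρ (ρ y) ∉ HH ρ V x := by
    intro hm
    apply g.hy
    have := g.pre.HH_invariant x _ hm
    rwa [g.pre.cube] at this
  have hww : ρ (ρ y) * ρ (ρ y) = c := by
    rw [← map_mul, ← map_mul, hyy, g.cube_c]
  have hd : ⁅x, ρ (ρ (ρ y))⁆ = c := by rw [g.pre.cube, g.xy]
  apply g.exists_hom_core Z1 Z2 hZ1 hZ2 hc1 hc2 g.hx hw a b cc e
  · rw [g.xx, g.iota_c, s0]
  · rw [g.xx, g.iota_c1, s1]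
  · rw [hww, g.iota_c, s2]
  · rw [hww, g.iota_c1, s3]
  · exact c10
  · exact c32
  · rw [hd, g.iota_c1, c20]
  · rw [hd, g.iota_c, c21]
  · rw [hd, g.iota_c, c30]
  · rw [hd, g.iota_c2, c31]

/-- the centre is `V` -/
theorem center_le : Subgroup.center T ≤ V := by
  intro t ht
  by_contra htV
  have P0 := g.pre
  obtain ⟨s, hs⟩ := P0.exists_not_mem_HH t
  have h1 := P0.comm_mem_KK htV hs x y
  have h2 : ⁅t, ρ s⁆ = 1 := by
    rw [commutatorElement_eq_one_iff_mul_comm]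
    exact (Subgroup.mem_center_iff.mp ht (ρ s)).symm
  rw [h2, g.xy] at h1
  have h3 : Pre.KK ρ (1 : T) = ⊥ := by
    unfold Pre.KK
    rw [map_one, Subgroup.zpowers_one_eq_bot, sup_idem]
  rw [h3, Subgroup.mem_bot] at h1
  exact g.c_ne h1

/-- a homomorphism extending an injective map on `V` is injective -/
theorem injective_of_hom {P : Type v} [Group P] (Z1 Z2 : P) (hZ1 : Z1 ≠ 1) (hZ2 : Z2 ≠ 1)
    (hZ12 : Z1 * Z2 ≠ 1) (f : T →* P) (hf : ∀ v ∈ V, f v = iota ρ c Z1 Z2 v) :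
    Function.Injective f := by
  rw [injective_iff_map_eq_one]
  intro k hk
  have hV1 : ∀ v ∈ V, f v = 1 → v = 1 := by
    intro v hv hfv
    apply g.iota_eq_one Z1 Z2 hZ1 hZ2 hZ12 hv
    rw [← hf v hv]; exact hfv
  by_cases hkc : k ∈ Subgroup.center T
  · exact hV1 k (g.center_le hkc) hk
  · exfalso
    rw [Subgroup.mem_center_iff] at hkc
    push Not at hkc
    obtain ⟨t, ht⟩ := hkc
    have h1 : ⁅k, t⁆ ≠ 1 := by
      rw [Ne, commutatorElement_eq_one_iff_mul_comm]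
      exact fun e => ht e.symm
    apply h1
    apply hV1 _ (g.pre.comm_mem k t)
    rw [map_commutatorElement, hk, commutatorElement_one_left]

/-- the isomorphism with a model of order `64` -/
theorem equiv_of_hom {P : Type v} [Group P] (hP : Nat.card P = 64) (Z1 Z2 : P) (hZ1 : Z1 ≠ 1)
    (hZ2 : Z2 ≠ 1) (hZ12 : Z1 * Z2 ≠ 1) (f : T →* P)
    (hf : ∀ v ∈ V, f v = iota ρ c Z1 Z2 v) : Nonempty (T ≃* P) := by
  have : Finite P := Nat.finite_of_card_ne_zero (by rw [hP]; norm_num)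
  have hinj := g.injective_of_hom Z1 Z2 hZ1 hZ2 hZ12 f hf
  have hbij : Function.Bijective f := by
    rw [Nat.bijective_iff_injective_and_card]
    refine ⟨hinj, ?_⟩
    rw [g.pre.card, g.cardV, hP]
  exact ⟨MulEquiv.ofBijective f hbij⟩

end Gens

end Cfsg.Agent.Lib.Helper72.G4
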