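import Mathlib
import Cfsg.Agent.Lib.Helper72.G4Hom
import Cfsg.Agent.Lib.Helper07.PSLnD

/-!
The case `y² = 1`: `T` is isomorphic to a Sylow `2`-subgroup of `PSL₃(4)`, namely the image of
the group of upper unitriangular matrices.
-/

set_option autoImplicit false
set_option maxHeartbeats 800000
set_option linter.unusedSectionVars false

open scoped commutatorElement

namespace Cfsg.Agent.Lib.Helper72.G4

open Cfsg.Agent.Lib.Helper72
open Cfsg.Agent.Lib.Helper72.R2
open Cfsg.Agent.Lib.Helper07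
open Matrix

universe u

section Heis

variable {F : Type*} [Field F]

/-- upper unitriangular `3 × 3` matrices -/
def m3 (a b c : F) : Matrix (Fin 3) (Fin 3) F := !![1, a, c; 0, 1, b; 0, 0, 1]

theorem m3_det (a b c : F) : (m3 a b c).det = 1 := by
  unfold m3
  rw [Matrix.det_fin_three]
  simp

/-- the same, in `SL₃` -/
def mSL (a b c : F) : SpecialLinearGroup (Fin 3) F := ⟨m3 a b c, m3_det a b c⟩

theorem mSL_mem (a b c : F) : mSL a b c ∈ UT 3 F := by
  rw [mem_UT]
  constructor
  · intro i j hij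
    change m3 a b c i j = 0
    fin_cases i <;> fin_cases j <;> first | (exfalso; revert hij; decide) | (simp [m3])
  · intro i
    change m3 a b c i i = 1
    fin_cases i <;> simp [m3]

/-- the same, in the unitriangular group -/
def mU (a b c : F) : UT 3 F := ⟨mSL a b c, mSL_mem a b c⟩

theorem mU_ext {a b c a' b' c' : F} (ha : a = a') (hb : b = b') (hc : c = c') :
    mU a b c = mU a' b' c' := by
  subst ha; subst hb; subst hc; rfl

theorem mU_mul (a b c a' b' c' : F) :
    mU a b c * mU a' b' c' = mU (a + a') (b + b') (c + c' + a * b') := by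
  apply Subtype.ext
  apply Subtype.ext
  change m3 a b c * m3 a' b' c' = m3 _ _ _
  unfold m3
  ext i j
  fin_cases i <;> fin_cases j <;> simp [Matrix.mul_apply, Fin.sum_univ_three] <;> ring

theorem mU_one : mU (0 : F) 0 0 = 1 := by
  apply Subtype.ext
  apply Subtype.ext
  change m3 (0 : F) 0 0 = 1
  unfold m3
  ext i j
  fin_cases i <;> fin_cases j <;> simp

theorem mU_inv (a b c : F) : (mU a b c)⁻¹ = mU (-a) (-b) (a * b - c) := by
  apply inv_eq_of_mul_eq_one_right
  rw [mU_mul, ← mU_one]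
  apply mU_ext <;> ring

theorem mU_comm (a b c a' b' c' : F) :
    ⁅mU a b c, mU a' b' c'⁆ = mU 0 0 (a * b' - a' * b) := by
  rw [commutatorElement_def, mU_inv, mU_inv, mU_mul, mU_mul, mU_mul]
  apply mU_ext <;> ring

theorem exists_mU (t : UT 3 F) : ∃ a b c : F, t = mU a b c := by
  obtain ⟨A, hA⟩ := t
  obtain ⟨h0, h1⟩ := mem_UT.mp hA
  set M : Matrix (Fin 3) (Fin 3) F := (A : Matrix (Fin 3) (Fin 3) F) with hM
  refine ⟨M 0 1, M 1 2, M 0 2, ?_⟩
  apply Subtype.ext
  apply Subtype.ext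
  change M = m3 _ _ _
  unfold m3
  ext i j
  fin_cases i <;> fin_cases j
  · simpa using h1 0
  · simp
  · simp
  · simpa using h0 1 0 (by decide)
  · simpa using h1 1
  · simp
  · simpa using h0 2 0 (by decide)
  · simpa using h0 2 1 (by decide)
  · simpa using h1 2

theorem mU_cen_mul (z z' : F) : mU 0 0 z * mU 0 0 z' = mU 0 0 (z + z') := by
  rw [mU_mul]
  apply mU_ext <;> ring

theorem mU_sq (h2 : (2 : F) = 0) (a b c : F) : mU a b c * mU a b c = mU 0 0 (a * b) := by
  rw [mU_mul]
  apply mU_ext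
  · linear_combination a * h2
  · linear_combination b * h2
  · linear_combination c * h2

theorem mU_central (z : F) (t : UT 3 F) : t * mU 0 0 z = mU 0 0 z * t := by
  obtain ⟨a, b, c, rfl⟩ := exists_mU t
  rw [mU_mul, mU_mul]
  apply mU_ext <;> ring

theorem mU_eq_one_iff (a b c : F) : mU a b c = 1 ↔ a = 0 ∧ b = 0 ∧ c = 0 := by
  constructor
  · intro h
    have h1 : m3 a b c = 1 := congrArg (fun t : UT 3 F => ((t : SpecialLinearGroup (Fin 3) F) :
      Matrix (Fin 3) (Fin 3) F)) h
    have ha := congrFun (congrFun h1 0) 1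
    have hb := congrFun (congrFun h1 1) 2
    have hc := congrFun (congrFun h1 0) 2
    simp [m3] at ha hb hc
    exact ⟨ha, hb, hc⟩
  · rintro ⟨rfl, rfl, rfl⟩
    exact mU_one

end Heis

section Finite

variable {F : Type*} [Field F] [Fintype F]

theorem card_UT3 (hF : Fintype.card F = 4) : Nat.card (UT 3 F) = 64 := by
  rw [card_UT, hF]
  have : ∑ i : Fin 3, (i : ℕ) = 3 := by decide
  rw [this]
  norm_num

/-- the unitriangular group maps isomorphically to its image in `PSL₃` -/
theorem UT_equiv_UTbar (hF : Fintype.card F = 4) : Nonempty (UT 3 F ≃* UTbar 3 F) := by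
  have : Fact (Nat.Prime 2) := ⟨Nat.prime_two⟩
  have hF' : Fintype.card F = 2 ^ 2 := by rw [hF]; norm_num
  have : CharP F 2 := charP_of_card_eq_prime_pow hF'
  have : Finite (UT 3 F) := Nat.finite_of_card_ne_zero (by rw [card_UT3 hF]; norm_num)
  have hpow : ∀ A : UT 3 F, (A : SpecialLinearGroup (Fin 3) F) ^ 2 ^ 6 = 1 := by
    intro A
    have h1 : A ^ Nat.card (UT 3 F) = 1 := pow_card_eq_one'
    rw [card_UT3 hF] at h1
    have h2 := congrArg (fun t : UT 3 F => (t : SpecialLinearGroup (Fin 3) F)) h1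
    simpa using h2
  have hinj : Function.Injective ((prjN (n := 3) (F := F)).subgroupMap (UT 3 F)) := by
    intro A B hAB
    have h1 : prjN (A : SpecialLinearGroup (Fin 3) F) = prjN (B : SpecialLinearGroup (Fin 3) F) :=
      congrArg Subtype.val hAB
    exact Subtype.ext (eq_of_prjN_eq_of_pow 2 6 (hpow A) (hpow B) h1)
  exact ⟨MulEquiv.ofBijective _ ⟨hinj, MonoidHom.subgroupMap_surjective _ _⟩⟩

/-- all Sylow `2`-subgroups of `PSL₃(4)` are isomorphic to the unitriangular group -/
theorem sylow_equiv_UT (hF : Fintype.card F = 4)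
    (P : Sylow 2 (ProjectiveSpecialLinearGroup (Fin 3) F)) :
    Nonempty (UT 3 F ≃* ↥(P : Subgroup (ProjectiveSpecialLinearGroup (Fin 3) F))) := by
  classical
  have : Fact (Nat.Prime 2) := ⟨Nat.prime_two⟩
  have hF' : Fintype.card F = 2 ^ 2 := by rw [hF]; norm_num
  have : CharP F 2 := charP_of_card_eq_prime_pow hF'
  have : Finite (ProjectiveSpecialLinearGroup (Fin 3) F) := by
    unfold ProjectiveSpecialLinearGroup
    infer_instance
  obtain ⟨e1⟩ := UT_equiv_UTbar hF
  set S := sylUTbar (n := 3) (F := F) 2 hF' (by norm_num) (by norm_num) with hS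
  have hSc : (S : Subgroup (ProjectiveSpecialLinearGroup (Fin 3) F)) = UTbar 3 F :=
    sylUTbar_coe 2 hF' (by norm_num) (by norm_num)
  obtain ⟨k, hk⟩ := MulAction.exists_smul_eq (ProjectiveSpecialLinearGroup (Fin 3) F) S P
  have e2 : ↥(S : Subgroup (ProjectiveSpecialLinearGroup (Fin 3) F)) ≃*
      ↥(P : Subgroup (ProjectiveSpecialLinearGroup (Fin 3) F)) := by
    rw [← hk]
    exact Sylow.equivSMul S k
  have e3 : UTbar 3 F ≃* ↥(S : Subgroup (ProjectiveSpecialLinearGroup (Fin 3) F)) :=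
    MulEquiv.subgroupCongr hSc.symm
  exact ⟨(e1.trans e3).trans e2⟩

end Finite

namespace Gens

variable {T : Type u} [Group T] [Finite T] {ρ : MulAut T} {V : Subgroup T} {c x y : T}
  (g : Gens ρ V c x y)
include g

/-- the case `y² = 1` -/
theorem equiv_L (hyy : y * y = 1) {F : Type*} [Field F] [Fintype F]
    (hF : Fintype.card F = 4) (P : Sylow 2 (ProjectiveSpecialLinearGroup (Fin 3) F)) :
    Nonempty (T ≃* ↥(P : Subgroup (ProjectiveSpecialLinearGroup (Fin 3) F))) := by
  classical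
  have : Fact (Nat.Prime 2) := ⟨Nat.prime_two⟩
  have hF' : Fintype.card F = 2 ^ 2 := by rw [hF]; norm_num
  have : CharP F 2 := charP_of_card_eq_prime_pow hF'
  have h2 : (2 : F) = 0 := by
    have := CharP.cast_eq_zero F 2
    exact_mod_cast this
  -- a primitive cube root of unity
  obtain ⟨ω, hω⟩ : ∃ ω : F, ω ^ 2 + ω + 1 = 0 := by
    have hex : ∃ ω : F, ω ≠ 0 ∧ ω ≠ 1 := by
      by_contra hall
      push Not at hall
      have h1 : Fintype.card F ≤ 2 := by
        have : (Finset.univ : Finset F) ⊆ {0, 1} := by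
          intro a _
          by_cases ha : a = 0
          · simp [ha]
          · simp [hall a ha]
        calc Fintype.card F = (Finset.univ : Finset F).card := rfl
          _ ≤ ({0, 1} : Finset F).card := Finset.card_le_card this
          _ ≤ 2 := Finset.card_le_two
      omega
    obtain ⟨ω, h0, h1⟩ := hex
    refine ⟨ω, ?_⟩
    have h3 : ω ^ 3 = 1 := by
      have := FiniteField.pow_card_sub_one_eq_one ω h0
      rwa [hF] at this
    have h4 : (ω - 1) * (ω ^ 2 + ω + 1) = 0 := by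
      linear_combination h3
    rcases mul_eq_zero.mp h4 with h5 | h5
    · exact absurd (sub_eq_zero.mp h5) h1
    · exact h5
  obtain ⟨f, hf⟩ := g.exists_hom_L hyy (mU (0 : F) 0 (ω ^ 2)) (mU (0 : F) 0 ω)
    (by rw [mU_cen_mul, ← mU_one]; exact mU_ext rfl rfl (by linear_combination (ω ^ 2) * h2))
    (by rw [mU_cen_mul, ← mU_one]; exact mU_ext rfl rfl (by linear_combination ω * h2))
    (mU_central _) (mU_central _)
    (mU 1 1 0) (mU (ω ^ 2) (ω ^ 2) 0) (mU 1 0 0) (mU (ω ^ 2) 0 0)
    (by rw [mU_sq h2, mU_cen_mul]; exact mU_ext rfl rfl (by linear_combination (-1 : F) * hω + h2))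
    (by rw [mU_sq h2]; exact mU_ext rfl rfl (by linear_combination (ω ^ 2 - ω) * hω))
    (by rw [mU_sq h2, ← mU_one]; exact mU_ext rfl rfl (by ring))
    (by rw [mU_sq h2, ← mU_one]; exact mU_ext rfl rfl (by ring))
    (by rw [mU_comm, ← mU_one]; exact mU_ext rfl rfl (by ring))
    (by rw [mU_comm, ← mU_one]; exact mU_ext rfl rfl (by ring))
    (by rw [mU_comm, mU_cen_mul]; exact mU_ext rfl rfl (by linear_combination (-1 : F) * hω + h2))
    (by rw [mU_comm]; exact mU_ext rfl rfl (by ring))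
    (by rw [mU_comm]; exact mU_ext rfl rfl (by ring))
    (by rw [mU_comm]; exact mU_ext rfl rfl (by linear_combination (ω ^ 2 - ω) * hω))
  have hZ1 : mU (0 : F) 0 (ω ^ 2) ≠ 1 := by
    rw [Ne, mU_eq_one_iff]
    rintro ⟨-, -, h⟩
    have h0 : ω = 0 := by exact pow_eq_zero_iff (by norm_num) |>.mp h
    rw [h0] at hω
    norm_num at hω
  have hZ2 : mU (0 : F) 0 ω ≠ 1 := by
    rw [Ne, mU_eq_one_iff]
    rintro ⟨-, -, h⟩
    rw [h] at hω
    norm_num at hω
  have hZ12 : mU (0 : F) 0 (ω ^ 2) * mU (0 : F) 0 ω ≠ 1 := by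
    rw [mU_cen_mul, Ne, mU_eq_one_iff]
    rintro ⟨-, -, h⟩
    have h5 : (1 : F) = 0 := by linear_combination hω - h
    exact one_ne_zero h5
  obtain ⟨e1⟩ := g.equiv_of_hom (card_UT3 hF) _ _ hZ1 hZ2 hZ12 f hf
  obtain ⟨e2⟩ := sylow_equiv_UT hF P
  exact ⟨e1.trans e2⟩

end Gens

end Cfsg.Agent.Lib.Helper72.G4
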