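import Mathlib
import Cfsg.Agent.Lib.Helper72.R2Rec2

/-!
The non-abelian case of order `64`: the isomorphism with the Sylow `2`-subgroup model of `U₃(4)`.
-/

set_option autoImplicit false
set_option maxHeartbeats 800000
set_option linter.unusedSectionVars false

open scoped commutatorElement

namespace Cfsg.Agent.Lib.Helper72.R2

open Cfsg.Agent.Lib.Helper72
open Cfsg.Agent.Lib.Helper72.U3q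
open Cfsg.Agent.Lib.Helper72.Sp64M

universe u

namespace Cfg

variable {T : Type u} [Group T] [Finite T] {ψ : MulAut T} {z : T} (h : Cfg ψ z)
  (h3 : ψ ^ 3 = 1) (hna : ∃ a b : T, a * b ≠ b * a)
include h h3 hna

theorem exists_hom_model {F : Type*} [Field F] [Fintype F] (I : Inv2 F 2) (ζ : F)
    (hζ : ζ ^ 4 + ζ ^ 3 + ζ ^ 2 + ζ + 1 = 0)
    {u w : T} (hu : u * u = z) (hw : w ∉ h.H u) (hw2 : w * w = z) :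
    ∃ f : T →* Model I, ∀ v ∈ h.V, f v = iota ψ z (z1 I ζ hζ) (z2 I ζ hζ) v := by
  have hd := h.comm_mem_V h3 hna u (ψ w)
  rcases h.V_cases hd with e | e | e | e
  · exact absurd e (h.d_ne_one h3 hna hu hw hw2)
  · -- `[u, ψ w] = z`
    refine h.exists_hom_core h3 hna (z1 I ζ hζ) (z2 I ζ hζ) (Sp64M.z1_sq I ζ hζ) (Sp64M.z2_sq I ζ hζ)
      (z1_central I ζ hζ) (z2_central I ζ hζ) hu hw hw2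
      (Model.lift 1) (Model.lift (ζ + ζ ^ 4)) (Model.lift (ζ ^ 2))
      (Model.lift ((ζ + ζ ^ 4) * ζ ^ 2))
      (sq_lift_eq1 I ζ hζ _ ?_) (sq_lift_eq2 I ζ hζ _ ?_) (sq_lift_eq1 I ζ hζ _ ?_)
      (sq_lift_eq2 I ζ hζ _ ?_) (comm_lift_one I ζ hζ _ _ ?_) (comm_lift_one I ζ hζ _ _ ?_)
      ?_ ?_ ?_ ?_
    · linear_combination ((-1)) * hζ + ((1)) * I.two
    · linear_combination ((8) + (-8 * ζ) + (5 * ζ ^ 2) + (-5 * ζ ^ 4) + (9 * ζ ^ 5) + (-9 * ζ ^ 6) + (5 * ζ ^ 7) + (5 * ζ ^ 8) + (-10 * ζ ^ 9) + (9 * ζ ^ 10) + (1 * ζ ^ 11) + (-5 * ζ ^ 12) + (5 * ζ ^ 13) + (-1 * ζ ^ 15) + (1 * ζ ^ 16)) * hζ + ((-4) + (-3 * ζ ^ 2) + (-3 * ζ ^ 3)) * I.two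
    · linear_combination ((-2) + (1 * ζ) + (-1 * ζ ^ 5) + (1 * ζ ^ 6)) * hζ + ((1)) * I.two
    · linear_combination ((8) + (-8 * ζ) + (5 * ζ ^ 2) + (-5 * ζ ^ 4) + (8 * ζ ^ 5) + (-8 * ζ ^ 6) + (5 * ζ ^ 7) + (-5 * ζ ^ 9) + (8 * ζ ^ 10) + (-8 * ζ ^ 11) + (5 * ζ ^ 12) + (-5 * ζ ^ 14) + (9 * ζ ^ 15) + (-9 * ζ ^ 16) + (5 * ζ ^ 17) + (5 * ζ ^ 18) + (-10 * ζ ^ 19) + (9 * ζ ^ 20) + (1 * ζ ^ 21) + (-5 * ζ ^ 22) + (5 * ζ ^ 23) + (-1 * ζ ^ 25) + (1 * ζ ^ 26)) * hζ + ((-4) + (-3 * ζ ^ 2) + (-3 * ζ ^ 3)) * I.two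
    · linear_combination ((-4) + (5 * ζ) + (-3 * ζ ^ 2) + (4 * ζ ^ 4) + (-6 * ζ ^ 5) + (5 * ζ ^ 6) + (1 * ζ ^ 7) + (-4 * ζ ^ 8) + (4 * ζ ^ 9) + (-1 * ζ ^ 11) + (1 * ζ ^ 12)) * hζ + ((2) + (1 * ζ ^ 2) + (1 * ζ ^ 3)) * I.two
    · linear_combination ((-4) + (4 * ζ) + (-2 * ζ ^ 2) + (2 * ζ ^ 4) + (-4 * ζ ^ 5) + (4 * ζ ^ 6) + (-2 * ζ ^ 7) + (2 * ζ ^ 9) + (-4 * ζ ^ 10) + (5 * ζ ^ 11) + (-3 * ζ ^ 12) + (4 * ζ ^ 14) + (-6 * ζ ^ 15) + (5 * ζ ^ 16) + (1 * ζ ^ 17) + (-4 * ζ ^ 18) + (4 * ζ ^ 19) + (-1 * ζ ^ 21) + (1 * ζ ^ 22)) * hζ + ((2) + (1 * ζ ^ 2) + (1 * ζ ^ 3)) * I.two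
    · rw [e, h.iota_z1]
      apply comm_lift_z2
      linear_combination ((-1 * ζ ^ 3) + (1 * ζ ^ 4)) * hζ + (0) * I.two
    · rw [e, h.iota_z]
      apply comm_lift_z12
      linear_combination ((3 * ζ) + (-6 * ζ ^ 2) + (6 * ζ ^ 3) + (-4 * ζ ^ 4) + (1 * ζ ^ 5) + (4 * ζ ^ 6) + (-7 * ζ ^ 7) + (6 * ζ ^ 8) + (1 * ζ ^ 9) + (-4 * ζ ^ 10) + (4 * ζ ^ 11) + (-1 * ζ ^ 13) + (1 * ζ ^ 14)) * hζ + ((-2 * ζ) + (1 * ζ ^ 2) + (-2 * ζ ^ 3)) * I.two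
    · rw [e, h.iota_z]
      apply comm_lift_z12
      linear_combination ((-4) + (-1 * ζ) + (4 * ζ ^ 2) + (-5 * ζ ^ 3) + (5 * ζ ^ 4) + (-3 * ζ ^ 5) + (3 * ζ ^ 7) + (-5 * ζ ^ 8) + (5 * ζ ^ 9) + (-3 * ζ ^ 10) + (4 * ζ ^ 12) + (-6 * ζ ^ 13) + (5 * ζ ^ 14) + (1 * ζ ^ 15) + (-4 * ζ ^ 16) + (4 * ζ ^ 17) + (-1 * ζ ^ 19) + (1 * ζ ^ 20)) * hζ + ((2) + (2 * ζ) + (3 * ζ ^ 3)) * I.two
    · rw [e, h.iota_z2]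
      apply comm_lift_z1
      linear_combination ((4) + (-5 * ζ) + (3 * ζ ^ 2) + (-3 * ζ ^ 4) + (5 * ζ ^ 5) + (-5 * ζ ^ 6) + (4 * ζ ^ 7) + (-1 * ζ ^ 8) + (-3 * ζ ^ 9) + (10 * ζ ^ 10) + (-10 * ζ ^ 11) + (4 * ζ ^ 12) + (10 * ζ ^ 13) + (-14 * ζ ^ 14) + (10 * ζ ^ 15) + (5 * ζ ^ 16) + (-11 * ζ ^ 17) + (10 * ζ ^ 18) + (1 * ζ ^ 19) + (-5 * ζ ^ 20) + (5 * ζ ^ 21) + (-1 * ζ ^ 23) + (1 * ζ ^ 24)) * hζ + ((-2) + (-1 * ζ ^ 2) + (-1 * ζ ^ 3)) * I.two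
  · -- `[u, ψ w] = ψ z`
    refine h.exists_hom_core h3 hna (z1 I ζ hζ) (z2 I ζ hζ) (Sp64M.z1_sq I ζ hζ) (Sp64M.z2_sq I ζ hζ)
      (z1_central I ζ hζ) (z2_central I ζ hζ) hu hw hw2
      (Model.lift 1) (Model.lift (ζ + ζ ^ 4)) (Model.lift ζ)
      (Model.lift ((ζ + ζ ^ 4) * ζ))
      (sq_lift_eq1 I ζ hζ _ ?_) (sq_lift_eq2 I ζ hζ _ ?_) (sq_lift_eq1 I ζ hζ _ ?_)
      (sq_lift_eq2 I ζ hζ _ ?_) (comm_lift_one I ζ hζ _ _ ?_) (comm_lift_one I ζ hζ _ _ ?_)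
      ?_ ?_ ?_ ?_
    · linear_combination ((-1)) * hζ + ((1)) * I.two
    · linear_combination ((8) + (-8 * ζ) + (5 * ζ ^ 2) + (-5 * ζ ^ 4) + (9 * ζ ^ 5) + (-9 * ζ ^ 6) + (5 * ζ ^ 7) + (5 * ζ ^ 8) + (-10 * ζ ^ 9) + (9 * ζ ^ 10) + (1 * ζ ^ 11) + (-5 * ζ ^ 12) + (5 * ζ ^ 13) + (-1 * ζ ^ 15) + (1 * ζ ^ 16)) * hζ + ((-4) + (-3 * ζ ^ 2) + (-3 * ζ ^ 3)) * I.two
    · linear_combination ((-2) + (1 * ζ)) * hζ + ((1)) * I.two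
    · linear_combination ((8) + (-8 * ζ) + (5 * ζ ^ 2) + (-5 * ζ ^ 4) + (8 * ζ ^ 5) + (-8 * ζ ^ 6) + (5 * ζ ^ 7) + (-5 * ζ ^ 9) + (9 * ζ ^ 10) + (-9 * ζ ^ 11) + (5 * ζ ^ 12) + (5 * ζ ^ 13) + (-10 * ζ ^ 14) + (9 * ζ ^ 15) + (1 * ζ ^ 16) + (-5 * ζ ^ 17) + (5 * ζ ^ 18) + (-1 * ζ ^ 20) + (1 * ζ ^ 21)) * hζ + ((-4) + (-3 * ζ ^ 2) + (-3 * ζ ^ 3)) * I.two
    · linear_combination ((-4) + (5 * ζ) + (-3 * ζ ^ 2) + (4 * ζ ^ 4) + (-6 * ζ ^ 5) + (5 * ζ ^ 6) + (1 * ζ ^ 7) + (-4 * ζ ^ 8) + (4 * ζ ^ 9) + (-1 * ζ ^ 11) + (1 * ζ ^ 12)) * hζ + ((2) + (1 * ζ ^ 2) + (1 * ζ ^ 3)) * I.two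
    · linear_combination ((-4) + (4 * ζ) + (-2 * ζ ^ 2) + (2 * ζ ^ 4) + (-4 * ζ ^ 5) + (5 * ζ ^ 6) + (-3 * ζ ^ 7) + (4 * ζ ^ 9) + (-6 * ζ ^ 10) + (5 * ζ ^ 11) + (1 * ζ ^ 12) + (-4 * ζ ^ 13) + (4 * ζ ^ 14) + (-1 * ζ ^ 16) + (1 * ζ ^ 17)) * hζ + ((2) + (1 * ζ ^ 2) + (1 * ζ ^ 3)) * I.two
    · rw [e, h.iota_z2]
      apply comm_lift_z1
      linear_combination (0) * hζ + (0) * I.two
    · rw [e, h.iota_z1]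
      apply comm_lift_z2
      linear_combination ((2) + (-4 * ζ) + (5 * ζ ^ 2) + (-4 * ζ ^ 3) + (1 * ζ ^ 4) + (4 * ζ ^ 5) + (-6 * ζ ^ 6) + (5 * ζ ^ 7) + (1 * ζ ^ 8) + (-4 * ζ ^ 9) + (4 * ζ ^ 10) + (-1 * ζ ^ 12) + (1 * ζ ^ 13)) * hζ + ((-1) + (1 * ζ) + (-2 * ζ ^ 2)) * I.two
    · rw [e, h.iota_z1]
      apply comm_lift_z2
      linear_combination ((4) + (-2 * ζ) + (3 * ζ ^ 3) + (-5 * ζ ^ 4) + (5 * ζ ^ 5) + (-3 * ζ ^ 6) + (4 * ζ ^ 8) + (-6 * ζ ^ 9) + (5 * ζ ^ 10) + (1 * ζ ^ 11) + (-4 * ζ ^ 12) + (4 * ζ ^ 13) + (-1 * ζ ^ 15) + (1 * ζ ^ 16)) * hζ + ((-2) + (-1 * ζ) + (-1 * ζ ^ 2) + (-3 * ζ ^ 3)) * I.two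
    · rw [e, h.cube_z, h.iota_z]
      apply comm_lift_z12
      linear_combination ((-14) + (13 * ζ) + (-8 * ζ ^ 2) + (8 * ζ ^ 4) + (-13 * ζ ^ 5) + (14 * ζ ^ 6) + (-9 * ζ ^ 7) + (14 * ζ ^ 9) + (-19 * ζ ^ 10) + (14 * ζ ^ 11) + (6 * ζ ^ 12) + (-15 * ζ ^ 13) + (14 * ζ ^ 14) + (1 * ζ ^ 15) + (-6 * ζ ^ 16) + (6 * ζ ^ 17) + (-1 * ζ ^ 19) + (1 * ζ ^ 20)) * hζ + ((7) + (4 * ζ ^ 2) + (4 * ζ ^ 3)) * I.two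
  · exact absurd e (h.d_ne_z2 h3 hna hu hw hw2)

/-- the non-abelian case: `T` is isomorphic to the model -/
theorem exists_equiv_model {F : Type*} [Field F] [Fintype F] (I : Inv2 F 2)
    (hF : Fintype.card F = 16) : Nonempty (T ≃* Model I) := by
  obtain ⟨ζ, hζ⟩ := Sp64M.exists_zeta hF
  have hcard := h.card_eq h3 hna
  obtain ⟨u₀, hu₀⟩ : ∃ u₀ : T, u₀ ∉ h.V := by
    by_contra hall
    push Not at hall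
    have h1 : h.V = ⊤ := by
      rw [eq_top_iff]; intro x _; exact hall x
    have h2 := h.card_V
    rw [h1, Subgroup.card_top, hcard] at h2
    omega
  have ha : u₀ * u₀ ∈ h.V := h.sq_mem_V h3 hna u₀
  have ha1 : u₀ * u₀ ≠ 1 := fun e => hu₀ e
  have h' := h.rebase ha ha1
  obtain ⟨w, hw, hw2⟩ := h'.exists_w h3 hna u₀
  obtain ⟨f, hf⟩ := h'.exists_hom_model h3 hna I ζ hζ rfl hw hw2
  have hinj : Function.Injective f := by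
    rw [← MonoidHom.ker_eq_bot_iff]
    by_contra hker
    obtain ⟨v, hv, hv1, hv2⟩ := h'.exists_invol_mem f.ker hker
    apply hv1
    apply h'.iota_eq_one _ _ (z1_ne_one I ζ hζ) (z2_ne_one I ζ hζ) (z12_ne_one I ζ hζ) hv2
    rw [← hf v hv2]
    exact hv
  have hbij : Function.Bijective f := by
    rw [Nat.bijective_iff_injective_and_card]
    refine ⟨hinj, ?_⟩
    rw [hcard, Model.card_model]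
    norm_num
  exact ⟨MulEquiv.ofBijective f hbij⟩

end Cfg

end Cfsg.Agent.Lib.Helper72.R2
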