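import Mathlib
import Cfsg.Agent.Lib.Helper72.G4Hom
import Cfsg.Agent.Lib.Helper72.R2Rec3
import Cfsg.Agent.Lib.Helper72.U3qMain

/-!
The case `y² = ρ c`: `T` is isomorphic to a Sylow `2`-subgroup of `PSU₃(4)`.
-/

set_option autoImplicit false
set_option maxHeartbeats 800000
set_option linter.unusedSectionVars false

open scoped commutatorElement

namespace Cfsg.Agent.Lib.Helper72.G4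

open Cfsg.Agent.Lib.Helper72
open Cfsg.Agent.Lib.Helper72.R2
open Cfsg.Agent.Lib.Helper72.U3q
open Cfsg.Agent.Lib.Helper72.Sp64M

universe u

namespace Gens

variable {T : Type u} [Group T] [Finite T] {ρ : MulAut T} {V : Subgroup T} {c x y : T}
  (g : Gens ρ V c x y)
include g

theorem exists_hom_modelU (hyy : y * y = ρ c) {F : Type*} [Field F] [Fintype F] (I : Inv2 F 2)
    (ζ : F) (hζ : ζ ^ 4 + ζ ^ 3 + ζ ^ 2 + ζ + 1 = 0) :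
    ∃ f : T →* Model I, ∀ v ∈ V, f v = iota ρ c (z1 I ζ hζ) (z2 I ζ hζ) v := by
  refine g.exists_hom_U hyy (z1 I ζ hζ) (z2 I ζ hζ) (Sp64M.z1_sq I ζ hζ) (Sp64M.z2_sq I ζ hζ)
    (z1_central I ζ hζ) (z2_central I ζ hζ)
    (Model.lift 1) (Model.lift (ζ + ζ ^ 4)) (Model.lift (ζ ^ 2))
    (Model.lift ((ζ + ζ ^ 4) * ζ ^ 2))
    (sq_lift_eq1 I ζ hζ _ ?_) (sq_lift_eq2 I ζ hζ _ ?_) (sq_lift_eq1 I ζ hζ _ ?_)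
    (sq_lift_eq2 I ζ hζ _ ?_) (comm_lift_one I ζ hζ _ _ ?_) (comm_lift_one I ζ hζ _ _ ?_)
    (comm_lift_z2 I ζ hζ _ _ ?_) (comm_lift_z12 I ζ hζ _ _ ?_) (comm_lift_z12 I ζ hζ _ _ ?_)
    (comm_lift_z1 I ζ hζ _ _ ?_)
  · linear_combination ((-1)) * hζ + ((1)) * I.two
  · linear_combination ((8) + (-8 * ζ) + (5 * ζ ^ 2) + (-5 * ζ ^ 4) + (9 * ζ ^ 5) + (-9 * ζ ^ 6) + (5 * ζ ^ 7) + (5 * ζ ^ 8) + (-10 * ζ ^ 9) + (9 * ζ ^ 10) + (1 * ζ ^ 11) + (-5 * ζ ^ 12) + (5 * ζ ^ 13) + (-1 * ζ ^ 15) + (1 * ζ ^ 16)) * hζ + ((-4) + (-3 * ζ ^ 2) + (-3 * ζ ^ 3)) * I.two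
  · linear_combination ((-2) + (1 * ζ) + (-1 * ζ ^ 5) + (1 * ζ ^ 6)) * hζ + ((1)) * I.two
  · linear_combination ((8) + (-8 * ζ) + (5 * ζ ^ 2) + (-5 * ζ ^ 4) + (8 * ζ ^ 5) + (-8 * ζ ^ 6) + (5 * ζ ^ 7) + (-5 * ζ ^ 9) + (8 * ζ ^ 10) + (-8 * ζ ^ 11) + (5 * ζ ^ 12) + (-5 * ζ ^ 14) + (9 * ζ ^ 15) + (-9 * ζ ^ 16) + (5 * ζ ^ 17) + (5 * ζ ^ 18) + (-10 * ζ ^ 19) + (9 * ζ ^ 20) + (1 * ζ ^ 21) + (-5 * ζ ^ 22) + (5 * ζ ^ 23) + (-1 * ζ ^ 25) + (1 * ζ ^ 26)) * hζ + ((-4) + (-3 * ζ ^ 2) + (-3 * ζ ^ 3)) * I.two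
  · linear_combination ((-4) + (5 * ζ) + (-3 * ζ ^ 2) + (4 * ζ ^ 4) + (-6 * ζ ^ 5) + (5 * ζ ^ 6) + (1 * ζ ^ 7) + (-4 * ζ ^ 8) + (4 * ζ ^ 9) + (-1 * ζ ^ 11) + (1 * ζ ^ 12)) * hζ + ((2) + (1 * ζ ^ 2) + (1 * ζ ^ 3)) * I.two
  · linear_combination ((-4) + (4 * ζ) + (-2 * ζ ^ 2) + (2 * ζ ^ 4) + (-4 * ζ ^ 5) + (4 * ζ ^ 6) + (-2 * ζ ^ 7) + (2 * ζ ^ 9) + (-4 * ζ ^ 10) + (5 * ζ ^ 11) + (-3 * ζ ^ 12) + (4 * ζ ^ 14) + (-6 * ζ ^ 15) + (5 * ζ ^ 16) + (1 * ζ ^ 17) + (-4 * ζ ^ 18) + (4 * ζ ^ 19) + (-1 * ζ ^ 21) + (1 * ζ ^ 22)) * hζ + ((2) + (1 * ζ ^ 2) + (1 * ζ ^ 3)) * I.two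
  · linear_combination ((-1 * ζ ^ 3) + (1 * ζ ^ 4)) * hζ + (0) * I.two
  · linear_combination ((3 * ζ) + (-6 * ζ ^ 2) + (6 * ζ ^ 3) + (-4 * ζ ^ 4) + (1 * ζ ^ 5) + (4 * ζ ^ 6) + (-7 * ζ ^ 7) + (6 * ζ ^ 8) + (1 * ζ ^ 9) + (-4 * ζ ^ 10) + (4 * ζ ^ 11) + (-1 * ζ ^ 13) + (1 * ζ ^ 14)) * hζ + ((-2 * ζ) + (1 * ζ ^ 2) + (-2 * ζ ^ 3)) * I.two
  · linear_combination ((-4) + (-1 * ζ) + (4 * ζ ^ 2) + (-5 * ζ ^ 3) + (5 * ζ ^ 4) + (-3 * ζ ^ 5) + (3 * ζ ^ 7) + (-5 * ζ ^ 8) + (5 * ζ ^ 9) + (-3 * ζ ^ 10) + (4 * ζ ^ 12) + (-6 * ζ ^ 13) + (5 * ζ ^ 14) + (1 * ζ ^ 15) + (-4 * ζ ^ 16) + (4 * ζ ^ 17) + (-1 * ζ ^ 19) + (1 * ζ ^ 20)) * hζ + ((2) + (2 * ζ) + (3 * ζ ^ 3)) * I.two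
  · linear_combination ((4) + (-5 * ζ) + (3 * ζ ^ 2) + (-3 * ζ ^ 4) + (5 * ζ ^ 5) + (-5 * ζ ^ 6) + (4 * ζ ^ 7) + (-1 * ζ ^ 8) + (-3 * ζ ^ 9) + (10 * ζ ^ 10) + (-10 * ζ ^ 11) + (4 * ζ ^ 12) + (10 * ζ ^ 13) + (-14 * ζ ^ 14) + (10 * ζ ^ 15) + (5 * ζ ^ 16) + (-11 * ζ ^ 17) + (10 * ζ ^ 18) + (1 * ζ ^ 19) + (-5 * ζ ^ 20) + (5 * ζ ^ 21) + (-1 * ζ ^ 23) + (1 * ζ ^ 24)) * hζ + ((-2) + (-1 * ζ ^ 2) + (-1 * ζ ^ 3)) * I.two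

/-- the case `y² = ρ c` -/
theorem equiv_U (hyy : y * y = ρ c) {F : Type*} [Field F] [Fintype F]
    (hF : Fintype.card F = 16) (P : Sylow 2 (Cfsg.PSU 3 F 4)) :
    Nonempty (T ≃* ↥(P : Subgroup (Cfsg.PSU 3 F 4))) := by
  have hF' : Fintype.card F = (2 ^ 2) ^ 2 := by rw [hF]; norm_num
  obtain ⟨ζ, hζ⟩ := Sp64M.exists_zeta hF
  obtain ⟨f, hf⟩ := g.exists_hom_modelU hyy (Inv2.ofCard hF') ζ hζ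
  have hP : Nat.card (Model (Inv2.ofCard hF')) = 64 := by
    rw [Model.card_model]; norm_num
  obtain ⟨e1⟩ := g.equiv_of_hom hP _ _ (z1_ne_one _ ζ hζ) (z2_ne_one _ ζ hζ)
    (z12_ne_one _ ζ hζ) f hf
  obtain ⟨e2⟩ := sylow_equiv_model (Inv2.ofCard hF') (P : Sylow 2 (Cfsg.PSU 3 F (2 ^ 2)))
  exact ⟨e1.trans e2⟩

end Gens

end Cfsg.Agent.Lib.Helper72.G4
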