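import Mathlib
import Cfsg.Agent.Lib.Helper72.G4ModelL
import Cfsg.Agent.Lib.Helper72.G4ModelU

/-!
The main theorem on `2`-groups `T` with a central four-group `V = C_T(t)` and an element `ρ` of
order three acting transitively on the involutions of `V`.
-/

set_option autoImplicit false
set_option maxHeartbeats 800000
set_option linter.unusedSectionVars false

open scoped commutatorElement

namespace Cfsg.Agent.Lib.Helper72.G4

open Cfsg.Agent.Lib.Helper72
open Cfsg.Agent.Lib.Helper72.Sp64 (fixedSub mem_fixedSub)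
open Cfsg.Agent.Lib.Helper72.R2

universe u

/-- the abstract form -/
theorem Setup.main {T : Type u} [Group T] [Finite T] {ρ τ : MulAut T} {V : Subgroup T}
    (h : Setup ρ τ V) :
    (Nat.card T = 16 ∧ ∀ x : T, x * x = 1) ∨
    (∃ n : ℕ, 1 ≤ n ∧
      Nonempty (T ≃* Multiplicative (ZMod (2 ^ n)) × Multiplicative (ZMod (2 ^ n)))) ∨
    (∃ (F : Type) (_ : Field F) (_ : Fintype F), Fintype.card F = 4 ∧
      ∀ P : Sylow 2 (Matrix.ProjectiveSpecialLinearGroup (Fin 3) F),
        Nonempty (T ≃* ↥(P : Subgroup (Matrix.ProjectiveSpecialLinearGroup (Fin 3) F)))) ∨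
    (∃ (F : Type) (_ : Field F) (_ : Fintype F), Fintype.card F = 16 ∧
      ∀ P : Sylow 2 (Cfsg.PSU 3 F 4), Nonempty (T ≃* ↥(P : Subgroup (Cfsg.PSU 3 F 4)))) := by
  classical
  have : Fact (Nat.Prime 2) := ⟨Nat.prime_two⟩
  by_cases hab : ∀ a b : T, a * b = b * a
  · rcases h.abelian_case hab with h16 | ⟨n, hn, ⟨e⟩⟩
    · exact Or.inl h16
    · exact Or.inr (Or.inl ⟨n, hn, ⟨e.trans (MulEquiv.prodMultiplicative _ _)⟩⟩)
  · push Not at hab
    obtain ⟨c, x, y, g, hyy | hyy⟩ := h.exists_gens hab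
    · right; right; left
      let _ : Fintype (GaloisField 2 2) := Fintype.ofFinite _
      have hc : Fintype.card (GaloisField 2 2) = 4 := by
        rw [Fintype.card_eq_nat_card, GaloisField.card 2 2 (by norm_num)]
        norm_num
      exact ⟨GaloisField 2 2, inferInstance, inferInstance, hc, fun P => g.equiv_L hyy hc P⟩
    · right; right; right
      let _ : Fintype (GaloisField 2 4) := Fintype.ofFinite _
      have hc : Fintype.card (GaloisField 2 4) = 16 := by
        rw [Fintype.card_eq_nat_card, GaloisField.card 2 4 (by norm_num)]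
        norm_num
      exact ⟨GaloisField 2 4, inferInstance, inferInstance, hc, fun P => g.equiv_U hyy hc P⟩

/-- conjugation by an element of the normalizer -/
def conjAut {G : Type*} [Group G] (T : Subgroup G) (g : G)
    (hg : g ∈ Subgroup.normalizer (T : Set G)) : MulAut ↥T where
  toFun x := ⟨g * x * g⁻¹, (Subgroup.mem_normalizer_iff.mp hg x).mp x.2⟩
  invFun x := ⟨g⁻¹ * x * g, (Subgroup.mem_normalizer_iff''.mp hg x).mp x.2⟩
  left_inv x := Subtype.ext (by
    change g⁻¹ * (g * (x : G) * g⁻¹) * g = x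
    group)
  right_inv x := Subtype.ext (by
    change g * (g⁻¹ * (x : G) * g) * g⁻¹ = x
    group)
  map_mul' x y := Subtype.ext (by
    change g * ((x : G) * (y : G)) * g⁻¹ = (g * (x : G) * g⁻¹) * (g * (y : G) * g⁻¹)
    group)

theorem conjAut_coe {G : Type*} [Group G] (T : Subgroup G) (g : G)
    (hg : g ∈ Subgroup.normalizer (T : Set G)) (x : ↥T) :
    ((conjAut T g hg x : ↥T) : G) = g * x * g⁻¹ := rfl

/-- the concrete form -/
theorem main_concrete {G : Type*} [Group G] [Finite G] (T V : Subgroup G) (hT : IsPGroup 2 ↥T)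
    (hVT : V ≤ T ⊓ Subgroup.centralizer (T : Set G))
    (hV : Nat.card ↥V = 4 ∧ ∀ v ∈ V, v ^ 2 = 1) (t ρ : G) (ht : orderOf t = 2)
    (hρ : orderOf ρ = 3)
    (htn : t ∈ Subgroup.normalizer (V : Set G) ⊓ Subgroup.normalizer (T : Set G))
    (hρn : ρ ∈ Subgroup.normalizer (V : Set G) ⊓ Subgroup.normalizer (T : Set G))
    (htρ : t * ρ = ρ * t) (htV : t ∈ Subgroup.centralizer (V : Set G))
    (hVρ : ⁅V, Subgroup.zpowers ρ⁆ = V)
    (hCt : T ⊓ Subgroup.centralizer ({t} : Set G) = V) :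
    (Nat.card ↥T = 16 ∧ ∀ x ∈ T, x ^ 2 = 1) ∨
    (∃ n : ℕ, 1 ≤ n ∧
      Nonempty (↥T ≃* Multiplicative (ZMod (2 ^ n)) × Multiplicative (ZMod (2 ^ n)))) ∨
    (∃ (F : Type) (_ : Field F) (_ : Fintype F), Fintype.card F = 4 ∧
      ∀ P : Sylow 2 (Matrix.ProjectiveSpecialLinearGroup (Fin 3) F),
        Nonempty (↥T ≃* ↥(P : Subgroup (Matrix.ProjectiveSpecialLinearGroup (Fin 3) F)))) ∨
    (∃ (F : Type) (_ : Field F) (_ : Fintype F), Fintype.card F = 16 ∧
      ∀ P : Sylow 2 (Cfsg.PSU 3 F 4), Nonempty (↥T ≃* ↥(P : Subgroup (Cfsg.PSU 3 F 4)))) := by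
  classical
  have hρ3 : ρ ^ 3 = 1 := by rw [← hρ]; exact pow_orderOf_eq_one ρ
  have ht2 : t ^ 2 = 1 := by rw [← ht]; exact pow_orderOf_eq_one t
  set ρ' := conjAut T ρ hρn.2 with hρ'
  set τ' := conjAut T t htn.2 with hτ'
  set V' := V.subgroupOf T with hV'
  have hVle : V ≤ T := fun v hv => (hVT hv).1
  have hmemV' : ∀ x : ↥T, x ∈ V' ↔ (x : G) ∈ V := fun x => Subgroup.mem_subgroupOf
  have hcardV' : Nat.card V' = 4 := by
    rw [← hV.1]
    exact Nat.card_congr (Subgroup.subgroupOfEquivOfLe hVle).toEquiv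
  have hρV : ∀ v ∈ V', ρ' v ∈ V' := by
    intro v hv
    rw [hmemV'] at hv ⊢
    exact (Subgroup.mem_normalizer_iff.mp hρn.1 v).mp hv
  have h3 : ρ' ^ 3 = 1 := by
    ext x
    rw [aut_cube_apply]
    change ρ * (ρ * (ρ * (x : G) * ρ⁻¹) * ρ⁻¹) * ρ⁻¹ = x
    have hρ3' : ρ * ρ * ρ = 1 := by rw [← hρ3, pow_succ, pow_two]
    calc ρ * (ρ * (ρ * (x : G) * ρ⁻¹) * ρ⁻¹) * ρ⁻¹ = (ρ * ρ * ρ) * x * (ρ * ρ * ρ)⁻¹ := by
          group
      _ = x := by rw [hρ3']; group
  have h2 : τ' ^ 2 = 1 := by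
    ext x
    rw [aut_sq_apply]
    change t * (t * (x : G) * t⁻¹) * t⁻¹ = x
    have ht2' : t * t = 1 := by rw [← ht2, pow_two]
    calc t * (t * (x : G) * t⁻¹) * t⁻¹ = (t * t) * x * (t * t)⁻¹ := by group
      _ = x := by rw [ht2']; group
  have hcomm : ∀ x : ↥T, ρ' (τ' x) = τ' (ρ' x) := by
    intro x
    apply Subtype.ext
    change ρ * (t * (x : G) * t⁻¹) * ρ⁻¹ = t * (ρ * (x : G) * ρ⁻¹) * t⁻¹
    calc ρ * (t * (x : G) * t⁻¹) * ρ⁻¹ = (ρ * t) * x * (ρ * t)⁻¹ := by group
      _ = (t * ρ) * x * (t * ρ)⁻¹ := by rw [htρ]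
      _ = _ := by group
  have hVc : V' ≤ Subgroup.center ↥T := by
    intro v hv
    rw [hmemV'] at hv
    rw [Subgroup.mem_center_iff]
    intro y
    apply Subtype.ext
    have h1 := Subgroup.mem_centralizer_iff.mp (hVT hv).2
    exact h1 y y.2
  have hfix : fixedSub τ' = V' := by
    ext x
    rw [mem_fixedSub, hmemV', ← hCt]
    constructor
    · intro hx
      refine ⟨x.2, ?_⟩
      apply Subgroup.mem_centralizer_iff.mpr
      intro g hg
      rw [Set.mem_singleton_iff] at hg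
      rw [hg]
      have h1 : t * (x : G) * t⁻¹ = x := congrArg Subtype.val hx
      calc t * (x : G) = (t * (x : G) * t⁻¹) * t := by group
        _ = x * t := by rw [h1]
    · rintro ⟨-, hx⟩
      have h1 := Subgroup.mem_centralizer_iff.mp hx t (Set.mem_singleton t)
      apply Subtype.ext
      change t * (x : G) * t⁻¹ = x
      rw [h1]; group
  have hVsq : ∀ v ∈ V', v * v = 1 := by
    intro v hv
    rw [hmemV'] at hv
    apply Subtype.ext
    change (v : G) * (v : G) = 1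
    rw [← pow_two]
    exact hV.2 v hv
  -- `ρ` has no non-trivial fixed point on `V`
  have hVfpf : ∀ v ∈ V', ρ' v = v → v = 1 := by
    intro v₀ hv₀ hfix₀
    by_contra hne
    have h5 : Nat.card ↥(V' ⊓ fixedSub ρ') ≡ 1 [MOD 3] := by
      have := card_modEq3 ρ' h3 V' hρV
      rw [hcardV'] at this
      exact this.symm
    have h6 : Nat.card ↥(V' ⊓ fixedSub ρ') ∣ 4 := by
      rw [← hcardV']
      exact Subgroup.card_dvd_of_le inf_le_left
    have h7 : Nat.card ↥(V' ⊓ fixedSub ρ') ≠ 1 := by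
      intro e
      rw [Subgroup.card_eq_one] at e
      apply hne
      have : v₀ ∈ V' ⊓ fixedSub ρ' := ⟨hv₀, hfix₀⟩
      rw [e, Subgroup.mem_bot] at this
      exact this
    have h8 := card_of_dvd_four h6 h5 h7
    have h9 : V' ⊓ fixedSub ρ' = V' := by
      apply Subgroup.eq_of_le_of_card_ge inf_le_left
      rw [h8, hcardV']
    have hall : ∀ v ∈ V, ρ * v * ρ⁻¹ = v := by
      intro v hv
      have h10 : (⟨v, hVle hv⟩ : ↥T) ∈ V' ⊓ fixedSub ρ' := by
        rw [h9, hmemV']; exact hv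
      exact congrArg Subtype.val h10.2
    have hbot : ⁅V, Subgroup.zpowers ρ⁆ = ⊥ := by
      rw [eq_bot_iff, Subgroup.commutator_le]
      intro v hv r hr
      rw [Subgroup.mem_bot, commutatorElement_eq_one_iff_mul_comm]
      obtain ⟨k, rfl⟩ := Subgroup.mem_zpowers_iff.mp hr
      have h11 : Commute ρ v := by
        have := hall v hv
        change ρ * v = v * ρ
        calc ρ * v = (ρ * v * ρ⁻¹) * ρ := by group
          _ = v * ρ := by rw [this]
      exact (h11.zpow_left k).symm.eq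
    rw [hbot] at hVρ
    have h12 := hV.1
    rw [← hVρ, Subgroup.card_bot] at h12
    omega
  have S : Setup ρ' τ' V' :=
    { isP := hT, h3 := h3, h2 := h2, comm := hcomm, Vc := hVc, V4 := hcardV', Vsq := hVsq,
      Vρ := hρV, Vfpf := hVfpf, fix := hfix }
  rcases S.main with ⟨h16, hsq⟩ | hrest
  · left
    refine ⟨h16, fun x hx => ?_⟩
    have := congrArg Subtype.val (hsq ⟨x, hx⟩)
    rw [pow_two]
    exact this
  · right
    exact hrest

end Cfsg.Agent.Lib.Helper72.G4
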