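import Mathlib
import Cfsg.Agent.Lib.Helper72.G4Main

/-!
A non-abelian group `T` of order `64` with a fixed-point-free automorphism `ρ` of order three
that is inverted by an involutory automorphism `x`: the centre has order four, `T` is the Sylow
`2`-subgroup of `L₃(4)`, and the fixed points of `x` form a non-abelian group of order eight.
-/

set_option autoImplicit false
set_option maxHeartbeats 800000
set_option linter.unusedSectionVars false

open scoped commutatorElement

namespace Cfsg.Agent.Lib.Helper72.G4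

open Cfsg.Agent.Lib.Helper72
open Cfsg.Agent.Lib.Helper72.Sp64 (fixedSub mem_fixedSub)
open Cfsg.Agent.Lib.Helper72.R2

universe u

/-- the centre of a non-abelian group of order `64` with a fixed-point-free automorphism of
order three has order four and contains all squares -/
theorem pre_center {T : Type u} [Group T] [Finite T] (hT : Nat.card T = 64)
    (hna : ∃ a b : T, a * b ≠ b * a) (ρ : MulAut T) (h3 : ρ ^ 3 = 1)
    (hfpf : ∀ t : T, ρ t = t → t = 1) :
    Pre ρ (Subgroup.center T) ∧ Nat.card (Subgroup.center T) = 4 := by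
  classical
  have : Fact (Nat.Prime 2) := ⟨Nat.prime_two⟩
  have hP : IsPGroup 2 T := IsPGroup.of_card (n := 6) (by rw [hT]; norm_num)
  have hZρ : ∀ v ∈ Subgroup.center T, ρ v ∈ Subgroup.center T := center_invariant ρ
  have hc2 : ∀ a b : T, ⁅a, b⁆ ∈ Subgroup.center T :=
    class_two (Nat.card T) T rfl hP ρ h3 hfpf
  have hZmod : Nat.card (Subgroup.center T) ≡ 1 [MOD 3] := by
    have := card_modEq3 ρ h3 (Subgroup.center T) hZρ
    have hb : Nat.card ↥(Subgroup.center T ⊓ fixedSub ρ) = 1 := by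
      rw [Subgroup.card_eq_one, eq_bot_iff]
      intro t ht
      rw [Subgroup.mem_bot]
      exact hfpf t ht.2
    rwa [hb] at this
  have hZne1 : Nat.card (Subgroup.center T) ≠ 1 := by
    intro e
    rw [Subgroup.card_eq_one] at e
    obtain ⟨a, b, hab⟩ := hna
    apply hab
    have h1 := hc2 a b
    rw [e, Subgroup.mem_bot, commutatorElement_eq_one_iff_mul_comm] at h1
    exact h1
  have hZpos : 0 < Nat.card (Subgroup.center T) := Nat.card_pos
  have hZ4 : 4 ≤ Nat.card (Subgroup.center T) := by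
    unfold Nat.ModEq at hZmod
    omega
  have hidx := Subgroup.card_eq_card_quotient_mul_card_subgroup (Subgroup.center T)
  rw [hT] at hidx
  have hW16 : Nat.card (T ⧸ Subgroup.center T) ≤ 16 := by
    by_contra hlt
    push Not at hlt
    nlinarith
  have hWcomm : ∀ a b : T ⧸ Subgroup.center T, a * b = b * a := by
    intro a b
    induction a using QuotientGroup.induction_on with
    | H x =>
    induction b using QuotientGroup.induction_on with
    | H y =>
    rw [← QuotientGroup.mk_mul, ← QuotientGroup.mk_mul]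
    apply QuotientGroup.eq.mpr
    have h1 : (x * y)⁻¹ * (y * x) = ⁅y⁻¹, x⁻¹⁆ := by
      rw [commutatorElement_def]; group
    rw [h1]
    exact hc2 _ _
  have hfpf' : ∀ w : T ⧸ Subgroup.center T, quotAut ρ (Subgroup.center T) hZρ w = w → w = 1 := by
    intro w hw
    induction w using QuotientGroup.induction_on with
    | H t =>
    rw [quotAut_mk] at hw
    have h1 : t⁻¹ * ρ t ∈ Subgroup.center T := QuotientGroup.eq.mp hw.symm
    exact (QuotientGroup.eq_one_iff _).mpr (fpf_quot hP ρ h3 hfpf _ hZρ h1)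
  let _ : CommGroup (T ⧸ Subgroup.center T) :=
    { (inferInstance : Group (T ⧸ Subgroup.center T)) with mul_comm := hWcomm }
  let s : (T ⧸ Subgroup.center T) →* (T ⧸ Subgroup.center T) := powMonoidHom 2
  have hs : ∀ m : T ⧸ Subgroup.center T, s m = m * m := fun m => pow_two m
  have hmemΩ : ∀ m : T ⧸ Subgroup.center T, m ∈ s.ker ↔ m * m = 1 := by
    intro m
    rw [MonoidHom.mem_ker, hs]
  have hΩρ : ∀ d ∈ s.ker, quotAut ρ (Subgroup.center T) hZρ d ∈ s.ker := by
    intro d hd
    rw [hmemΩ] at hd ⊢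
    rw [← map_mul, hd, map_one]
  have hΩmod : Nat.card s.ker ≡ 1 [MOD 3] := by
    have := card_modEq3 (quotAut ρ (Subgroup.center T) hZρ)
      (quotAut_pow_eq_one ρ (Subgroup.center T) hZρ h3) s.ker hΩρ
    have hb : Nat.card ↥(s.ker ⊓ fixedSub (quotAut ρ (Subgroup.center T) hZρ)) = 1 := by
      rw [Subgroup.card_eq_one, eq_bot_iff]
      intro t ht
      rw [Subgroup.mem_bot]
      exact hfpf' t ht.2
    rwa [hb] at this
  obtain ⟨k, hk⟩ := IsPGroup.iff_card.mp ((hP.to_quotient (Subgroup.center T)).to_subgroup s.ker)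
  have hΩle : Nat.card s.ker ≤ Nat.card (T ⧸ Subgroup.center T) := Subgroup.card_le_card_group _
  rw [hk] at hΩmod hΩle
  rcases pow_cases (le_trans hΩle hW16) hΩmod with h4 | h16
  · exfalso
    obtain ⟨a, b, hab⟩ := hna
    rw [← hk] at h4
    exact hab (abelian_of_quot hP ρ h3 hfpf (Subgroup.center T) le_rfl hZρ hc2 s.ker h4
      (fun b hb => (hmemΩ b).mpr hb) a b)
  · have hW : Nat.card (T ⧸ Subgroup.center T) = 16 := by omega
    have hZc : Nat.card (Subgroup.center T) = 4 := by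
      rw [hW] at hidx
      omega
    have htop : s.ker = ⊤ := by
      apply Subgroup.eq_top_of_card_eq
      rw [hk, h16, hW]
    refine ⟨?_, hZc⟩
    exact
      { isP := hP
        h3 := h3
        fpf := hfpf
        central := le_rfl
        inv := hZρ
        comm_mem := hc2
        sq_mem := fun a => (QuotientGroup.eq_one_iff (a * a)).mp (by
          rw [QuotientGroup.mk_mul]
          apply (hmemΩ _).mp
          rw [htop]
          exact Subgroup.mem_top _)
        card := by rw [hT, hZc] }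

/-- an invariant subgroup of order four without fixed points is elementary abelian -/
theorem four_sq {T : Type u} [Group T] [Finite T] (ρ : MulAut T) (h3 : ρ ^ 3 = 1)
    (V : Subgroup T) (hV4 : Nat.card V = 4) (hVρ : ∀ v ∈ V, ρ v ∈ V)
    (hVfpf : ∀ v ∈ V, ρ v = v → v = 1) : ∀ v ∈ V, v * v = 1 := by
  intro v hv
  by_cases hv1 : v = 1
  · rw [hv1, one_mul]
  have hcube : ∀ t : T, ρ (ρ (ρ t)) = t := by
    intro t
    rw [← aut_cube_apply, h3]; rfl
  have h4 : v * v * (v * v) = 1 := by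
    have h5 : (⟨v, hv⟩ : V) ^ Nat.card V = 1 := pow_card_eq_one'
    rw [hV4] at h5
    have h6 := congrArg (fun w : V => (w : T)) h5
    simp only [Subgroup.coe_pow, Subgroup.coe_one] at h6
    rw [← h6]
    simp only [pow_succ, pow_zero, one_mul, mul_assoc]
  have n1 : ρ v ≠ 1 := by
    intro e
    apply hv1
    apply ρ.injective
    rw [e, map_one]
  have n2 : ρ (ρ v) ≠ 1 := by
    intro e
    apply n1
    apply ρ.injective
    rw [e, map_one]
  rcases four_cases ρ h3 V hV4 hVρ hVfpf hv hv1 (v * v) (V.mul_mem hv hv) with e | e | e | e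
  · exact e
  · exfalso
    apply hv1
    have : v * v = v * 1 := by rw [mul_one]; exact e
    exact mul_left_cancel this
  · exfalso
    have h5 : ρ (v * v) = 1 := by rw [map_mul, ← e]; exact h4
    have h6 : v * v = 1 := by apply ρ.injective; rw [h5, map_one]
    exact n1 (by rw [← e]; exact h6)
  · exfalso
    have h5 : ρ (ρ (v * v)) = 1 := by rw [map_mul, map_mul, ← e]; exact h4
    have h6 : v * v = 1 := by
      apply ρ.injective; apply ρ.injective; rw [h5, map_one, map_one]
    exact n2 (by rw [← e]; exact h6)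

/-- generators from the two defining relations -/
theorem Gens.of_rel {T : Type u} [Group T] [Finite T] {ρ : MulAut T} {V : Subgroup T}
    (P : Pre ρ V) (cardV : Nat.card V = 4) (Vsq : ∀ v ∈ V, v * v = 1) {c a b : T}
    (c_mem : c ∈ V) (c_ne : c ≠ 1) (xx : a * a = c) (xy : ⁅a, b⁆ = c) : Gens ρ V c a b := by
  have hHle : HH ρ V a ≤ Subgroup.centralizer ({a} : Set T) := by
    unfold HH
    apply sup_le
    · apply sup_le
      · intro v hv
        rw [Subgroup.mem_centralizer_iff]
        intro g hg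
        rw [Set.mem_singleton_iff] at hg
        rw [hg]
        exact P.cen hv a
      · rw [Subgroup.zpowers_le, Subgroup.mem_centralizer_iff]
        intro g hg
        rw [Set.mem_singleton_iff] at hg
        rw [hg]
    · rw [Subgroup.zpowers_le, Subgroup.mem_centralizer_iff]
      intro g hg
      rw [Set.mem_singleton_iff] at hg
      rw [hg]
      exact fpf_comm ρ P.h3 P.fpf a
  exact
    { pre := P
      cardV := cardV
      Vsq := Vsq
      c_mem := c_mem
      c_ne := c_ne
      hx := fun ha => c_ne (by rw [← xx]; exact Vsq a ha)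
      hy := by
        intro hm
        have h1 := hHle hm
        rw [Subgroup.mem_centralizer_iff] at h1
        have h2 := h1 a (Set.mem_singleton a)
        apply c_ne
        rw [← xy, commutatorElement_eq_one_iff_mul_comm]
        exact h2
      xx := xx
      xy := xy }

/-- a computation in an elementary abelian quotient -/
theorem quot_calc {W : Type*} [Group W] (hcomm : ∀ a b : W, a * b = b * a)
    (hsq : ∀ a : W, a * a = 1) (m n R S : W) (h : m * n * R * S = 1) :
    R * m⁻¹ * n * S⁻¹ = 1 := by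
  rw [inv_eq_of_mul_eq_one_left (hsq m), inv_eq_of_mul_eq_one_left (hsq S)]
  calc R * m * n * S = R * (m * n) * S := by group
    _ = (m * n) * R * S := by rw [hcomm R (m * n)]
    _ = 1 := h

namespace Pre

variable {T : Type u} [Group T] [Finite T] {ρ : MulAut T} {Z : Subgroup T} (h : Pre ρ Z)
include h

theorem normal : Z.Normal := ⟨fun n hn g => by
  have := Subgroup.mem_center_iff.mp (h.central hn) g
  rw [this, mul_inv_cancel_right]; exact hn⟩

theorem quot_comm [Z.Normal] : ∀ a b : T ⧸ Z, a * b = b * a := by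
  intro a b
  induction a using QuotientGroup.induction_on with
  | H x =>
  induction b using QuotientGroup.induction_on with
  | H y =>
  rw [← QuotientGroup.mk_mul, ← QuotientGroup.mk_mul]
  apply QuotientGroup.eq.mpr
  have h1 : (x * y)⁻¹ * (y * x) = ⁅y⁻¹, x⁻¹⁆ := by
    rw [commutatorElement_def]; group
  rw [h1]
  exact h.comm_mem _ _

theorem quot_sq [Z.Normal] : ∀ a : T ⧸ Z, a * a = 1 := by
  intro a
  induction a using QuotientGroup.induction_on with
  | H x =>
  rw [← QuotientGroup.mk_mul]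
  exact (QuotientGroup.eq_one_iff _).mpr (h.sq_mem x)

end Pre

/-- the configuration with an involutory automorphism `x` inverting `ρ` -/
structure Sym {T : Type*} [Group T] (ρ x : MulAut T) (Z : Subgroup T) (c : T) : Prop where
  pre : Pre ρ Z
  cardZ : Nat.card Z = 4
  Zsq : ∀ v ∈ Z, v * v = 1
  xx : ∀ t : T, x (x t) = t
  xρ : ∀ t : T, x (ρ t) = ρ (ρ (x t))
  c_mem : c ∈ Z
  c_ne : c ≠ 1
  xc : x c = c

namespace Sym

variable {T : Type u} [Group T] [Finite T] {ρ x : MulAut T} {Z : Subgroup T} {c : T}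
  (h : Sym ρ x Z c)
include h

theorem Zfpf : ∀ v ∈ Z, ρ v = v → v = 1 := fun v _ hv => h.pre.fpf v hv

theorem n1 : c * ρ c * ρ (ρ c) = 1 := fpf_n1 ρ h.pre.h3 h.pre.fpf c

theorem rho_c_mem : ρ c ∈ Z := h.pre.inv c h.c_mem

/-- `c * ρ² c = ρ c` -/
theorem c_mul : c * ρ (ρ c) = ρ c := by
  have h1 := h.n1
  have h2 : ρ c * ρ c = 1 := h.Zsq _ h.rho_c_mem
  have h3 : c * ρ c = ρ c * c := h.pre.cen h.rho_c_mem c
  calc c * ρ (ρ c) = (ρ c * ρ c) * (c * ρ (ρ c)) := by rw [h2, one_mul]
    _ = ρ c * (ρ c * c * ρ (ρ c)) := by group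
    _ = ρ c * (c * ρ c * ρ (ρ c)) := by rw [h3]
    _ = ρ c := by rw [h1, mul_one]

/-- the fixed points of `x` on `Z` -/
theorem fixZ : ∀ z ∈ Z, x z = z → z = 1 ∨ z = c := by
  intro z hz hxz
  have hcube := h.pre.cube
  rcases four_cases ρ h.pre.h3 Z h.cardZ h.pre.inv h.Zfpf h.c_mem h.c_ne z hz with e | e | e | e
  · left; exact e
  · right; exact e
  · exfalso
    rw [e, h.xρ, h.xc] at hxz
    have : ρ c = c := ρ.injective hxz
    exact h.c_ne (h.pre.fpf c this)
  · exfalso
    rw [e, h.xρ, h.xρ, h.xc, hcube] at hxz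
    have : c = ρ c := ρ.injective hxz
    exact h.c_ne (h.pre.fpf c this.symm)

/-- lifting fixed points modulo `Z` -/
theorem lift (s : T) (hs : s⁻¹ * x s ∈ Z) : ∃ z ∈ Z, x (s * z) = s * z := by
  have hxs : x s = s * (s⁻¹ * x s) := by group
  have hxz0 : x (s⁻¹ * x s) = s⁻¹ * x s := by
    have h2 : (s⁻¹ * x s)⁻¹ = s⁻¹ * x s := inv_eq_of_mul_eq_one_left (h.Zsq _ hs)
    rw [map_mul, map_inv, h.xx]
    rw [← h2]
    group
  rcases h.fixZ _ hs hxz0 with e | e
  · refine ⟨1, Z.one_mem, ?_⟩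
    rw [mul_one, hxs, e, mul_one]
  · refine ⟨ρ c, h.rho_c_mem, ?_⟩
    rw [map_mul, hxs, e, h.xρ, h.xc, mul_assoc, h.c_mul]

/-- every element is a product of a fixed point, the image of a fixed point, and an element of
`Z` -/
theorem decomp (t : T) : ∃ a b z, x a = a ∧ x b = b ∧ z ∈ Z ∧ t = a * ρ b * z := by
  have : Z.Normal := h.pre.normal
  have hWcomm := h.pre.quot_comm
  have hWsq := h.pre.quot_sq
  obtain ⟨z1, hz1, hb⟩ := h.lift (t * x t) (by
    rw [map_mul, h.xx]
    have h1 : (t * x t)⁻¹ * (x t * t) = ⁅(x t)⁻¹, t⁻¹⁆ := by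
      rw [commutatorElement_def]; group
    rw [h1]; exact h.pre.comm_mem _ _)
  have key : (t * (ρ (t * x t * z1))⁻¹)⁻¹ * x (t * (ρ (t * x t * z1))⁻¹) ∈ Z := by
    have e1 : (t * (ρ (t * x t * z1))⁻¹)⁻¹ * x (t * (ρ (t * x t * z1))⁻¹) =
        ρ (t * x t * z1) * t⁻¹ * x t * (ρ (ρ (t * x t * z1)))⁻¹ := by
      rw [map_mul x, map_inv x, h.xρ, hb]; group
    rw [e1]
    apply (QuotientGroup.eq_one_iff _).mp
    rw [QuotientGroup.mk_mul, QuotientGroup.mk_mul, QuotientGroup.mk_mul, QuotientGroup.mk_inv,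
      QuotientGroup.mk_inv]
    apply quot_calc hWcomm hWsq
    have e2 : ((t : T) : T ⧸ Z) * ((x t : T) : T ⧸ Z) = ((t * x t * z1 : T) : T ⧸ Z) := by
      rw [QuotientGroup.mk_mul Z (t * x t) z1, QuotientGroup.mk_mul,
        (QuotientGroup.eq_one_iff z1).mpr hz1, mul_one]
    rw [e2, ← QuotientGroup.mk_mul, ← QuotientGroup.mk_mul,
      fpf_n1 ρ h.pre.h3 h.pre.fpf (t * x t * z1)]
    rfl
  obtain ⟨z2, hz2, ha⟩ := h.lift _ key
  refine ⟨_, _, z2⁻¹, ha, hb, Z.inv_mem hz2, ?_⟩
  have hcen : z2 * ρ (t * x t * z1) = ρ (t * x t * z1) * z2 :=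
    (h.pre.cen hz2 (ρ (t * x t * z1))).symm
  rw [mul_assoc (t * (ρ (t * x t * z1))⁻¹) z2, hcen]
  group

/-- two fixed points of `x` with commutator `c` -/
theorem exists_noncomm (hna : ∃ a b : T, a * b ≠ b * a) :
    ∃ u v : T, x u = u ∧ x v = v ∧ ⁅u, v⁆ = c := by
  by_contra hcon
  push Not at hcon
  have P := h.pre
  have hc := P.comm_central
  have hC : ∀ u v : T, x u = u → x v = v → ⁅u, v⁆ = 1 := by
    intro u v hu hv
    have h1 : x ⁅u, v⁆ = ⁅u, v⁆ := by rw [map_commutatorElement, hu, hv]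
    rcases h.fixZ _ (P.comm_mem u v) h1 with e | e
    · exact e
    · exact absurd e (hcon u v hu hv)
  have hK : ∀ u v : T, x u = u → x v = v → ⁅u, ρ v⁆ = 1 := by
    intro u v hu hv
    have h1 := (P.relations u v).1
    rw [hC u v hu hv] at h1
    apply ρ.injective
    rw [← h1, map_one]
  obtain ⟨s, t, hst⟩ := hna
  apply hst
  rw [← commutatorElement_eq_one_iff_mul_comm]
  obtain ⟨a, b, z, ha, hb, hz, rfl⟩ := h.decomp s
  obtain ⟨a', b', z', ha', hb', hz', rfl⟩ := h.decomp t
  have t1 : ⁅a, a'⁆ = 1 := hC a a' ha ha'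
  have t2 : ⁅a, ρ b'⁆ = 1 := hK a b' ha hb'
  have t3 : ∀ w : T, ⁅w, z'⁆ = 1 := by
    intro w
    rw [P.comm_symm z' w]
    exact P.comm_of_mem_left hz' w
  have t4 : ⁅ρ b, a'⁆ = 1 := by
    rw [← P.comm_psi b a']
    exact hK b a' hb ha'
  have t5 : ⁅ρ b, ρ b'⁆ = 1 := by
    rw [← map_commutatorElement, hC b b' hb hb', map_one]
  have t6 : ∀ w : T, ⁅z, w⁆ = 1 := fun w => P.comm_of_mem_left hz w
  simp only [Sp64.comm_mul_left hc, Sp64.comm_mul_right hc, t1, t2, t3, t4, t5, t6, mul_one]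

theorem sq_cases (u : T) (hu : x u = u) : u * u = 1 ∨ u * u = c :=
  h.fixZ (u * u) (h.pre.sq_mem u) (by rw [map_mul, hu])

/-- generators with `b² = 1` -/
theorem exists_gens (hna : ∃ a b : T, a * b ≠ b * a) :
    ∃ a b : T, Gens ρ Z c a b ∧ b * b = 1 := by
  obtain ⟨u, v, hu, hv, huv⟩ := h.exists_noncomm hna
  have P := h.pre
  have mk : ∀ a b : T, a * a = c → ⁅a, b⁆ = c → Gens ρ Z c a b := fun a b xx xy =>
    Gens.of_rel P h.cardZ h.Zsq h.c_mem h.c_ne xx xy
  have c01 : ∀ a : T, ⁅a, ρ a⁆ = 1 := by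
    intro a
    rw [commutatorElement_eq_one_iff_mul_comm]
    exact fpf_comm ρ P.h3 P.fpf a
  have hcc : c * c = 1 := h.Zsq c h.c_mem
  rcases h.sq_cases u hu with eu | eu <;> rcases h.sq_cases v hv with ev | ev
  · refine ⟨u * v, v, mk _ _ ?_ ?_, ev⟩
    · rw [mul_sq_of_central u v (P.comm_central _ _), eu, ev, mul_one, mul_one, P.comm_symm,
        huv]
    · rw [Sp64.comm_mul_left P.comm_central, huv, commutatorElement_self, mul_one]
  · exact ⟨v, u, mk _ _ ev (by rw [P.comm_symm]; exact huv), eu⟩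
  · exact ⟨u, v, mk _ _ eu huv, ev⟩
  · refine ⟨u, v * ρ u, mk _ _ eu ?_, ?_⟩
    · rw [Sp64.comm_mul_right P.comm_central, huv, c01, mul_one]
    · obtain ⟨r1, r2, -⟩ := P.relations u v
      have hd : ⁅u, ρ v⁆ = ρ (ρ c) := by
        rw [← huv, r1, P.cube]
      have hcen2 : ρ (ρ c) * (c * ρ c) = (c * ρ c) * ρ (ρ c) :=
        P.cen (Z.mul_mem h.c_mem h.rho_c_mem) _
      rw [mul_sq_of_central v (ρ u) (P.comm_central _ _), r2, hd, ← map_mul, eu, ev, mul_assoc,
        hcen2, h.n1]

/-- the fixed points of `x` number at most eight -/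
theorem card_fix_le (hT : Nat.card T = 64) (C : Subgroup T) (hC : ∀ y : T, y ∈ C ↔ x y = y) :
    Nat.card C ≤ 8 := by
  have hinj : Function.Injective (fun p : C × C => (p.1 : T) * ρ (p.2 : T)) := by
    rintro ⟨a, b⟩ ⟨a', b'⟩ hab
    simp only at hab
    have h1 : (a' : T)⁻¹ * a = ρ ((b' : T) * (b : T)⁻¹) := by
      rw [map_mul, map_inv]
      calc (a' : T)⁻¹ * a = (a' : T)⁻¹ * (a * ρ b) * (ρ (b : T))⁻¹ := by group
        _ = (a' : T)⁻¹ * (a' * ρ b') * (ρ (b : T))⁻¹ := by rw [hab]
        _ = ρ b' * (ρ (b : T))⁻¹ := by group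
    have hw : x ((b' : T) * (b : T)⁻¹) = (b' : T) * (b : T)⁻¹ :=
      (hC _).mp (C.mul_mem b'.2 (C.inv_mem b.2))
    have hρw : x (ρ ((b' : T) * (b : T)⁻¹)) = ρ ((b' : T) * (b : T)⁻¹) := by
      rw [← h1]; exact (hC _).mp (C.mul_mem (C.inv_mem a'.2) a.2)
    rw [h.xρ, hw] at hρw
    have hw1 : (b' : T) * (b : T)⁻¹ = 1 := h.pre.fpf _ (ρ.injective hρw)
    have hb : (b : T) = b' := (mul_inv_eq_one.mp hw1).symm
    have ha : (a : T) = a' := by
      rw [hw1, map_one] at h1
      exact (inv_mul_eq_one.mp h1).symm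
    exact Prod.ext (Subtype.ext ha) (Subtype.ext hb)
  have h1 := Nat.card_le_card_of_injective _ hinj
  rw [Nat.card_prod, hT] at h1
  nlinarith

end Sym

end Cfsg.Agent.Lib.Helper72.G4
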