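import Mathlib
import Cfsg.Agent.Lib.Helper72.G4Sym
import Cfsg.Agent.Lib.Helper66.DihedralIso
import Cfsg.Agent.Lib.Helper07.QuatEmbed

/-!
The fixed points of the involutory automorphism `x` on the Sylow `2`-subgroup of `L₃(4)`: a
dihedral or quaternion group of order eight.
-/

set_option autoImplicit false
set_option maxHeartbeats 800000
set_option linter.unusedSectionVars false

open scoped commutatorElement

namespace Cfsg.Agent.Lib.Helper72.G4

open Cfsg.Agent.Lib.Helper72
open Cfsg.Agent.Lib.Helper72.R2

universe u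

/-- a subgroup of order at most eight containing two involutions whose product has order four
is dihedral -/
theorem dih_of_pair {T : Type u} [Group T] [Finite T] (C : Subgroup T) (hC8 : Nat.card C ≤ 8)
    {s s' : T} (hs : s ∈ C) (hs' : s' ∈ C) (os : orderOf s = 2) (os' : orderOf s' = 2)
    (o4 : orderOf (s * s') = 4) : Nonempty (C ≃* DihedralGroup 4) := by
  have hle : Subgroup.closure ({s, s'} : Set T) ≤ C := by
    rw [Subgroup.closure_le]
    intro y hy
    rcases hy with rfl | rfl
    · exact hs
    · exact hs'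
  have hcard := Cfsg.Agent.Lib.Helper66.card_closure_pair os os'
  rw [o4] at hcard
  have heq : Subgroup.closure ({s, s'} : Set T) = C := by
    apply Subgroup.eq_of_le_of_card_ge hle
    rw [hcard]; exact hC8
  obtain ⟨e⟩ := Cfsg.Agent.Lib.Helper66.nonempty_closure_pair_equiv_dihedral os os'
  rw [o4] at e
  exact ⟨(MulEquiv.subgroupCongr heq.symm).trans e⟩

/-- a subgroup of order at most eight containing quaternion generators is quaternion -/
theorem quat_of_pair {T : Type u} [Group T] [Finite T] (C : Subgroup T) (hC8 : Nat.card C ≤ 8)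
    {a w : T} (ha : a ∈ C) (hw : w ∈ C) (o4 : orderOf a = 2 * 2) (hww : w * w = a ^ 2)
    (hwa : w * a = a⁻¹ * w) : Nonempty (C ≃* QuaternionGroup 2) := by
  have hc : a ^ (2 * 2) = 1 := by rw [← o4]; exact pow_orderOf_eq_one a
  have hinj : Function.Injective (Cfsg.Agent.Lib.Helper07.quatHom a w hc hww hwa) :=
    Cfsg.Agent.Lib.Helper07.quatHom_injective a w le_rfl o4 hww hwa
  have hle : (Cfsg.Agent.Lib.Helper07.quatHom a w hc hww hwa).range ≤ C := by
    rintro _ ⟨q, rfl⟩
    cases q with
    | a i =>
      rw [Cfsg.Agent.Lib.Helper07.quatHom_a]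
      exact C.pow_mem ha _
    | xa i =>
      rw [Cfsg.Agent.Lib.Helper07.quatHom_xa]
      exact C.mul_mem hw (C.pow_mem ha _)
  have hcard : Nat.card (Cfsg.Agent.Lib.Helper07.quatHom a w hc hww hwa).range = 8 := by
    rw [← Nat.card_congr (MonoidHom.ofInjective hinj).toEquiv, Nat.card_eq_fintype_card,
      QuaternionGroup.card]
  have heq : (Cfsg.Agent.Lib.Helper07.quatHom a w hc hww hwa).range = C := by
    apply Subgroup.eq_of_le_of_card_ge hle
    rw [hcard]; exact hC8
  exact ⟨(MulEquiv.subgroupCongr heq.symm).trans (MonoidHom.ofInjective hinj).symm⟩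

namespace Sym

variable {T : Type u} [Group T] [Finite T] {ρ x : MulAut T} {Z : Subgroup T} {c : T}
  (h : Sym ρ x Z c)
include h

/-- the fixed points of `x` form a dihedral or quaternion group of order eight -/
theorem fix_equiv (hT : Nat.card T = 64) (hna : ∃ a b : T, a * b ≠ b * a) (C : Subgroup T)
    (hC : ∀ y : T, y ∈ C ↔ x y = y) :
    Nonempty (C ≃* DihedralGroup 4) ∨ Nonempty (C ≃* QuaternionGroup 2) := by
  have : Fact (Nat.Prime 2) := ⟨Nat.prime_two⟩
  have hC8 := h.card_fix_le hT C hC
  obtain ⟨u, v, hu, hv, huv⟩ := h.exists_noncomm hna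
  have P := h.pre
  have huC : u ∈ C := (hC u).mpr hu
  have hvC : v ∈ C := (hC v).mpr hv
  have hcc : c * c = 1 := h.Zsq c h.c_mem
  have hu1 : u ≠ 1 := by
    intro e
    apply h.c_ne
    rw [← huv, e, commutatorElement_one_left]
  have hv1 : v ≠ 1 := by
    intro e
    apply h.c_ne
    rw [← huv, e, commutatorElement_one_right]
  -- order four from square `c`
  have o4 : ∀ g : T, g * g = c → orderOf g = 4 := by
    intro g hg
    have h1 : ¬ g ^ 2 ^ 1 = 1 := by
      rw [pow_one, pow_two, hg]; exact h.c_ne
    have h2 : g ^ 2 ^ (1 + 1) = 1 := by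
      have : g ^ 2 ^ (1 + 1) = (g * g) * (g * g) := by
        norm_num
        simp only [pow_succ, pow_zero, one_mul, mul_assoc]
      rw [this, hg, hcc]
    have := orderOf_eq_prime_pow h1 h2
    rw [this]; norm_num
  have o2 : ∀ g : T, g * g = 1 → g ≠ 1 → orderOf g = 2 := by
    intro g hg hg1
    exact orderOf_eq_prime (by rw [pow_two]; exact hg) hg1
  have hvu : ⁅v, u⁆ = c := by rw [P.comm_symm]; exact huv
  rcases h.sq_cases u hu with eu | eu <;> rcases h.sq_cases v hv with ev | ev
  · -- both involutions
    left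
    apply dih_of_pair C hC8 huC hvC (o2 u eu hu1) (o2 v ev hv1)
    apply o4
    rw [mul_sq_of_central u v (P.comm_central _ _), eu, ev, mul_one, mul_one, hvu]
  · -- `u` an involution, `v` of order four
    left
    have huv2 : (u * v) * (u * v) = 1 := by
      rw [mul_sq_of_central u v (P.comm_central _ _), eu, ev, mul_one, hvu, hcc]
    have huv1 : u * v ≠ 1 := by
      intro e
      apply h.c_ne
      have e' : v = u⁻¹ := (inv_eq_of_mul_eq_one_right e).symm
      rw [← huv, e', commutatorElement_def]; group
    have e : u * (u * v) = v := by rw [← mul_assoc, eu, one_mul]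
    exact dih_of_pair C hC8 huC (C.mul_mem huC hvC) (o2 u eu hu1) (o2 _ huv2 huv1)
      (by rw [e]; exact o4 v ev)
  · -- `v` an involution, `u` of order four
    left
    have hvu2 : (v * u) * (v * u) = 1 := by
      rw [mul_sq_of_central v u (P.comm_central _ _), eu, ev, mul_one, huv, hcc]
    have hvu1 : v * u ≠ 1 := by
      intro e
      apply h.c_ne
      have e' : u = v⁻¹ := (inv_eq_of_mul_eq_one_right e).symm
      rw [← huv, e', commutatorElement_def]; group
    have e : v * (v * u) = u := by rw [← mul_assoc, ev, one_mul]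
    exact dih_of_pair C hC8 hvC (C.mul_mem hvC huC) (o2 v ev hv1) (o2 _ hvu2 hvu1)
      (by rw [e]; exact o4 u eu)
  · -- both of order four
    right
    apply quat_of_pair C hC8 huC hvC (by rw [o4 u eu]) (by rw [pow_two, eu, ev])
    -- `v * u = u⁻¹ * v`
    have h1 : v * u = ⁅v, u⁆ * u * v := by rw [commutatorElement_def]; group
    have h2 : u⁻¹ = c * u := by
      apply inv_eq_of_mul_eq_one_left
      rw [mul_assoc, eu, hcc]
    rw [h1, hvu, h2]

end Sym

end Cfsg.Agent.Lib.Helper72.G4
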