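import Mathlib
import Cfsg.Agent.Lib.Helper72.Basic
import Cfsg.Agent.Lib.Helper01.Basic
import Cfsg.Agent.Lib.Helper01.Hall

set_option autoImplicit false

namespace Cfsg.Agent.Lib.Helper72

open Cfsg.Agent.Lib.Helper01
open scoped Pointwise

/-- element form of `π'`-homogeneity: `q`-elements (`q ∈ π`) normalizing an `s`-subgroup
(`s ∉ π`) centralize it. -/
def HomStar (π : Set ℕ) (G : Type*) [Group G] : Prop :=
  ∀ (q s : ℕ), q.Prime → q ∈ π → s.Prime → s ∉ π → ∀ (x : G) (S : Subgroup G),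
    (∃ k : ℕ, x ^ q ^ k = 1) → IsPGroup s S → x ∈ Subgroup.normalizer (S : Set G) →
      ∀ y ∈ S, x * y = y * x

theorem mem_normalizer_of_conj_mem {G : Type*} [Group G] [Finite G] (H : Subgroup G) (g : G)
    (h : ∀ v ∈ H, g * v * g⁻¹ ∈ H) : g ∈ Subgroup.normalizer (H : Set G) := by
  rw [mem_normalizer_iff_conj_smul]
  apply Subgroup.eq_of_le_of_card_ge
  · rintro v ⟨u, hu, rfl⟩
    exact h u hu
  · rw [card_conj_smul]

theorem homStar_of_hhom {π : Set ℕ} {G : Type*} [Group G] [Finite G]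
    (hhom : ∀ H : Subgroup G, H ≠ ⊥ → (∀ p : ℕ, p.Prime → p ∣ Nat.card ↥H → p ∉ π) →
        ∀ p : ℕ, p.Prime → p ∣ (Subgroup.centralizer (H : Set G)).relIndex
          (Subgroup.normalizer (H : Set G)) → p ∉ π) : HomStar π G := by
  intro q s hq hqπ hs hsπ x S ⟨k, hk⟩ hS hx y hy
  by_cases hSb : S = ⊥
  · rw [hSb, Subgroup.mem_bot] at hy
    rw [hy, mul_one, one_mul]
  have : Fact s.Prime := ⟨hs⟩
  have h1 : ∀ p : ℕ, p.Prime → p ∣ Nat.card S → p ∉ π := by
    intro p hp hpS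
    obtain ⟨j, hj⟩ := hS.exists_card_eq
    rw [hj] at hpS
    rw [(Nat.prime_dvd_prime_iff_eq hp hs).mp (hp.dvd_of_dvd_pow hpS)]
    exact hsπ
  have hnd : ¬ q ∣ (Subgroup.centralizer (S : Set G)).relIndex (Subgroup.normalizer (S : Set G)) :=
    fun h => hhom S hSb h1 q hq h hqπ
  let φ := S.normalizerMonoidHom
  let x' : Subgroup.normalizer (S : Set G) := ⟨x, hx⟩
  have hidx : φ.ker.index = (Subgroup.centralizer (S : Set G)).relIndex
      (Subgroup.normalizer (S : Set G)) := by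
    rw [Subgroup.normalizerMonoidHom_ker]; rfl
  have ho1 : orderOf (φ x') ∣ q ^ k := by
    apply orderOf_dvd_of_pow_eq_one
    rw [← map_pow]
    have : x' ^ q ^ k = 1 := Subtype.ext (by simpa using hk)
    rw [this, map_one]
  have ho2 : orderOf (φ x') ∣ φ.ker.index := by
    rw [Subgroup.index_ker]
    have := orderOf_dvd_natCard (⟨φ x', x', rfl⟩ : φ.range)
    rw [← Subgroup.orderOf_coe] at this
    exact this
  have hcop : Nat.Coprime (q ^ k) φ.ker.index := by
    rw [hidx]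
    exact Nat.Coprime.pow_left k ((Nat.Prime.coprime_iff_not_dvd hq).mpr hnd)
  have h1' : φ x' = 1 := orderOf_eq_one_iff.mp (Nat.eq_one_of_dvd_coprimes hcop ho1 ho2)
  have hker : x' ∈ φ.ker := h1'
  rw [Subgroup.normalizerMonoidHom_ker, Subgroup.mem_subgroupOf, Subgroup.mem_centralizer_iff] at hker
  exact (hker y hy).symm

theorem homStar_subgroup {π : Set ℕ} {G : Type*} [Group G] (hG : HomStar π G) (X : Subgroup G) :
    HomStar π X := by
  intro q s hq hqπ hs hsπ x S ⟨k, hk⟩ hS hx y hy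
  have h1 : (x : G) ∈ Subgroup.normalizer ((S.map X.subtype : Subgroup G) : Set G) :=
    Subgroup.le_normalizer_map (H := S) X.subtype ⟨x, hx, rfl⟩
  have h2 := hG q s hq hqπ hs hsπ (x : G) (S.map X.subtype)
    ⟨k, by have := congrArg Subtype.val hk; simpa using this⟩ (hS.map _) h1 (y : G) ⟨y, hy, rfl⟩
  exact Subtype.ext h2

theorem lemmaA {π : Set ℕ} {G : Type*} [Group G] [Finite G] (hG : HomStar π G) (L : Subgroup G)
    [L.Normal] (hL : ∀ p : ℕ, p.Prime → p ∣ Nat.card L → p ∈ π) (q s : ℕ) (hq : q.Prime)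
    (hqπ : q ∈ π) (hs : s.Prime) (hsπ : s ∉ π) (S₁ : Subgroup G) (hLS : L ≤ S₁) (j : ℕ)
    (hcard : Nat.card S₁ = Nat.card L * s ^ j) (x : G)
    (hx : x ∈ Subgroup.normalizer (S₁ : Set G)) (k : ℕ) (hxk : x ^ q ^ k ∈ L) :
    ∀ y ∈ S₁, (QuotientGroup.mk x : G ⧸ L) * QuotientGroup.mk y =
      QuotientGroup.mk y * QuotientGroup.mk x := by
  have : Fact s.Prime := ⟨hs⟩
  have : Fact q.Prime := ⟨hq⟩
  have hsL : ¬ s ∣ Nat.card L := fun h => hsπ (hL s hs h)
  let P : Sylow s S₁ := default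
  set P' : Subgroup G := (P : Subgroup S₁).map S₁.subtype with hP'
  have hP'p : IsPGroup s P' := P.isPGroup'.map _
  have hP'card : Nat.card P' = s ^ j := by
    rw [hP', Subgroup.card_map_of_injective S₁.subtype_injective, P.card_eq_multiplicity, hcard,
      Nat.factorization_mul Nat.card_pos.ne' (pow_pos hs.pos j).ne']
    simp [Nat.factorization_eq_zero_of_not_dvd hsL, hs.factorization_self]
  have hP'le : P' ≤ S₁ := Subgroup.map_subtype_le _
  have hcop : (Nat.card L).Coprime (Nat.card P') := by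
    rw [hP'card]
    exact Nat.Coprime.pow_right j ((Nat.Prime.coprime_iff_not_dvd hs).mpr hsL).symm
  have hsup : P' ⊔ L = S₁ := by
    apply Subgroup.eq_of_le_of_card_ge (sup_le hP'le hLS)
    rw [card_sup_of_coprime L P' hcop, hP'card, hcard]
  -- Frattini
  let φx : MulAut S₁ := S₁.normalizerMonoidHom ⟨x, hx⟩
  obtain ⟨t, ht⟩ := MulAction.exists_smul_eq S₁ (φx • P) P
  have hnorm : (t : G) * x ∈ Subgroup.normalizer (P' : Set G) := by
    apply mem_normalizer_of_conj_mem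
    rintro v ⟨u, hu, rfl⟩
    have h1 : φx u ∈ ((φx • P : Sylow s S₁) : Subgroup S₁) := by
      rw [Sylow.pointwise_smul_def]
      exact Subgroup.smul_mem_pointwise_smul _ _ _ hu
    have h2 : t * φx u * t⁻¹ ∈ ((t • (φx • P) : Sylow s S₁) : Subgroup S₁) := by
      rw [Sylow.coe_subgroup_smul]
      exact ⟨φx u, h1, rfl⟩
    rw [ht] at h2
    refine ⟨t * φx u * t⁻¹, h2, ?_⟩
    change (t : G) * (x * (u : G) * x⁻¹) * (t : G)⁻¹ = (t : G) * x * (u : G) * ((t : G) * x)⁻¹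
    group
  -- t = u * l
  have htS : (t : G) ∈ ((P' ⊔ L : Subgroup G) : Set G) := by
    rw [hsup]; exact t.2
  rw [Subgroup.mul_normal, Set.mem_mul] at htS
  obtain ⟨u, hu, l, hl, hul⟩ := htS
  have hy₂N : l * x ∈ Subgroup.normalizer (P' : Set G) := by
    have : l * x = u⁻¹ * ((t : G) * x) := by rw [← hul]; group
    rw [this]
    exact Subgroup.mul_mem _ (Subgroup.inv_mem _ (Subgroup.le_normalizer hu)) hnorm
  have hmk : (QuotientGroup.mk (l * x) : G ⧸ L) = QuotientGroup.mk x := by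
    rw [QuotientGroup.mk_mul, (QuotientGroup.eq_one_iff l).mpr hl, one_mul]
  obtain ⟨w, v, hdec, hw, hv, hcopw, k', hk'⟩ := exists_coprime_part_decomp q (l * x)
  have hzle : Subgroup.zpowers (l * x) ≤ Subgroup.normalizer (P' : Set G) := by
    rw [Subgroup.zpowers_le]; exact hy₂N
  have hvN := hzle hv
  have hxk' : (QuotientGroup.mk x : G ⧸ L) ^ q ^ k = 1 := by
    rw [← QuotientGroup.mk_pow]; exact (QuotientGroup.eq_one_iff _).mpr hxk
  have hw1 : (QuotientGroup.mk w : G ⧸ L) = 1 := by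
    obtain ⟨i, rfl⟩ := Subgroup.mem_zpowers_iff.mp hw
    have h1 : orderOf (QuotientGroup.mk ((l * x) ^ i) : G ⧸ L) ∣ orderOf ((l * x) ^ i) :=
      orderOf_map_dvd (QuotientGroup.mk' L) _
    have h2 : orderOf (QuotientGroup.mk ((l * x) ^ i) : G ⧸ L) ∣ q ^ k := by
      apply orderOf_dvd_of_pow_eq_one
      rw [QuotientGroup.mk_zpow, hmk, ← zpow_natCast, ← zpow_mul, mul_comm, zpow_mul, zpow_natCast,
        hxk', one_zpow]
    have h3 : Nat.Coprime (orderOf ((l * x) ^ i)) (q ^ k) := Nat.Coprime.pow_right k hcopw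
    exact orderOf_eq_one_iff.mp (Nat.eq_one_of_dvd_coprimes h3 h1 h2)
  have hxv : (QuotientGroup.mk x : G ⧸ L) = QuotientGroup.mk v := by
    rw [← hmk, hdec, QuotientGroup.mk_mul, hw1, one_mul]
  have hvc := hG q s hq hqπ hs hsπ v P' ⟨k', hk'⟩ hP'p hvN
  intro y hy
  have hyS : y ∈ ((P' ⊔ L : Subgroup G) : Set G) := by
    rw [hsup]; exact hy
  rw [Subgroup.mul_normal, Set.mem_mul] at hyS
  obtain ⟨u', hu', l', hl', hul'⟩ := hyS
  have hmky : (QuotientGroup.mk y : G ⧸ L) = QuotientGroup.mk u' := by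
    rw [← hul', QuotientGroup.mk_mul, (QuotientGroup.eq_one_iff l').mpr hl', mul_one]
  rw [hmky, hxv, ← QuotientGroup.mk_mul, ← QuotientGroup.mk_mul, hvc u' hu']

theorem homStar_quotient {π : Set ℕ} {G : Type*} [Group G] [Finite G] (hG : HomStar π G)
    (L : Subgroup G) [L.Normal] (hL : ∀ p : ℕ, p.Prime → p ∣ Nat.card L → p ∈ π) :
    HomStar π (G ⧸ L) := by
  intro q s hq hqπ hs hsπ xbar Sbar ⟨k, hk⟩ hSbar hxbar ybar hybar
  have : Fact s.Prime := ⟨hs⟩
  obtain ⟨x, rfl⟩ := QuotientGroup.mk_surjective xbar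
  obtain ⟨y, rfl⟩ := QuotientGroup.mk_surjective ybar
  obtain ⟨j, hj⟩ := hSbar.exists_card_eq
  have hcard : Nat.card (Sbar.comap (QuotientGroup.mk' L)) = Nat.card L * s ^ j := by
    rw [card_comap_of_surjective _ (QuotientGroup.mk'_surjective L), QuotientGroup.ker_mk', hj,
      mul_comm]
  have hLS : L ≤ Sbar.comap (QuotientGroup.mk' L) := by
    intro l hl
    rw [Subgroup.mem_comap, QuotientGroup.mk'_apply, (QuotientGroup.eq_one_iff l).mpr hl]
    exact Subgroup.one_mem _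
  have hx : x ∈ Subgroup.normalizer ((Sbar.comap (QuotientGroup.mk' L) : Subgroup G) : Set G) :=
    Subgroup.le_normalizer_comap (QuotientGroup.mk' L) hxbar
  have hxk : x ^ q ^ k ∈ L := by
    rw [← QuotientGroup.eq_one_iff, QuotientGroup.mk_pow]; exact hk
  exact lemmaA hG L hL q s hq hqπ hs hsπ _ hLS j hcard x hx k hxk y hybar

end Cfsg.Agent.Lib.Helper72
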