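import Cfsg.Agent.Lib.Helper72.J1SpecDefs

set_option autoImplicit false
set_option maxRecDepth 1000000

/-! Kernel check of the element orders in one block of 660 elements of the first Janko group. -/

namespace Cfsg.Agent.Lib.Helper72.J1Spec

open Cfsg.Agent.Lib.Helper77.J1 Cfsg.Agent.Lib.Helper77.J1.M7

theorem block1 : blockOK 1 = true := by decide +kernel

end Cfsg.Agent.Lib.Helper72.J1Spec
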