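import Cfsg.Agent.Lib.Helper72.J1SpecData
import Cfsg.Agent.Lib.Helper72.J1SpecB0
import Cfsg.Agent.Lib.Helper72.J1SpecB1
import Cfsg.Agent.Lib.Helper72.J1SpecB2
import Cfsg.Agent.Lib.Helper72.J1SpecB16
import Cfsg.Agent.Lib.Helper72.J1SpecB46
import Cfsg.Agent.Lib.Helper62.J1SpecOrdOK

set_option autoImplicit false

/-! The spectrum of the first Janko group is {1, 2, 3, 5, 6, 7, 10, 11, 15, 19}: every element is
conjugate into one of five blocks of 660 elements (double-coset reduction), whose element orders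
are checked in the kernel. -/

namespace Cfsg.Agent.Lib.Helper72.J1Spec

open Cfsg.Agent.Lib.Helper77.J1 Cfsg.Agent.Lib.Helper77.J1.M7

/-- Every element of the subgroup of order 660 is a product of two table entries. -/
theorem exists_rep_level1 (x : Γ) (hx : x ∈ Subgroup.closure {g | g ∈ gens1}) :
    ∃ i j, i < 55 ∧ j < 12 ∧ Rep x (mul (T2 i) (U1 j)) := by
  obtain ⟨k2, hk2, j, hj, hu1⟩ := closure_subset_rep gens1 S1 hS1 gens2 S2 hS2 12 U1 cert1
    (by norm_num) U1_zero (fun m hm s hs => chk1 m hm s hs) x hx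
  obtain ⟨i, hi, hi2⟩ := exists_rep_of_mem_closure gens2 S2 hS2 55 T2 cert2 (by norm_num) T2_zero
    (fun m hm s hs => chk2 m hm s hs) k2 hk2
  refine ⟨i, j, hi, hj, ?_⟩
  have := hi2.mul hu1
  rwa [mul_inv_cancel_left] at this

/-- Every element of J1 is conjugate to an element of one of five blocks. -/
theorem exists_conj_rep (g : Γ) (hg : g ∈ Cfsg.Spor.J1) :
    ∃ (c : Γ) (i j r : ℕ), i < 55 ∧ j < 12 ∧ (r = 0 ∨ r = 1 ∨ r = 2 ∨ r = 16 ∨ r = 46) ∧
      Rep (c * g * c⁻¹) (mul (mul (T2 i) (U1 j)) (U0 r)) := by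
  rw [J1_eq] at hg
  obtain ⟨k, hk, m, hm, hu⟩ := closure_subset_rep gens0 S0 hS0 gens1 S1 hS1 266 U0 cert0
    (by norm_num) U0_zero (fun m hm s hs => chk0 m hm s hs) g hg
  obtain ⟨hdc, hr⟩ := chkDC m hm
  have hA : Rep (gw gens1 (dcA m)) (evalW S1 (dcA m)) := rep_gw gens1 S1 hS1 _
  have hB : Rep (gw gens1 (dcB m)) (evalW S1 (dcB m)) := rep_gw gens1 S1 hS1 _
  have hAm : gw gens1 (dcA m) ∈ Subgroup.closure {g | g ∈ gens1} :=
    gw_mem _ gens1 (fun g hg => Subgroup.subset_closure hg) _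
  have hBm : gw gens1 (dcB m) ∈ Subgroup.closure {g | g ∈ gens1} :=
    gw_mem _ gens1 (fun g hg => Subgroup.subset_closure hg) _
  set A := gw gens1 (dcA m) with hAdef
  set B := gw gens1 (dcB m) with hBdef
  have hx : B * k * A ∈ Subgroup.closure {g | g ∈ gens1} :=
    Subgroup.mul_mem _ (Subgroup.mul_mem _ hBm hk) hAm
  obtain ⟨i, j, hi, hj, hc⟩ := exists_rep_level1 (B * k * A) hx
  refine ⟨B, i, j, dcR m, hi, hj, hr, ?_⟩
  unfold Cfsg.Agent.Lib.Helper77.J1.Rep at *
  have e : (g : Matrix (Fin 7) (Fin 7) (ZMod 11)) =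
      (k : Matrix (Fin 7) (Fin 7) (ZMod 11)) * ((k⁻¹ * g : Γ) : Matrix (Fin 7) (Fin 7) (ZMod 11)) := by
    rw [← Units.val_mul, mul_inv_cancel_left]
  rw [toMat_mul, ← hc, Units.val_mul, Units.val_mul, e, hu, hdc, toMat_mul, toMat_mul, ← hA, ← hB,
    Units.val_mul, Units.val_mul]
  simp only [mul_assoc]
  rw [Units.mul_inv, mul_one]

theorem ordOK_of_blockOK {r i j : ℕ} (h : blockOK r = true) (hi : i < 55) (hj : j < 12) :
    ordOK (mul (mul (T2 i) (U1 j)) (U0 r)) = true := by
  unfold blockOK at h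
  rw [List.all_eq_true] at h
  have h1 := h i (List.mem_range.mpr hi)
  rw [List.all_eq_true] at h1
  exact h1 j (List.mem_range.mpr hj)

theorem orderOf_γ_of_chk (w : List ℕ) (n : ℕ) (hn : 0 < n) (hpow : powM (evalW S0 w) n = one)
    (hd : ∀ p : ℕ, p.Prime → p ∣ n → powM (evalW S0 w) (n / p) ≠ one) : orderOf (γ w) = n := by
  apply orderOf_eq_of_pow_and_pow_div_prime hn
  · have := rep_pow (rep_γ w) n
    rw [hpow] at this
    exact this.ext Rep.one
  · intro p hp hpn h1
    have := rep_pow (rep_γ w) (n / p)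
    rw [h1] at this
    exact hd p hp hpn (Rep.eq_of_valid (valid_evalW _ _) valid_one this Rep.one)

theorem orderOf_g6 : orderOf (γ w6) = 6 := by
  refine orderOf_γ_of_chk w6 6 (by norm_num) chk6.1 ?_
  intro p hp hpn
  have hp6 : p ≤ 6 := Nat.le_of_dvd (by norm_num) hpn
  interval_cases p <;>
    first
    | exact absurd hp (by decide)
    | exact absurd hpn (by decide)
    | exact chk6.2.1
    | exact chk6.2.2

theorem orderOf_g10 : orderOf (γ w10) = 10 := by
  refine orderOf_γ_of_chk w10 10 (by norm_num) chk10.1 ?_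
  intro p hp hpn
  have hp6 : p ≤ 10 := Nat.le_of_dvd (by norm_num) hpn
  interval_cases p <;>
    first
    | exact absurd hp (by decide)
    | exact absurd hpn (by decide)
    | exact chk10.2.1
    | exact chk10.2.2

theorem orderOf_g15 : orderOf (γ w15) = 15 := by
  refine orderOf_γ_of_chk w15 15 (by norm_num) chk15.1 ?_
  intro p hp hpn
  have hp6 : p ≤ 15 := Nat.le_of_dvd (by norm_num) hpn
  interval_cases p <;>
    first
    | exact absurd hp (by decide)
    | exact absurd hpn (by decide)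
    | exact chk15.2.1
    | exact chk15.2.2

theorem orderOf_gt1 : orderOf (γ wt1) = 2 :=
  orderOf_eq_of_rep rep_t1 2 (by norm_num) pow_mt1 ne_mt1 (by unfold mt1; exact valid_unpack _)

/-- Element orders in J1 lie in the ten-element set. -/
theorem orderOf_mem_of_mem_J1 (g : Γ) (hg : g ∈ Cfsg.Spor.J1) :
    orderOf g ∈ ({1, 2, 3, 5, 6, 7, 10, 11, 15, 19} : Set ℕ) := by
  obtain ⟨c, i, j, r, hi, hj, hr, hrep⟩ := exists_conj_rep g hg
  have hok : ordOK (mul (mul (T2 i) (U1 j)) (U0 r)) = true := by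
    rcases hr with rfl | rfl | rfl | rfl | rfl
    · exact ordOK_of_blockOK block0 hi hj
    · exact ordOK_of_blockOK block1 hi hj
    · exact ordOK_of_blockOK block2 hi hj
    · exact ordOK_of_blockOK block16 hi hj
    · exact ordOK_of_blockOK block46 hi hj
  have h := Cfsg.Agent.Lib.Helper62.J1Spec.orderOf_mem_of_ordOK hrep hok
  have e : orderOf (c * g * c⁻¹) = orderOf g := by
    have := (MulAut.conj c).orderOf_eq g
    rwa [MulAut.conj_apply] at this
  rwa [e] at h

/-- The spectrum of the first Janko group. -/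
theorem range_orderOf_J1 :
    Set.range (orderOf : ↥Cfsg.Spor.J1 → ℕ) = {1, 2, 3, 5, 6, 7, 10, 11, 15, 19} := by
  apply Set.Subset.antisymm
  · rintro n ⟨g, rfl⟩
    rw [← Subgroup.orderOf_coe]
    exact orderOf_mem_of_mem_J1 g g.2
  · intro n hn
    simp only [Set.mem_insert_iff, Set.mem_singleton_iff] at hn
    have key : ∀ (x : Γ) (hx : x ∈ Cfsg.Spor.J1), orderOf x = n →
        n ∈ Set.range (orderOf : ↥Cfsg.Spor.J1 → ℕ) := by
      intro x hx h
      exact ⟨⟨x, hx⟩, by rw [Subgroup.orderOf_mk, h]⟩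
    rcases hn with rfl | rfl | rfl | rfl | rfl | rfl | rfl | rfl | rfl | rfl
    · exact key 1 (Subgroup.one_mem _) orderOf_one
    · exact key _ (γ_mem wt1) orderOf_gt1
    · exact key _ (γ_mem w3) orderOf_g3
    · exact key _ Y_mem orderOf_Y
    · exact key _ (γ_mem w6) orderOf_g6
    · exact key _ X_mem orderOf_X
    · exact key _ (γ_mem w10) orderOf_g10
    · exact key _ (γ_mem w11) orderOf_g11
    · exact key _ (γ_mem w15) orderOf_g15
    · exact key _ (γ_mem w19) orderOf_g19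

end Cfsg.Agent.Lib.Helper72.J1Spec
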