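import Cfsg.Agent.Lib.Helper72.J1SpecDefs

set_option autoImplicit false
set_option maxRecDepth 1000000

/-! Certificate data for the spectrum of the first Janko group: double-coset reduction of the 266
coset representatives to 5 representatives, and words of orders 6, 10, 15. -/

namespace Cfsg.Agent.Lib.Helper72.J1Spec

open Cfsg.Agent.Lib.Helper77.J1 Cfsg.Agent.Lib.Helper77.J1.M7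

/-- Double-coset certificate: entry `m` is `(r, wa, wb)` with `U0 m = wa * U0 r * wb`, the words
evaluated in the generators of the subgroup of order 660. -/
def dcTab : List (ℕ × List ℕ × List ℕ) := [
  (0, [], []),
  (1, [], []),
  (2, [], []),
  (1, [0], [2, 0, 2, 0, 0]),
  (2, [2, 0, 1], [0, 0, 1, 2, 0, 2, 0]),
  (1, [0, 0, 2, 0, 2, 1, 1], [0, 0, 1, 1, 0]),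
  (1, [0, 2, 1, 0, 1], [2, 0, 0, 1, 2]),
  (2, [1, 0, 0, 2, 0, 1, 2], [2]),
  (2, [2, 0, 1, 0], [0, 0, 1, 1, 2]),
  (1, [1, 1, 2, 0, 1, 1], [2, 0]),
  (2, [0, 0, 1, 2, 0, 1, 0], [1, 0, 0, 1]),
  (1, [2, 1, 1], [0, 1, 2, 0, 1, 0, 0]),
  (2, [1, 1, 0, 0, 2, 0, 1, 2], [2, 1]),
  (2, [1, 2, 0, 2, 0, 0], [0]),
  (2, [1, 1, 1, 0, 2, 0, 1, 2], [1, 0, 0, 1, 1]),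
  (1, [], [0]),
  (16, [], []),
  (2, [0, 1, 1, 0], [1, 2, 0, 1, 2]),
  (2, [2, 1, 1], [1, 0, 1]),
  (2, [2, 1, 1, 0, 2, 0, 1, 1], [0, 1, 1, 1, 0, 1]),
  (2, [0, 0, 0, 1, 1, 2], [0, 1, 2, 0, 0]),
  (1, [2, 0, 1, 2, 0, 2], [2, 0, 0]),
  (1, [2, 0, 0, 1, 0], [0, 2, 1, 1, 0, 0]),
  (2, [0, 2, 1, 0, 2, 1, 0, 1], [1, 1, 0]),
  (2, [0, 0, 2, 1, 1, 0, 1, 2], [0, 0, 1, 2, 0, 2]),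
  (1, [0], [2, 0, 1, 2, 0, 1]),
  (2, [2, 0, 1, 2, 0, 1, 2, 0], [0, 0, 1, 2, 0, 1, 2]),
  (2, [1, 0, 2, 0, 1, 0], [1, 1, 0, 1]),
  (2, [0, 1, 0, 2, 0, 1, 1, 0, 1], [0, 2, 1, 1, 0, 0]),
  (2, [0, 1, 2, 0, 1, 2, 0, 0], [0, 0, 2, 0, 0, 1]),
  (2, [0, 0, 2, 0, 1, 1, 0], [0, 0, 0]),
  (16, [0, 1, 0, 2, 0, 1, 1], [0, 1]),
  (2, [1, 1, 2, 0, 1, 1, 0], [0, 0, 1, 0, 0, 2, 1]),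
  (1, [1, 1, 2, 0, 2, 0, 2], [0, 1, 1]),
  (1, [2, 0, 2, 1, 0, 2, 1], [0, 0, 1]),
  (2, [1, 2, 0, 0], [1, 0, 2, 0, 1, 0]),
  (2, [0, 1, 0, 0, 2, 0, 2, 1, 0], [2, 0, 2, 0]),
  (2, [1, 1, 1, 0, 2, 0, 1], [0, 0, 0, 1, 1]),
  (2, [0, 0, 0, 1, 1, 2], [1, 1, 0, 0, 2, 0]),
  (1, [0, 2, 1, 0, 1], [2, 0, 0, 1, 2, 0]),
  (1, [0, 2, 1, 0, 1], [0, 2, 1, 0, 1]),
  (1, [2, 0, 0, 1, 0], [0, 0, 2, 1, 0]),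
  (2, [1, 0, 0, 2, 0, 1, 2], [2, 0]),
  (2, [0, 1, 2, 0, 1, 2, 0], [1, 0, 1, 0, 2]),
  (2, [0, 1, 2, 0, 1, 2], [0, 1, 1]),
  (16, [0, 2, 1, 0, 1, 2], [0, 0]),
  (46, [], []),
  (2, [0, 0, 1, 2, 0, 2, 0], [0, 1, 2, 0, 1, 1]),
  (2, [0, 0, 1, 2, 0, 1, 2], [2, 1, 0]),
  (2, [2, 0, 1, 0], [0, 2, 0, 0, 2]),
  (2, [0, 2, 0, 1, 2], [1, 0, 2, 1, 0]),
  (1, [1, 0, 0, 2, 1, 0, 2], [2, 0, 2, 0]),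
  (2, [1, 0, 0, 2, 0, 1, 2], [0, 2, 0, 0]),
  (2, [1, 2, 0, 1, 2, 0, 1, 1], [0, 0, 0, 2]),
  (2, [1, 2, 0, 2, 0, 1, 2], [0, 2, 0, 2, 0, 0]),
  (16, [0, 0, 2, 0, 1, 0], [2]),
  (16, [0, 0, 0, 1, 1, 2], [0, 1, 1, 0]),
  (2, [2, 0], [2, 0, 0, 1]),
  (2, [0, 1, 2, 0, 0, 1, 2, 0], [0, 0]),
  (2, [2, 0, 0, 2], [2, 1, 2]),
  (1, [0, 1, 0, 2, 0, 0, 1, 1, 1], [0, 0, 1, 1]),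
  (2, [0, 0, 1, 2, 0, 1, 0], [0, 0, 1, 1]),
  (16, [0, 1, 0, 2, 0, 1, 1], [0]),
  (1, [2, 1, 1], [0, 1, 2, 0, 0, 1]),
  (2, [0, 1, 2, 0, 1, 2, 0, 0], [0, 1, 0, 2, 0, 0]),
  (2, [0, 0, 2, 0, 0, 2, 0], [0, 2, 0, 2]),
  (2, [0, 0, 0, 1, 1, 2], [1, 0, 0, 2]),
  (46, [2, 1, 0, 0, 2, 0, 1], [0]),
  (16, [2, 0, 1, 1, 2], [0, 0, 1, 0]),
  (2, [2, 0, 1, 1, 1, 0, 2], [0, 2, 0, 0, 2, 1]),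
  (1, [0, 0, 1, 2, 0, 2, 0, 1], [0, 0, 0, 1, 1]),
  (2, [0, 0, 2], [2, 1, 2, 0]),
  (1, [0, 2, 0, 1, 1, 1, 0], [2, 0, 1, 0, 0]),
  (2, [1, 1, 0, 2, 0, 0, 2], [1, 1, 2, 0]),
  (46, [0, 1, 1, 1, 0, 2, 0, 1], [0, 1, 0]),
  (2, [0, 0, 2, 0, 1, 0, 2, 1, 0], [1, 1, 0, 1, 0]),
  (1, [0, 1, 0, 2, 0, 0], [0, 1, 1, 0]),
  (46, [2, 0, 0, 1, 2], [1, 0]),
  (2, [0, 1, 0, 2, 0, 1, 1, 0, 1], [1, 0, 1, 2]),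
  (1, [2, 0, 1, 0, 0], [0, 1, 1, 1]),
  (2, [0, 1, 2, 0, 2], [0, 0, 2]),
  (2, [0, 0, 1, 2, 0, 1, 2], [0, 2, 1, 1]),
  (2, [0, 0, 1, 2, 0, 0, 1, 0], [1, 1, 2]),
  (1, [2, 0, 2, 0, 1], [0, 0, 0, 1]),
  (2, [0, 1, 0, 2, 0, 0, 1, 1, 1], [0, 0, 1, 2, 0, 2, 1]),
  (1, [], [0, 0]),
  (2, [2, 0, 2, 1, 0, 0], [0, 0, 0, 1]),
  (1, [0, 2, 1, 0, 2], [0, 0, 1, 2, 0]),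
  (2, [0, 1, 0, 2, 0, 1, 1, 0, 1], [0, 0, 0, 2, 1, 1]),
  (2, [0, 1, 0, 2, 0, 0, 1, 0, 2], [2, 0, 2, 0, 0]),
  (1, [0, 2, 0], [2, 0, 0, 1]),
  (2, [2, 1, 1], [1, 0, 1, 0]),
  (1, [1, 0, 2, 0, 1, 0, 2, 1], [0, 2, 1]),
  (16, [2, 1, 0, 0], [0, 1, 0]),
  (2, [0, 0, 1, 2, 0, 0, 1, 2], [0, 1]),
  (1, [1, 1, 2, 0, 2, 0, 2], [0, 1, 1, 2]),
  (1, [0, 0, 0, 1, 0, 2], [1, 1]),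
  (2, [0, 1, 2, 0, 1, 2, 0, 0], [0, 0, 2, 0, 0, 2]),
  (1, [2, 0, 1, 2, 0, 2], [1, 2, 0, 1]),
  (2, [1, 1, 0, 2, 0, 1], [1, 1, 1]),
  (1, [0, 2, 1, 2, 0, 0, 2], [1, 1, 0, 0, 2]),
  (2, [0, 0, 0, 2, 0, 0], [1, 1]),
  (2, [0, 0, 1, 1], [1, 0, 1, 1]),
  (2, [1, 2, 0, 1, 2, 0, 1, 1], [0, 0, 0, 0]),
  (16, [1, 0, 0, 2, 1, 1], [0, 1, 1]),
  (2, [0, 2, 1, 0, 2, 1, 0, 1], [1, 1, 0, 0]),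
  (1, [0, 2, 0, 2], [0, 1, 1, 1, 0]),
  (1, [0, 2, 0, 1, 1, 0], [1, 1, 0, 0]),
  (1, [0, 2, 1, 1, 0, 0], [1, 0, 0, 1]),
  (2, [1, 0, 2, 0, 1, 0, 2, 1], [0, 0, 1, 2, 0]),
  (2, [1, 0, 0, 2, 0, 2, 1], [2, 0, 2, 1, 0]),
  (2, [1, 1, 0, 2, 0, 0, 2], [0, 1, 0, 0, 2]),
  (1, [0, 0, 0, 2, 0, 2, 1, 1], [0, 1, 0, 0, 2, 1]),
  (1, [2, 1, 0, 0, 2, 1, 0], [0, 0, 2, 1]),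
  (1, [2, 0, 1, 1, 1, 0, 2], [0, 1, 0, 0]),
  (1, [0, 1, 0, 2, 1, 0, 1, 1], [0, 1, 2, 0, 2]),
  (2, [1, 1, 2, 0, 1], [1, 0, 0, 2, 0]),
  (46, [1, 1, 0, 1, 1], [1]),
  (1, [0, 2, 1, 0, 2, 1], [0, 1, 2, 0, 1, 0]),
  (1, [1, 1, 0, 1], [0, 2, 0, 0, 1, 1]),
  (1, [0, 2, 0, 2, 0, 2], [0, 0, 2, 0, 1]),
  (1, [2, 0, 1, 2, 0, 0], [0, 1, 2]),
  (2, [0, 0, 2, 1, 0, 2, 0, 1], [0, 2, 1, 0, 0]),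
  (2, [0, 0, 2, 0, 2, 0, 2], [0, 1, 2, 0, 0, 2]),
  (2, [1, 1, 0, 2], [1, 1, 0, 0, 2]),
  (1, [2, 0, 2, 1, 0, 2, 1], [1, 0, 2, 0, 1]),
  (2, [1, 2, 0, 0, 1, 0, 2], [1, 0, 2, 1]),
  (2, [0, 1, 0, 2, 0, 1, 1, 0, 1], [0, 2, 1, 0, 1]),
  (2, [0, 2, 0, 2, 1, 1, 0], [0, 2, 1, 2]),
  (2, [1, 1, 2, 0, 2, 0, 0], [1, 1, 2, 0, 2]),
  (2, [1, 0, 2, 1, 0, 2, 0, 0], [0, 1, 2, 0]),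
  (1, [1, 0, 2, 1, 1, 0, 0], [0, 2, 1, 2]),
  (2, [0, 1, 0, 2, 0, 1, 2], [0, 0, 1, 2, 0, 1]),
  (2, [1, 0, 2, 0, 0, 1, 0, 2], [0, 1, 0, 0, 2, 1]),
  (46, [2, 0, 2, 1, 0], [2]),
  (2, [0, 1, 2, 0, 2, 1, 0], [1, 2, 0, 2, 0, 1]),
  (2, [0, 1, 0, 2, 0, 0, 1, 1, 1], [2, 0, 2, 1]),
  (1, [0, 0, 2, 1, 2], [1, 0, 2, 0, 0]),
  (1, [2, 0, 2, 1, 0, 2, 1], [0, 0, 1, 0]),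
  (1, [2, 0, 0, 2, 1], [1, 1, 0, 1, 1]),
  (2, [1, 2, 0, 1], [0, 1, 1, 1, 0, 1, 2]),
  (1, [1, 2, 0, 2, 1], [0, 0, 1, 2]),
  (2, [2, 1, 1, 0, 2, 0], [0, 0, 1, 0, 2]),
  (2, [0, 0, 2, 0, 0, 2, 0, 1], [0, 0, 1, 0, 0, 2]),
  (1, [0, 0, 1, 0], [0, 0, 1, 0, 0, 2]),
  (1, [2, 0, 2, 1, 0], [0, 1]),
  (2, [0, 1, 2, 0, 1, 2, 0, 0], [0, 1, 2]),
  (2, [2, 0, 2, 0, 2], [1, 0, 0, 1, 2]),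
  (1, [2, 1, 1, 0, 2, 0, 1], [0, 1, 2, 0, 0]),
  (2, [0, 1, 0, 2, 0, 0, 1, 1], [2, 0, 2, 0, 1]),
  (1, [0, 0, 2, 1, 1, 0, 1, 2], [1, 0, 1, 0, 2]),
  (1, [0, 2, 1, 1, 0, 1, 1], [0, 0, 2, 0, 1, 0, 0]),
  (2, [0, 2, 0, 0, 2, 1], [0, 1, 1, 1]),
  (2, [0, 1, 0], [0, 0, 1, 2]),
  (1, [1, 0, 0, 1, 1], [0, 1, 0, 0, 2]),
  (1, [0, 2, 0, 2, 1, 2], [2, 0, 1, 0]),
  (1, [1, 1], [2, 0, 2, 1, 1]),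
  (1, [1, 2, 0, 2, 1, 0, 2, 1], [2, 0, 2, 1]),
  (2, [0, 0, 0, 0, 0, 0, 0], [0, 1, 1, 2]),
  (1, [0, 0, 1, 0, 0, 2], [0, 0, 1, 0, 0]),
  (2, [1, 0, 0, 2, 0, 1, 2], [2, 0, 0]),
  (1, [1, 0, 2, 1, 0, 1], [0, 2, 0, 0, 1]),
  (2, [1, 2, 0, 1, 0, 0], [0, 2, 1, 1, 0, 2]),
  (2, [0, 1, 2, 0, 1, 2], [0, 1, 1, 0]),
  (2, [1, 1, 0, 2], [0, 1, 0]),
  (1, [0, 2, 1, 1, 0, 2], [2, 0, 0, 2, 1]),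
  (2, [1, 1, 0, 2, 0, 0, 2], [1, 0, 2, 0, 1]),
  (2, [1, 0, 1, 0], [1, 1, 0, 1, 2]),
  (1, [0, 0, 0, 2, 0, 2, 1, 1], [1, 0, 0, 1, 2]),
  (1, [0, 1, 0, 2, 1, 0, 1, 1], [0, 0, 2, 0]),
  (2, [1, 2, 0, 2, 0, 1, 2], [1, 0, 0, 1, 1, 2]),
  (1, [0, 0, 2, 1, 0], [1, 0]),
  (46, [0, 0, 2, 0, 1, 0, 2, 1, 0], [0, 1]),
  (1, [0], [2, 1, 2]),
  (2, [2, 1, 0, 1, 2, 0, 1], [1, 0, 2]),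
  (1, [0, 2, 1, 0, 1, 2, 0], [2, 0, 1, 1, 2]),
  (2, [0, 0, 2, 0, 2, 0, 2], [1, 2]),
  (1, [0, 1, 2, 0, 2], [0, 0, 2, 0, 1, 0]),
  (2, [2, 0, 1, 2, 0, 0], [1, 1, 1, 0, 2]),
  (1, [0, 1, 2, 0, 0, 1, 2], [0, 2, 1, 1]),
  (2, [1, 1, 0, 2, 0], [0, 0, 0, 2, 1]),
  (2, [1, 1, 1, 0, 1, 1], [0, 1, 1, 1, 0, 2]),
  (1, [1, 0, 2, 0, 0, 1, 1, 1], [1, 0, 0]),
  (1, [2, 0, 2, 1, 0, 1], [2, 0, 0, 2]),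
  (1, [1, 1, 0, 2, 0, 1, 0], [1, 2, 0, 2, 0]),
  (2, [2, 0, 1, 0, 0, 2], [1, 0, 2, 0]),
  (2, [0, 2, 1, 1, 0, 0, 2], [0, 0, 1, 2, 0, 1, 0]),
  (2, [1, 0, 0, 2, 0, 1, 2], [0, 1, 2, 0, 1]),
  (2, [2, 0, 1, 2, 0, 0, 1], [0, 2, 1]),
  (2, [1, 1, 2, 0, 2, 1, 0, 1], [0, 1, 1, 1, 0]),
  (1, [0, 2, 1, 0, 0], [1, 2, 0]),
  (1, [0, 0, 1, 0, 0, 2, 0, 2], [0, 2, 0, 0]),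
  (1, [0, 2, 0, 2, 1, 0, 1], [0, 0, 2, 1, 0, 2]),
  (2, [2, 1, 0, 0, 2, 1, 0], [0, 1, 2, 0, 2]),
  (2, [0, 0, 0, 2, 1, 0, 0], [0, 2]),
  (2, [1, 0, 2, 1, 0, 0], [0, 0, 2, 0]),
  (1, [2, 1, 0, 0, 1, 1], [1, 0, 1, 0]),
  (2, [0, 0, 2, 0, 0, 2, 0], [0, 2, 0, 2, 0]),
  (1, [1, 1, 2], [1, 0, 0, 1, 1]),
  (2, [1, 0, 2, 1, 1, 0], [2, 0, 2]),
  (2, [0, 0, 2, 0, 1], [1, 2, 0]),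
  (1, [2, 0, 1, 1], [1, 2]),
  (1, [0, 1, 2, 0, 1, 1, 0, 2], [1, 1, 0, 1]),
  (46, [2, 1, 0, 0, 2, 0, 1], [0, 0]),
  (16, [0, 0, 0, 0, 0, 0, 0], [0, 1, 2]),
  (1, [1, 0, 2, 1], [0, 2, 0]),
  (2, [0, 1, 0], [1, 0, 0, 2, 0, 1]),
  (1, [], [2]),
  (16, [2, 0, 0, 2, 1, 2], [0, 0, 1]),
  (2, [1, 0, 0, 2, 0, 2], [0, 0, 0, 1, 0]),
  (1, [1, 2, 0, 2, 1, 0, 2, 1], [1, 0, 1]),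
  (2, [0, 0, 0, 1, 0, 2, 0], [0, 0, 1, 0]),
  (2, [1, 0, 2, 0, 0, 1], [1, 0]),
  (1, [1, 1, 1, 0, 0], [0, 1, 2, 0, 1]),
  (1, [1, 1, 0, 2, 0, 1, 0], [2, 1, 0, 0, 2]),
  (2, [1, 1, 2, 0, 0, 1, 0], [0, 0, 1, 1, 1]),
  (1, [0, 2, 0, 0, 2, 1, 1], [1, 1, 0, 1, 0]),
  (16, [0, 1, 2, 0, 0, 1, 2], [0, 1, 0, 0]),
  (2, [0, 1, 0, 2, 1, 0, 0], [0, 0, 1]),
  (46, [0, 0, 2, 1, 0], [0, 0, 1, 1]),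
  (1, [0, 0, 2, 0, 1, 0, 2, 0], [2, 0, 1, 2]),
  (2, [0, 1, 1, 1, 0, 1, 1], [0, 2, 1, 1, 0]),
  (46, [2, 0, 0, 1, 2], [1, 0, 0]),
  (1, [1, 1, 2, 0, 2, 0, 1, 1], [0, 1, 2, 0, 2, 1]),
  (2, [1, 0, 0, 2, 1, 1], [0, 2, 0, 1]),
  (1, [0, 0, 1, 0, 2, 0, 0, 1, 1], [2, 1, 0, 0]),
  (1, [0, 1, 0, 0, 2, 0, 1, 0], [2, 1, 2, 0]),
  (1, [0, 0, 2, 1, 1, 0], [2, 0, 1, 1]),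
  (1, [0, 1, 2, 0, 2, 0], [0, 1, 2, 0]),
  (1, [1, 1, 2, 0, 1, 1], [2, 0, 1]),
  (1, [1, 0, 0, 2, 1, 1, 0], [2, 0, 1, 2, 0]),
  (2, [2, 0, 0, 2, 1, 1], [0, 2, 1, 0]),
  (1, [0, 1, 0, 2], [0, 2, 1, 1, 0]),
  (2, [0, 1, 0, 0], [1, 2, 0, 2, 0]),
  (1, [0, 2, 0, 1, 1, 0, 2, 0], [2, 0, 2]),
  (2, [0, 0, 1, 2, 0, 1, 0, 0], [1, 1, 1, 0]),
  (1, [0, 0, 2, 0, 2, 1, 0, 2], [0, 0, 1, 0, 2]),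
  (1, [1, 0, 1, 2, 0, 0, 2, 1], [2, 1, 0]),
  (1, [], [0, 0, 0]),
  (2, [1, 0, 2, 1, 0, 2, 1, 0], [0, 1, 0, 2]),
  (1, [0, 0, 1, 2, 0, 2, 0], [2, 0, 2, 1, 0]),
  (1, [2, 0, 0, 2, 1, 1], [0, 0, 2]),
  (1, [1, 0, 2, 0, 1, 0, 2, 1], [0, 2, 1, 0]),
  (2, [0, 0, 1, 0, 2, 0, 0, 1], [2, 0, 0, 2]),
  (1, [0, 0, 0, 1, 0, 2], [1, 1, 0]),
  (2, [0, 2, 0, 0, 2, 0, 1, 2], [0, 0, 0, 0, 0]),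
  (1, [1, 0, 2, 1, 0, 0], [0, 1, 0]),
  (2, [0, 0, 0, 1, 0, 2, 1, 0, 1], [0, 0, 1, 0, 0]),
  (2, [2, 0, 2, 1, 0, 2], [1, 0, 0]),
  (2, [2, 0, 1, 1, 0], [1, 2, 0, 1]),
  (1, [2, 1, 0, 2, 1, 1], [1, 0, 2]),
  (1, [0, 2, 0, 0, 2, 1], [1, 2, 0, 2]),
  (1, [0, 0, 1, 2, 0, 0, 2], [1, 0, 2, 0]),
  (46, [0, 2, 0, 1, 2, 0, 0, 2], [0, 0, 1]),
  (2, [1, 2, 0, 2, 0, 0], [0, 2, 0]),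
  (1, [2, 1, 1, 0, 0], [0, 1, 2, 0, 0, 2]),
  (2, [0, 1, 0, 2, 1, 0, 1, 1], [1, 2, 0, 2]),
  (1, [0, 1, 1, 1, 0, 2, 0], [0, 2]),
  (1, [0, 0, 2, 0, 0], [2, 1]),
  (1, [0, 0, 2, 0, 1, 0, 2, 1], [1]),
  (1, [0, 2, 0, 1, 0, 2], [2, 0, 1, 2, 0, 0]),
  (2, [0, 1, 2, 0, 1, 1, 2], [0, 1, 0, 0]),
  (1, [0, 0, 0, 2, 0, 2, 1, 1], [0, 2, 1, 0, 0]),
  (2, [1, 0, 0, 2, 1, 1, 0, 1], [1]),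
  (2, [2, 0, 1, 2, 0], [0, 1, 0, 2, 0]),
  (2, [2, 0, 1, 2, 0, 0, 2, 1], [0, 0, 2, 0, 0])]

/-- The double-coset representative index. -/
def dcR (m : ℕ) : ℕ := (dcTab.getD m (0, [], [])).1

/-- The left word. -/
def dcA (m : ℕ) : List ℕ := (dcTab.getD m (0, [], [])).2.1

/-- The right word. -/
def dcB (m : ℕ) : List ℕ := (dcTab.getD m (0, [], [])).2.2

theorem chkDC : ∀ m < 266,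
    U0 m = mul (mul (evalW S1 (dcA m)) (U0 (dcR m))) (evalW S1 (dcB m)) ∧
      (dcR m = 0 ∨ dcR m = 1 ∨ dcR m = 2 ∨ dcR m = 16 ∨ dcR m = 46) := by
  decide +kernel

/-- A word of order 6. -/
def w6 : List ℕ := [0, 1, 1, 1]

/-- A word of order 10. -/
def w10 : List ℕ := [0, 1]

/-- A word of order 15. -/
def w15 : List ℕ := [0, 0, 1, 1, 0, 1, 0, 1, 1]

theorem chk6 : powM (evalW S0 w6) 6 = one ∧ powM (evalW S0 w6) 3 ≠ one ∧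
    powM (evalW S0 w6) 2 ≠ one := by
  decide +kernel

theorem chk10 : powM (evalW S0 w10) 10 = one ∧ powM (evalW S0 w10) 5 ≠ one ∧
    powM (evalW S0 w10) 2 ≠ one := by
  decide +kernel

theorem chk15 : powM (evalW S0 w15) 15 = one ∧ powM (evalW S0 w15) 5 ≠ one ∧
    powM (evalW S0 w15) 3 ≠ one := by
  decide +kernel

end Cfsg.Agent.Lib.Helper72.J1Spec
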