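import Mathlib
import Cfsg.Prelude.Def_PLocal
import Cfsg.Prelude.Def_OddOrderLocal

/-! Quotients of metacyclic groups; `Ω₁` of a cyclic group. -/

set_option autoImplicit false
set_option linter.style.haveILetI false

namespace Cfsg.Agent.Lib.Helper72

universe u

/-- a quotient of a metacyclic group is metacyclic -/
theorem isMetacyclic_quotient {R : Type u} [Group R] (hm : Cfsg.IsMetacyclic R) (T : Subgroup R)
    [T.Normal] : Cfsg.IsMetacyclic (R ⧸ T) := by
  obtain ⟨N, hN, hNc, hQc⟩ := hm
  have hs : Function.Surjective (QuotientGroup.mk' T) := QuotientGroup.mk'_surjective T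
  have hNbn : (N.map (QuotientGroup.mk' T)).Normal := hN.map _ hs
  refine ⟨N.map (QuotientGroup.mk' T), hNbn, ?_, ?_⟩
  · exact isCyclic_of_surjective ((QuotientGroup.mk' T).subgroupMap N)
      ((QuotientGroup.mk' T).subgroupMap_surjective N)
  · have hle : N ≤ (N.map (QuotientGroup.mk' T)).comap (QuotientGroup.mk' T) := Subgroup.le_comap_map _ _
    refine isCyclic_of_surjective (QuotientGroup.map N (N.map (QuotientGroup.mk' T)) (QuotientGroup.mk' T) hle) ?_
    intro q
    obtain ⟨q', rfl⟩ := QuotientGroup.mk_surjective q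
    obtain ⟨r, rfl⟩ := QuotientGroup.mk_surjective q'
    exact ⟨QuotientGroup.mk r, rfl⟩

/-- in a finite cyclic group the elements of order dividing `p` generate a subgroup of order at most
`p` -/
theorem card_omegaOne_le_of_isCyclic {Q : Type*} [Group Q] [Finite Q] (hc : IsCyclic Q) (p : ℕ)
    (hp : 0 < p) : Nat.card ↥(Cfsg.omegaOne p (⊤ : Subgroup Q)) ≤ p := by
  classical
  have hcomm : ∀ a b : Q, a * b = b * a := by
    intro a b
    letI := hc.commGroup
    exact mul_comm a b
  let K : Subgroup Q :=
    { carrier := {x | x ^ p = 1}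
      one_mem' := one_pow p
      mul_mem' := by
        intro a b ha hb
        have hab : Commute a b := hcomm a b
        show (a * b) ^ p = 1
        rw [hab.mul_pow, ha, hb, one_mul]
      inv_mem' := by
        intro a ha
        show a⁻¹ ^ p = 1
        rw [inv_pow, ha, inv_one] }
  have hle : Cfsg.omegaOne p (⊤ : Subgroup Q) ≤ K := by
    unfold Cfsg.omegaOne
    rw [Subgroup.closure_le]
    rintro x ⟨_, hx⟩
    exact hx
  refine le_trans (Subgroup.card_le_of_le hle) ?_
  haveI := Fintype.ofFinite Q
  have h1 : (Finset.univ.filter (fun a : Q => a ^ p = 1)).card ≤ p := IsCyclic.card_pow_eq_one_le hp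
  have h2 : Nat.card K = (Finset.univ.filter (fun a : Q => a ^ p = 1)).card := by
    rw [Nat.card_eq_fintype_card]
    apply Fintype.card_of_subtype
    intro x
    simp only [Finset.mem_filter, Finset.mem_univ, true_and]
    rfl
  rw [h2]
  exact h1

end Cfsg.Agent.Lib.Helper72
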