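import Mathlib
import Cfsg.Agent.Lib.Helper72.OQFDefs
import Cfsg.Agent.Lib.Helper63.OQFM0
import Cfsg.Agent.Lib.Helper19.OQFM2x

/-!
# K-OQF-M (597706): all `O`-type subalgebras are conjugate under `GO` (glue of M0 and M2)
-/

set_option autoImplicit false

namespace Cfsg.Agent.Lib.Helper72.OQFMm

open Cfsg Cfsg.Geo Cfsg.Agent.Lib.Helper72.OQF
open scoped Matrix MatrixGroups

variable {F : Type*} [Field F] {ι : Type} [Fintype ι] [DecidableEq ι]

theorem exists_gl_of_equiv (Q : QuadraticForm F (ι → F)) (g : (ι → F) ≃ₗ[F] (ι → F)) (hg : ∀ v, Q (g v) = Q v) :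
    ∃ c ∈ Cfsg.isometryGroup F (⇑Q), Matrix.toLin' ((c : GL ι F) : Matrix ι ι F) = (g : (ι → F) →ₗ[F] (ι → F)) := by
  have h1 : LinearMap.toMatrix' (g : (ι → F) →ₗ[F] (ι → F)) *
      LinearMap.toMatrix' (g.symm : (ι → F) →ₗ[F] (ι → F)) = 1 := by
    rw [← LinearMap.toMatrix'_comp, ← LinearMap.toMatrix'_id]
    congr 1
    apply LinearMap.ext
    intro v
    simp
  have h2 : LinearMap.toMatrix' (g.symm : (ι → F) →ₗ[F] (ι → F)) *
      LinearMap.toMatrix' (g : (ι → F) →ₗ[F] (ι → F)) = 1 := by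
    rw [← LinearMap.toMatrix'_comp, ← LinearMap.toMatrix'_id]
    congr 1
    apply LinearMap.ext
    intro v
    simp
  let c₀ : Matrix.GeneralLinearGroup ι F := ⟨_, _, h1, h2⟩
  have hc₀ : Matrix.toLin' (c₀ : Matrix ι ι F) = (g : (ι → F) →ₗ[F] (ι → F)) :=
    Matrix.toLin'_toMatrix' _
  have hmem : c₀ ∈ Cfsg.isometryGroup F ⇑Q := by
    intro v _
    show Q ((c₀ : Matrix ι ι F).mulVec v) = Q v
    rw [← Matrix.toLin'_apply, hc₀]
    exact hg v
  exact ⟨c₀, hmem, hc₀⟩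

theorem exists_conj [Fintype F] (hodd : Odd (Fintype.card F)) (Q : QuadraticForm F (ι → F))
    (hQ : (QuadraticMap.polarBilin Q).Nondegenerate) (K K' : Subalgebra F (Matrix ι ι F))
    (hK : IsOType (⇑Q) K) (hK' : IsOType (⇑Q) K') :
    ∃ g ∈ Cfsg.isometryGroup F (⇑Q), ∀ a : Matrix ι ι F,
      a ∈ K ↔ (g : Matrix ι ι F) * a * ((g⁻¹ : GL ι F) : Matrix ι ι F) ∈ K' := by
  have hchar : ringChar F ≠ 2 := by
    intro h
    have h0 := FiniteField.even_card_of_char_two h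
    have h1 := Nat.odd_iff.mp hodd
    omega
  obtain ⟨δ, hδ⟩ := FiniteField.exists_nonsquare hchar
  obtain ⟨θ, hθK, hθ2, hgen⟩ := Cfsg.Agent.Lib.Helper63.OQF.exists_theta hodd K hK.field δ hδ
  obtain ⟨θ', hθK', hθ2', hgen'⟩ := Cfsg.Agent.Lib.Helper63.OQF.exists_theta hodd K' hK'.field δ hδ
  have hsa : IsSAMat (⇑Q) θ := hK.sa θ hθK
  have hsa' : IsSAMat (⇑Q) θ' := hK'.sa θ' hθK'
  have hsq : ∀ (θ : Matrix ι ι F), θ * θ = δ • (1 : Matrix ι ι F) →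
      ∀ v, Matrix.toLin' θ (Matrix.toLin' θ v) = δ • v := by
    intro θ h v
    rw [Matrix.toLin'_apply, Matrix.toLin'_apply, Matrix.mulVec_mulVec, h, Matrix.smul_mulVec, Matrix.one_mulVec]
  obtain ⟨g, hgQ, hgθ⟩ := Cfsg.Agent.Lib.Helper19.OQF.exists_isometry_intertwining hodd Q hQ δ hδ
    (Matrix.toLin' θ) (Matrix.toLin' θ') (hsq θ hθ2) (hsq θ' hθ2')
    (fun u v => by simpa [Matrix.toLin'_apply] using hsa u v)
    (fun u v => by simpa [Matrix.toLin'_apply] using hsa' u v)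
  obtain ⟨c, hcmem, hc⟩ := exists_gl_of_equiv Q g hgQ
  refine ⟨c, hcmem, ?_⟩
  have hcomm : (c : Matrix ι ι F) * θ = θ' * (c : Matrix ι ι F) := by
    apply Matrix.toLin'.injective
    rw [Matrix.toLin'_mul, Matrix.toLin'_mul, hc]
    apply LinearMap.ext
    intro v
    simpa using hgθ v
  have hinv1 : (c : Matrix ι ι F) * ((c⁻¹ : GL ι F) : Matrix ι ι F) = 1 := by
    rw [← Matrix.GeneralLinearGroup.coe_mul, mul_inv_cancel]; rfl
  have hinv2 : ((c⁻¹ : GL ι F) : Matrix ι ι F) * (c : Matrix ι ι F) = 1 := by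
    rw [← Matrix.GeneralLinearGroup.coe_mul, inv_mul_cancel]; rfl
  have hconj : ∀ s t : F, (c : Matrix ι ι F) * (s • (1 : Matrix ι ι F) + t • θ) * ((c⁻¹ : GL ι F) : Matrix ι ι F)
      = s • (1 : Matrix ι ι F) + t • θ' := by
    intro s t
    rw [mul_add, add_mul, Matrix.mul_smul, Matrix.mul_smul, Matrix.smul_mul, Matrix.smul_mul, mul_one, hinv1,
      hcomm, mul_assoc, hinv1, mul_one]
  intro a
  rw [hgen a, hgen' _]
  constructor
  · rintro ⟨s, t, rfl⟩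
    exact ⟨s, t, hconj s t⟩
  · rintro ⟨s, t, h⟩
    refine ⟨s, t, ?_⟩
    have h3 : a = ((c⁻¹ : GL ι F) : Matrix ι ι F) *
        ((c : Matrix ι ι F) * a * ((c⁻¹ : GL ι F) : Matrix ι ι F)) * (c : Matrix ι ι F) := by
      rw [mul_assoc, mul_assoc, hinv2, mul_one, ← mul_assoc, hinv2, one_mul]
    have h4 : s • (1 : Matrix ι ι F) + t • θ = ((c⁻¹ : GL ι F) : Matrix ι ι F) *
        ((c : Matrix ι ι F) * (s • (1 : Matrix ι ι F) + t • θ) * ((c⁻¹ : GL ι F) : Matrix ι ι F)) * (c : Matrix ι ι F) := by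
      rw [mul_assoc, mul_assoc, hinv2, mul_one, ← mul_assoc, hinv2, one_mul]
    rw [h3, h, h4, hconj]

end Cfsg.Agent.Lib.Helper72.OQFMm
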