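import Mathlib
import Cfsg.Agent.Lib.Helper72.OQFDefs
import Cfsg.Agent.Lib.Helper72.OQFM
import Cfsg.Agent.Lib.Helper91.OQFT3
import Cfsg.Agent.Lib.Helper63.OQFM0
import Cfsg.Agent.Lib.Helper54.OQFE
import Cfsg.Agent.Lib.Helper79.OQFK0
import Cfsg.Agent.Lib.Helper59.OQFA0
import Cfsg.Agent.Lib.Helper77.OQFA1
import Cfsg.Agent.Lib.Helper26.OQFB
import Cfsg.Agent.Lib.Helper79.OQFD
import Cfsg.Agent.Lib.Helper87.OQFR2a
import Cfsg.Agent.Lib.Helper34.OQFC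
import Cfsg.Agent.Lib.Helper87.OQFS
import Cfsg.Agent.Lib.Helper52.OQFR2b

/-!
# K-OQF pack (S5977 / S5978, architect helper72): the delivered leaves of PART 1 under one namespace
-/

set_option autoImplicit false

namespace Cfsg.Agent.Lib.Helper72.OQFL

open Cfsg Cfsg.Geo Cfsg.Agent.Lib.Helper72.OQF
open Cfsg.Agent.Lib.Helper79.SpU (theta K0)
open Cfsg.Agent.Lib.Helper14.SpU (LL)
open scoped Matrix MatrixGroups

variable {F : Type*} [Field F] {ι : Type} [Fintype ι] [DecidableEq ι]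

theorem isOType_of_theta [Nonempty ι] (Q : QuadraticForm F (ι → F)) (δ : F) (hδ : ¬ IsSquare δ) (θ : Matrix ι ι F)
    (hθ : θ * θ = δ • (1 : Matrix ι ι F)) (hsa : IsSAMat (⇑Q) θ) :
    ∃ K : Subalgebra F (Matrix ι ι F), IsOType (⇑Q) K ∧ GenBy K θ :=
  Cfsg.Agent.Lib.Helper91.OQF.isOType_of_theta Q δ hδ θ hθ hsa

theorem mem_normalizer_of_normTh (K : Subalgebra F (Matrix ι ι F)) (θ : Matrix ι ι F) (hK : GenBy K θ) (g : GL ι F)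
    (h : NormTh (g : Matrix ι ι F) θ) : g ∈ subalgebraNormalizer K :=
  Cfsg.Agent.Lib.Helper91.OQF.mem_normalizer_of_normTh K θ hK g h

theorem exists_theta [Fintype F] (hodd : Odd (Fintype.card F)) (K : Subalgebra F (Matrix ι ι F)) (hK : IsFieldSubalgebra 2 K)
    (δ : F) (hδ : ¬ IsSquare δ) :
    ∃ θ ∈ K, θ * θ = δ • (1 : Matrix ι ι F) ∧ GenBy K θ :=
  Cfsg.Agent.Lib.Helper63.OQF.exists_theta hodd K hK δ hδ

theorem exists_conj [Fintype F] (hodd : Odd (Fintype.card F)) (Q : QuadraticForm F (ι → F))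
    (hQ : (QuadraticMap.polarBilin Q).Nondegenerate) (K K' : Subalgebra F (Matrix ι ι F))
    (hK : IsOType (⇑Q) K) (hK' : IsOType (⇑Q) K') :
    ∃ g ∈ Cfsg.isometryGroup F (⇑Q), ∀ a : Matrix ι ι F,
      a ∈ K ↔ (g : Matrix ι ι F) * a * ((g⁻¹ : GL ι F) : Matrix ι ι F) ∈ K' :=
  Cfsg.Agent.Lib.Helper72.OQFMm.exists_conj hodd Q hQ K K' hK hK'

theorem exists_omega_mul_normalizer [Fintype F] (hodd : Odd (Fintype.card F)) (Q : QuadraticForm F (ι → F))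
    (hQ : (QuadraticMap.polarBilin Q).Nondegenerate) (hdim : 4 ≤ Fintype.card ι)
    (K : Subalgebra F (Matrix ι ι F)) (hK : IsOType (⇑Q) K)
    (h : GL ι F) (hh : h ∈ Cfsg.isometryGroup F (⇑Q)) (hdet : (h : Matrix ι ι F).det = 1) :
    ∃ ω ∈ omegaGL (⇑Q), ∃ n ∈ subalgebraNormalizer K, n ∈ Cfsg.isometryGroup F (⇑Q) ∧ h = ω * n :=
  Cfsg.Agent.Lib.Helper87.OQF.exists_omega_mul_normalizer hodd Q hQ hdim K hK h hh hdet

theorem exists_theta_of_invol [Fintype F] (hodd : Odd (Fintype.card F)) (Q : QuadraticForm F (ι → F))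
    (hQ : (QuadraticMap.polarBilin Q).Nondegenerate) (heven : Even (Fintype.card ι)) (hpos : 0 < Fintype.card ι)
    (δ : F) (x : GL ι F) (hx : x ∈ Cfsg.isometryGroup F (⇑Q))
    (hx2 : (x : Matrix ι ι F) * (x : Matrix ι ι F) = 1) (hdet : (x : Matrix ι ι F).det = 1) :
    ∃ (θ : Matrix ι ι F) (τ : GL ι F), θ * θ = δ • (1 : Matrix ι ι F) ∧ IsSAMat (⇑Q) θ ∧ NormTh (x : Matrix ι ι F) θ ∧
      τ ∈ Cfsg.isometryGroup F (⇑Q) ∧ (τ : Matrix ι ι F).det = -1 ∧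
      NormTh ((τ⁻¹ * x * τ : GL ι F) : Matrix ι ι F) θ :=
  Cfsg.Agent.Lib.Helper87.OQF.exists_theta_of_invol hodd Q hQ heven hpos δ x hx hx2 hdet

theorem exists_theta_of_neg [Fintype F] (hodd : Odd (Fintype.card F)) (Q : QuadraticForm F (ι → F))
    (hQ : (QuadraticMap.polarBilin Q).Nondegenerate) (hpos : 0 < Fintype.card ι)
    (δ : F) (x : GL ι F) (hx : x ∈ Cfsg.isometryGroup F (⇑Q))
    (hx2 : (x : Matrix ι ι F) * (x : Matrix ι ι F) = -1) :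
    ∃ (θ : Matrix ι ι F) (τ : GL ι F), θ * θ = δ • (1 : Matrix ι ι F) ∧ IsSAMat (⇑Q) θ ∧ NormTh (x : Matrix ι ι F) θ ∧
      τ ∈ Cfsg.isometryGroup F (⇑Q) ∧ (τ : Matrix ι ι F).det = -1 ∧
      NormTh ((τ⁻¹ * x * τ : GL ι F) : Matrix ι ι F) θ :=
  Cfsg.Agent.Lib.Helper52.OQF.exists_theta_of_neg hodd Q hQ hpos δ x hx hx2

theorem derange_unip [Fintype F] {p : ℕ} [Fact p.Prime] [CharP F p] (hodd : Odd (Fintype.card F))
    (Q : QuadraticForm F (ι → F)) (hQ : (QuadraticMap.polarBilin Q).Nondegenerate) (hdim : 2 ≤ Fintype.card ι)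
    (e z : ι → F) (he0 : e ≠ 0) (he : Q e = 0) (hez : QuadraticMap.polar (⇑Q) e z = 0) (hz : Q z ≠ 0)
    (K : Subalgebra F (Matrix ι ι F)) (hK : IsFieldSubalgebra 2 K) :
    ∃ x ∈ omegaGL (⇑Q), ((x ^ p : GL ι F) : Matrix ι ι F) = 1 ∧
      (∀ c : F, (x : Matrix ι ι F) ≠ c • (1 : Matrix ι ι F)) ∧
      ∀ g : GL ι F, g⁻¹ * x * g ∉ subalgebraNormalizer K :=
  Cfsg.Agent.Lib.Helper54.OQF.derange_unip hodd Q hQ hdim e z he0 he hez hz K hK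

theorem isOType_K0 (h2 : (2 : F) ≠ 0) (d : ℕ) (hd : 1 ≤ d) (δ : F) (hδ : ¬ IsSquare δ) :
    IsOType (quadFormPlus d F) (K0 d δ) :=
  Cfsg.Agent.Lib.Helper79.OQF.isOType_K0 h2 d hd δ hδ

theorem relIndex_mul_dvd [Fintype F] (hodd : Odd (Fintype.card F)) (d : ℕ) (hd : 1 ≤ d) (δ : F)
    [Fact (∀ r : F, r ^ 2 ≠ δ + 0 * r)] :
    (subalgebraNormalizer (K0 d δ)).relIndex (omegaGL (quadFormPlus d F)) *
        Nat.card (Cfsg.isometryGroup (LL δ) (⇑(Cfsg.Agent.Lib.Helper50.dotQF d (LL δ)))) ∣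
      4 * Nat.card (Cfsg.isometryGroup F (quadFormPlus d F)) :=
  Cfsg.Agent.Lib.Helper59.OQF.relIndex_mul_dvd hodd d hd δ

theorem card_dot [Fintype F] {q : ℕ} (hq : Fintype.card F = q) (hodd : Odd q) (d : ℕ) (hd : 2 ≤ d) (δ : F)
    [Fact (∀ r : F, r ^ 2 ≠ δ + 0 * r)] :
    Nat.card (Cfsg.isometryGroup (LL δ) (⇑(Cfsg.Agent.Lib.Helper50.dotQF d (LL δ)))) = oDot q d :=
  Cfsg.Agent.Lib.Helper77.OQF.card_dot hq hodd d hd δ

theorem arith (q d N r : ℕ) (hq : 2 ≤ q) (hodd : Odd q) (hd : 2 ≤ d) [Fact r.Prime] (hr2 : r ≠ 2) (hrq : ¬ r ∣ q)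
    (hN : N * oDot q d ∣ 4 * gOplus q d) (hrN : r ∣ N) :
    (Odd (orderOf (q : ZMod r)) ∧ orderOf (q : ZMod r) ≤ d) ∨
    (orderOf (q : ZMod r) % 4 = 2 ∧ orderOf (q : ZMod r) + 2 ≤ 2 * d) :=
  Cfsg.Agent.Lib.Helper26.OQF.arith q d N r hq hodd hd hr2 hrq hN hrN

theorem derange_odd [Fintype F] {p : ℕ} [Fact p.Prime] [CharP F p] {q : ℕ} (hq : Fintype.card F = q) (hodd : Odd q)
    (d : ℕ) (hd : 2 ≤ d) (K : Subalgebra F (Matrix (Fin d ⊕ Fin d) (Fin d ⊕ Fin d) F)) (hK : IsFieldSubalgebra 2 K)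
    (r : ℕ) [Fact r.Prime] (hr2 : r ≠ 2) (hrp : r ≠ p)
    (he : Odd (orderOf (q : ZMod r))) (hed : orderOf (q : ZMod r) ≤ d) :
    ∃ x ∈ omegaGL (quadFormPlus d F), ((x ^ r : GL (Fin d ⊕ Fin d) F) : Matrix (Fin d ⊕ Fin d) (Fin d ⊕ Fin d) F) = 1 ∧
      (∀ z : F, (x : Matrix (Fin d ⊕ Fin d) (Fin d ⊕ Fin d) F) ≠ z • (1 : Matrix (Fin d ⊕ Fin d) (Fin d ⊕ Fin d) F)) ∧
      ∀ g ∈ omegaGL (quadFormPlus d F), g⁻¹ * x * g ∉ subalgebraNormalizer K :=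
  Cfsg.Agent.Lib.Helper34.OQF.derange_odd hq hodd d hd K hK r hr2 hrp he hed

theorem derange_two [Fintype F] {p : ℕ} [Fact p.Prime] [CharP F p] {q : ℕ} (hq : Fintype.card F = q) (hodd : Odd q)
    (d : ℕ) (hd : 2 ≤ d) (K : Subalgebra F (Matrix (Fin d ⊕ Fin d) (Fin d ⊕ Fin d) F)) (hK : IsOType (quadFormPlus d F) K)
    (r : ℕ) [Fact r.Prime] (hr2 : r ≠ 2) (hrp : r ≠ p)
    (h4 : orderOf (q : ZMod r) % 4 = 2) (hed : orderOf (q : ZMod r) + 2 ≤ 2 * d) :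
    ∃ x ∈ omegaGL (quadFormPlus d F), ((x ^ r : GL (Fin d ⊕ Fin d) F) : Matrix (Fin d ⊕ Fin d) (Fin d ⊕ Fin d) F) = 1 ∧
      (∀ z : F, (x : Matrix (Fin d ⊕ Fin d) (Fin d ⊕ Fin d) F) ≠ z • (1 : Matrix (Fin d ⊕ Fin d) (Fin d ⊕ Fin d) F)) ∧
      ∀ g ∈ omegaGL (quadFormPlus d F), g⁻¹ * x * g ∉ subalgebraNormalizer K :=
  Cfsg.Agent.Lib.Helper79.OQF.derange_two hq hodd d hd K hK r hr2 hrp h4 hed

end Cfsg.Agent.Lib.Helper72.OQFL
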