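import Mathlib
import Cfsg.Prelude.Def_GeometricClasses
import Cfsg.Prelude.Def_ClassicalGeometry
import Cfsg.Agent.Lib.Helper72.OQFDefs
import Cfsg.Agent.Lib.Helper72.OQFLeaves
import Cfsg.Agent.Lib.Helper79.SpUGlue
import Cfsg.Agent.Lib.Helper50.GeoBridge
import Cfsg.Agent.Lib.Helper50.SpinorIndex
import Cfsg.Agent.Lib.Helper50.OmegaTransitive

/-!
# K-OQF glue (helper72): the `r = 2` direction of S5977 / S5978 for an arbitrary nondegenerate quadratic form,
and transport lemmas along conjugation by an isometry.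
-/

set_option autoImplicit false

namespace Cfsg.Agent.Lib.Helper72.OQF

open Cfsg Cfsg.Geo
open Cfsg.Agent.Lib.Helper79.SpU (conj_mem_normalizer conj_symm mem_subalgebraNormalizer_iff)
open scoped Matrix MatrixGroups

variable {F : Type*} [Field F] {ι : Type} [Fintype ι] [DecidableEq ι]

/-- `Ω` is normalised by the isometry group -/
theorem conj_mem_omegaGL (Q : (ι → F) → F) (h g : GL ι F) (hh : h ∈ Cfsg.isometryGroup F Q)
    (hg : g ∈ omegaGL Q) : h * g * h⁻¹ ∈ omegaGL Q := by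
  rw [Cfsg.Agent.Lib.Helper50.mem_omegaGL_iff] at hg ⊢
  obtain ⟨hg1, hg2⟩ := hg
  refine ⟨(Cfsg.isometryGroup F Q).mul_mem ((Cfsg.isometryGroup F Q).mul_mem hh hg1)
    ((Cfsg.isometryGroup F Q).inv_mem hh), ?_⟩
  have hn : (commutator ↥(Cfsg.isometryGroup F Q)).Normal := inferInstance
  exact hn.conj_mem ⟨g, hg1⟩ hg2 ⟨h, hh⟩

theorem omegaGL_le (Q : (ι → F) → F) : omegaGL Q ≤ Cfsg.isometryGroup F Q := by
  intro g hg
  rw [Cfsg.Agent.Lib.Helper50.mem_omegaGL_iff] at hg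
  exact hg.1

/-- the index of `N(K) ∩ Ω` in `Ω` is invariant under conjugation of `K` by an isometry -/
theorem relIndex_eq_of_conj_GO (Q : (ι → F) → F) (K K' : Subalgebra F (Matrix ι ι F)) (h : GL ι F)
    (hhQ : h ∈ Cfsg.isometryGroup F Q)
    (hh : ∀ a : Matrix ι ι F, a ∈ K ↔ (h : Matrix ι ι F) * a * ((h⁻¹ : GL ι F) : Matrix ι ι F) ∈ K') :
    (subalgebraNormalizer K).relIndex (omegaGL Q) = (subalgebraNormalizer K').relIndex (omegaGL Q) := by
  have h1 : subalgebraNormalizer K' = (subalgebraNormalizer K).map (MulAut.conj h).toMonoidHom := by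
    ext y
    rw [Subgroup.mem_map_equiv, MulAut.conj_symm_apply]
    constructor
    · intro hy
      exact conj_mem_normalizer K K' h hh y hy
    · intro hy
      have := conj_mem_normalizer K' K h⁻¹ (conj_symm K K' h hh) _ hy
      rw [inv_inv] at this
      have e : h * (h⁻¹ * y * h) * h⁻¹ = y := by group
      rwa [e] at this
  have h2 : omegaGL Q = (omegaGL Q).map (MulAut.conj h).toMonoidHom := by
    ext y
    rw [Subgroup.mem_map_equiv, MulAut.conj_symm_apply]
    constructor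
    · intro hy
      have := conj_mem_omegaGL Q h⁻¹ y ((Cfsg.isometryGroup F Q).inv_mem hhQ) hy
      rwa [inv_inv] at this
    · intro hy
      have := conj_mem_omegaGL Q h _ hhQ hy
      have e : h * (h⁻¹ * y * h) * h⁻¹ = y := by group
      rwa [e] at this
  rw [h1]
  nth_rewrite 2 [h2]
  exact (Subgroup.relIndex_map_map_of_injective _ _ (MulAut.conj h).injective).symm

theorem mem_isometryGroup_iff (Q : (ι → F) → F) (g : GL ι F) :
    g ∈ Cfsg.isometryGroup F Q ↔ ∀ v : ι → F, Q ((g : Matrix ι ι F) *ᵥ v) = Q v := by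
  constructor
  · intro h v
    exact h v v
  · intro h u _
    exact h u

/-- in `GO`, a scalar square is `± 1` -/
theorem sq_scalar_eq (Q : QuadraticForm F (ι → F)) (v : ι → F) (hv : Q v ≠ 0) (x : GL ι F)
    (hx : x ∈ Cfsg.isometryGroup F (⇑Q)) (z : F)
    (hz : (x : Matrix ι ι F) * (x : Matrix ι ι F) = z • (1 : Matrix ι ι F)) : z = 1 ∨ z = -1 := by
  rw [mem_isometryGroup_iff] at hx
  have e : z • v = (x : Matrix ι ι F) *ᵥ ((x : Matrix ι ι F) *ᵥ v) := by
    rw [Matrix.mulVec_mulVec, hz, Matrix.smul_mulVec, Matrix.one_mulVec]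
  have h1 : Q (z • v) = Q v := by rw [e, hx, hx]
  rw [QuadraticMap.map_smul, smul_eq_mul] at h1
  have h2 : (z * z - 1) * Q v = 0 := by linear_combination h1
  rcases mul_eq_zero.1 h2 with h | h
  · have h3 : (z - 1) * (z + 1) = 0 := by linear_combination h
    rcases mul_eq_zero.1 h3 with h4 | h4
    · exact Or.inl (sub_eq_zero.1 h4)
    · exact Or.inr (eq_neg_of_add_eq_zero_left h4)
  · exact absurd h hv

/-- **the `r = 2` direction**, for an arbitrary nondegenerate quadratic form in even dimension `≥ 4` over a finite field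
of odd order: an element of `Ω` whose square is `± 1` is `Ω`-conjugate into the normaliser of any `O`-type subalgebra. -/
theorem if_part [Fintype F] (hodd : Odd (Fintype.card F)) (Q : QuadraticForm F (ι → F))
    (hQ : (QuadraticMap.polarBilin Q).Nondegenerate) (hdim : 4 ≤ Fintype.card ι) (heven : Even (Fintype.card ι))
    (K : Subalgebra F (Matrix ι ι F)) (hK : IsOType (⇑Q) K)
    (x : GL ι F) (hx : x ∈ omegaGL (⇑Q))
    (hx2 : (x : Matrix ι ι F) * (x : Matrix ι ι F) = 1 ∨ (x : Matrix ι ι F) * (x : Matrix ι ι F) = -1) :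
    ∃ g ∈ omegaGL (⇑Q), g⁻¹ * x * g ∈ subalgebraNormalizer K := by
  classical
  have hpos : 0 < Fintype.card ι := by omega
  have : Nonempty ι := Fintype.card_pos_iff.1 hpos
  have h2F : (2 : F) ≠ 0 := by
    intro h
    have hchar : ringChar F = 2 := by
      have : ((2 : ℕ) : F) = 0 := by exact_mod_cast h
      have hd := (ringChar.spec F 2).1 this
      have hp := CharP.char_is_prime F (ringChar F)
      exact (Nat.prime_dvd_prime_iff_eq hp Nat.prime_two).1 hd
    have := FiniteField.even_card_of_char_two hchar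
    exact (Nat.not_even_iff_odd.2 hodd) (Nat.even_iff.2 this)
  have hchar : ringChar F ≠ 2 := by
    intro h
    apply h2F
    have := ringChar.Nat.cast_ringChar (R := F)
    rw [h] at this
    exact_mod_cast this
  obtain ⟨δ, hδ⟩ := FiniteField.exists_nonsquare hchar
  -- `x` is an isometry of determinant one
  have hxQ : x ∈ Cfsg.isometryGroup F (⇑Q) := omegaGL_le _ hx
  have hdetx : (x : Matrix ι ι F).det = 1 := by
    rw [Cfsg.Agent.Lib.Helper50.mem_omegaGL_iff] at hx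
    obtain ⟨h1, h2⟩ := hx
    have := ((Cfsg.Agent.Lib.Helper50.mem_commutator_iff h2F Q hQ δ hδ ⟨x, h1⟩).1 h2).1
    have h3 := Cfsg.Agent.Lib.Helper50.detHom_val (⇑Q) ⟨x, h1⟩
    rw [this, Units.val_one] at h3
    exact h3.symm
  -- the structure normalised by `x`
  obtain ⟨θ, τ, hθ, hsa, hxθ, hτQ, hτdet, hyθ⟩ :
      ∃ (θ : Matrix ι ι F) (τ : GL ι F), θ * θ = δ • (1 : Matrix ι ι F) ∧ IsSAMat (⇑Q) θ ∧
        NormTh (x : Matrix ι ι F) θ ∧ τ ∈ Cfsg.isometryGroup F (⇑Q) ∧ (τ : Matrix ι ι F).det = -1 ∧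
        NormTh ((τ⁻¹ * x * τ : GL ι F) : Matrix ι ι F) θ := by
    rcases hx2 with h | h
    · exact OQFL.exists_theta_of_invol hodd Q hQ heven hpos δ x hxQ h hdetx
    · exact OQFL.exists_theta_of_neg hodd Q hQ hpos δ x hxQ h
  obtain ⟨K', hK', hgen⟩ := OQFL.isOType_of_theta Q δ hδ θ hθ hsa
  have hxN : x ∈ subalgebraNormalizer K' := OQFL.mem_normalizer_of_normTh K' θ hgen x hxθ
  have hyN : τ⁻¹ * x * τ ∈ subalgebraNormalizer K' := OQFL.mem_normalizer_of_normTh K' θ hgen _ hyθ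
  -- conjugate `K` to `K'`
  obtain ⟨g₁, hg₁Q, hg₁⟩ := OQFL.exists_conj hodd Q hQ K K' hK hK'
  have key : ∀ (h y : GL ι F), h ∈ Cfsg.isometryGroup F (⇑Q) → (h : Matrix ι ι F).det = 1 →
      y ∈ subalgebraNormalizer K → (∃ c : GL ι F, h⁻¹ * x * h = c ∧ c = y) →
      ∃ g ∈ omegaGL (⇑Q), g⁻¹ * x * g ∈ subalgebraNormalizer K := by
    rintro h y hhQ hhdet hy ⟨c, hc, rfl⟩
    obtain ⟨ω, hω, n, hn, -, rfl⟩ := OQFL.exists_omega_mul_normalizer hodd Q hQ hdim K hK h hhQ hhdet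
    refine ⟨ω, hω, ?_⟩
    have e : ω⁻¹ * x * ω = n * ((ω * n)⁻¹ * x * (ω * n)) * n⁻¹ := by group
    rw [e, hc]
    exact (subalgebraNormalizer K).mul_mem ((subalgebraNormalizer K).mul_mem hn hy)
      ((subalgebraNormalizer K).inv_mem hn)
  have hdet₁ : (g₁ : Matrix ι ι F).det = 1 ∨ (g₁ : Matrix ι ι F).det = -1 := by
    rcases Cfsg.Agent.Lib.Helper50.detHom_eq_one_or h2F Q hQ ⟨g₁, hg₁Q⟩ with h | h
    · left
      have h3 := Cfsg.Agent.Lib.Helper50.detHom_val (⇑Q) ⟨g₁, hg₁Q⟩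
      rw [h, Units.val_one] at h3
      exact h3.symm
    · right
      have h3 := Cfsg.Agent.Lib.Helper50.detHom_val (⇑Q) ⟨g₁, hg₁Q⟩
      rw [h] at h3
      simpa using h3.symm
  rcases hdet₁ with hd1 | hd1
  · exact key g₁ (g₁⁻¹ * x * g₁) hg₁Q hd1 (conj_mem_normalizer K K' g₁ hg₁ x hxN) ⟨_, rfl, rfl⟩
  · refine key (τ * g₁) (g₁⁻¹ * (τ⁻¹ * x * τ) * g₁) ((Cfsg.isometryGroup F (⇑Q)).mul_mem hτQ hg₁Q) ?_
      (conj_mem_normalizer K K' g₁ hg₁ _ hyN) ⟨_, rfl, by group⟩
    rw [Units.val_mul, Matrix.det_mul, hτdet, hd1]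
    ring

end Cfsg.Agent.Lib.Helper72.OQF
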