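import Mathlib
import Cfsg.Agent.Lib.Helper72.OQFDefs
import Cfsg.Agent.Lib.Helper72.OQFDefs2
import Cfsg.Agent.Lib.Helper23.OQFNF
import Cfsg.Agent.Lib.Helper79.OQFDm
import Cfsg.Agent.Lib.Helper59.OQFA0m
import Cfsg.Agent.Lib.Helper80.OQFTL
import Cfsg.Agent.Lib.Helper42.OQFA1m
import Cfsg.Agent.Lib.Helper26.OQFBm
import Cfsg.Agent.Lib.Helper60.OQFCm

/-!
# K-OQF pack, PART 2 (S5978 "only if", architect helper72): the delivered leaves under one namespace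
-/

set_option autoImplicit false

namespace Cfsg.Agent.Lib.Helper72.OQFL2

open Cfsg Cfsg.Geo Cfsg.Agent.Lib.Helper72.OQF
open Cfsg.Agent.Lib.Helper14.SpU (LL)
open scoped Matrix MatrixGroups

variable {F : Type*} [Field F] {ι : Type} [Fintype ι] [DecidableEq ι]

theorem exists_nframe [Fintype F] (hodd : Odd (Fintype.card F)) (Q : QuadraticForm F (ι → F))
    (hQ : (QuadraticMap.polarBilin Q).Nondegenerate) (δ : F) (hδ : ¬ IsSquare δ) (θ : Matrix ι ι F)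
    (hθ : θ * θ = δ • (1 : Matrix ι ι F)) (hsa : IsSAMat (⇑Q) θ) (d : ℕ) (hd : 1 ≤ d) (hcard : Fintype.card ι = 2 * d) :
    ∃ (b : Fin d → ι → F) (a β : F), IsNFrame (⇑Q) θ d b a β :=
  Cfsg.Agent.Lib.Helper23.OQF.exists_nframe hodd Q hQ δ hδ θ hθ hsa d hd hcard

theorem relIndex_mul_dvd_of_nframe [Fintype F] (hodd : Odd (Fintype.card F)) (Q : QuadraticForm F (ι → F))
    (hQ : (QuadraticMap.polarBilin Q).Nondegenerate) (δ : F) [Fact (∀ r : F, r ^ 2 ≠ δ + 0 * r)]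
    (K : Subalgebra F (Matrix ι ι F)) (θ : Matrix ι ι F) (hθ : θ * θ = δ • (1 : Matrix ι ι F)) (hsa : IsSAMat (⇑Q) θ)
    (hK : GenBy K θ) (d : ℕ) (hd : 1 ≤ d) (b : Fin d → ι → F) (a β : F) (hfr : IsNFrame (⇑Q) θ d b a β) :
    (subalgebraNormalizer K).relIndex (omegaGL (⇑Q)) *
        Nat.card (Cfsg.isometryGroup (LL δ)
          (⇑(QuadraticMap.weightedSumSquares (LL δ) (nfW d (⟨β, 2 * a⟩ : LL δ))))) ∣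
      4 * Nat.card (Cfsg.isometryGroup F (⇑Q)) :=
  Cfsg.Agent.Lib.Helper59.OQF.relIndex_mul_dvd_of_nframe hodd Q hQ δ K θ hθ hsa hK d hd b a β hfr

theorem not_isSquare_of_nframe_minus [Fintype F] (hodd : Odd (Fintype.card F)) (m : ℕ) (a₀ b₀ : F)
    (hab : ∀ x y : F, x ^ 2 + a₀ * x * y + b₀ * y ^ 2 = 0 → x = 0 ∧ y = 0) (δ : F) [Fact (∀ r : F, r ^ 2 ≠ δ + 0 * r)]
    (θ : Matrix ((Fin m ⊕ Fin m) ⊕ Fin 2) ((Fin m ⊕ Fin m) ⊕ Fin 2) F)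
    (hθ : θ * θ = δ • (1 : Matrix ((Fin m ⊕ Fin m) ⊕ Fin 2) ((Fin m ⊕ Fin m) ⊕ Fin 2) F))
    (hsa : IsSAMat (quadFormMinus m F a₀ b₀) θ) (d : ℕ) (hd : d = m + 1) (heven : Even d)
    (b : Fin d → (Fin m ⊕ Fin m) ⊕ Fin 2 → F) (a β : F) (hfr : IsNFrame (quadFormMinus m F a₀ b₀) θ d b a β) :
    ¬ IsSquare (⟨β, 2 * a⟩ : LL δ) :=
  Cfsg.Agent.Lib.Helper80.OQF.not_isSquare_of_nframe_minus hodd m a₀ b₀ hab δ θ hθ hsa d hd heven b a β hfr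

theorem card_wss [Fintype F] {q : ℕ} (hq : Fintype.card F = q) (hodd : Odd q) (d : ℕ) (hd : 2 ≤ d) (δ : F)
    [Fact (∀ r : F, r ^ 2 ≠ δ + 0 * r)] (c : LL δ) (hc : c ≠ 0) (hcs : Even d → ¬ IsSquare c) :
    Nat.card (Cfsg.isometryGroup (LL δ) (⇑(QuadraticMap.weightedSumSquares (LL δ) (nfW d c)))) = oDotM q d :=
  Cfsg.Agent.Lib.Helper42.OQF.card_wss hq hodd d hd δ c hc hcs

theorem arith_minus (q d N r : ℕ) (hq : 2 ≤ q) (hodd : Odd q) (hd : 2 ≤ d) [Fact r.Prime] (hr2 : r ≠ 2) (hrq : ¬ r ∣ q)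
    (hN : N * oDotM q d ∣ 4 * gOminus q d) (hrN : r ∣ N) :
    (Odd (orderOf (q : ZMod r)) ∧ orderOf (q : ZMod r) + 1 ≤ d) ∨
    (orderOf (q : ZMod r) % 4 = 2 ∧ orderOf (q : ZMod r) ≤ 2 * d) :=
  Cfsg.Agent.Lib.Helper26.OQF.arith_minus q d N r hq hodd hd hr2 hrq hN hrN

theorem derange_odd_minus [Fintype F] {p : ℕ} [Fact p.Prime] [CharP F p] {q : ℕ} (hq : Fintype.card F = q) (hodd : Odd q)
    (m : ℕ) (hm : 1 ≤ m) (a₀ b₀ : F) (hab : ∀ x y : F, x ^ 2 + a₀ * x * y + b₀ * y ^ 2 = 0 → x = 0 ∧ y = 0)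
    (K : Subalgebra F (Matrix ((Fin m ⊕ Fin m) ⊕ Fin 2) ((Fin m ⊕ Fin m) ⊕ Fin 2) F)) (hK : IsFieldSubalgebra 2 K)
    (r : ℕ) [Fact r.Prime] (hr2 : r ≠ 2) (hrp : r ≠ p)
    (he : Odd (orderOf (q : ZMod r))) (hed : orderOf (q : ZMod r) ≤ m) :
    ∃ x ∈ omegaGL (quadFormMinus m F a₀ b₀),
      ((x ^ r : GL ((Fin m ⊕ Fin m) ⊕ Fin 2) F) : Matrix ((Fin m ⊕ Fin m) ⊕ Fin 2) ((Fin m ⊕ Fin m) ⊕ Fin 2) F) = 1 ∧
      (∀ z : F, (x : Matrix ((Fin m ⊕ Fin m) ⊕ Fin 2) ((Fin m ⊕ Fin m) ⊕ Fin 2) F) ≠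
        z • (1 : Matrix ((Fin m ⊕ Fin m) ⊕ Fin 2) ((Fin m ⊕ Fin m) ⊕ Fin 2) F)) ∧
      ∀ g ∈ omegaGL (quadFormMinus m F a₀ b₀), g⁻¹ * x * g ∉ subalgebraNormalizer K :=
  Cfsg.Agent.Lib.Helper60.OQF.derange_odd_minus hq hodd m hm a₀ b₀ hab K hK r hr2 hrp he hed

theorem derange_two_minus [Fintype F] {p : ℕ} [Fact p.Prime] [CharP F p] {q : ℕ} (hq : Fintype.card F = q) (hodd : Odd q)
    (m : ℕ) (hm : 1 ≤ m) (a₀ b₀ : F) (hab : ∀ x y : F, x ^ 2 + a₀ * x * y + b₀ * y ^ 2 = 0 → x = 0 ∧ y = 0)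
    (K : Subalgebra F (Matrix ((Fin m ⊕ Fin m) ⊕ Fin 2) ((Fin m ⊕ Fin m) ⊕ Fin 2) F))
    (hK : IsOType (quadFormMinus m F a₀ b₀) K)
    (r : ℕ) [Fact r.Prime] (hr2 : r ≠ 2) (hrp : r ≠ p)
    (h4 : orderOf (q : ZMod r) % 4 = 2) (hed : orderOf (q : ZMod r) ≤ 2 * (m + 1)) :
    ∃ x ∈ omegaGL (quadFormMinus m F a₀ b₀),
      ((x ^ r : GL ((Fin m ⊕ Fin m) ⊕ Fin 2) F) : Matrix ((Fin m ⊕ Fin m) ⊕ Fin 2) ((Fin m ⊕ Fin m) ⊕ Fin 2) F) = 1 ∧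
      (∀ z : F, (x : Matrix ((Fin m ⊕ Fin m) ⊕ Fin 2) ((Fin m ⊕ Fin m) ⊕ Fin 2) F) ≠
        z • (1 : Matrix ((Fin m ⊕ Fin m) ⊕ Fin 2) ((Fin m ⊕ Fin m) ⊕ Fin 2) F)) ∧
      ∀ g ∈ omegaGL (quadFormMinus m F a₀ b₀), g⁻¹ * x * g ∉ subalgebraNormalizer K :=
  Cfsg.Agent.Lib.Helper79.OQF.derange_two_minus hq hodd m hm a₀ b₀ hab K hK r hr2 hrp h4 hed

end Cfsg.Agent.Lib.Helper72.OQFL2
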