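import Mathlib

/-!
Odd-order products of involutions in symmetric groups, part 1: the insertion lemma
(inserting two fixed points into a cycle of a permutation of odd order keeps the order odd),
conjugacy of involutions with odd-order product, and products with disjoint supports.
-/

set_option autoImplicit false

namespace Cfsg.Agent.Lib.Helper72.OddProd

open Equiv Equiv.Perm

set_option linter.unusedSectionVars false

variable {α : Type*} [DecidableEq α] [Fintype α]

/-- a permutation some odd power of which is trivial has odd order -/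
theorem odd_orderOf_of_pow_eq_one {G : Type*} [Monoid G] (g : G) (k : ℕ) (hk : Odd k) (h : g ^ k = 1) :
    Odd (orderOf g) :=
  Odd.of_dvd_nat hk (orderOf_dvd_of_pow_eq_one h)

/-- the three-cycle `e ↦ a ↦ b ↦ e` -/
def cyc3 (a e b : α) : Perm α := swap a e * swap a b

theorem cyc3_e {a e b : α} (hea : e ≠ a) (heb : e ≠ b) : cyc3 a e b e = a := by
  unfold cyc3
  rw [Perm.mul_apply, swap_apply_of_ne_of_ne hea heb, swap_apply_right]

theorem cyc3_a {a e b : α} (hab : a ≠ b) (heb : e ≠ b) : cyc3 a e b a = b := by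
  unfold cyc3
  rw [Perm.mul_apply, swap_apply_left, swap_apply_of_ne_of_ne hab.symm heb.symm]

theorem cyc3_b {a e b : α} : cyc3 a e b b = e := by
  unfold cyc3
  rw [Perm.mul_apply, swap_apply_right, swap_apply_left]

theorem cyc3_other {a e b q : α} (hqa : q ≠ a) (hqe : q ≠ e) (hqb : q ≠ b) : cyc3 a e b q = q := by
  unfold cyc3
  rw [Perm.mul_apply, swap_apply_of_ne_of_ne hqa hqb, swap_apply_of_ne_of_ne hqa hqe]

/-- **Insertion lemma.** -/
theorem odd_orderOf_mul_cyc3 (σ : Perm α) (hσ : Odd (orderOf σ)) (a b e : α) (ha : σ a = a)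
    (hb : σ b = b) (hab : a ≠ b) (hea : e ≠ a) (heb : e ≠ b) :
    Odd (orderOf (σ * cyc3 a e b)) := by
  obtain ⟨τ, hτ⟩ : ∃ τ : Perm α, τ = σ * cyc3 a e b := ⟨_, rfl⟩
  rw [← hτ]
  have hτe : τ e = a := by rw [hτ, Perm.mul_apply, cyc3_e hea heb, ha]
  have hτa : τ a = b := by rw [hτ, Perm.mul_apply, cyc3_a hab heb, hb]
  have hτb : τ b = σ e := by rw [hτ, Perm.mul_apply, cyc3_b]
  have hτo : ∀ q, q ≠ a → q ≠ e → q ≠ b → τ q = σ q := by
    intro q h1 h2 h3
    rw [hτ, Perm.mul_apply, cyc3_other h1 h2 h3]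
  obtain ⟨N, hN⟩ : ∃ N : ℕ, N = orderOf σ := ⟨_, rfl⟩
  rw [← hN] at hσ
  have hNpos : 0 < N := by rw [hN]; exact orderOf_pos σ
  have hσN : ∀ q, (σ ^ N) q = q := by
    intro q; rw [hN, pow_orderOf_eq_one]; rfl
  have hσa : ∀ i : ℕ, (σ ^ i) a = a := by
    intro i
    induction i with
    | zero => rfl
    | succ i ih => rw [pow_succ, Perm.mul_apply, ha, ih]
  have hσb : ∀ i : ℕ, (σ ^ i) b = b := by
    intro i
    induction i with
    | zero => rfl
    | succ i ih => rw [pow_succ, Perm.mul_apply, hb, ih]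
  -- the minimal period of `e`
  have hex : ∃ L : ℕ, 0 < L ∧ (σ ^ L) e = e := ⟨N, hNpos, hσN e⟩
  classical
  obtain ⟨L, hL⟩ : ∃ L : ℕ, L = Nat.find hex := ⟨_, rfl⟩
  have hLpos : 0 < L := by rw [hL]; exact (Nat.find_spec hex).1
  have hLe : (σ ^ L) e = e := by rw [hL]; exact (Nat.find_spec hex).2
  have hLmin : ∀ i, 0 < i → i < L → (σ ^ i) e ≠ e := by
    intro i hi hiL h
    rw [hL] at hiL
    exact Nat.find_min hex hiL ⟨hi, h⟩
  -- `L` divides `N`
  have hLN : L ∣ N := by
    by_contra hnd
    have hmod : 0 < N % L := Nat.pos_of_ne_zero (fun h => hnd (Nat.dvd_of_mod_eq_zero h))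
    have hlt : N % L < L := Nat.mod_lt _ hLpos
    have hpow : ∀ k : ℕ, (σ ^ (L * k)) e = e := by
      intro k
      induction k with
      | zero => rfl
      | succ k ih =>
        rw [Nat.mul_succ, pow_add, Perm.mul_apply, hLe, ih]
    have h1 : (σ ^ (N % L)) e = e := by
      have h2 := hσN e
      rw [← Nat.mod_add_div N L, pow_add, Perm.mul_apply, hpow] at h2
      exact h2
    exact hLmin _ hmod hlt h1
  have hLodd : Odd L := Odd.of_dvd_nat hσ hLN
  -- the orbit of `e` under `τ`
  have key : ∀ i, 1 ≤ i → i ≤ L → (τ ^ (i + 2)) e = (σ ^ i) e := by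
    intro i hi
    induction i, hi using Nat.le_induction with
    | base =>
      intro _
      rw [pow_succ', pow_succ', pow_one, Perm.mul_apply, Perm.mul_apply, hτe, hτa, hτb, pow_one]
    | succ i hi ih =>
      intro hiL
      have hiL' : i < L := hiL
      rw [show i + 1 + 2 = (i + 2) + 1 by ring, pow_succ', Perm.mul_apply, ih hiL'.le]
      have h1 : (σ ^ i) e ≠ e := hLmin i hi hiL'
      have h2 : (σ ^ i) e ≠ a := by
        intro h
        rw [← hσa i] at h
        exact hea ((σ ^ i).injective h)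
      have h3 : (σ ^ i) e ≠ b := by
        intro h
        rw [← hσb i] at h
        exact heb ((σ ^ i).injective h)
      rw [hτo _ h2 h1 h3, pow_succ', Perm.mul_apply]
  have hτL : (τ ^ (L + 2)) e = e := by rw [key L hLpos le_rfl, hLe]
  -- points of the orbit
  have horb : ∀ k : ℕ, (τ ^ (L + 2)) ((τ ^ k) e) = (τ ^ k) e := by
    intro k
    rw [← Perm.mul_apply, ← pow_add, add_comm, pow_add, Perm.mul_apply, hτL]
  -- points outside the orbit
  have hout : ∀ q, (∀ k : ℕ, q ≠ (τ ^ k) e) → ∀ j : ℕ, (τ ^ j) q = (σ ^ j) q := by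
    intro q hq j
    induction j with
    | zero => rfl
    | succ j ih =>
      rw [pow_succ', Perm.mul_apply, ih, pow_succ', Perm.mul_apply]
      have hmem : ∀ k : ℕ, (τ ^ j) q ≠ (τ ^ k) e := by
        intro k h
        -- `q = τ^(k + M j') e` for a suitable multiple
        have hτfin : (τ ^ (orderOf τ * j)) = 1 := by rw [pow_mul, pow_orderOf_eq_one, one_pow]
        have hle : j ≤ orderOf τ * j := Nat.le_mul_of_pos_left j (orderOf_pos τ)
        have h2 : (τ ^ (orderOf τ * j - j)) ((τ ^ j) q) = q := by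
          rw [← Perm.mul_apply, ← pow_add, Nat.sub_add_cancel hle, hτfin]; rfl
        rw [h, ← Perm.mul_apply, ← pow_add] at h2
        exact hq _ h2.symm
      rw [← ih]
      have h1 : (τ ^ j) q ≠ a := by
        have := hmem 1; rwa [pow_one, hτe] at this
      have h2 : (τ ^ j) q ≠ e := by
        have := hmem 0; rwa [pow_zero] at this
      have h3 : (τ ^ j) q ≠ b := by
        have := hmem 2
        rwa [pow_succ', pow_one, Perm.mul_apply, hτe, hτa] at this
      exact hτo _ h1 h2 h3
  have hfinal : τ ^ ((L + 2) * N) = 1 := by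
    ext q
    rw [Perm.one_apply]
    by_cases hq : ∃ k : ℕ, q = (τ ^ k) e
    · obtain ⟨k, rfl⟩ := hq
      have : ∀ r : ℕ, (τ ^ ((L + 2) * r)) ((τ ^ k) e) = (τ ^ k) e := by
        intro r
        induction r with
        | zero => rfl
        | succ r ih => rw [Nat.mul_succ, pow_add, Perm.mul_apply, horb, ih]
      exact this N
    · push Not at hq
      rw [hout q hq, mul_comm, pow_mul, hN, pow_orderOf_eq_one, one_pow]; rfl
  apply odd_orderOf_of_pow_eq_one _ _ _ hfinal
  exact (Odd.add_even hLodd (by decide)).mul hσ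

end Cfsg.Agent.Lib.Helper72.OddProd
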