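import Mathlib
import Cfsg.Agent.Lib.Helper72.OddProdIns

/-!
Odd-order products of involutions in symmetric groups, part 2: conjugacy, disjoint products,
transport of identities along an embedding of `Fin k`, removal and addition of transpositions.
-/

set_option autoImplicit false
set_option linter.unusedSectionVars false

namespace Cfsg.Agent.Lib.Helper72.OddProd

open Equiv Equiv.Perm

variable {α : Type*} [DecidableEq α] [Fintype α]

/-! ### conjugacy -/

/-- involutions whose product has odd order are conjugate -/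
theorem isConj_of_odd {G : Type*} [Group G] (x z : G) (hx : x * x = 1) (hz : z * z = 1)
    (h : Odd (orderOf (x * z))) : IsConj x z := by
  obtain ⟨r, hr⟩ := h
  -- ρ = x z, ρ^(2r+1) = 1, conjugate by ρ^(r+1)
  have hxinv : x⁻¹ = x := inv_eq_of_mul_eq_one_left hx
  have hzinv : z⁻¹ = z := inv_eq_of_mul_eq_one_left hz
  have hρ : (x * z) ^ (2 * r + 1) = 1 := by rw [← hr]; exact pow_orderOf_eq_one _
  -- x ρ x = ρ⁻¹
  have hinv : x * (x * z) * x = (x * z)⁻¹ := by
    rw [mul_inv_rev, hxinv, hzinv]
    calc x * (x * z) * x = (x * x) * z * x := by group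
      _ = z * x := by rw [hx, one_mul]
  have hinvpow : ∀ k : ℕ, x * (x * z) ^ k * x = ((x * z) ^ k)⁻¹ := by
    intro k
    induction k with
    | zero => simp [hx]
    | succ k ih =>
      calc x * (x * z) ^ (k + 1) * x = (x * (x * z) ^ k * x) * (x * (x * z) * x) := by
            rw [pow_succ]
            have : x * (x * z) ^ k * x * (x * (x * z) * x)
                = x * (x * z) ^ k * (x * x) * (x * z) * x := by group
            rw [this, hx, mul_one]
            group
        _ = ((x * z) ^ k)⁻¹ * (x * z)⁻¹ := by rw [ih, hinv]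
        _ = ((x * z) ^ (k + 1))⁻¹ := by
            rw [pow_succ', ← mul_inv_rev]
  rw [isConj_iff]
  refine ⟨((x * z) ^ (r + 1))⁻¹, ?_⟩
  rw [inv_inv]
  -- ρ^{-(r+1)} x ρ^{r+1} = x ρ^{2r+2} = x ρ = z
  have h1 : ((x * z) ^ (r + 1))⁻¹ * x = x * (x * z) ^ (r + 1) := by
    rw [← hinvpow (r + 1)]
    calc x * (x * z) ^ (r + 1) * x * x = x * (x * z) ^ (r + 1) * (x * x) := by group
      _ = x * (x * z) ^ (r + 1) := by rw [hx, mul_one]
  rw [h1, mul_assoc, ← pow_add]
  have h2 : r + 1 + (r + 1) = (2 * r + 1) + 1 := by ring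
  rw [h2, pow_succ, hρ, one_mul, ← mul_assoc, hx, one_mul]

theorem odd_orderOf_swap_factors {G : Type*} [Group G] (y z : G) (hy : y * y = 1) (hz : z * z = 1)
    (h : Odd (orderOf (z * y))) : Odd (orderOf (y * z)) := by
  have hyinv : y⁻¹ = y := inv_eq_of_mul_eq_one_left hy
  have hzinv : z⁻¹ = z := inv_eq_of_mul_eq_one_left hz
  have : y * z = (z * y)⁻¹ := by rw [mul_inv_rev, hyinv, hzinv]
  rw [this, orderOf_inv]
  exact h

/-! ### disjoint products -/

theorem odd_orderOf_mul_of_disjoint (σ τ : Perm α) (hd : Perm.Disjoint σ τ) (hσ : Odd (orderOf σ))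
    (hτ : Odd (orderOf τ)) : Odd (orderOf (σ * τ)) := by
  rw [hd.orderOf]
  exact Odd.of_dvd_nat (hσ.mul hτ) (Nat.lcm_dvd_mul _ _)

theorem orderOf_swap_mul_swap {a b c : α} (hab : a ≠ b) (hac : a ≠ c) (hbc : b ≠ c) :
    orderOf (swap a b * swap b c) = 3 := by
  have h := Equiv.Perm.isThreeCycle_swap_mul_swap_same hab.symm hbc hac
  rw [swap_comm a b]
  exact h.orderOf

/-- a permutation fixing `a`, `b`, `c` is disjoint from a permutation moving only these -/
theorem disjoint_of_fixed (σ τ : Perm α) (T : Finset α) (hσ : ∀ q ∈ T, σ q = q)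
    (hτ : ∀ q, q ∉ T → τ q = q) : Perm.Disjoint σ τ := by
  intro q
  by_cases hq : q ∈ T
  · exact Or.inl (hσ q hq)
  · exact Or.inr (hτ q hq)

/-! ### commuting a swap past a permutation -/

theorem mul_swap_comm (f : Perm α) {a b : α} (ha : f a = a) (hb : f b = b) :
    f * swap a b = swap a b * f := by
  rw [Equiv.mul_swap_eq_swap_mul, ha, hb]

theorem swap_mul_invol (f : Perm α) (hf : f * f = 1) (a b : α) :
    swap a b * f = f * swap (f a) (f b) := by
  have hfinv : f⁻¹ = f := inv_eq_of_mul_eq_one_left hf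
  rw [Equiv.swap_mul_eq_mul_swap, hfinv]

theorem invol_apply_apply (f : Perm α) (hf : f * f = 1) (q : α) : f (f q) = q := by
  have := congrArg (fun g : Perm α => g q) hf
  simpa using this

/-! ### removing and adding a transposition -/

theorem remove_swap (x : Perm α) (hx : x * x = 1) {a b : α} (hab : a ≠ b) (hxa : x a = b) :
    (x * swap a b) * (x * swap a b) = 1 ∧ (x * swap a b) a = a ∧ (x * swap a b) b = b ∧
      (∀ q, q ≠ a → q ≠ b → (x * swap a b) q = x q) ∧
      (∀ q, q ∈ (x * swap a b).support ↔ q ∈ x.support ∧ q ≠ a ∧ q ≠ b) ∧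
      x = (x * swap a b) * swap a b := by
  have hxb : x b = a := by rw [← hxa]; exact invol_apply_apply x hx a
  have h1 : (x * swap a b) a = a := by rw [Perm.mul_apply, swap_apply_left, hxb]
  have h2 : (x * swap a b) b = b := by rw [Perm.mul_apply, swap_apply_right, hxa]
  have h3 : ∀ q, q ≠ a → q ≠ b → (x * swap a b) q = x q := by
    intro q hqa hqb
    rw [Perm.mul_apply, swap_apply_of_ne_of_ne hqa hqb]
  have hcomm : x * swap a b = swap a b * x := by
    rw [Equiv.mul_swap_eq_swap_mul, hxa, hxb, swap_comm]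
  refine ⟨?_, h1, h2, h3, ?_, ?_⟩
  · calc x * swap a b * (x * swap a b) = x * (swap a b * x) * swap a b := by group
      _ = x * (x * swap a b) * swap a b := by rw [← hcomm]
      _ = (x * x) * (swap a b * swap a b) := by group
      _ = 1 := by rw [hx, swap_mul_self, one_mul]
  · intro q
    rw [Perm.mem_support, Perm.mem_support]
    by_cases hqa : q = a
    · subst hqa; simp [h1]
    · by_cases hqb : q = b
      · subst hqb; simp [h2]
      · rw [h3 q hqa hqb]; simp [hqa, hqb]
  · rw [mul_assoc, swap_mul_self, mul_one]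

theorem add_swap (x : Perm α) (hx : x * x = 1) {a b : α} (hxa : x a = a) (hxb : x b = b) :
    (x * swap a b) * (x * swap a b) = 1 ∧ (x * swap a b) a = b ∧ (x * swap a b) b = a ∧
      (∀ q, q ≠ a → q ≠ b → (x * swap a b) q = x q) := by
  have hcomm : x * swap a b = swap a b * x := mul_swap_comm x hxa hxb
  refine ⟨?_, ?_, ?_, ?_⟩
  · calc x * swap a b * (x * swap a b) = x * (swap a b * x) * swap a b := by group
      _ = x * (x * swap a b) * swap a b := by rw [← hcomm]
      _ = (x * x) * (swap a b * swap a b) := by group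
      _ = 1 := by rw [hx, swap_mul_self, one_mul]
  · rw [Perm.mul_apply, swap_apply_left, hxb]
  · rw [Perm.mul_apply, swap_apply_right, hxa]
  · intro q hqa hqb
    rw [Perm.mul_apply, swap_apply_of_ne_of_ne hqa hqb]

/-- the support after removing a transposition -/
theorem card_support_remove_swap (x : Perm α) (hx : x * x = 1) {a b : α} (hab : a ≠ b)
    (hxa : x a = b) : x.support.card = (x * swap a b).support.card + 2 := by
  obtain ⟨-, -, -, -, hsupp, -⟩ := remove_swap x hx hab hxa
  have hxb : x b = a := by rw [← hxa]; exact invol_apply_apply x hx a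
  have ha : a ∈ x.support := by rw [Perm.mem_support, hxa]; exact hab.symm
  have hb : b ∈ x.support := by rw [Perm.mem_support, hxb]; exact hab
  have h1 : (x * swap a b).support = (x.support.erase a).erase b := by
    ext q
    rw [hsupp, Finset.mem_erase, Finset.mem_erase]
    tauto
  rw [h1, Finset.card_erase_of_mem, Finset.card_erase_of_mem ha]
  · have : 2 ≤ x.support.card := by
      have := Finset.card_le_card (show ({a, b} : Finset α) ⊆ x.support by
        intro q hq
        rw [Finset.mem_insert, Finset.mem_singleton] at hq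
        rcases hq with rfl | rfl
        · exact ha
        · exact hb)
      rwa [Finset.card_pair hab] at this
    omega
  · rw [Finset.mem_erase]; exact ⟨hab.symm, hb⟩

theorem support_subset_remove_swap (x : Perm α) (hx : x * x = 1) {a b : α} (hab : a ≠ b)
    (hxa : x a = b) (S : Finset α) (hS : x.support ⊆ S) :
    (x * swap a b).support ⊆ (S.erase a).erase b := by
  obtain ⟨-, -, -, -, hsupp, -⟩ := remove_swap x hx hab hxa
  intro q hq
  rw [hsupp] at hq
  rw [Finset.mem_erase, Finset.mem_erase]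
  exact ⟨hq.2.2, hq.2.1, hS hq.1⟩

/-- a permutation with support in `S` maps `S` into itself -/
theorem apply_mem_of_support_subset (f : Perm α) (S : Finset α) (hS : f.support ⊆ S) {q : α}
    (hq : q ∈ S) : f q ∈ S := by
  by_cases h : f q = q
  · rw [h]; exact hq
  · apply hS
    rw [Perm.mem_support]
    intro h2
    exact h (f.injective h2)

theorem fixed_of_not_mem (f : Perm α) (S : Finset α) (hS : f.support ⊆ S) {q : α} (hq : q ∉ S) :
    f q = q := by
  by_contra h
  exact hq (hS (Perm.mem_support.mpr h))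

/-! ### transport along an embedding of `Fin k` -/

theorem via_swap {k : ℕ} (ι : Fin k ↪ α) (i j : Fin k) :
    viaEmbeddingHom ι (swap i j) = swap (ι i) (ι j) := by
  ext q
  rw [viaEmbeddingHom_apply]
  by_cases hq : q ∈ Set.range ι
  · obtain ⟨l, rfl⟩ := hq
    rw [viaEmbedding_apply]
    by_cases hli : l = i
    · subst hli; rw [swap_apply_left, swap_apply_left]
    · by_cases hlj : l = j
      · subst hlj; rw [swap_apply_right, swap_apply_right]
      · rw [swap_apply_of_ne_of_ne hli hlj, swap_apply_of_ne_of_ne]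
        · exact fun h => hli (ι.injective h)
        · exact fun h => hlj (ι.injective h)
  · rw [viaEmbedding_apply_of_notMem _ _ _ hq, swap_apply_of_ne_of_ne]
    · rintro rfl; exact hq ⟨i, rfl⟩
    · rintro rfl; exact hq ⟨j, rfl⟩

theorem eq_via {k : ℕ} (ι : Fin k ↪ α) (x : Perm α) (ξ : Perm (Fin k))
    (h1 : ∀ i, x (ι i) = ι (ξ i)) (h2 : ∀ q, q ∉ Set.range ι → x q = q) :
    x = viaEmbeddingHom ι ξ := by
  ext q
  rw [viaEmbeddingHom_apply]
  by_cases hq : q ∈ Set.range ι
  · obtain ⟨l, rfl⟩ := hq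
    rw [viaEmbedding_apply, h1]
  · rw [viaEmbedding_apply_of_notMem _ _ _ hq, h2 q hq]

/-- an embedding of `Fin k` from a duplicate-free vector -/
def embOfNodup {k : ℕ} (p : Fin k → α) (h : (List.ofFn p).Nodup) : Fin k ↪ α :=
  ⟨p, List.nodup_ofFn.mp h⟩

@[simp] theorem embOfNodup_apply {k : ℕ} (p : Fin k → α) (h : (List.ofFn p).Nodup) (i : Fin k) :
    embOfNodup p h i = p i := rfl

/-- the basic gadget lemma -/
theorem gadget {k : ℕ} (ι : Fin k ↪ α) (ξ η ζ : Perm (Fin k)) (hζ : ζ * ζ = 1)
    (h1 : (ξ * ζ) ^ 15 = 1) (h2 : (ζ * η) ^ 15 = 1) (S : Finset α) (hS : ∀ i, ι i ∈ S) :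
    ∃ z : Perm α, z * z = 1 ∧ z.support ⊆ S ∧ Odd (orderOf (viaEmbeddingHom ι ξ * z)) ∧
      Odd (orderOf (z * viaEmbeddingHom ι η)) := by
  refine ⟨viaEmbeddingHom ι ζ, ?_, ?_, ?_, ?_⟩
  · rw [← map_mul, hζ, map_one]
  · intro q hq
    by_contra hqS
    have hq2 : q ∉ Set.range ι := by
      rintro ⟨i, rfl⟩; exact hqS (hS i)
    rw [Perm.mem_support, viaEmbeddingHom_apply, viaEmbedding_apply_of_notMem _ _ _ hq2] at hq
    exact hq rfl
  · apply odd_orderOf_of_pow_eq_one _ 15 (by decide)
    rw [← map_mul, ← map_pow, h1, map_one]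
  · apply odd_orderOf_of_pow_eq_one _ 15 (by decide)
    rw [← map_mul, ← map_pow, h2, map_one]

end Cfsg.Agent.Lib.Helper72.OddProd
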