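import Mathlib
import Cfsg.Agent.Lib.Helper72.OddProdBasic

/-!
Odd-order products of involutions in symmetric groups, part 3: the local reduction rules.
-/

set_option autoImplicit false
set_option linter.unusedSectionVars false

namespace Cfsg.Agent.Lib.Helper72.OddProd

open Equiv Equiv.Perm

variable {α : Type*} [DecidableEq α] [Fintype α]

/-- there is an involution `z` supported in `S` with `x z` and `z y` of odd order -/
def Good (S : Finset α) (x y : Perm α) : Prop :=
  ∃ z : Perm α, z * z = 1 ∧ z.support ⊆ S ∧ Odd (orderOf (x * z)) ∧ Odd (orderOf (z * y))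

/-- the exceptional configuration: a `4`-cycle of the graph on exactly four points -/
def Bad (S : Finset α) (x y : Perm α) : Prop :=
  S.card = 4 ∧ x.support = S ∧ y.support = S ∧ x ≠ y

theorem Good.symm {S : Finset α} {x y : Perm α} (hx : x * x = 1) (hy : y * y = 1)
    (h : Good S x y) : Good S y x := by
  obtain ⟨z, hz, hzS, h1, h2⟩ := h
  exact ⟨z, hz, hzS, odd_orderOf_swap_factors y z hy hz h2, odd_orderOf_swap_factors z x hz hx h1⟩

theorem Good.mono {S S' : Finset α} {x y : Perm α} (hSS : S' ⊆ S) (h : Good S' x y) : Good S x y := by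
  obtain ⟨z, hz, hzS, h1, h2⟩ := h
  exact ⟨z, hz, hzS.trans hSS, h1, h2⟩

theorem good_self (S : Finset α) (x : Perm α) (hx : x * x = 1) (hS : x.support ⊆ S) : Good S x x := by
  refine ⟨x, hx, hS, ?_, ?_⟩ <;> rw [hx, orderOf_one] <;> exact odd_one

/-- support of `z' * swap a b` -/
theorem support_mul_swap_subset (z' : Perm α) (S : Finset α) {a b : α} (haS : a ∈ S) (hbS : b ∈ S)
    (hz' : z'.support ⊆ S) : (z' * swap a b).support ⊆ S := by
  intro q hq
  by_cases hqa : q = a
  · rw [hqa]; exact haS
  · by_cases hqb : q = b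
    · rw [hqb]; exact hbS
    · rw [Perm.mem_support, Perm.mul_apply, swap_apply_of_ne_of_ne hqa hqb] at hq
      exact hz' (Perm.mem_support.mpr hq)

/-- **Rule 2**: a common transposition. -/
theorem rule2 (S : Finset α) (x y : Perm α) (hx : x * x = 1) (hy : y * y = 1) {a b : α}
    (hab : a ≠ b) (hxa : x a = b) (hya : y a = b) (haS : a ∈ S) (hbS : b ∈ S)
    (h : Good ((S.erase a).erase b) (x * swap a b) (y * swap a b)) : Good S x y := by
  obtain ⟨z', hz', hz'S, h1, h2⟩ := h
  obtain ⟨-, hx'a, hx'b, -, -, hxeq⟩ := remove_swap x hx hab hxa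
  obtain ⟨-, hy'a, hy'b, -, -, hyeq⟩ := remove_swap y hy hab hya
  have hz'a : z' a = a := fixed_of_not_mem z' _ hz'S (by simp)
  have hz'b : z' b = b := fixed_of_not_mem z' _ hz'S (by simp)
  obtain ⟨hzz, -, -, -⟩ := add_swap z' hz' hz'a hz'b
  refine ⟨z' * swap a b, hzz, ?_, ?_, ?_⟩
  · apply support_mul_swap_subset z' S haS hbS
    exact hz'S.trans ((Finset.erase_subset _ _).trans (Finset.erase_subset _ _))
  · have : x * (z' * swap a b) = (x * swap a b) * z' := by
      conv_lhs => rw [hxeq]
      calc x * swap a b * swap a b * (z' * swap a b)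
          = x * swap a b * (swap a b * z') * swap a b := by group
        _ = x * swap a b * (z' * swap a b) * swap a b := by rw [mul_swap_comm z' hz'a hz'b]
        _ = x * swap a b * z' * (swap a b * swap a b) := by group
        _ = x * swap a b * z' := by rw [swap_mul_self, mul_one]
    rw [this]; exact h1
  · have : z' * swap a b * y = z' * (y * swap a b) := by
      conv_lhs => rw [hyeq]
      calc z' * swap a b * (y * swap a b * swap a b)
          = z' * (swap a b * (y * swap a b)) * swap a b := by group
        _ = z' * ((y * swap a b) * swap a b) * swap a b := by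
            rw [mul_swap_comm (y * swap a b) hy'a hy'b]
        _ = z' * (y * swap a b) * (swap a b * swap a b) := by group
        _ = z' * (y * swap a b) := by rw [swap_mul_self, mul_one]
    rw [this]; exact h2

/-- **Rule 3**: the end of a path. -/
theorem rule3 (S : Finset α) (x y : Perm α) (hx : x * x = 1) (hy : y * y = 1) {v w u : α}
    (hxv : x v = v) (hyv : y v = w) (hvw : v ≠ w) (hxw : x w = u) (hwu : w ≠ u)
    (hvS : v ∈ S) (hwS : w ∈ S)
    (h : Good ((S.erase v).erase w) (x * swap w u) (y * swap v w)) : Good S x y := by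
  obtain ⟨z', hz', hz'S, h1, h2⟩ := h
  obtain ⟨-, hx'w, hx'u, hx'o, -, hxeq⟩ := remove_swap x hx hwu hxw
  obtain ⟨-, hy'v, hy'w, -, -, hyeq⟩ := remove_swap y hy hvw hyv
  have hz'v : z' v = v := fixed_of_not_mem z' _ hz'S (by simp)
  have hz'w : z' w = w := fixed_of_not_mem z' _ hz'S (by simp)
  have hvu : v ≠ u := by
    intro h
    have : x u = w := by rw [← hxw]; exact invol_apply_apply x hx w
    rw [← h, hxv] at this
    exact hvw this
  have hx'v : (x * swap w u) v = v := by rw [hx'o v hvw hvu, hxv]
  obtain ⟨hzz, -, -, -⟩ := add_swap z' hz' hz'v hz'w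
  refine ⟨z' * swap v w, hzz, ?_, ?_, ?_⟩
  · apply support_mul_swap_subset z' S hvS hwS
    exact hz'S.trans ((Finset.erase_subset _ _).trans (Finset.erase_subset _ _))
  · -- x z = (x' z') * cyc3 w (z' u) v
    have hkey : x * (z' * swap v w) = ((x * swap w u) * z') * cyc3 w (z' u) v := by
      conv_lhs => rw [hxeq]
      unfold cyc3
      calc x * swap w u * swap w u * (z' * swap v w)
          = x * swap w u * (swap w u * z') * swap v w := by group
        _ = x * swap w u * (z' * swap (z' w) (z' u)) * swap v w := by rw [swap_mul_invol z' hz']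
        _ = x * swap w u * z' * (swap w (z' u) * swap w v) := by
            rw [hz'w, swap_comm v w]; group
    rw [hkey]
    apply odd_orderOf_mul_cyc3 _ h1
    · rw [Perm.mul_apply, hz'w, hx'w]
    · rw [Perm.mul_apply, hz'v, hx'v]
    · exact hvw.symm
    · intro h
      rw [← hz'w] at h
      exact hwu (z'.injective h).symm
    · intro h
      rw [← hz'v] at h
      exact hvu (z'.injective h).symm
  · have : z' * swap v w * y = z' * (y * swap v w) := by
      conv_lhs => rw [hyeq]
      calc z' * swap v w * (y * swap v w * swap v w)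
          = z' * (swap v w * (y * swap v w)) * swap v w := by group
        _ = z' * ((y * swap v w) * swap v w) * swap v w := by
            rw [mul_swap_comm (y * swap v w) hy'v hy'w]
        _ = z' * (y * swap v w) * (swap v w * swap v w) := by group
        _ = z' * (y * swap v w) := by rw [swap_mul_self, mul_one]
    rw [this]; exact h2

/-- **Rule 4**: an isolated edge of `x` and an isolated edge of `y`. -/
theorem rule4 (S : Finset α) (x y : Perm α) (hx : x * x = 1) (hy : y * y = 1) {a b c d : α}
    (hxa : x a = b) (hab : a ≠ b) (hya : y a = a) (hyb : y b = b)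
    (hyc : y c = d) (hcd : c ≠ d) (hxc : x c = c) (hxd : x d = d)
    (haS : a ∈ S) (hbS : b ∈ S) (hcS : c ∈ S) (hdS : d ∈ S)
    (h : Good ((((S.erase a).erase b).erase c).erase d) (x * swap a b) (y * swap c d)) :
    Good S x y := by
  obtain ⟨z', hz', hz'S, h1, h2⟩ := h
  obtain ⟨-, hx'a, hx'b, hx'o, -, hxeq⟩ := remove_swap x hx hab hxa
  obtain ⟨-, hy'c, hy'd, hy'o, -, hyeq⟩ := remove_swap y hy hcd hyc
  have hxb : x b = a := by rw [← hxa]; exact invol_apply_apply x hx a
  have hyd : y d = c := by rw [← hyc]; exact invol_apply_apply y hy c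
  have hac : a ≠ c := by rintro rfl; rw [hxc] at hxa; exact hab hxa
  have had : a ≠ d := by rintro rfl; rw [hxd] at hxa; exact hab hxa
  have hbc : b ≠ c := by rintro rfl; rw [hxc] at hxb; exact hab hxb.symm
  have hbd : b ≠ d := by rintro rfl; rw [hxd] at hxb; exact hab hxb.symm
  have hz'a : z' a = a := fixed_of_not_mem z' _ hz'S (by simp)
  have hz'b : z' b = b := fixed_of_not_mem z' _ hz'S (by simp)
  have hz'c : z' c = c := fixed_of_not_mem z' _ hz'S (by simp)
  have hz'd : z' d = d := fixed_of_not_mem z' _ hz'S (by simp)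
  have hx'c : (x * swap a b) c = c := by rw [hx'o c hac.symm hbc.symm, hxc]
  have hy'a : (y * swap c d) a = a := by rw [hy'o a hac had, hya]
  have hy'b : (y * swap c d) b = b := by rw [hy'o b hbc hbd, hyb]
  obtain ⟨hzz, -, -, -⟩ := add_swap z' hz' hz'b hz'c
  refine ⟨z' * swap b c, hzz, ?_, ?_, ?_⟩
  · apply support_mul_swap_subset z' S hbS hcS
    exact hz'S.trans ((Finset.erase_subset _ _).trans ((Finset.erase_subset _ _).trans
      ((Finset.erase_subset _ _).trans (Finset.erase_subset _ _))))
  · have hkey : x * (z' * swap b c) = ((x * swap a b) * z') * (swap a b * swap b c) := by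
      conv_lhs => rw [hxeq]
      calc x * swap a b * swap a b * (z' * swap b c)
          = x * swap a b * (swap a b * z') * swap b c := by group
        _ = x * swap a b * (z' * swap a b) * swap b c := by rw [mul_swap_comm z' hz'a hz'b]
        _ = x * swap a b * z' * (swap a b * swap b c) := by group
    rw [hkey]
    apply odd_orderOf_mul_of_disjoint _ _ _ h1
    · rw [orderOf_swap_mul_swap hab hac hbc]; decide
    · apply disjoint_of_fixed _ _ {a, b, c}
      · intro q hq
        simp only [Finset.mem_insert, Finset.mem_singleton] at hq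
        rcases hq with rfl | rfl | rfl
        · rw [Perm.mul_apply, hz'a, hx'a]
        · rw [Perm.mul_apply, hz'b, hx'b]
        · rw [Perm.mul_apply, hz'c, hx'c]
      · intro q hq
        simp only [Finset.mem_insert, Finset.mem_singleton, not_or] at hq
        rw [Perm.mul_apply, swap_apply_of_ne_of_ne hq.2.1 hq.2.2,
          swap_apply_of_ne_of_ne hq.1 hq.2.1]
  · have hkey : z' * swap b c * y = (z' * (y * swap c d)) * (swap b c * swap c d) := by
      conv_lhs => rw [hyeq]
      calc z' * swap b c * (y * swap c d * swap c d)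
          = z' * (swap b c * (y * swap c d)) * swap c d := by group
        _ = z' * ((y * swap c d) * swap b c) * swap c d := by
            rw [mul_swap_comm (y * swap c d) hy'b hy'c]
        _ = z' * (y * swap c d) * (swap b c * swap c d) := by group
    rw [hkey]
    apply odd_orderOf_mul_of_disjoint _ _ _ h2
    · rw [orderOf_swap_mul_swap hbc hbd hcd]; decide
    · apply disjoint_of_fixed _ _ {b, c, d}
      · intro q hq
        simp only [Finset.mem_insert, Finset.mem_singleton] at hq
        rcases hq with rfl | rfl | rfl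
        · rw [Perm.mul_apply, hy'b, hz'b]
        · rw [Perm.mul_apply, hy'c, hz'c]
        · rw [Perm.mul_apply, hy'd, hz'd]
      · intro q hq
        simp only [Finset.mem_insert, Finset.mem_singleton, not_or] at hq
        rw [Perm.mul_apply, swap_apply_of_ne_of_ne hq.2.1 hq.2.2,
          swap_apply_of_ne_of_ne hq.1 hq.2.1]

end Cfsg.Agent.Lib.Helper72.OddProd
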