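import Mathlib
import Cfsg.Agent.Lib.Helper72.OddProdRules

/-!
Odd-order products of involutions in symmetric groups, part 4: shortening a long cycle.
-/

set_option autoImplicit false
set_option linter.unusedSectionVars false

namespace Cfsg.Agent.Lib.Helper72.OddProd

open Equiv Equiv.Perm

variable {α : Type*} [DecidableEq α] [Fintype α]

theorem six_identity (a b p1 p2 p3 p4 : α) (h : [a, b, p1, p2, p3, p4].Nodup) :
    swap a b * swap p4 b * swap p2 p3 * swap a p1 * swap p1 p2 * swap p3 p4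
      = cyc3 p1 a p3 * cyc3 p4 b p2 := by
  have hn : (List.ofFn ![a, b, p1, p2, p3, p4]).Nodup := by
    have : List.ofFn ![a, b, p1, p2, p3, p4] = [a, b, p1, p2, p3, p4] := by
      simp [List.ofFn_succ]
    rw [this]; exact h
  set ι := embOfNodup ![a, b, p1, p2, p3, p4] hn with hι
  have e : ∀ i j : Fin 6, swap (ι i) (ι j) = viaEmbeddingHom ι (swap i j) :=
    fun i j => (via_swap ι i j).symm
  have h0 : ι 0 = a := rfl
  have h1 : ι 1 = b := rfl
  have h2 : ι 2 = p1 := rfl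
  have h3 : ι 3 = p2 := rfl
  have h4 : ι 4 = p3 := rfl
  have h5 : ι 5 = p4 := rfl
  unfold cyc3
  rw [← h0, ← h1, ← h2, ← h3, ← h4, ← h5]
  simp only [e, ← map_mul]
  congr 1
  decide

/-- **Rule 5a**: six consecutive points of a cycle; the cycle is shortened by four points. -/
theorem rule5a (S : Finset α) (x y : Perm α) (hx : x * x = 1) (hy : y * y = 1)
    {p0 p1 p2 p3 p4 p5 : α} (hnd : [p0, p1, p2, p3, p4, p5].Nodup)
    (h01 : x p0 = p1) (h12 : y p1 = p2) (h23 : x p2 = p3) (h34 : y p3 = p4) (h45 : x p4 = p5)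
    (h1S : p1 ∈ S) (h2S : p2 ∈ S) (h3S : p3 ∈ S) (h4S : p4 ∈ S)
    (h : Good ((((S.erase p1).erase p2).erase p3).erase p4)
      (x * swap p0 p1 * swap p2 p3 * swap p4 p5 * swap p0 p5) (y * swap p1 p2 * swap p3 p4)) :
    Good S x y := by
  obtain ⟨z', hz', hz'S, hodd1, hodd2⟩ := h
  -- distinctness
  simp only [List.nodup_cons, List.mem_cons, List.not_mem_nil, or_false, not_or, List.nodup_nil,
    and_true, not_false_eq_true] at hnd
  obtain ⟨⟨d01, d02, d03, d04, d05⟩, ⟨d12, d13, d14, d15⟩, ⟨d23, d24, d25⟩, ⟨d34, d35⟩, d45⟩ := hnd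
  -- the pieces of `x`
  obtain ⟨hx1, hx1a, hx1b, hx1o, -, hxeq1⟩ := remove_swap x hx d01 h01
  have h23' : (x * swap p0 p1) p2 = p3 := by rw [hx1o p2 (Ne.symm d02) (Ne.symm d12), h23]
  obtain ⟨hx2, hx2a, hx2b, hx2o, -, hxeq2⟩ := remove_swap (x * swap p0 p1) hx1 d23 h23'
  have h45' : (x * swap p0 p1 * swap p2 p3) p4 = p5 := by
    rw [hx2o p4 (Ne.symm d24) (Ne.symm d34), hx1o p4 (Ne.symm d04) (Ne.symm d14), h45]
  obtain ⟨hx3, hx3a, hx3b, hx3o, -, hxeq3⟩ := remove_swap (x * swap p0 p1 * swap p2 p3) hx2 d45 h45'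
  have hx3p0 : (x * swap p0 p1 * swap p2 p3 * swap p4 p5) p0 = p0 := by
    rw [hx3o p0 d04 d05, hx2o p0 d02 d03, hx1a]
  have hx3p1 : (x * swap p0 p1 * swap p2 p3 * swap p4 p5) p1 = p1 := by
    rw [hx3o p1 d14 d15, hx2o p1 d12 d13, hx1b]
  have hx3p2 : (x * swap p0 p1 * swap p2 p3 * swap p4 p5) p2 = p2 := by
    rw [hx3o p2 d24 d25, hx2a]
  have hx3p3 : (x * swap p0 p1 * swap p2 p3 * swap p4 p5) p3 = p3 := by
    rw [hx3o p3 d34 d35, hx2b]
  obtain ⟨hx4, -, -, hx4o⟩ := add_swap _ hx3 hx3p0 hx3b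
  have hxeq4 : x * swap p0 p1 * swap p2 p3 * swap p4 p5
      = x * swap p0 p1 * swap p2 p3 * swap p4 p5 * swap p0 p5 * swap p0 p5 := by
    rw [mul_assoc _ (swap p0 p5), swap_mul_self, mul_one]
  obtain ⟨x', hx'⟩ : ∃ x' : Perm α, x' = x * swap p0 p1 * swap p2 p3 * swap p4 p5 * swap p0 p5 :=
    ⟨_, rfl⟩
  rw [← hx'] at hodd1 hxeq4 hx4o hx4
  have hx'1 : x' p1 = p1 := by rw [hx4o p1 (Ne.symm d01) d15, hx3p1]
  have hx'2 : x' p2 = p2 := by rw [hx4o p2 (Ne.symm d02) d25, hx3p2]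
  have hx'3 : x' p3 = p3 := by rw [hx4o p3 (Ne.symm d03) d35, hx3p3]
  have hx'4 : x' p4 = p4 := by rw [hx4o p4 (Ne.symm d04) d45, hx3a]
  have hxfull : x = x' * swap p0 p5 * swap p4 p5 * swap p2 p3 * swap p0 p1 := by
    rw [← hxeq4, ← hxeq3, ← hxeq2, ← hxeq1]
  -- the pieces of `y`
  obtain ⟨hy1, hy1a, hy1b, hy1o, -, hyeq1⟩ := remove_swap y hy d12 h12
  have h34' : (y * swap p1 p2) p3 = p4 := by rw [hy1o p3 (Ne.symm d13) (Ne.symm d23), h34]
  obtain ⟨hy2, hy2a, hy2b, hy2o, -, hyeq2⟩ := remove_swap (y * swap p1 p2) hy1 d34 h34'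
  obtain ⟨y', hy'⟩ : ∃ y' : Perm α, y' = y * swap p1 p2 * swap p3 p4 := ⟨_, rfl⟩
  rw [← hy'] at hodd2 hyeq2 hy2a hy2b hy2o
  have hy'1 : y' p1 = p1 := by rw [hy2o p1 d13 d14, hy1a]
  have hy'2 : y' p2 = p2 := by rw [hy2o p2 d23 d24, hy1b]
  have hyfull : y = y' * swap p3 p4 * swap p1 p2 := by rw [← hyeq2, ← hyeq1]
  -- `z'`
  have hz'1 : z' p1 = p1 := fixed_of_not_mem z' _ hz'S (by simp)
  have hz'2 : z' p2 = p2 := fixed_of_not_mem z' _ hz'S (by simp)
  have hz'3 : z' p3 = p3 := fixed_of_not_mem z' _ hz'S (by simp)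
  have hz'4 : z' p4 = p4 := fixed_of_not_mem z' _ hz'S (by simp)
  obtain ⟨hz1, -, -, hz1o⟩ := add_swap z' hz' hz'1 hz'2
  have hz1p3 : (z' * swap p1 p2) p3 = p3 := by rw [hz1o p3 (Ne.symm d13) (Ne.symm d23), hz'3]
  have hz1p4 : (z' * swap p1 p2) p4 = p4 := by rw [hz1o p4 (Ne.symm d14) (Ne.symm d24), hz'4]
  obtain ⟨hzz, -, -, -⟩ := add_swap _ hz1 hz1p3 hz1p4
  have hS'S : (((S.erase p1).erase p2).erase p3).erase p4 ⊆ S :=
    (Finset.erase_subset _ _).trans ((Finset.erase_subset _ _).trans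
      ((Finset.erase_subset _ _).trans (Finset.erase_subset _ _)))
  refine ⟨z' * swap p1 p2 * swap p3 p4, hzz, ?_, ?_, ?_⟩
  · apply support_mul_swap_subset _ S h3S h4S
    exact support_mul_swap_subset z' S h1S h2S (hz'S.trans hS'S)
  · -- `x z = x' z' c₁ c₂`
    obtain ⟨a, ha⟩ : ∃ a : α, a = z' p0 := ⟨_, rfl⟩
    obtain ⟨b, hb⟩ : ∃ b : α, b = z' p5 := ⟨_, rfl⟩
    have hne : ∀ {p q : α}, p ≠ q → z' q = q → z' p ≠ q := by
      intro p q hpq hq h
      rw [← hq] at h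
      exact hpq (z'.injective h)
    have ha1 : a ≠ p1 := by rw [ha]; exact hne d01 hz'1
    have ha2 : a ≠ p2 := by rw [ha]; exact hne d02 hz'2
    have ha3 : a ≠ p3 := by rw [ha]; exact hne d03 hz'3
    have ha4 : a ≠ p4 := by rw [ha]; exact hne d04 hz'4
    have hb1 : b ≠ p1 := by rw [hb]; exact hne (Ne.symm d15) hz'1
    have hb2 : b ≠ p2 := by rw [hb]; exact hne (Ne.symm d25) hz'2
    have hb3 : b ≠ p3 := by rw [hb]; exact hne (Ne.symm d35) hz'3
    have hb4 : b ≠ p4 := by rw [hb]; exact hne (Ne.symm d45) hz'4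
    have hab : a ≠ b := by
      rw [ha, hb]
      intro h
      exact d05 (z'.injective h)
    have hkey : x * (z' * swap p1 p2 * swap p3 p4)
        = x' * z' * cyc3 p1 a p3 * cyc3 p4 b p2 := by
      rw [mul_assoc (x' * z'), ← six_identity a b p1 p2 p3 p4 (by
        simp only [List.nodup_cons, List.mem_cons, List.not_mem_nil, or_false, not_or,
          List.nodup_nil, and_true, not_false_eq_true]
        exact ⟨⟨hab, ha1, ha2, ha3, ha4⟩, ⟨hb1, hb2, hb3, hb4⟩, ⟨d12, d13, d14⟩, ⟨d23, d24⟩, d34⟩)]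
      conv_lhs => rw [hxfull]
      have e1 : swap p0 p1 * z' = z' * swap a p1 := by rw [swap_mul_invol z' hz', hz'1, ← ha]
      have e2 : swap p2 p3 * z' = z' * swap p2 p3 := (mul_swap_comm z' hz'2 hz'3).symm
      have e3 : swap p4 p5 * z' = z' * swap p4 b := by rw [swap_mul_invol z' hz', hz'4, ← hb]
      have e4 : swap p0 p5 * z' = z' * swap a b := by rw [swap_mul_invol z' hz', ← ha, ← hb]
      calc x' * swap p0 p5 * swap p4 p5 * swap p2 p3 * swap p0 p1 * (z' * swap p1 p2 * swap p3 p4)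
          = x' * swap p0 p5 * swap p4 p5 * swap p2 p3 * (swap p0 p1 * z') * swap p1 p2 * swap p3 p4 := by
            group
        _ = x' * swap p0 p5 * swap p4 p5 * (swap p2 p3 * z') * swap a p1 * swap p1 p2 * swap p3 p4 := by
            rw [e1]; group
        _ = x' * swap p0 p5 * (swap p4 p5 * z') * swap p2 p3 * swap a p1 * swap p1 p2 * swap p3 p4 := by
            rw [e2]; group
        _ = x' * (swap p0 p5 * z') * swap p4 b * swap p2 p3 * swap a p1 * swap p1 p2 * swap p3 p4 := by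
            rw [e3]; group
        _ = x' * z' * (swap a b * swap p4 b * swap p2 p3 * swap a p1 * swap p1 p2 * swap p3 p4) := by
            rw [e4]; group
    rw [hkey]
    have hσ1 : Odd (orderOf (x' * z' * cyc3 p1 a p3)) := by
      apply odd_orderOf_mul_cyc3 _ hodd1
      · rw [Perm.mul_apply, hz'1, hx'1]
      · rw [Perm.mul_apply, hz'3, hx'3]
      · exact d13
      · exact ha1
      · exact ha3
    apply odd_orderOf_mul_cyc3 _ hσ1
    · rw [Perm.mul_apply, cyc3_other (Ne.symm d14) (Ne.symm ha4) (Ne.symm d34), Perm.mul_apply, hz'4, hx'4]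
    · rw [Perm.mul_apply, cyc3_other (Ne.symm d12) (Ne.symm ha2) d23, Perm.mul_apply, hz'2, hx'2]
    · exact Ne.symm d24
    · exact hb4
    · exact hb2
  · have hkey : z' * swap p1 p2 * swap p3 p4 * y = z' * y' := by
      conv_lhs => rw [hyfull]
      have hy'3 : y' p3 = p3 := hy2a
      have hy'4 : y' p4 = p4 := hy2b
      have e1 : swap p3 p4 * y' = y' * swap p3 p4 := (mul_swap_comm y' hy'3 hy'4).symm
      have e2 : swap p1 p2 * y' = y' * swap p1 p2 := (mul_swap_comm y' hy'1 hy'2).symm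
      calc z' * swap p1 p2 * swap p3 p4 * (y' * swap p3 p4 * swap p1 p2)
          = z' * swap p1 p2 * (swap p3 p4 * y') * swap p3 p4 * swap p1 p2 := by group
        _ = z' * (swap p1 p2 * y') * (swap p3 p4 * swap p3 p4) * swap p1 p2 := by rw [e1]; group
        _ = z' * y' * (swap p1 p2 * swap p1 p2) := by rw [e2, swap_mul_self]; group
        _ = z' * y' := by rw [swap_mul_self, mul_one]
    rw [hkey]; exact hodd2

end Cfsg.Agent.Lib.Helper72.OddProd
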