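import Mathlib
import Cfsg.Agent.Lib.Helper72.OddProdCycle

/-!
Odd-order products of involutions in symmetric groups, part 5: stripping an explicit finite piece.
-/

set_option autoImplicit false
set_option linter.unusedSectionVars false

namespace Cfsg.Agent.Lib.Helper72.OddProd

open Equiv Equiv.Perm

variable {α : Type*} [DecidableEq α] [Fintype α]

/-- a permutation fixing the range of `ι` commutes with the permutations transported along `ι` -/
theorem comm_via {k : ℕ} (ι : Fin k ↪ α) (f : Perm α) (hf : ∀ i, f (ι i) = ι i) (π : Perm (Fin k)) :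
    f * viaEmbeddingHom ι π = viaEmbeddingHom ι π * f := by
  ext q
  rw [Perm.mul_apply, Perm.mul_apply, viaEmbeddingHom_apply]
  by_cases hq : q ∈ Set.range ι
  · obtain ⟨i, rfl⟩ := hq
    rw [viaEmbedding_apply, hf, hf, viaEmbedding_apply]
  · have hfq : f q ∉ Set.range ι := by
      rintro ⟨j, hj⟩
      apply hq
      refine ⟨j, ?_⟩
      have : f (ι j) = f q := by rw [hf, hj]
      exact f.injective this
    rw [viaEmbedding_apply_of_notMem _ _ _ hq, viaEmbedding_apply_of_notMem _ _ _ hfq]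

theorem disjoint_via {k : ℕ} (ι : Fin k ↪ α) (f : Perm α) (hf : ∀ i, f (ι i) = ι i)
    (π : Perm (Fin k)) : Perm.Disjoint f (viaEmbeddingHom ι π) := by
  intro q
  by_cases hq : q ∈ Set.range ι
  · obtain ⟨i, rfl⟩ := hq
    exact Or.inl (hf i)
  · right
    rw [viaEmbeddingHom_apply, viaEmbedding_apply_of_notMem _ _ _ hq]

/-- **Stripping an explicit piece.** -/
theorem strip_via {k : ℕ} (ι : Fin k ↪ α) (ξ η ζ : Perm (Fin k)) (hζ : ζ * ζ = 1)
    (N₁ N₂ : ℕ) (hN₁ : Odd N₁) (hN₂ : Odd N₂)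
    (h1 : (ξ * ζ) ^ N₁ = 1) (h2 : (ζ * η) ^ N₂ = 1) (S S'' : Finset α) (hSS : S'' ⊆ S)
    (hιS : ∀ i, ι i ∈ S) (hιS'' : ∀ i, ι i ∉ S'') (x₁ y₁ : Perm α)
    (hx₁ : ∀ i, x₁ (ι i) = ι i) (hy₁ : ∀ i, y₁ (ι i) = ι i) (hgood : Good S'' x₁ y₁) :
    Good S (x₁ * viaEmbeddingHom ι ξ) (y₁ * viaEmbeddingHom ι η) := by
  obtain ⟨z'', hz'', hz''S, hodd1, hodd2⟩ := hgood
  have hz''ι : ∀ i, z'' (ι i) = ι i := fun i => fixed_of_not_mem z'' _ hz''S (hιS'' i)
  refine ⟨z'' * viaEmbeddingHom ι ζ, ?_, ?_, ?_, ?_⟩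
  · calc z'' * viaEmbeddingHom ι ζ * (z'' * viaEmbeddingHom ι ζ)
        = z'' * (viaEmbeddingHom ι ζ * z'') * viaEmbeddingHom ι ζ := by group
      _ = z'' * (z'' * viaEmbeddingHom ι ζ) * viaEmbeddingHom ι ζ := by rw [comm_via ι z'' hz''ι]
      _ = (z'' * z'') * (viaEmbeddingHom ι ζ * viaEmbeddingHom ι ζ) := by group
      _ = 1 := by rw [hz'', ← map_mul, hζ, map_one, one_mul]
  · intro q hq
    by_cases hqr : q ∈ Set.range ι
    · obtain ⟨i, rfl⟩ := hqr
      exact hιS i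
    · rw [Perm.mem_support, Perm.mul_apply, viaEmbeddingHom_apply,
        viaEmbedding_apply_of_notMem _ _ _ hqr] at hq
      exact hSS (hz''S (Perm.mem_support.mpr hq))
  · have hkey : x₁ * viaEmbeddingHom ι ξ * (z'' * viaEmbeddingHom ι ζ)
        = (x₁ * z'') * viaEmbeddingHom ι (ξ * ζ) := by
      rw [map_mul]
      calc x₁ * viaEmbeddingHom ι ξ * (z'' * viaEmbeddingHom ι ζ)
          = x₁ * (viaEmbeddingHom ι ξ * z'') * viaEmbeddingHom ι ζ := by group
        _ = x₁ * (z'' * viaEmbeddingHom ι ξ) * viaEmbeddingHom ι ζ := by rw [comm_via ι z'' hz''ι]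
        _ = x₁ * z'' * (viaEmbeddingHom ι ξ * viaEmbeddingHom ι ζ) := by group
    rw [hkey]
    apply odd_orderOf_mul_of_disjoint _ _ _ hodd1
    · apply odd_orderOf_of_pow_eq_one _ N₁ hN₁
      rw [← map_pow, h1, map_one]
    · apply disjoint_via
      intro i
      rw [Perm.mul_apply, hz''ι, hx₁]
  · have hkey : z'' * viaEmbeddingHom ι ζ * (y₁ * viaEmbeddingHom ι η)
        = (z'' * y₁) * viaEmbeddingHom ι (ζ * η) := by
      rw [map_mul]
      calc z'' * viaEmbeddingHom ι ζ * (y₁ * viaEmbeddingHom ι η)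
          = z'' * (viaEmbeddingHom ι ζ * y₁) * viaEmbeddingHom ι η := by group
        _ = z'' * (y₁ * viaEmbeddingHom ι ζ) * viaEmbeddingHom ι η := by rw [comm_via ι y₁ hy₁]
        _ = z'' * y₁ * (viaEmbeddingHom ι ζ * viaEmbeddingHom ι η) := by group
    rw [hkey]
    apply odd_orderOf_mul_of_disjoint _ _ _ hodd2
    · apply odd_orderOf_of_pow_eq_one _ N₂ hN₂
      rw [← map_pow, h2, map_one]
    · apply disjoint_via
      intro i
      rw [Perm.mul_apply, hy₁, hz''ι]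

theorem good_empty_one : Good (∅ : Finset α) (1 : Perm α) 1 := by
  refine ⟨1, by simp, by simp, ?_, ?_⟩ <;> simp

/-- a pure gadget: both involutions are transported from `Fin k` -/
theorem gadget_via {k : ℕ} (ι : Fin k ↪ α) (ξ η ζ : Perm (Fin k)) (hζ : ζ * ζ = 1)
    (N₁ N₂ : ℕ) (hN₁ : Odd N₁) (hN₂ : Odd N₂)
    (h1 : (ξ * ζ) ^ N₁ = 1) (h2 : (ζ * η) ^ N₂ = 1) (S : Finset α) (hιS : ∀ i, ι i ∈ S) :
    Good S (viaEmbeddingHom ι ξ) (viaEmbeddingHom ι η) := by
  have := strip_via ι ξ η ζ hζ N₁ N₂ hN₁ hN₂ h1 h2 S ∅ (Finset.empty_subset _) hιS (fun i => by simp) 1 1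
    (fun i => rfl) (fun i => rfl) good_empty_one
  rwa [one_mul, one_mul] at this

end Cfsg.Agent.Lib.Helper72.OddProd
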