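import Mathlib
import Cfsg.Agent.Lib.Helper72.OddProdVia

/-!
Odd-order products of involutions in symmetric groups, part 6: structure of the exceptional
configuration and of `4`-cycles of the graph.
-/

set_option autoImplicit false
set_option linter.unusedSectionVars false

namespace Cfsg.Agent.Lib.Helper72.OddProd

open Equiv Equiv.Perm

variable {α : Type*} [DecidableEq α] [Fintype α]

theorem nodup4 {a b c d : α} (hab : a ≠ b) (hac : a ≠ c) (had : a ≠ d) (hbc : b ≠ c) (hbd : b ≠ d)
    (hcd : c ≠ d) : [a, b, c, d].Nodup := by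
  simp only [List.nodup_cons, List.mem_cons, List.not_mem_nil, or_false, not_or, List.nodup_nil,
    and_true, not_false_eq_true]
  exact ⟨⟨hab, hac, had⟩, ⟨hbc, hbd⟩, hcd⟩

/-- an involution acting as `(a b)(c d)` -/
theorem eq_two_swaps (x : Perm α) {a b c d : α} (hab : a ≠ b) (hac : a ≠ c) (had : a ≠ d)
    (hbc : b ≠ c) (hbd : b ≠ d) (hcd : c ≠ d) (h1 : x a = b) (h2 : x b = a) (h3 : x c = d)
    (h4 : x d = c) (hfix : ∀ q, q ≠ a → q ≠ b → q ≠ c → q ≠ d → x q = q) :
    x = swap a b * swap c d := by
  ext q
  rw [Perm.mul_apply]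
  by_cases hqa : q = a
  · subst hqa
    rw [swap_apply_of_ne_of_ne hac had, swap_apply_left, h1]
  by_cases hqb : q = b
  · subst hqb
    rw [swap_apply_of_ne_of_ne hbc hbd, swap_apply_right, h2]
  by_cases hqc : q = c
  · subst hqc
    rw [swap_apply_left, swap_apply_of_ne_of_ne (Ne.symm had) (Ne.symm hbd), h3]
  by_cases hqd : q = d
  · subst hqd
    rw [swap_apply_right, swap_apply_of_ne_of_ne (Ne.symm hac) (Ne.symm hbc), h4]
  rw [swap_apply_of_ne_of_ne hqc hqd, swap_apply_of_ne_of_ne hqa hqb, hfix q hqa hqb hqc hqd]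

/-- the points of a `4`-cycle of the graph through `a`, when `x` and `y` have no common
transposition and no fixed points near `a` -/
theorem four_cycle_points (x y : Perm α) (hx : x * x = 1) (hy : y * y = 1) (a : α)
    (hxa : x a ≠ a) (hyb : y (x a) ≠ x a) (hxc : x (y (x a)) ≠ y (x a))
    (hne : x a ≠ y a) (hne' : x (y (x a)) ≠ y (y (x a))) :
    a ≠ x a ∧ a ≠ y (x a) ∧ x a ≠ y (x a) ∧ x a ≠ x (y (x a)) ∧ y (x a) ≠ x (y (x a)) := by
  have hxx : ∀ q, x (x q) = q := invol_apply_apply x hx
  have hyy : ∀ q, y (y q) = q := invol_apply_apply y hy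
  refine ⟨fun h => hxa h.symm, ?_, fun h => hyb h.symm, ?_, fun h => hxc h.symm⟩
  · intro h
    -- a = y (x a) ⟹ y a = x a
    have : y a = x a := by
      conv_lhs => rw [h]
      exact hyy _
    exact hne this.symm
  · intro h
    -- x a = x (y (x a)) ⟹ a = y (x a)
    have h2 : a = y (x a) := x.injective h
    have : y a = x a := by
      conv_lhs => rw [h2]
      exact hyy _
    exact hne this.symm

/-- structure of the exceptional configuration -/
theorem bad_points (S : Finset α) (x y : Perm α) (hx : x * x = 1) (hy : y * y = 1)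
    (hbad : Bad S x y) {a : α} (haS : a ∈ S) :
    [a, x a, y (x a), x (y (x a))].Nodup ∧ S = {a, x a, y (x a), x (y (x a))} ∧
      y (x (y (x a))) = a := by
  obtain ⟨hcard, hxS, hyS, hxy⟩ := hbad
  have hxx : ∀ q, x (x q) = q := invol_apply_apply x hx
  have hyy : ∀ q, y (y q) = q := invol_apply_apply y hy
  have hxmem : ∀ q, q ∈ S → x q ∈ S := fun q hq =>
    apply_mem_of_support_subset x S (by rw [hxS]) hq
  have hymem : ∀ q, q ∈ S → y q ∈ S := fun q hq =>
    apply_mem_of_support_subset y S (by rw [hyS]) hq
  have hxne : ∀ q, q ∈ S → x q ≠ q := fun q hq => by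
    rw [← hxS] at hq; exact Perm.mem_support.mp hq
  have hyne : ∀ q, q ∈ S → y q ≠ q := fun q hq => by
    rw [← hyS] at hq; exact Perm.mem_support.mp hq
  -- no common transposition
  have hnc : ∀ q, q ∈ S → x q ≠ y q := by
    intro q hq hqq
    apply hxy
    -- x = y
    have hb : x q ∈ S := hxmem q hq
    have hqb : q ≠ x q := fun h => hxne q hq h.symm
    have hT : ((S.erase q).erase (x q)).card = 2 := by
      rw [Finset.card_erase_of_mem, Finset.card_erase_of_mem hq, hcard]
      rw [Finset.mem_erase]; exact ⟨hqb.symm, hb⟩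
    ext r
    by_cases hrS : r ∈ S
    · by_cases hrq : r = q
      · rw [hrq, hqq]
      · by_cases hrb : r = x q
        · rw [hrb, hxx, hqq, hyy]
        · -- both `x r` and `y r` lie in the one-element set `T.erase r`
          have hrT : r ∈ (S.erase q).erase (x q) := by
            rw [Finset.mem_erase, Finset.mem_erase]; exact ⟨hrb, hrq, hrS⟩
          have hc1 : (((S.erase q).erase (x q)).erase r).card ≤ 1 := by
            rw [Finset.card_erase_of_mem hrT, hT]
          have hxr : x r ∈ ((S.erase q).erase (x q)).erase r := by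
            rw [Finset.mem_erase, Finset.mem_erase, Finset.mem_erase]
            refine ⟨hxne r hrS, ?_, ?_, hxmem r hrS⟩
            · intro h; exact hrq (x.injective h)
            · intro h
              apply hrb
              have := congrArg x h
              rwa [hxx] at this
          have hyr : y r ∈ ((S.erase q).erase (x q)).erase r := by
            rw [Finset.mem_erase, Finset.mem_erase, Finset.mem_erase]
            refine ⟨hyne r hrS, ?_, ?_, hymem r hrS⟩
            · intro h
              rw [hqq] at h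
              exact hrq (y.injective h)
            · intro h
              apply hrb
              have := congrArg y h
              rwa [hyy, ← hqq] at this
          exact Finset.card_le_one.mp hc1 _ hxr _ hyr
    · rw [fixed_of_not_mem x S (by rw [hxS]) hrS, fixed_of_not_mem y S (by rw [hyS]) hrS]
  have hbS : x a ∈ S := hxmem a haS
  have hcS : y (x a) ∈ S := hymem _ hbS
  have hdS : x (y (x a)) ∈ S := hxmem _ hcS
  obtain ⟨hab, hac, hbc, hbd, hcd⟩ := four_cycle_points x y hx hy a (hxne a haS) (hyne _ hbS)
    (hxne _ hcS) (hnc a haS) (hnc _ hcS)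
  have had : a ≠ x (y (x a)) := by
    intro h
    -- x a = y (x a)
    have := congrArg x h
    rw [hxx] at this
    exact hbc this
  have hnd := nodup4 hab hac had hbc hbd hcd
  have hSeq : S = {a, x a, y (x a), x (y (x a))} := by
    symm
    apply Finset.eq_of_subset_of_card_le
    · intro q hq
      simp only [Finset.mem_insert, Finset.mem_singleton] at hq
      rcases hq with rfl | rfl | rfl | rfl
      · exact haS
      · exact hbS
      · exact hcS
      · exact hdS
    · rw [hcard]
      have : ({a, x a, y (x a), x (y (x a))} : Finset α) = [a, x a, y (x a), x (y (x a))].toFinset := by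
        ext q; simp
      rw [this, List.toFinset_card_of_nodup hnd]
      simp
  refine ⟨hnd, hSeq, ?_⟩
  have hyd : y (x (y (x a))) ∈ S := hymem _ hdS
  rw [hSeq] at hyd
  simp only [Finset.mem_insert, Finset.mem_singleton] at hyd
  rcases hyd with h | h | h | h
  · exact h
  · exfalso
    -- y d = b ⟹ d = y b = c
    have := congrArg y h
    rw [hyy] at this
    exact hcd this.symm
  · exfalso
    -- y d = c = y b ⟹ d = b
    exact hbd (y.injective h).symm
  · exact absurd h (hyne _ hdS)

/-- in the exceptional configuration both involutions are products of two transpositions -/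
theorem bad_eq_swaps (S : Finset α) (x y : Perm α) (hx : x * x = 1) (hy : y * y = 1)
    (hbad : Bad S x y) {a : α} (haS : a ∈ S) :
    x = swap a (x a) * swap (y (x a)) (x (y (x a))) ∧
      y = swap (x a) (y (x a)) * swap (x (y (x a))) a := by
  obtain ⟨hnd, hSeq, hyd⟩ := bad_points S x y hx hy hbad haS
  obtain ⟨hcard, hxS, hyS, hxy⟩ := hbad
  have hxx : ∀ q, x (x q) = q := invol_apply_apply x hx
  have hyy : ∀ q, y (y q) = q := invol_apply_apply y hy
  simp only [List.nodup_cons, List.mem_cons, List.not_mem_nil, or_false, not_or, List.nodup_nil,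
    and_true, not_false_eq_true] at hnd
  obtain ⟨⟨hab, hac, had⟩, ⟨hbc, hbd⟩, hcd⟩ := hnd
  have hfixx : ∀ q, q ≠ a → q ≠ x a → q ≠ y (x a) → q ≠ x (y (x a)) → x q = q := by
    intro q h1 h2 h3 h4
    apply fixed_of_not_mem x S (by rw [hxS])
    rw [hSeq]; simp [h1, h2, h3, h4]
  have hfixy : ∀ q, q ≠ a → q ≠ x a → q ≠ y (x a) → q ≠ x (y (x a)) → y q = q := by
    intro q h1 h2 h3 h4
    apply fixed_of_not_mem y S (by rw [hyS])
    rw [hSeq]; simp [h1, h2, h3, h4]
  constructor
  · exact eq_two_swaps x hab hac had hbc hbd hcd rfl (hxx a) rfl (hxx _) hfixx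
  · apply eq_two_swaps y hbc hbd (Ne.symm hab) hcd (Ne.symm hac) (Ne.symm had) rfl (hyy _) hyd
    · rw [← hyd, hyy, hyd]
    · intro q h1 h2 h3 h4
      exact hfixy q h4 h1 h2 h3

end Cfsg.Agent.Lib.Helper72.OddProd
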