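import Mathlib
import Cfsg.Agent.Lib.Helper72.OddProdBad

/-!
Odd-order products of involutions in symmetric groups, part 7: the finite gadgets.
-/

set_option autoImplicit false
set_option linter.unusedSectionVars false
set_option maxRecDepth 4000

namespace Cfsg.Agent.Lib.Helper72.OddProd

open Equiv Equiv.Perm

variable {α : Type*} [DecidableEq α] [Fintype α]

theorem ofFn_nodup5 {p0 p1 p2 p3 p4 : α} (h : [p0, p1, p2, p3, p4].Nodup) :
    (List.ofFn ![p0, p1, p2, p3, p4]).Nodup := by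
  have : List.ofFn ![p0, p1, p2, p3, p4] = [p0, p1, p2, p3, p4] := by simp [List.ofFn_succ]
  rw [this]; exact h

theorem ofFn_nodup6 {p0 p1 p2 p3 p4 p5 : α} (h : [p0, p1, p2, p3, p4, p5].Nodup) :
    (List.ofFn ![p0, p1, p2, p3, p4, p5]).Nodup := by
  have : List.ofFn ![p0, p1, p2, p3, p4, p5] = [p0, p1, p2, p3, p4, p5] := by
    simp [List.ofFn_succ]
  rw [this]; exact h

theorem ofFn_nodup8 {p0 p1 p2 p3 p4 p5 p6 p7 : α} (h : [p0, p1, p2, p3, p4, p5, p6, p7].Nodup) :
    (List.ofFn ![p0, p1, p2, p3, p4, p5, p6, p7]).Nodup := by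
  have : List.ofFn ![p0, p1, p2, p3, p4, p5, p6, p7] = [p0, p1, p2, p3, p4, p5, p6, p7] := by
    simp [List.ofFn_succ]
  rw [this]; exact h

theorem ofFn_nodup12 {p0 p1 p2 p3 p4 p5 p6 p7 p8 p9 p10 p11 : α}
    (h : [p0, p1, p2, p3, p4, p5, p6, p7, p8, p9, p10, p11].Nodup) :
    (List.ofFn ![p0, p1, p2, p3, p4, p5, p6, p7, p8, p9, p10, p11]).Nodup := by
  have : List.ofFn ![p0, p1, p2, p3, p4, p5, p6, p7, p8, p9, p10, p11]
      = [p0, p1, p2, p3, p4, p5, p6, p7, p8, p9, p10, p11] := by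
    simp [List.ofFn_succ]
  rw [this]; exact h

/-- gadget: a `4`-cycle and a common fixed point -/
theorem gadget5 (S : Finset α) {p a b c d : α} (hnd : [p, a, b, c, d].Nodup)
    (hS : ∀ q ∈ [p, a, b, c, d], q ∈ S) :
    Good S (swap a b * swap c d) (swap b c * swap d a) := by
  set ι := embOfNodup ![p, a, b, c, d] (ofFn_nodup5 hnd) with hι
  have e : ∀ i j : Fin 5, swap (ι i) (ι j) = viaEmbeddingHom ι (swap i j) :=
    fun i j => (via_swap ι i j).symm
  have hx : swap a b * swap c d = viaEmbeddingHom ι (swap 1 2 * swap 3 4) := by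
    show swap (ι 1) (ι 2) * swap (ι 3) (ι 4) = _
    simp only [e, ← map_mul]
  have hy : swap b c * swap d a = viaEmbeddingHom ι (swap 2 3 * swap 4 1) := by
    show swap (ι 2) (ι 3) * swap (ι 4) (ι 1) = _
    simp only [e, ← map_mul]
  rw [hx, hy]
  apply gadget_via ι _ _ (swap 2 3 * swap 4 0) (by decide) 5 3 (by decide) (by decide)
    (by decide) (by decide)
  intro i
  apply hS
  fin_cases i <;> simp [hι]

/-- gadget: a `4`-cycle and a common transposition -/
theorem gadget6 (S : Finset α) {e f a b c d : α} (hnd : [e, f, a, b, c, d].Nodup)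
    (hS : ∀ q ∈ [e, f, a, b, c, d], q ∈ S) :
    Good S (swap a b * swap c d * swap e f) (swap b c * swap d a * swap e f) := by
  set ι := embOfNodup ![e, f, a, b, c, d] (ofFn_nodup6 hnd) with hι
  have e' : ∀ i j : Fin 6, swap (ι i) (ι j) = viaEmbeddingHom ι (swap i j) :=
    fun i j => (via_swap ι i j).symm
  have hx : swap a b * swap c d * swap e f
      = viaEmbeddingHom ι (swap 2 3 * swap 4 5 * swap 0 1) := by
    show swap (ι 2) (ι 3) * swap (ι 4) (ι 5) * swap (ι 0) (ι 1) = _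
    simp only [e', ← map_mul]
  have hy : swap b c * swap d a * swap e f
      = viaEmbeddingHom ι (swap 3 4 * swap 5 2 * swap 0 1) := by
    show swap (ι 3) (ι 4) * swap (ι 5) (ι 2) * swap (ι 0) (ι 1) = _
    simp only [e', ← map_mul]
  rw [hx, hy]
  apply gadget_via ι _ _ (swap 2 4 * swap 3 0 * swap 5 1) (by decide) 3 3 (by decide)
    (by decide) (by decide) (by decide)
  intro i
  apply hS
  fin_cases i <;> simp [hι]

/-- gadget: a `4`-cycle, an isolated edge of `x` and an isolated edge of `y` -/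
theorem gadget8a (S : Finset α) {a0 b0 c0 d0 a b c d : α}
    (hnd : [a0, b0, c0, d0, a, b, c, d].Nodup) (hS : ∀ q ∈ [a0, b0, c0, d0, a, b, c, d], q ∈ S) :
    Good S (swap a b * swap c d * swap a0 b0) (swap b c * swap d a * swap c0 d0) := by
  set ι := embOfNodup ![a0, b0, c0, d0, a, b, c, d] (ofFn_nodup8 hnd) with hι
  have e' : ∀ i j : Fin 8, swap (ι i) (ι j) = viaEmbeddingHom ι (swap i j) :=
    fun i j => (via_swap ι i j).symm
  have hx : swap a b * swap c d * swap a0 b0
      = viaEmbeddingHom ι (swap 4 5 * swap 6 7 * swap 0 1) := by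
    show swap (ι 4) (ι 5) * swap (ι 6) (ι 7) * swap (ι 0) (ι 1) = _
    simp only [e', ← map_mul]
  have hy : swap b c * swap d a * swap c0 d0
      = viaEmbeddingHom ι (swap 5 6 * swap 7 4 * swap 2 3) := by
    show swap (ι 5) (ι 6) * swap (ι 7) (ι 4) * swap (ι 2) (ι 3) = _
    simp only [e', ← map_mul]
  rw [hx, hy]
  apply gadget_via ι _ _ (swap 5 6 * swap 7 0 * swap 1 2) (by decide) 7 3 (by decide)
    (by decide) (by decide) (by decide)
  intro i
  apply hS
  fin_cases i <;> simp [hι]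

/-- gadget: an `8`-cycle -/
theorem gadget8c (S : Finset α) {c d p0 p1 p2 p3 p4 p5 : α}
    (hnd : [c, d, p0, p1, p2, p3, p4, p5].Nodup) (hS : ∀ q ∈ [c, d, p0, p1, p2, p3, p4, p5], q ∈ S) :
    Good S (swap p5 p0 * swap c d * swap p0 p5 * swap p4 p5 * swap p2 p3 * swap p0 p1)
      (swap p0 c * swap d p5 * swap p3 p4 * swap p1 p2) := by
  set ι := embOfNodup ![c, d, p0, p1, p2, p3, p4, p5] (ofFn_nodup8 hnd) with hι
  have e' : ∀ i j : Fin 8, swap (ι i) (ι j) = viaEmbeddingHom ι (swap i j) :=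
    fun i j => (via_swap ι i j).symm
  have hx : swap p5 p0 * swap c d * swap p0 p5 * swap p4 p5 * swap p2 p3 * swap p0 p1
      = viaEmbeddingHom ι (swap 7 2 * swap 0 1 * swap 2 7 * swap 6 7 * swap 4 5 * swap 2 3) := by
    show swap (ι 7) (ι 2) * swap (ι 0) (ι 1) * swap (ι 2) (ι 7) * swap (ι 6) (ι 7)
      * swap (ι 4) (ι 5) * swap (ι 2) (ι 3) = _
    simp only [e', ← map_mul]
  have hy : swap p0 c * swap d p5 * swap p3 p4 * swap p1 p2
      = viaEmbeddingHom ι (swap 2 0 * swap 1 7 * swap 5 6 * swap 3 4) := by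
    show swap (ι 2) (ι 0) * swap (ι 1) (ι 7) * swap (ι 5) (ι 6) * swap (ι 3) (ι 4) = _
    simp only [e', ← map_mul]
  rw [hx, hy]
  apply gadget_via ι _ _ (swap 2 3 * swap 4 6 * swap 5 0 * swap 7 1) (by decide) 3 3 (by decide)
    (by decide) (by decide) (by decide)
  intro i
  apply hS
  fin_cases i <;> simp [hι]

end Cfsg.Agent.Lib.Helper72.OddProd
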