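import Mathlib
import Cfsg.Agent.Lib.Helper72.OddProdGadgets

/-!
Odd-order products of involutions in symmetric groups, part 8: bookkeeping for the reductions.
-/

set_option autoImplicit false
set_option linter.unusedSectionVars false
set_option maxRecDepth 8000

namespace Cfsg.Agent.Lib.Helper72.OddProd

open Equiv Equiv.Perm

variable {α : Type*} [DecidableEq α] [Fintype α]

/-- `x'` is obtained from the involution `x` by deleting its transposition `(a b)` -/
structure Peel (x x' : Perm α) (a b : α) : Prop where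
  inv : x' * x' = 1
  fa : x' a = a
  fb : x' b = b
  other : ∀ q, q ≠ a → q ≠ b → x' q = x q
  supp : ∀ q, q ∈ x'.support ↔ q ∈ x.support ∧ q ≠ a ∧ q ≠ b
  eq : x = x' * swap a b
  card : x.support.card = x'.support.card + 2

theorem peel (x : Perm α) (hx : x * x = 1) {a b : α} (hab : a ≠ b) (hxa : x a = b) :
    Peel x (x * swap a b) a b := by
  obtain ⟨h1, h2, h3, h4, h5, h6⟩ := remove_swap x hx hab hxa
  exact ⟨h1, h2, h3, h4, h5, h6, card_support_remove_swap x hx hab hxa⟩

theorem Peel.subset {x x' : Perm α} {a b : α} (P : Peel x x' a b) (S : Finset α)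
    (hS : x.support ⊆ S) : x'.support ⊆ (S.erase a).erase b := by
  intro q hq
  rw [P.supp] at hq
  rw [Finset.mem_erase, Finset.mem_erase]
  exact ⟨hq.2.2, hq.2.1, hS hq.1⟩

/-- the exceptional configuration, with named points -/
theorem bad_struct' (S : Finset α) (x y : Perm α) (hx : x * x = 1) (hy : y * y = 1)
    (hbad : Bad S x y) {a : α} (haS : a ∈ S) :
    ∃ c d : α, [a, x a, c, d].Nodup ∧ S = {a, x a, c, d} ∧ x = swap a (x a) * swap c d ∧
      y = swap (x a) c * swap d a := by
  obtain ⟨hnd, hSeq, -⟩ := bad_points S x y hx hy hbad haS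
  obtain ⟨hxe, hye⟩ := bad_eq_swaps S x y hx hy hbad haS
  exact ⟨y (x a), x (y (x a)), hnd, hSeq, hxe, hye⟩

theorem bad_struct (S : Finset α) (x y : Perm α) (hx : x * x = 1) (hy : y * y = 1)
    (hbad : Bad S x y) :
    ∃ a b c d : α, [a, b, c, d].Nodup ∧ S = {a, b, c, d} ∧ x = swap a b * swap c d ∧
      y = swap b c * swap d a := by
  have hne : S.Nonempty := by
    rw [← Finset.card_pos, hbad.1]; norm_num
  obtain ⟨a, ha⟩ := hne
  obtain ⟨c, d, h1, h2, h3, h4⟩ := bad_struct' S x y hx hy hbad ha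
  exact ⟨a, x a, c, d, h1, h2, h3, h4⟩

theorem mem_of_mem_list4 {S : Finset α} {a b c d : α} (hS : S = {a, b, c, d}) :
    ∀ q ∈ [a, b, c, d], q ∈ S := by
  intro q hq
  rw [hS]
  simpa using hq

theorem exists_fixed_of_card (S : Finset α) (x y : Perm α) (hxS : x.support ⊆ S)
    (hc : x.support.card = y.support.card) {c : α} (hcS : c ∈ S) (hxc : x c = c) :
    ∃ a ∈ S, y a = a := by
  by_contra hcon
  push Not at hcon
  have h1 : S ⊆ y.support := fun q hq => Perm.mem_support.mpr (hcon q hq)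
  have h2 : S.card ≤ x.support.card := by rw [hc]; exact Finset.card_le_card h1
  have h3 : x.support = S := Finset.eq_of_subset_of_card_le hxS h2
  have : c ∈ x.support := h3 ▸ hcS
  exact (Perm.mem_support.mp this) hxc

/-- stripping the part of an involution that is carried by an embedded `Fin k` -/
theorem strip_facts {k : ℕ} (ι : Fin k ↪ α) (ξ : Perm (Fin k)) (hξ : ξ * ξ = 1)
    (hfpf : ∀ i, ξ i ≠ i) (x : Perm α) (hx : x * x = 1) (hxι : ∀ i, x (ι i) = ι (ξ i))
    (S : Finset α) (hxS : x.support ⊆ S) :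
    (x * viaEmbeddingHom ι ξ) * (x * viaEmbeddingHom ι ξ) = 1 ∧
      (∀ i, (x * viaEmbeddingHom ι ξ) (ι i) = ι i) ∧
      (x * viaEmbeddingHom ι ξ).support ⊆ S \ Finset.univ.map ι ∧
      x.support.card = (x * viaEmbeddingHom ι ξ).support.card + k ∧
      x = (x * viaEmbeddingHom ι ξ) * viaEmbeddingHom ι ξ := by
  have hξξ : ∀ i, ξ (ξ i) = i := invol_apply_apply ξ hξ
  have hxx : ∀ q, x (x q) = q := invol_apply_apply x hx
  have hin : ∀ i, (x * viaEmbeddingHom ι ξ) (ι i) = ι i := by
    intro i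
    rw [Perm.mul_apply, viaEmbeddingHom_apply, viaEmbedding_apply, hxι, hξξ]
  have hout : ∀ q, q ∉ Set.range ι → (x * viaEmbeddingHom ι ξ) q = x q := by
    intro q hq
    rw [Perm.mul_apply, viaEmbeddingHom_apply, viaEmbedding_apply_of_notMem _ _ _ hq]
  have hxout : ∀ q, q ∉ Set.range ι → x q ∉ Set.range ι := by
    rintro q hq ⟨j, hj⟩
    apply hq
    refine ⟨ξ j, ?_⟩
    rw [← hxι, hj, hxx]
  have hsupp : ∀ q, q ∈ (x * viaEmbeddingHom ι ξ).support ↔ q ∈ x.support ∧ q ∉ Set.range ι := by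
    intro q
    rw [Perm.mem_support, Perm.mem_support]
    by_cases hq : q ∈ Set.range ι
    · obtain ⟨i, rfl⟩ := hq
      simp [hin i]
    · rw [hout q hq]
      simp [hq]
  refine ⟨?_, hin, ?_, ?_, ?_⟩
  · ext q
    rw [Perm.mul_apply, Perm.one_apply]
    by_cases hq : q ∈ Set.range ι
    · obtain ⟨i, rfl⟩ := hq
      rw [hin, hin]
    · rw [hout q hq, hout _ (hxout q hq), hxx]
  · intro q hq
    rw [hsupp] at hq
    rw [Finset.mem_sdiff, Finset.mem_map]
    refine ⟨hxS hq.1, ?_⟩
    rintro ⟨i, -, hi⟩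
    exact hq.2 ⟨i, hi⟩
  · have h1 : (x * viaEmbeddingHom ι ξ).support = x.support \ Finset.univ.map ι := by
      ext q
      rw [hsupp, Finset.mem_sdiff, Finset.mem_map]
      constructor
      · rintro ⟨h1, h2⟩
        refine ⟨h1, ?_⟩
        rintro ⟨i, -, hi⟩
        exact h2 ⟨i, hi⟩
      · rintro ⟨h1, h2⟩
        refine ⟨h1, ?_⟩
        rintro ⟨i, hi⟩
        exact h2 ⟨i, Finset.mem_univ _, hi⟩
    have h2 : Finset.univ.map ι ⊆ x.support := by
      intro q hq
      rw [Finset.mem_map] at hq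
      obtain ⟨i, -, rfl⟩ := hq
      rw [Perm.mem_support, hxι]
      intro h
      exact hfpf i (ι.injective h)
    rw [h1, Finset.card_sdiff_of_subset h2, Finset.card_map, Finset.card_univ, Fintype.card_fin]
    have := Finset.card_le_card h2
    rw [Finset.card_map, Finset.card_univ, Fintype.card_fin] at this
    omega
  · rw [mul_assoc, ← map_mul, hξ, map_one, mul_one]

/-- gadget: three `4`-cycles -/
theorem gadget444 (S : Finset α) {a' b' c' d' a b c d e f g h : α}
    (hnd : [a', b', c', d', a, b, c, d, e, f, g, h].Nodup)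
    (hS : ∀ q ∈ [a', b', c', d', a, b, c, d, e, f, g, h], q ∈ S) :
    Good S (swap a' b' * swap c' d' * (swap g h * swap e f * swap c d * swap a b))
      (swap b' c' * swap d' a' * (swap h e * swap f g * swap d a * swap b c)) := by
  set ι := embOfNodup ![a', b', c', d', a, b, c, d, e, f, g, h] (ofFn_nodup12 hnd) with hι
  have e' : ∀ i j : Fin 12, swap (ι i) (ι j) = viaEmbeddingHom ι (swap i j) :=
    fun i j => (via_swap ι i j).symm
  have hx : swap a' b' * swap c' d' * (swap g h * swap e f * swap c d * swap a b)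
      = viaEmbeddingHom ι (swap 0 1 * swap 2 3 * (swap 10 11 * swap 8 9 * swap 6 7 * swap 4 5)) := by
    show swap (ι 0) (ι 1) * swap (ι 2) (ι 3) * (swap (ι 10) (ι 11) * swap (ι 8) (ι 9)
      * swap (ι 6) (ι 7) * swap (ι 4) (ι 5)) = _
    simp only [e', ← map_mul]
  have hy : swap b' c' * swap d' a' * (swap h e * swap f g * swap d a * swap b c)
      = viaEmbeddingHom ι (swap 1 2 * swap 3 0 * (swap 11 8 * swap 9 10 * swap 7 4 * swap 5 6)) := by
    show swap (ι 1) (ι 2) * swap (ι 3) (ι 0) * (swap (ι 11) (ι 8) * swap (ι 9) (ι 10)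
      * swap (ι 7) (ι 4) * swap (ι 5) (ι 6)) = _
    simp only [e', ← map_mul]
  rw [hx, hy]
  apply gadget_via ι _ _ (swap 0 1 * swap 2 4 * swap 3 6 * swap 5 8 * swap 7 11 * swap 9 10)
    (by decide) 5 5 (by decide) (by decide) (by decide) (by decide)
  intro i
  apply hS
  fin_cases i <;> simp [hι]

end Cfsg.Agent.Lib.Helper72.OddProd
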