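import Mathlib
import Cfsg.Agent.Lib.Helper72.OddProdStrip

/-!
Odd-order products of involutions in symmetric groups, part 9: the induction.
-/

set_option autoImplicit false
set_option linter.unusedSectionVars false
set_option maxRecDepth 8000

namespace Cfsg.Agent.Lib.Helper72.OddProd

open Equiv Equiv.Perm

variable {α : Type*} [DecidableEq α] [Fintype α]

variable (α) in
/-- the induction hypothesis -/
def IHyp (n : ℕ) : Prop :=
  ∀ (S : Finset α) (x y : Perm α), S.card < n → x * x = 1 → y * y = 1 → x.support ⊆ S →
    y.support ⊆ S → x.support.card = y.support.card → ¬ Bad S x y → Good S x y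

theorem card_erase2_lt (S : Finset α) {a : α} (b : α) (haS : a ∈ S) :
    ((S.erase a).erase b).card < S.card :=
  lt_of_le_of_lt (Finset.card_erase_le) (Finset.card_erase_lt_of_mem haS)

/-- **Step 1**: a common fixed point. -/
theorem step1 (S : Finset α) (x y : Perm α) (hx : x * x = 1) (hy : y * y = 1)
    (hxS : x.support ⊆ S) (hyS : y.support ⊆ S) (hc : x.support.card = y.support.card)
    (ih : IHyp α S.card) {p : α} (hpS : p ∈ S) (hxp : x p = p) (hyp : y p = p) : Good S x y := by
  have hxS' : x.support ⊆ S.erase p := by
    intro q hq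
    rw [Finset.mem_erase]
    refine ⟨?_, hxS hq⟩
    rintro rfl
    exact (Perm.mem_support.mp hq) hxp
  have hyS' : y.support ⊆ S.erase p := by
    intro q hq
    rw [Finset.mem_erase]
    refine ⟨?_, hyS hq⟩
    rintro rfl
    exact (Perm.mem_support.mp hq) hyp
  by_cases hbad : Bad (S.erase p) x y
  · obtain ⟨a, b, c, d, hnd, hSeq, hxe, hye⟩ := bad_struct _ x y hx hy hbad
    rw [hxe, hye]
    have hmem := mem_of_mem_list4 hSeq
    apply gadget5 S (p := p)
    · rw [List.nodup_cons]
      refine ⟨?_, hnd⟩
      intro hp
      exact Finset.notMem_erase p S (hmem p hp)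
    · intro q hq
      rw [List.mem_cons] at hq
      rcases hq with rfl | hq
      · exact hpS
      · exact Finset.mem_of_mem_erase (hmem q hq)
  · exact (ih _ x y (Finset.card_erase_lt_of_mem hpS) hx hy hxS' hyS' hc hbad).mono
      (Finset.erase_subset _ _)

/-- **Step 2**: a common transposition. -/
theorem step2 (S : Finset α) (x y : Perm α) (hx : x * x = 1) (hy : y * y = 1)
    (hxS : x.support ⊆ S) (hyS : y.support ⊆ S) (hc : x.support.card = y.support.card)
    (ih : IHyp α S.card) {a : α} (haS : a ∈ S) (hxa : x a ≠ a) (hxy : x a = y a) :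
    Good S x y := by
  obtain ⟨b, hb⟩ : ∃ b, b = x a := ⟨_, rfl⟩
  have hxab : x a = b := hb.symm
  have hyab : y a = b := by rw [← hxy, hxab]
  have hab : a ≠ b := by rw [hb]; exact hxa.symm
  have hbS : b ∈ S := by rw [hb]; exact apply_mem_of_support_subset x S hxS haS
  have P := peel x hx hab hxab
  have Q := peel y hy hab hyab
  have hcard : (x * swap a b).support.card = (y * swap a b).support.card := by
    have h1 := P.card
    have h2 := Q.card
    omega
  by_cases hbad : Bad ((S.erase a).erase b) (x * swap a b) (y * swap a b)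
  · obtain ⟨a', b', c', d', hnd, hSeq, hxe, hye⟩ := bad_struct _ _ _ P.inv Q.inv hbad
    have hmem := mem_of_mem_list4 hSeq
    have hxfull : x = swap a' b' * swap c' d' * swap a b := by rw [← hxe]; exact P.eq
    have hyfull : y = swap b' c' * swap d' a' * swap a b := by rw [← hye]; exact Q.eq
    rw [hxfull, hyfull]
    apply gadget6 S
    · rw [List.nodup_cons, List.nodup_cons]
      refine ⟨?_, ?_, hnd⟩
      · intro h
        rw [List.mem_cons] at h
        rcases h with h | h
        · exact hab h
        · have := hmem a h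
          rw [Finset.mem_erase, Finset.mem_erase] at this
          exact this.2.1 rfl
      · intro h
        have := hmem b h
        rw [Finset.mem_erase] at this
        exact this.1 rfl
    · intro q hq
      rw [List.mem_cons, List.mem_cons] at hq
      rcases hq with rfl | rfl | hq
      · exact haS
      · exact hbS
      · exact Finset.mem_of_mem_erase (Finset.mem_of_mem_erase (hmem q hq))
  · exact rule2 S x y hx hy hab hxab hyab haS hbS
      (ih _ _ _ (card_erase2_lt S b haS) P.inv Q.inv (P.subset S hxS) (Q.subset S hyS) hcard hbad)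

/-- **Step 3**: the end of a path. -/
theorem step3 (S : Finset α) (x y : Perm α) (hx : x * x = 1) (hy : y * y = 1)
    (hxS : x.support ⊆ S) (hyS : y.support ⊆ S) (hc : x.support.card = y.support.card)
    (ih : IHyp α S.card) {v : α} (hvS : v ∈ S) (hxv : x v = v) (hyv : y v ≠ v)
    (hxw : x (y v) ≠ y v) : Good S x y := by
  obtain ⟨w, hw⟩ : ∃ w, w = y v := ⟨_, rfl⟩
  rw [← hw] at hxw
  have hyvw : y v = w := hw.symm
  obtain ⟨u, hu⟩ : ∃ u, u = x w := ⟨_, rfl⟩
  have hxwu : x w = u := hu.symm
  have hvw : v ≠ w := by rw [hw]; exact hyv.symm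
  have hwu : w ≠ u := by rw [hu]; exact hxw.symm
  have hwS : w ∈ S := by rw [hw]; exact apply_mem_of_support_subset y S hyS hvS
  have huS : u ∈ S := by rw [hu]; exact apply_mem_of_support_subset x S hxS hwS
  have hxu : x u = w := by rw [hu]; exact invol_apply_apply x hx w
  have huv : u ≠ v := by
    intro h
    rw [h, hxv] at hxu
    exact hvw hxu
  have P := peel x hx hwu hxwu
  have Q := peel y hy hvw hyvw
  have hcard : (x * swap w u).support.card = (y * swap v w).support.card := by
    have h1 := P.card
    have h2 := Q.card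
    omega
  have hxS' : (x * swap w u).support ⊆ (S.erase v).erase w := by
    intro q hq
    rw [P.supp] at hq
    rw [Finset.mem_erase, Finset.mem_erase]
    refine ⟨hq.2.1, ?_, hxS hq.1⟩
    rintro rfl
    exact (Perm.mem_support.mp hq.1) hxv
  have hnb : ¬ Bad ((S.erase v).erase w) (x * swap w u) (y * swap v w) := by
    intro hbad
    have huS' : u ∈ (S.erase v).erase w := by
      rw [Finset.mem_erase, Finset.mem_erase]
      exact ⟨hwu.symm, huv, huS⟩
    rw [← hbad.2.1, Perm.mem_support] at huS'
    exact huS' P.fb
  exact rule3 S x y hx hy hxv hyvw hvw hxwu hwu hvS hwS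
    (ih _ _ _ (card_erase2_lt S w hvS) P.inv Q.inv hxS' (Q.subset S hyS) hcard hnb)

/-- **Step 4**: an isolated edge of `x` and an isolated edge of `y`. -/
theorem step4 (S : Finset α) (x y : Perm α) (hx : x * x = 1) (hy : y * y = 1)
    (hxS : x.support ⊆ S) (hyS : y.support ⊆ S) (hc : x.support.card = y.support.card)
    (ih : IHyp α S.card) {a c : α} (haS : a ∈ S) (hcS : c ∈ S) (hxa : x a ≠ a) (hya : y a = a)
    (hyb : y (x a) = x a) (hyc : y c ≠ c) (hxc : x c = c) (hxd : x (y c) = y c) :
    Good S x y := by
  obtain ⟨b, hb⟩ : ∃ b, b = x a := ⟨_, rfl⟩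
  rw [← hb] at hyb
  have hxab : x a = b := hb.symm
  obtain ⟨d, hd⟩ : ∃ d, d = y c := ⟨_, rfl⟩
  rw [← hd] at hxd
  have hycd : y c = d := hd.symm
  have hab : a ≠ b := by rw [hb]; exact hxa.symm
  have hcd : c ≠ d := by rw [hd]; exact hyc.symm
  have hbS : b ∈ S := by rw [hb]; exact apply_mem_of_support_subset x S hxS haS
  have hdS : d ∈ S := by rw [hd]; exact apply_mem_of_support_subset y S hyS hcS
  have hxb : x b = a := by rw [hb]; exact invol_apply_apply x hx a
  have hyd : y d = c := by rw [hd]; exact invol_apply_apply y hy c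
  have hac : a ≠ c := by rintro rfl; exact hxa hxc
  have had : a ≠ d := by rintro rfl; exact hxa hxd
  have hbc : b ≠ c := by rintro rfl; rw [hxc] at hxb; exact hab hxb.symm
  have hbd : b ≠ d := by rintro rfl; rw [hxd] at hxb; exact hab hxb.symm
  have P := peel x hx hab hxab
  have Q := peel y hy hcd hycd
  have hcard : (x * swap a b).support.card = (y * swap c d).support.card := by
    have h1 := P.card
    have h2 := Q.card
    omega
  have hxS' : (x * swap a b).support ⊆ (((S.erase a).erase b).erase c).erase d := by
    intro q hq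
    rw [P.supp] at hq
    simp only [Finset.mem_erase]
    refine ⟨?_, ?_, hq.2.2, hq.2.1, hxS hq.1⟩
    · rintro rfl
      exact (Perm.mem_support.mp hq.1) hxd
    · rintro rfl
      exact (Perm.mem_support.mp hq.1) hxc
  have hyS' : (y * swap c d).support ⊆ (((S.erase a).erase b).erase c).erase d := by
    intro q hq
    rw [Q.supp] at hq
    simp only [Finset.mem_erase]
    refine ⟨hq.2.2, hq.2.1, ?_, ?_, hyS hq.1⟩
    · rintro rfl
      exact (Perm.mem_support.mp hq.1) hyb
    · rintro rfl
      exact (Perm.mem_support.mp hq.1) hya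
  have hlt : ((((S.erase a).erase b).erase c).erase d).card < S.card :=
    lt_of_le_of_lt (Finset.card_erase_le) (lt_of_le_of_lt (Finset.card_erase_le)
      (card_erase2_lt S b haS))
  by_cases hbad : Bad ((((S.erase a).erase b).erase c).erase d) (x * swap a b) (y * swap c d)
  · obtain ⟨a', b', c', d', hnd, hSeq, hxe, hye⟩ := bad_struct _ _ _ P.inv Q.inv hbad
    have hmem := mem_of_mem_list4 hSeq
    have hxfull : x = swap a' b' * swap c' d' * swap a b := by rw [← hxe]; exact P.eq
    have hyfull : y = swap b' c' * swap d' a' * swap c d := by rw [← hye]; exact Q.eq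
    rw [hxfull, hyfull]
    have hnot : ∀ q ∈ [a', b', c', d'], q ≠ a ∧ q ≠ b ∧ q ≠ c ∧ q ≠ d := by
      intro q hq
      have := hmem q hq
      simp only [Finset.mem_erase] at this
      exact ⟨this.2.2.2.1, this.2.2.1, this.2.1, this.1⟩
    apply gadget8a S
    · rw [List.nodup_cons, List.nodup_cons, List.nodup_cons, List.nodup_cons]
      refine ⟨?_, ?_, ?_, ?_, hnd⟩
      · intro h
        rw [List.mem_cons, List.mem_cons, List.mem_cons] at h
        rcases h with h | h | h | h
        · exact hab h
        · exact hac h
        · exact had h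
        · exact (hnot a h).1 rfl
      · intro h
        rw [List.mem_cons, List.mem_cons] at h
        rcases h with h | h | h
        · exact hbc h
        · exact hbd h
        · exact (hnot b h).2.1 rfl
      · intro h
        rw [List.mem_cons] at h
        rcases h with h | h
        · exact hcd h
        · exact (hnot c h).2.2.1 rfl
      · intro h
        exact (hnot d h).2.2.2 rfl
    · intro q hq
      rw [List.mem_cons, List.mem_cons, List.mem_cons, List.mem_cons] at hq
      rcases hq with rfl | rfl | rfl | rfl | hq
      · exact haS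
      · exact hbS
      · exact hcS
      · exact hdS
      · have := hmem q hq
        simp only [Finset.mem_erase] at this
        exact this.2.2.2.2
  · exact rule4 S x y hx hy hxab hab hya hyb hycd hcd hxc hxd haS hbS hcS hdS
      (ih _ _ _ hlt P.inv Q.inv hxS' hyS' hcard hbad)

end Cfsg.Agent.Lib.Helper72.OddProd
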