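import Mathlib
import Cfsg.Agent.Lib.Helper72.OddProdCore

/-!
Odd-order products of involutions in symmetric groups, part 10: the fixed-point-free case,
a cycle of length at least six.
-/

set_option autoImplicit false
set_option linter.unusedSectionVars false
set_option maxRecDepth 8000

namespace Cfsg.Agent.Lib.Helper72.OddProd

open Equiv Equiv.Perm

variable {α : Type*} [DecidableEq α] [Fintype α]

/-- bookkeeping for rule 5a -/
theorem shorten_facts (S : Finset α) (x y : Perm α) (hx : x * x = 1) (hy : y * y = 1)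
    (hxS : x.support ⊆ S) (hyS : y.support ⊆ S)
    {p0 p1 p2 p3 p4 p5 : α} (hnd : [p0, p1, p2, p3, p4, p5].Nodup)
    (h01 : x p0 = p1) (h12 : y p1 = p2) (h23 : x p2 = p3) (h34 : y p3 = p4) (h45 : x p4 = p5)
    (h0S : p0 ∈ S) (h5S : p5 ∈ S) :
    (x * swap p0 p1 * swap p2 p3 * swap p4 p5 * swap p0 p5)
        * (x * swap p0 p1 * swap p2 p3 * swap p4 p5 * swap p0 p5) = 1 ∧
      (y * swap p1 p2 * swap p3 p4) * (y * swap p1 p2 * swap p3 p4) = 1 ∧
      (x * swap p0 p1 * swap p2 p3 * swap p4 p5 * swap p0 p5).support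
        ⊆ (((S.erase p1).erase p2).erase p3).erase p4 ∧
      (y * swap p1 p2 * swap p3 p4).support ⊆ (((S.erase p1).erase p2).erase p3).erase p4 ∧
      x.support.card = (x * swap p0 p1 * swap p2 p3 * swap p4 p5 * swap p0 p5).support.card + 4 ∧
      y.support.card = (y * swap p1 p2 * swap p3 p4).support.card + 4 ∧
      (x * swap p0 p1 * swap p2 p3 * swap p4 p5 * swap p0 p5) p5 = p0 ∧
      x = (x * swap p0 p1 * swap p2 p3 * swap p4 p5 * swap p0 p5) * swap p0 p5 * swap p4 p5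
        * swap p2 p3 * swap p0 p1 ∧
      y = (y * swap p1 p2 * swap p3 p4) * swap p3 p4 * swap p1 p2 := by
  simp only [List.nodup_cons, List.mem_cons, List.not_mem_nil, or_false, not_or, List.nodup_nil,
    and_true, not_false_eq_true] at hnd
  obtain ⟨⟨d01, d02, d03, d04, d05⟩, ⟨d12, d13, d14, d15⟩, ⟨d23, d24, d25⟩, ⟨d34, d35⟩, d45⟩ := hnd
  have P1 := peel x hx d01 h01
  have h23' : (x * swap p0 p1) p2 = p3 := by rw [P1.other p2 (Ne.symm d02) (Ne.symm d12), h23]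
  have P2 := peel (x * swap p0 p1) P1.inv d23 h23'
  have h45' : (x * swap p0 p1 * swap p2 p3) p4 = p5 := by
    rw [P2.other p4 (Ne.symm d24) (Ne.symm d34), P1.other p4 (Ne.symm d04) (Ne.symm d14), h45]
  have P3 := peel (x * swap p0 p1 * swap p2 p3) P2.inv d45 h45'
  have hx3p0 : (x * swap p0 p1 * swap p2 p3 * swap p4 p5) p0 = p0 := by
    rw [P3.other p0 d04 d05, P2.other p0 d02 d03, P1.fa]
  obtain ⟨hx4, hx4a, hx4b, hx4o⟩ := add_swap _ P3.inv hx3p0 P3.fb
  have P4 := peel _ hx4 d05 hx4a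
  have hback : x * swap p0 p1 * swap p2 p3 * swap p4 p5 * swap p0 p5 * swap p0 p5
      = x * swap p0 p1 * swap p2 p3 * swap p4 p5 := by
    rw [mul_assoc _ (swap p0 p5), swap_mul_self, mul_one]
  rw [hback] at P4
  have Q1 := peel y hy d12 h12
  have h34' : (y * swap p1 p2) p3 = p4 := by rw [Q1.other p3 (Ne.symm d13) (Ne.symm d23), h34]
  have Q2 := peel (y * swap p1 p2) Q1.inv d34 h34'
  refine ⟨hx4, Q2.inv, ?_, ?_, ?_, ?_, hx4b, ?_, ?_⟩
  · intro q hq
    by_cases hq0 : q = p0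
    · rw [hq0]
      simp only [Finset.mem_erase]
      exact ⟨d04, d03, d02, d01, h0S⟩
    by_cases hq5 : q = p5
    · rw [hq5]
      simp only [Finset.mem_erase]
      exact ⟨Ne.symm d45, Ne.symm d35, Ne.symm d25, Ne.symm d15, h5S⟩
    have h3 : q ∈ (x * swap p0 p1 * swap p2 p3 * swap p4 p5).support := by
      rw [P4.supp]; exact ⟨hq, hq0, hq5⟩
    rw [P3.supp, P2.supp, P1.supp] at h3
    simp only [Finset.mem_erase]
    exact ⟨h3.2.1, h3.1.2.2, h3.1.2.1, h3.1.1.2.2, hxS h3.1.1.1⟩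
  · intro q hq
    rw [Q2.supp, Q1.supp] at hq
    simp only [Finset.mem_erase]
    exact ⟨hq.2.2, hq.2.1, hq.1.2.2, hq.1.2.1, hyS hq.1.1⟩
  · have h1 := P1.card
    have h2 := P2.card
    have h3 := P3.card
    have h4 := P4.card
    omega
  · have h1 := Q1.card
    have h2 := Q2.card
    omega
  · have e1 := P1.eq
    have e2 := P2.eq
    have e3 := P3.eq
    rw [hback, ← e3, ← e2, ← e1]
  · have e1 := Q1.eq
    have e2 := Q2.eq
    rw [← e2, ← e1]

/-- **Step 5a**: six consecutive distinct points. -/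
theorem step5a (S : Finset α) (x y : Perm α) (hx : x * x = 1) (hy : y * y = 1)
    (hxS : x.support ⊆ S) (hyS : y.support ⊆ S) (hc : x.support.card = y.support.card)
    (ih : IHyp α S.card) (hxf : ∀ q ∈ S, x q ≠ q) (hyf : ∀ q ∈ S, y q ≠ q) {p0 : α}
    (h0S : p0 ∈ S) (hne : x p0 ≠ y p0) (h4 : y (x (y (x p0))) ≠ p0) : Good S x y := by
  have xx : ∀ q, x (x q) = q := invol_apply_apply x hx
  have yy : ∀ q, y (y q) = q := invol_apply_apply y hy
  have xmem : ∀ q, q ∈ S → x q ∈ S := fun q hq => apply_mem_of_support_subset x S hxS hq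
  have ymem : ∀ q, q ∈ S → y q ∈ S := fun q hq => apply_mem_of_support_subset y S hyS hq
  obtain ⟨p1, hp1⟩ : ∃ p1, p1 = x p0 := ⟨_, rfl⟩
  rw [← hp1] at h4 hne
  obtain ⟨p2, hp2⟩ : ∃ p2, p2 = y p1 := ⟨_, rfl⟩
  rw [← hp2] at h4
  obtain ⟨p3, hp3⟩ : ∃ p3, p3 = x p2 := ⟨_, rfl⟩
  rw [← hp3] at h4
  obtain ⟨p4, hp4⟩ : ∃ p4, p4 = y p3 := ⟨_, rfl⟩
  rw [← hp4] at h4
  obtain ⟨p5, hp5⟩ : ∃ p5, p5 = x p4 := ⟨_, rfl⟩
  have h01 : x p0 = p1 := hp1.symm
  have h12 : y p1 = p2 := hp2.symm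
  have h23 : x p2 = p3 := hp3.symm
  have h34 : y p3 = p4 := hp4.symm
  have h45 : x p4 = p5 := hp5.symm
  have h10 : x p1 = p0 := by rw [hp1]; exact xx p0
  have h21 : y p2 = p1 := by rw [hp2]; exact yy p1
  have h32 : x p3 = p2 := by rw [hp3]; exact xx p2
  have h43 : y p4 = p3 := by rw [hp4]; exact yy p3
  have h54 : x p5 = p4 := by rw [hp5]; exact xx p4
  have h1S : p1 ∈ S := by rw [hp1]; exact xmem _ h0S
  have h2S : p2 ∈ S := by rw [hp2]; exact ymem _ h1S
  have h3S : p3 ∈ S := by rw [hp3]; exact xmem _ h2S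
  have h4S : p4 ∈ S := by rw [hp4]; exact ymem _ h3S
  have h5S : p5 ∈ S := by rw [hp5]; exact xmem _ h4S
  have d01 : p0 ≠ p1 := by rw [hp1]; exact (hxf p0 h0S).symm
  have d12 : p1 ≠ p2 := by rw [hp2]; exact (hyf p1 h1S).symm
  have d23 : p2 ≠ p3 := by rw [hp3]; exact (hxf p2 h2S).symm
  have d34 : p3 ≠ p4 := by rw [hp4]; exact (hyf p3 h3S).symm
  have d45 : p4 ≠ p5 := by rw [hp5]; exact (hxf p4 h4S).symm
  have d02 : p0 ≠ p2 := by
    intro h
    apply hne
    rw [h, h21]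
  have d13 : p1 ≠ p3 := fun h => d02 (by rw [← h10, ← h32, h])
  have d24 : p2 ≠ p4 := fun h => d13 (by rw [← h21, ← h43, h])
  have d35 : p3 ≠ p5 := fun h => d24 (by rw [← h32, ← h54, h])
  have d03 : p0 ≠ p3 := fun h => d12 (by rw [← h01, ← h32, h])
  have d14 : p1 ≠ p4 := fun h => d23 (by rw [← h12, ← h43, h])
  have d25 : p2 ≠ p5 := fun h => d34 (by rw [← h23, ← h54, h])
  have d04 : p0 ≠ p4 := Ne.symm h4
  have d15 : p1 ≠ p5 := fun h => d04 (by rw [← h10, ← h54, h])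
  have d05 : p0 ≠ p5 := fun h => d14 (by rw [← h01, ← h54, h])
  have hnd : [p0, p1, p2, p3, p4, p5].Nodup := by
    simp only [List.nodup_cons, List.mem_cons, List.not_mem_nil, or_false, not_or, List.nodup_nil,
      and_true, not_false_eq_true]
    exact ⟨⟨d01, d02, d03, d04, d05⟩, ⟨d12, d13, d14, d15⟩, ⟨d23, d24, d25⟩, ⟨d34, d35⟩, d45⟩
  obtain ⟨hx', hy', hx'S, hy'S, hcx, hcy, hx'5, hxfull, hyfull⟩ :=
    shorten_facts S x y hx hy hxS hyS hnd h01 h12 h23 h34 h45 h0S h5S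
  have hcard : (x * swap p0 p1 * swap p2 p3 * swap p4 p5 * swap p0 p5).support.card
      = (y * swap p1 p2 * swap p3 p4).support.card := by omega
  have hlt : ((((S.erase p1).erase p2).erase p3).erase p4).card < S.card :=
    lt_of_le_of_lt (Finset.card_erase_le) (lt_of_le_of_lt (Finset.card_erase_le)
      (card_erase2_lt S p2 h1S))
  by_cases hbad : Bad ((((S.erase p1).erase p2).erase p3).erase p4)
      (x * swap p0 p1 * swap p2 p3 * swap p4 p5 * swap p0 p5) (y * swap p1 p2 * swap p3 p4)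
  · have h5S' : p5 ∈ (((S.erase p1).erase p2).erase p3).erase p4 := by
      simp only [Finset.mem_erase]
      exact ⟨Ne.symm d45, Ne.symm d35, Ne.symm d25, Ne.symm d15, h5S⟩
    obtain ⟨c, d, hnd4, hSeq, hxe, hye⟩ := bad_struct' _ _ _ hx' hy' hbad h5S'
    rw [hx'5] at hnd4 hSeq hxe hye
    have hmem := mem_of_mem_list4 hSeq
    rw [hxe] at hxfull
    rw [hye] at hyfull
    rw [hxfull, hyfull]
    simp only [List.nodup_cons, List.mem_cons, List.not_mem_nil, or_false, not_or, List.nodup_nil,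
      and_true, not_false_eq_true] at hnd4
    obtain ⟨⟨-, d5c, d5d⟩, ⟨d0c, d0d⟩, dcd⟩ := hnd4
    have hcS' := hmem c (by simp)
    have hdS' := hmem d (by simp)
    simp only [Finset.mem_erase] at hcS' hdS'
    apply gadget8c S
    · simp only [List.nodup_cons, List.mem_cons, List.not_mem_nil, or_false, not_or,
        List.nodup_nil, and_true, not_false_eq_true]
      exact ⟨⟨dcd, Ne.symm d0c, hcS'.2.2.2.1, hcS'.2.2.1, hcS'.2.1, hcS'.1, Ne.symm d5c⟩,
        ⟨Ne.symm d0d, hdS'.2.2.2.1, hdS'.2.2.1, hdS'.2.1, hdS'.1, Ne.symm d5d⟩,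
        ⟨d01, d02, d03, d04, d05⟩, ⟨d12, d13, d14, d15⟩, ⟨d23, d24, d25⟩, ⟨d34, d35⟩, d45⟩
    · intro q hq
      simp only [List.mem_cons, List.not_mem_nil, or_false] at hq
      rcases hq with rfl | rfl | rfl | rfl | rfl | rfl | rfl | rfl
      · exact hcS'.2.2.2.2
      · exact hdS'.2.2.2.2
      · exact h0S
      · exact h1S
      · exact h2S
      · exact h3S
      · exact h4S
      · exact h5S
  · exact rule5a S x y hx hy hnd h01 h12 h23 h34 h45 h1S h2S h3S h4S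
      (ih _ _ _ hlt hx' hy' hx'S hy'S hcard hbad)

end Cfsg.Agent.Lib.Helper72.OddProd
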