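import Mathlib
import Cfsg.Agent.Lib.Helper72.OddProdLong

/-!
Odd-order products of involutions in symmetric groups, part 11: the fixed-point-free case,
all cycles of length four; and the induction itself.
-/

set_option autoImplicit false
set_option linter.unusedSectionVars false
set_option maxRecDepth 8000

namespace Cfsg.Agent.Lib.Helper72.OddProd

open Equiv Equiv.Perm

variable {α : Type*} [DecidableEq α] [Fintype α]

theorem four_nodup (x y : Perm α) (hy : y * y = 1) {a b c d : α}
    (hab : x a = b) (hbc : y b = c) (hcd : x c = d) (hda : y d = a) (hxa : x a ≠ a)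
    (hyb : y b ≠ b) (hxc : x c ≠ c) (hyd : y d ≠ d) (hne : x a ≠ y a) : [a, b, c, d].Nodup := by
  have yy : ∀ q, y (y q) = q := invol_apply_apply y hy
  have hyc : y c = b := by rw [← hbc]; exact yy b
  have hya : y a = d := by rw [← hda]; exact yy d
  have d1 : a ≠ b := by rw [← hab]; exact hxa.symm
  have d2 : b ≠ c := by rw [← hbc]; exact hyb.symm
  have d3 : c ≠ d := by rw [← hcd]; exact hxc.symm
  have d4 : d ≠ a := by rw [← hda]; exact hyd.symm
  have d5 : a ≠ c := by
    intro h
    apply hne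
    rw [hab, h, hyc]
  have d6 : b ≠ d := by
    intro h
    apply d5
    rw [← hda, ← h, hbc]
  exact nodup4 d1 d5 (Ne.symm d4) d2 d6 d3

/-- **Step 5b**: all cycles have length four. -/
theorem step5b (S : Finset α) (x y : Perm α) (hx : x * x = 1) (hy : y * y = 1)
    (hxS : x.support ⊆ S) (hyS : y.support ⊆ S) (hc : x.support.card = y.support.card)
    (ih : IHyp α S.card) (hxf : ∀ q ∈ S, x q ≠ q) (hyf : ∀ q ∈ S, y q ≠ q)
    (hne : ∀ q ∈ S, x q ≠ y q) (h4 : ∀ q ∈ S, y (x (y (x q))) = q) (hnb : ¬ Bad S x y)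
    (hxy : x ≠ y) : Good S x y := by
  have xx : ∀ q, x (x q) = q := invol_apply_apply x hx
  have yy : ∀ q, y (y q) = q := invol_apply_apply y hy
  have xmem : ∀ q, q ∈ S → x q ∈ S := fun q hq => apply_mem_of_support_subset x S hxS hq
  have ymem : ∀ q, q ∈ S → y q ∈ S := fun q hq => apply_mem_of_support_subset y S hyS hq
  have hxsupp : x.support = S :=
    Finset.Subset.antisymm hxS (fun q hq => Perm.mem_support.mpr (hxf q hq))
  have hysupp : y.support = S :=
    Finset.Subset.antisymm hyS (fun q hq => Perm.mem_support.mpr (hyf q hq))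
  have hcard4 : S.card ≠ 4 := fun h => hnb ⟨h, hxsupp, hysupp, hxy⟩
  have hSne : S.Nonempty := by
    rw [Finset.nonempty_iff_ne_empty]
    intro h
    apply hxy
    have h1 : x = 1 := by
      rw [← Perm.support_eq_empty_iff, hxsupp, h]
    have h2 : y = 1 := by
      rw [← Perm.support_eq_empty_iff, hysupp, h]
    rw [h1, h2]
  obtain ⟨a, haS⟩ := hSne
  -- the first cycle
  obtain ⟨b, hb⟩ : ∃ b, b = x a := ⟨_, rfl⟩
  obtain ⟨c, hc'⟩ : ∃ c, c = y b := ⟨_, rfl⟩
  obtain ⟨d, hd⟩ : ∃ d, d = x c := ⟨_, rfl⟩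
  have hab : x a = b := hb.symm
  have hbc : y b = c := hc'.symm
  have hcd : x c = d := hd.symm
  have hda : y d = a := by
    have := h4 a haS
    rwa [hab, hbc, hcd] at this
  have hba : x b = a := by rw [hb]; exact xx a
  have hcb : y c = b := by rw [hc']; exact yy b
  have hdc : x d = c := by rw [hd]; exact xx c
  have had : y a = d := by rw [← hda]; exact yy d
  have hbS : b ∈ S := by rw [hb]; exact xmem _ haS
  have hcS : c ∈ S := by rw [hc']; exact ymem _ hbS
  have hdS : d ∈ S := by rw [hd]; exact xmem _ hcS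
  have hnd1 : [a, b, c, d].Nodup :=
    four_nodup x y hy hab hbc hcd hda (hxf a haS) (hyf b hbS) (hxf c hcS) (hyf d hdS) (hne a haS)
  -- a point outside the first cycle
  have hex : ∃ e ∈ S, e ∉ [a, b, c, d] := by
    by_contra hcon
    push Not at hcon
    apply hcard4
    have h1 : S = [a, b, c, d].toFinset := by
      apply Finset.Subset.antisymm
      · intro q hq
        rw [List.mem_toFinset]
        exact hcon q hq
      · intro q hq
        rw [List.mem_toFinset] at hq
        simp only [List.mem_cons, List.not_mem_nil, or_false] at hq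
        rcases hq with rfl | rfl | rfl | rfl
        · exact haS
        · exact hbS
        · exact hcS
        · exact hdS
    rw [h1, List.toFinset_card_of_nodup hnd1]
    rfl
  obtain ⟨e, heS, heC⟩ := hex
  -- the first cycle is closed under `x` and `y`
  have hxC : ∀ q, x q ∈ [a, b, c, d] → q ∈ [a, b, c, d] := by
    intro q hq
    simp only [List.mem_cons, List.not_mem_nil, or_false] at hq ⊢
    rcases hq with h | h | h | h
    · right; left; rw [← xx q, h, hab]
    · left; rw [← xx q, h, hba]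
    · right; right; right; rw [← xx q, h, hcd]
    · right; right; left; rw [← xx q, h, hdc]
  have hyC : ∀ q, y q ∈ [a, b, c, d] → q ∈ [a, b, c, d] := by
    intro q hq
    simp only [List.mem_cons, List.not_mem_nil, or_false] at hq ⊢
    rcases hq with h | h | h | h
    · right; right; right; rw [← yy q, h, had]
    · right; right; left; rw [← yy q, h, hbc]
    · right; left; rw [← yy q, h, hcb]
    · left; rw [← yy q, h, hda]
  -- the second cycle
  obtain ⟨f, hf⟩ : ∃ f, f = x e := ⟨_, rfl⟩
  obtain ⟨g, hg⟩ : ∃ g, g = y f := ⟨_, rfl⟩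
  obtain ⟨h, hh⟩ : ∃ h, h = x g := ⟨_, rfl⟩
  have hef : x e = f := hf.symm
  have hfg : y f = g := hg.symm
  have hgh : x g = h := hh.symm
  have hhe : y h = e := by
    have := h4 e heS
    rwa [hef, hfg, hgh] at this
  have hfe : x f = e := by rw [hf]; exact xx e
  have hgf : y g = f := by rw [hg]; exact yy f
  have hhg : x h = g := by rw [hh]; exact xx g
  have heh : y e = h := by rw [← hhe]; exact yy h
  have hfS : f ∈ S := by rw [hf]; exact xmem _ heS
  have hgS : g ∈ S := by rw [hg]; exact ymem _ hfS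
  have hhS : h ∈ S := by rw [hh]; exact xmem _ hgS
  have hfC : f ∉ [a, b, c, d] := fun hq => heC (hxC e (by rw [hef]; exact hq))
  have hgC : g ∉ [a, b, c, d] := fun hq => hfC (hyC f (by rw [hfg]; exact hq))
  have hhC : h ∉ [a, b, c, d] := fun hq => hgC (hxC g (by rw [hgh]; exact hq))
  have hnd2 : [e, f, g, h].Nodup :=
    four_nodup x y hy hef hfg hgh hhe (hxf e heS) (hyf f hfS) (hxf g hgS) (hyf h hhS) (hne e heS)
  have hnd8 : [a, b, c, d, e, f, g, h].Nodup := by
    have : [a, b, c, d, e, f, g, h] = [a, b, c, d] ++ [e, f, g, h] := rfl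
    rw [this, List.nodup_append]
    refine ⟨hnd1, hnd2, ?_⟩
    intro q hq r hr hqr
    subst hqr
    simp only [List.mem_cons, List.not_mem_nil, or_false] at hr
    rcases hr with rfl | rfl | rfl | rfl
    · exact heC hq
    · exact hfC hq
    · exact hgC hq
    · exact hhC hq
  -- the embedding
  set ι := embOfNodup ![a, b, c, d, e, f, g, h] (ofFn_nodup8 hnd8) with hι
  have hxι : ∀ i, x (ι i) = ι ((swap 6 7 * swap 4 5 * swap 2 3 * swap 0 1 : Perm (Fin 8)) i) := by
    intro i
    fin_cases i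
    · exact hab
    · exact hba
    · exact hcd
    · exact hdc
    · exact hef
    · exact hfe
    · exact hgh
    · exact hhg
  have hyι : ∀ i, y (ι i) = ι ((swap 7 4 * swap 5 6 * swap 3 0 * swap 1 2 : Perm (Fin 8)) i) := by
    intro i
    fin_cases i
    · exact had
    · exact hbc
    · exact hcb
    · exact hda
    · exact heh
    · exact hfg
    · exact hgf
    · exact hhe
  have hιS : ∀ i, ι i ∈ S := by
    intro i
    fin_cases i
    · exact haS
    · exact hbS
    · exact hcS
    · exact hdS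
    · exact heS
    · exact hfS
    · exact hgS
    · exact hhS
  obtain ⟨hx₁, hx₁ι, hx₁S, hx₁c, hxeq⟩ := strip_facts ι _ (by decide) (by decide) x hx hxι S hxS
  obtain ⟨hy₁, hy₁ι, hy₁S, hy₁c, hyeq⟩ := strip_facts ι _ (by decide) (by decide) y hy hyι S hyS
  have hιS'' : ∀ i, ι i ∉ S \ Finset.univ.map ι := by
    intro i hi
    rw [Finset.mem_sdiff] at hi
    exact hi.2 (Finset.mem_map.mpr ⟨i, Finset.mem_univ _, rfl⟩)
  have hlt : (S \ Finset.univ.map ι).card < S.card := by
    apply Finset.card_lt_card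
    rw [Finset.ssubset_iff_of_subset Finset.sdiff_subset]
    exact ⟨ι 0, hιS 0, hιS'' 0⟩
  have hcard₁ : (x * viaEmbeddingHom ι (swap 6 7 * swap 4 5 * swap 2 3 * swap 0 1)).support.card
      = (y * viaEmbeddingHom ι (swap 7 4 * swap 5 6 * swap 3 0 * swap 1 2)).support.card := by
    omega
  by_cases hbad : Bad (S \ Finset.univ.map ι)
      (x * viaEmbeddingHom ι (swap 6 7 * swap 4 5 * swap 2 3 * swap 0 1))
      (y * viaEmbeddingHom ι (swap 7 4 * swap 5 6 * swap 3 0 * swap 1 2))
  · obtain ⟨a', b', c', d', hnd4, hSeq, hxe, hye⟩ := bad_struct _ _ _ hx₁ hy₁ hbad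
    have hmem := mem_of_mem_list4 hSeq
    have hξ : viaEmbeddingHom ι (swap 6 7 * swap 4 5 * swap 2 3 * swap 0 1)
        = swap g h * swap e f * swap c d * swap a b := by
      show _ = swap (ι 6) (ι 7) * swap (ι 4) (ι 5) * swap (ι 2) (ι 3) * swap (ι 0) (ι 1)
      simp only [map_mul, via_swap]
    have hη : viaEmbeddingHom ι (swap 7 4 * swap 5 6 * swap 3 0 * swap 1 2)
        = swap h e * swap f g * swap d a * swap b c := by
      show _ = swap (ι 7) (ι 4) * swap (ι 5) (ι 6) * swap (ι 3) (ι 0) * swap (ι 1) (ι 2)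
      simp only [map_mul, via_swap]
    have hxfull : x = swap a' b' * swap c' d' * (swap g h * swap e f * swap c d * swap a b) := by
      rw [← hxe, ← hξ]; exact hxeq
    have hyfull : y = swap b' c' * swap d' a' * (swap h e * swap f g * swap d a * swap b c) := by
      rw [← hye, ← hη]; exact hyeq
    rw [hxfull, hyfull]
    have hιmem : ∀ q ∈ [a, b, c, d, e, f, g, h], q ∈ Finset.univ.map ι := by
      intro q hq
      simp only [List.mem_cons, List.not_mem_nil, or_false] at hq
      rcases hq with rfl | rfl | rfl | rfl | rfl | rfl | rfl | rfl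
      · exact Finset.mem_map.mpr ⟨0, Finset.mem_univ _, rfl⟩
      · exact Finset.mem_map.mpr ⟨1, Finset.mem_univ _, rfl⟩
      · exact Finset.mem_map.mpr ⟨2, Finset.mem_univ _, rfl⟩
      · exact Finset.mem_map.mpr ⟨3, Finset.mem_univ _, rfl⟩
      · exact Finset.mem_map.mpr ⟨4, Finset.mem_univ _, rfl⟩
      · exact Finset.mem_map.mpr ⟨5, Finset.mem_univ _, rfl⟩
      · exact Finset.mem_map.mpr ⟨6, Finset.mem_univ _, rfl⟩
      · exact Finset.mem_map.mpr ⟨7, Finset.mem_univ _, rfl⟩
    apply gadget444 S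
    · have : [a', b', c', d', a, b, c, d, e, f, g, h]
          = [a', b', c', d'] ++ [a, b, c, d, e, f, g, h] := rfl
      rw [this, List.nodup_append]
      refine ⟨hnd4, hnd8, ?_⟩
      intro q hq r hr hqr
      subst hqr
      have h1 := hmem q hq
      rw [Finset.mem_sdiff] at h1
      exact h1.2 (hιmem q hr)
    · intro q hq
      have : [a', b', c', d', a, b, c, d, e, f, g, h]
          = [a', b', c', d'] ++ [a, b, c, d, e, f, g, h] := rfl
      rw [this, List.mem_append] at hq
      rcases hq with hq | hq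
      · exact (Finset.mem_sdiff.mp (hmem q hq)).1
      · have := hιmem q hq
        rw [Finset.mem_map] at this
        obtain ⟨i, -, rfl⟩ := this
        exact hιS i
  · have := strip_via ι (swap 6 7 * swap 4 5 * swap 2 3 * swap 0 1)
      (swap 7 4 * swap 5 6 * swap 3 0 * swap 1 2)
      (swap 0 1 * swap 2 4 * swap 3 7 * swap 5 6) (by decide) 3 3
      (by decide) (by decide) (by decide) (by decide) S _ Finset.sdiff_subset hιS hιS'' _ _
      hx₁ι hy₁ι (ih _ _ _ hlt hx₁ hy₁ hx₁S hy₁S hcard₁ hbad)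
    rwa [← hxeq, ← hyeq] at this

/-- **The core theorem.** -/
theorem core : ∀ (n : ℕ) (S : Finset α) (x y : Perm α), S.card = n → x * x = 1 → y * y = 1 →
    x.support ⊆ S → y.support ⊆ S → x.support.card = y.support.card → ¬ Bad S x y →
    Good S x y := by
  intro n
  induction n using Nat.strong_induction_on with
  | _ n IH =>
    intro S x y hn hx hy hxS hyS hc hnb
    have ih : IHyp α S.card := by
      intro S' x' y' hlt hx' hy' hx'S hy'S hc' hnb'
      exact IH S'.card (hn ▸ hlt) S' x' y' rfl hx' hy' hx'S hy'S hc' hnb'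
    by_cases hxy : x = y
    · subst hxy; exact good_self S x hx hxS
    by_cases h1 : ∃ p ∈ S, x p = p ∧ y p = p
    · obtain ⟨p, hpS, hxp, hyp⟩ := h1
      exact step1 S x y hx hy hxS hyS hc ih hpS hxp hyp
    by_cases h2 : ∃ a ∈ S, x a ≠ a ∧ x a = y a
    · obtain ⟨a, haS, hxa, hxya⟩ := h2
      exact step2 S x y hx hy hxS hyS hc ih haS hxa hxya
    by_cases h3 : ∃ v ∈ S, x v = v ∧ y v ≠ v ∧ x (y v) ≠ y v
    · obtain ⟨v, hvS, hxv, hyv, hxw⟩ := h3
      exact step3 S x y hx hy hxS hyS hc ih hvS hxv hyv hxw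
    by_cases h3' : ∃ v ∈ S, y v = v ∧ x v ≠ v ∧ y (x v) ≠ x v
    · obtain ⟨v, hvS, hyv, hxv, hyw⟩ := h3'
      have ih' : IHyp α S.card := ih
      exact (step3 S y x hy hx hyS hxS hc.symm ih' hvS hyv hxv hyw).symm hy hx
    push Not at h1 h2 h3 h3'
    by_cases hfix : ∃ c ∈ S, x c = c ∨ y c = c
    · have hboth : (∃ c ∈ S, x c = c) ∧ (∃ a ∈ S, y a = a) := by
        obtain ⟨c, hcS, h | h⟩ := hfix
        · exact ⟨⟨c, hcS, h⟩, exists_fixed_of_card S x y hxS hc hcS h⟩
        · exact ⟨exists_fixed_of_card S y x hyS hc.symm hcS h, ⟨c, hcS, h⟩⟩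
      obtain ⟨⟨c, hcS, hxc⟩, ⟨a, haS, hya⟩⟩ := hboth
      have hyc : y c ≠ c := h1 c hcS hxc
      have hxd : x (y c) = y c := h3 c hcS hxc hyc
      have hxa : x a ≠ a := fun h => h1 a haS h hya
      have hyb : y (x a) = x a := h3' a haS hya hxa
      exact step4 S x y hx hy hxS hyS hc ih haS hcS hxa hya hyb hyc hxc hxd
    push Not at hfix
    have hxf : ∀ q ∈ S, x q ≠ q := fun q hq => (hfix q hq).1
    have hyf : ∀ q ∈ S, y q ≠ q := fun q hq => (hfix q hq).2
    have hne : ∀ q ∈ S, x q ≠ y q := fun q hq => h2 q hq (hxf q hq)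
    by_cases h5 : ∃ p0 ∈ S, y (x (y (x p0))) ≠ p0
    · obtain ⟨p0, h0S, h4⟩ := h5
      exact step5a S x y hx hy hxS hyS hc ih hxf hyf h0S (hne p0 h0S) h4
    · push Not at h5
      exact step5b S x y hx hy hxS hyS hc ih hxf hyf hne h5 hnb hxy

end Cfsg.Agent.Lib.Helper72.OddProd
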