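import Mathlib
import Cfsg.Agent.Lib.Helper72.OddProdFour

/-!
Odd-order products of involutions in symmetric groups, part 12: consequences for the graph
on a class of involutions.
-/

set_option autoImplicit false
set_option linter.unusedSectionVars false
set_option maxRecDepth 8000

namespace Cfsg.Agent.Lib.Helper72.OddProd

open Equiv Equiv.Perm

variable {α : Type*} [DecidableEq α] [Fintype α]

/-- two conjugates of an involution of a symmetric group of degree at least `5` are joined,
through a third conjugate, by products of odd order -/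
theorem exists_middle (hn : 5 ≤ Fintype.card α) (t x y : Perm α) (ht : t * t = 1)
    (hx : IsConj t x) (hy : IsConj t y) :
    ∃ z, IsConj t z ∧ Odd (orderOf (x * z)) ∧ Odd (orderOf (z * y)) := by
  have hinv : ∀ w : Perm α, IsConj t w → w * w = 1 := by
    intro w hw
    obtain ⟨c, hc⟩ := isConj_iff.mp hw
    rw [← hc]
    calc c * t * c⁻¹ * (c * t * c⁻¹) = c * (t * t) * c⁻¹ := by group
      _ = 1 := by rw [ht]; group
  have hcs : ∀ w : Perm α, IsConj t w → w.support.card = t.support.card := by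
    intro w hw
    obtain ⟨c, hc⟩ := isConj_iff.mp hw
    rw [← hc]
    exact card_support_conj
  have hnb : ¬ Bad (Finset.univ : Finset α) x y := by
    intro h
    have := h.1
    rw [Finset.card_univ] at this
    omega
  obtain ⟨z, hz, -, h1, h2⟩ := core (Finset.univ : Finset α).card Finset.univ x y rfl (hinv x hx)
    (hinv y hy) (Finset.subset_univ _) (Finset.subset_univ _) ((hcs x hx).trans (hcs y hy).symm) hnb
  exact ⟨z, hx.trans (isConj_of_odd x z (hinv x hx) hz h1), h1, h2⟩

/-- a conjugate that commutes, from a finite model -/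
theorem exists_commuting_conj {k : ℕ} (ι : Fin k ↪ α) (ξ ξ' τ : Perm (Fin k)) (hξ : ξ * ξ = 1)
    (hconj : τ * ξ * τ⁻¹ = ξ') (hcomm : ξ' * ξ = ξ * ξ') (hne : ξ' ≠ ξ) (t : Perm α)
    (htι : ∀ i, t (ι i) = ι (ξ i)) : ∃ x, IsConj t x ∧ x ≠ t ∧ x * t = t * x := by
  have hξξ : ∀ i, ξ (ξ i) = i := invol_apply_apply ξ hξ
  obtain ⟨t₁, ht₁⟩ : ∃ t₁, t₁ = t * viaEmbeddingHom ι ξ := ⟨_, rfl⟩
  have hfix : ∀ i, t₁ (ι i) = ι i := by
    intro i
    rw [ht₁, Perm.mul_apply, viaEmbeddingHom_apply, viaEmbedding_apply, htι, hξξ]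
  have hteq : t = t₁ * viaEmbeddingHom ι ξ := by
    rw [ht₁, mul_assoc, ← map_mul, hξ, map_one, mul_one]
  refine ⟨t₁ * viaEmbeddingHom ι ξ', ?_, ?_, ?_⟩
  · rw [isConj_iff]
    refine ⟨viaEmbeddingHom ι τ, ?_⟩
    rw [hteq, ← hconj, map_mul, map_mul, map_inv]
    calc viaEmbeddingHom ι τ * (t₁ * viaEmbeddingHom ι ξ) * (viaEmbeddingHom ι τ)⁻¹
        = (viaEmbeddingHom ι τ * t₁) * viaEmbeddingHom ι ξ * (viaEmbeddingHom ι τ)⁻¹ := by group
      _ = (t₁ * viaEmbeddingHom ι τ) * viaEmbeddingHom ι ξ * (viaEmbeddingHom ι τ)⁻¹ := by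
          rw [comm_via ι t₁ hfix τ]
      _ = t₁ * (viaEmbeddingHom ι τ * viaEmbeddingHom ι ξ * (viaEmbeddingHom ι τ)⁻¹) := by group
  · intro h
    rw [hteq] at h
    exact hne (viaEmbeddingHom_injective ι (mul_left_cancel h))
  · rw [hteq]
    calc t₁ * viaEmbeddingHom ι ξ' * (t₁ * viaEmbeddingHom ι ξ)
        = t₁ * (viaEmbeddingHom ι ξ' * t₁) * viaEmbeddingHom ι ξ := by group
      _ = t₁ * (t₁ * viaEmbeddingHom ι ξ') * viaEmbeddingHom ι ξ := by
          rw [comm_via ι t₁ hfix ξ']
      _ = t₁ * t₁ * viaEmbeddingHom ι (ξ' * ξ) := by rw [map_mul]; group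
      _ = t₁ * t₁ * viaEmbeddingHom ι (ξ * ξ') := by rw [hcomm]
      _ = t₁ * (t₁ * viaEmbeddingHom ι ξ) * viaEmbeddingHom ι ξ' := by rw [map_mul]; group
      _ = t₁ * (viaEmbeddingHom ι ξ * t₁) * viaEmbeddingHom ι ξ' := by
          rw [comm_via ι t₁ hfix ξ]
      _ = t₁ * viaEmbeddingHom ι ξ * (t₁ * viaEmbeddingHom ι ξ') := by group

theorem exists_notMem_of_card_lt (s : Finset α) (h : s.card < Fintype.card α) : ∃ c, c ∉ s := by
  by_contra hcon
  push Not at hcon
  have : s = Finset.univ := Finset.eq_univ_iff_forall.mpr hcon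
  rw [this, Finset.card_univ] at h
  exact lt_irrefl _ h

theorem ofFn_nodup4 {p0 p1 p2 p3 : α} (h : [p0, p1, p2, p3].Nodup) :
    (List.ofFn ![p0, p1, p2, p3]).Nodup := by
  have : List.ofFn ![p0, p1, p2, p3] = [p0, p1, p2, p3] := by simp [List.ofFn_succ]
  rw [this]; exact h

/-- a nontrivial involution of a symmetric group of degree at least `5` commutes with another of
its conjugates -/
theorem exists_commuting (hn : 5 ≤ Fintype.card α) (t : Perm α) (ht : t * t = 1) (ht1 : t ≠ 1) :
    ∃ x, IsConj t x ∧ x ≠ t ∧ x * t = t * x := by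
  have tt : ∀ q, t (t q) = q := invol_apply_apply t ht
  obtain ⟨a, ha⟩ : ∃ a, t a ≠ a := by
    by_contra hcon
    push Not at hcon
    apply ht1
    ext q
    rw [hcon q, Perm.one_apply]
  obtain ⟨b, hb⟩ : ∃ b, b = t a := ⟨_, rfl⟩
  have hab : t a = b := hb.symm
  have hba : t b = a := by rw [hb]; exact tt a
  have dab : a ≠ b := by rw [hb]; exact ha.symm
  -- the case of a second transposition
  have caseA : ∀ c, c ≠ a → c ≠ b → t c ≠ c → ∃ x, IsConj t x ∧ x ≠ t ∧ x * t = t * x := by
    intro c hca hcb hc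
    obtain ⟨d, hd⟩ : ∃ d, d = t c := ⟨_, rfl⟩
    have hcd : t c = d := hd.symm
    have hdc : t d = c := by rw [hd]; exact tt c
    have dcd : c ≠ d := by rw [hd]; exact hc.symm
    have dad : a ≠ d := by
      intro h
      apply hcb
      rw [← hdc, ← h, hab]
    have dbd : b ≠ d := by
      intro h
      apply hca
      rw [← hdc, ← h, hba]
    have hnd : [a, b, c, d].Nodup := nodup4 dab (Ne.symm hca) dad (Ne.symm hcb) dbd dcd
    apply exists_commuting_conj (embOfNodup ![a, b, c, d] (ofFn_nodup4 hnd))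
      (swap 0 1 * swap 2 3) (swap 0 2 * swap 1 3) (swap 1 2) (by decide) (by decide) (by decide)
      (by decide) t
    intro i
    fin_cases i
    · exact hab
    · exact hba
    · exact hcd
    · exact hdc
  have h2 : ({a, b} : Finset α).card < Fintype.card α :=
    lt_of_le_of_lt (Finset.card_le_two) (by omega)
  obtain ⟨c, hc⟩ := exists_notMem_of_card_lt _ h2
  rw [Finset.mem_insert, Finset.mem_singleton, not_or] at hc
  have h3 : ({a, b, c} : Finset α).card < Fintype.card α :=
    lt_of_le_of_lt (Finset.card_le_three) (by omega)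
  obtain ⟨c', hc'⟩ := exists_notMem_of_card_lt _ h3
  rw [Finset.mem_insert, Finset.mem_insert, Finset.mem_singleton, not_or, not_or] at hc'
  by_cases h1 : t c ≠ c
  · exact caseA c hc.1 hc.2 h1
  by_cases h1' : t c' ≠ c'
  · exact caseA c' hc'.1 hc'.2.1 h1'
  push Not at h1 h1'
  have hnd : [a, b, c, c'].Nodup :=
    nodup4 dab (Ne.symm hc.1) (Ne.symm hc'.1) (Ne.symm hc.2) (Ne.symm hc'.2.1) (Ne.symm hc'.2.2)
  apply exists_commuting_conj (embOfNodup ![a, b, c, c'] (ofFn_nodup4 hnd))
    (swap 0 1) (swap 2 3) (swap 0 2 * swap 1 3) (by decide) (by decide) (by decide)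
    (by decide) t
  intro i
  fin_cases i
  · exact hab
  · exact hba
  · exact h1
  · exact h1'

/-- a nontrivial involution of a symmetric group of degree at least `5` has a conjugate, different
from it, whose products with it have even order -/
theorem exists_nonadjacent (hn : 5 ≤ Fintype.card α) (t : Perm α) (ht : t * t = 1) (ht1 : t ≠ 1) :
    ∃ x, IsConj t x ∧ x ≠ t ∧ ¬ Odd (orderOf (x * t)) ∧ ¬ Odd (orderOf (t * x)) := by
  obtain ⟨x, hx, hne, hcomm⟩ := exists_commuting hn t ht ht1
  have hxx : x * x = 1 := by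
    obtain ⟨c, hc⟩ := isConj_iff.mp hx
    rw [← hc]
    calc c * t * c⁻¹ * (c * t * c⁻¹) = c * (t * t) * c⁻¹ := by group
      _ = 1 := by rw [ht]; group
  have hord : orderOf (x * t) = 2 := by
    apply orderOf_eq_prime
    · rw [sq]
      calc x * t * (x * t) = x * (t * x) * t := by group
        _ = x * (x * t) * t := by rw [hcomm]
        _ = (x * x) * (t * t) := by group
        _ = 1 := by rw [hxx, ht, one_mul]
    · intro h
      apply hne
      have : x = t⁻¹ := eq_inv_of_mul_eq_one_left h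
      rw [this]
      exact inv_eq_of_mul_eq_one_left ht
  refine ⟨x, hx, hne, ?_, ?_⟩
  · rw [hord]; decide
  · rw [← hcomm, hord]; decide

/-- a graph in which any two vertices are joined by a walk of length at most two, and which is not
complete, is connected of diameter two -/
theorem connected_diam_two {V : Type*} (G : SimpleGraph V) [Nonempty V]
    (h2 : ∀ u v : V, ∃ w, (w = u ∨ G.Adj u w) ∧ (w = v ∨ G.Adj w v))
    (hnon : ∃ u v : V, u ≠ v ∧ ¬ G.Adj u v) : G.Connected ∧ G.diam = 2 := by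
  have hwalk : ∀ u v : V, ∃ p : G.Walk u v, p.length ≤ 2 := by
    intro u v
    obtain ⟨w, h1 | h1, h2 | h2⟩ := h2 u v
    · subst h1; subst h2
      exact ⟨SimpleGraph.Walk.nil, by simp⟩
    · subst h1
      exact ⟨SimpleGraph.Walk.cons h2 SimpleGraph.Walk.nil, by simp⟩
    · subst h2
      exact ⟨SimpleGraph.Walk.cons h1 SimpleGraph.Walk.nil, by simp⟩
    · exact ⟨SimpleGraph.Walk.cons h1 (SimpleGraph.Walk.cons h2 SimpleGraph.Walk.nil), by simp⟩
  have hpre : G.Preconnected := by
    intro u v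
    obtain ⟨p, -⟩ := hwalk u v
    exact ⟨p⟩
  have hconn : G.Connected := ⟨hpre⟩
  have hed : G.ediam ≤ 2 := by
    apply SimpleGraph.ediam_le_of_edist_le
    intro u v
    obtain ⟨p, hp⟩ := hwalk u v
    exact (SimpleGraph.edist_le p).trans (by exact_mod_cast hp)
  have hne_top : G.ediam ≠ ⊤ := by
    intro h
    rw [h] at hed
    simp at hed
  refine ⟨hconn, le_antisymm ?_ ?_⟩
  · unfold SimpleGraph.diam
    exact ENat.toNat_le_of_le_natCast (by exact_mod_cast hed)
  · obtain ⟨u, v, huv, hadj⟩ := hnon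
    exact (hconn.one_lt_dist_of_ne_of_not_adj huv hadj).trans_le (SimpleGraph.dist_le_diam hne_top)

end Cfsg.Agent.Lib.Helper72.OddProd
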