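import Mathlib

set_option autoImplicit false

namespace Cfsg.Agent.Lib.Helper72

/-- the subgroup generated by pairwise commuting `p`-elements is a `p`-group -/
theorem isPGroup_closure_of_comm {G : Type*} [Group G] {p : ℕ} (s : Set G)
    (hcomm : ∀ x ∈ s, ∀ y ∈ s, x * y = y * x) (hs : ∀ x ∈ s, ∃ k : ℕ, x ^ p ^ k = 1) :
    IsPGroup p (Subgroup.closure s) := by
  have hc := Subgroup.isMulCommutative_closure hcomm
  let B : Subgroup G :=
    { carrier := {a | a ∈ Subgroup.closure s ∧ ∃ k : ℕ, a ^ p ^ k = 1}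
      one_mem' := ⟨Subgroup.one_mem _, 0, by simp⟩
      mul_mem' := by
        rintro a b ⟨ha, k, hk⟩ ⟨hb, l, hl⟩
        refine ⟨Subgroup.mul_mem _ ha hb, k + l, ?_⟩
        have hab : Commute a b := setLike_mul_comm ha hb
        rw [hab.mul_pow, pow_add, pow_mul, hk, one_pow, one_mul, mul_comm, pow_mul, hl, one_pow]
      inv_mem' := by
        rintro a ⟨ha, k, hk⟩
        exact ⟨Subgroup.inv_mem _ ha, k, by rw [inv_pow, hk, inv_one]⟩ }
  have hle : Subgroup.closure s ≤ B := by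
    rw [Subgroup.closure_le]
    intro x hx
    exact ⟨Subgroup.subset_closure hx, hs x hx⟩
  rintro ⟨a, ha⟩
  obtain ⟨-, k, hk⟩ := hle ha
  exact ⟨k, Subtype.ext (by simpa using hk)⟩

end Cfsg.Agent.Lib.Helper72
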