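import Mathlib
import Cfsg.Agent.Lib.Helper72.Basic
import Cfsg.Agent.Lib.Helper65.AbelianIndex
import Cfsg.Agent.Lib.Helper01.Hall
import Cfsg.Agent.Lib.Helper01.Fitting
import Cfsg.Agent.Lib.Helper01.PCore
import Cfsg.Agent.Lib.Helper53.PReduced
import Cfsg.Agent.S0044

set_option autoImplicit false

namespace Cfsg.Agent.Lib.Helper72

open Cfsg.Agent.Lib.Helper01

universe u

/-- every `p`-regular element has a centralizer of `p`-power index -/
def CP (p : ℕ) (G : Type*) [Group G] : Prop :=
  ∀ x : G, (orderOf x).Coprime p → ∃ k : ℕ, (Subgroup.centralizer ({x} : Set G)).index = p ^ k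

theorem cp_normal {p : ℕ} (hp : p.Prime) {G : Type u} [Group G] [Finite G] (h : CP p G)
    (N : Subgroup G) [N.Normal] : CP p N := by
  intro x hx
  have hx' : (orderOf (x : G)).Coprime p := by rwa [Subgroup.orderOf_coe]
  obtain ⟨k, hk⟩ := h (x : G) hx'
  have heq : Subgroup.centralizer ({x} : Set N) =
      (Subgroup.centralizer ({(x : G)} : Set G)).subgroupOf N := by
    ext y
    rw [Subgroup.mem_subgroupOf, Subgroup.mem_centralizer_singleton_iff,
      Subgroup.mem_centralizer_singleton_iff]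
    constructor
    · intro hy
      have := congrArg Subtype.val hy
      simpa using this
    · intro hy
      exact Subtype.ext (by simpa using hy)
  have h1 : (Subgroup.centralizer ({x} : Set N)).index ∣ p ^ k := by
    rw [heq, ← hk]
    exact Cfsg.Agent.Lib.Helper65.relIndex_dvd_index_of_normal_right _ N
  obtain ⟨j, _, hj⟩ := (Nat.dvd_prime_pow hp).1 h1
  exact ⟨j, hj⟩

theorem cp_quotient {p : ℕ} (hp : p.Prime) {G : Type u} [Group G] [Finite G] (h : CP p G)
    (N : Subgroup G) [N.Normal] : CP p (G ⧸ N) := by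
  have : Fact p.Prime := ⟨hp⟩
  intro xbar hx
  obtain ⟨x, rfl⟩ := QuotientGroup.mk_surjective xbar
  obtain ⟨w, v, hdec, hw, hv, hcop, k, hk⟩ := exists_coprime_part_decomp p x
  -- the image of v is trivial
  have hv1 : (QuotientGroup.mk v : G ⧸ N) = 1 := by
    obtain ⟨i, rfl⟩ := Subgroup.mem_zpowers_iff.mp hv
    have h1 : orderOf (QuotientGroup.mk (x ^ i) : G ⧸ N) ∣ orderOf (QuotientGroup.mk x : G ⧸ N) := by
      rw [QuotientGroup.mk_zpow]
      exact orderOf_dvd_of_pow_eq_one (by
        rw [← zpow_natCast, ← zpow_mul, mul_comm, zpow_mul, zpow_natCast, pow_orderOf_eq_one,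
          one_zpow])
    have h2 : orderOf (QuotientGroup.mk (x ^ i) : G ⧸ N) ∣ p ^ k := by
      apply orderOf_dvd_of_pow_eq_one
      rw [← QuotientGroup.mk_pow, hk]
      rfl
    have h3 : Nat.Coprime (orderOf (QuotientGroup.mk x : G ⧸ N)) (p ^ k) :=
      Nat.Coprime.pow_right k hx
    exact orderOf_eq_one_iff.mp (Nat.eq_one_of_dvd_coprimes h3 h1 h2)
  have hxw : (QuotientGroup.mk x : G ⧸ N) = QuotientGroup.mk w := by
    rw [hdec, QuotientGroup.mk_mul, hv1, mul_one]
  obtain ⟨j, hj⟩ := h w hcop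
  have hle : (Subgroup.centralizer ({w} : Set G)).map (QuotientGroup.mk' N) ≤
      Subgroup.centralizer ({(QuotientGroup.mk x : G ⧸ N)} : Set (G ⧸ N)) := by
    rintro _ ⟨c, hc, rfl⟩
    rw [SetLike.mem_coe] at hc
    rw [Subgroup.mem_centralizer_singleton_iff] at hc ⊢
    rw [hxw, QuotientGroup.mk'_apply, ← QuotientGroup.mk_mul, ← QuotientGroup.mk_mul, hc]
  have h1 : (Subgroup.centralizer ({(QuotientGroup.mk x : G ⧸ N)} : Set (G ⧸ N))).index ∣ p ^ j := by
    rw [← hj]
    exact (Subgroup.index_dvd_of_le hle).trans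
      (Subgroup.index_map_dvd _ (QuotientGroup.mk'_surjective N))
  obtain ⟨i, _, hi⟩ := (Nat.dvd_prime_pow hp).1 h1
  exact ⟨i, hi⟩

theorem cp_solvable_aux {p : ℕ} (hp : p.Prime) : ∀ (n : ℕ) (G : Type u) [Group G] [Finite G],
    Nat.card G = n → CP p G → Group.IsSolvable G := by
  intro n
  induction n using Nat.strong_induction_on with
  | _ n ih =>
    intro G _ _ hn hG
    have : Fact p.Prime := ⟨hp⟩
    by_cases hsimple : ∃ N : Subgroup G, N.Normal ∧ N ≠ ⊥ ∧ N ≠ ⊤
    · obtain ⟨N, hN, hbot, htop⟩ := hsimple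
      have hcardN : Nat.card N < n := by
        rw [← hn]
        exact lt_of_le_of_ne (Subgroup.card_le_card_group N)
          (fun h => htop ((Subgroup.card_eq_iff_eq_top N).1 h))
      have hcardQ : Nat.card (G ⧸ N) < n := by
        rw [← hn, ← Subgroup.index_eq_card, ← Subgroup.index_mul_card N]
        have h1 : 1 < Nat.card N := (Subgroup.one_lt_card_iff_ne_bot N).2 hbot
        have h2 : 0 < N.index := Nat.pos_of_ne_zero Subgroup.index_ne_zero_of_finite
        exact lt_mul_of_one_lt_right h2 h1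
      have hsN : Group.IsSolvable N := ih _ hcardN N rfl (cp_normal hp hG N)
      have hsQ : Group.IsSolvable (G ⧸ N) := ih _ hcardQ (G ⧸ N) rfl (cp_quotient hp hG N)
      exact Group.isSolvable_of_ker_le_range N.subtype (QuotientGroup.mk' N)
        (by rw [QuotientGroup.ker_mk', Subgroup.range_subtype])
    · by_cases htriv : Subsingleton G
      · exact Group.isSolvable_of_comm (fun a b => Subsingleton.elim _ _)
      · rw [not_subsingleton_iff_nontrivial] at htriv
        have hS : IsSimpleGroup G := by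
          refine ⟨fun N hN => ?_⟩
          by_contra hcon
          rw [not_or] at hcon
          exact hsimple ⟨N, hN, hcon.1, hcon.2⟩
        by_cases hpg : IsPGroup p G
        · exact Cfsg.Agent.Lib.Helper65.isSolvable_of_isPGroup hp hpg
        · -- a nontrivial p-regular element
          have hex : ∃ g : G, ∀ k : ℕ, g ^ p ^ k ≠ 1 := by
            by_contra hcon
            push Not at hcon
            exact hpg hcon
          obtain ⟨g, hg⟩ := hex
          obtain ⟨w, v, hdec, hw, hv, hcop, k, hk⟩ := exists_coprime_part_decomp p g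
          have hw1 : w ≠ 1 := by
            intro h1
            rw [h1, one_mul] at hdec
            exact hg k (by rw [hdec]; exact hk)
          obtain ⟨j, hj⟩ := hG w hcop
          have hprime : (Nat.card G).Prime := Cfsg.Agent.S0143.result p j hp w hw1 hj
          exact Cfsg.Agent.Lib.Helper65.isSolvable_of_isPGroup hprime (IsPGroup.of_card (n := 1) (pow_one _).symm)

theorem cp_solvable {p : ℕ} (hp : p.Prime) {G : Type u} [Group G] [Finite G] (h : CP p G) :
    Group.IsSolvable G :=
  cp_solvable_aux hp _ G rfl h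

theorem cp_comm_of_pCore_eq_bot {p : ℕ} (hp : p.Prime) {G : Type u} [Group G] [Finite G]
    [hs : Group.IsSolvable G] (h : CP p G) (hO : Cfsg.pCore p G = ⊥) (x y : G)
    (hx : (orderOf x).Coprime p) (hy : (orderOf y).Coprime p) : x * y = y * x := by
  have key : ∀ z : G, (orderOf z).Coprime p →
      Cfsg.fittingSubgroup G ≤ Subgroup.centralizer ({z} : Set G) := by
    intro z hz
    rw [fitting_eq_iSup_pCore]
    apply iSup_le
    intro r
    have hr : Fact (r : ℕ).Prime := ⟨r.2⟩
    by_cases hrp : (r : ℕ) = p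
    · rw [hrp, hO]; exact bot_le
    · obtain ⟨k, hk⟩ := h z hz
      have hnd : ¬ (r : ℕ) ∣ (Subgroup.centralizer ({z} : Set G)).index := by
        rw [hk]
        intro hdvd
        exact hrp ((Nat.prime_dvd_prime_iff_eq r.2 hp).mp (r.2.dvd_of_dvd_pow hdvd))
      obtain ⟨Q, -, hQ⟩ := exists_sylow_le_centralizer (p := (r : ℕ)) z 1 hnd
        (Subgroup.one_mem _) ⟨0, by simp⟩
      exact (pCore_le_sylow Q).trans hQ
  have hxF : x ∈ Cfsg.fittingSubgroup G := by
    apply Cfsg.Agent.S0044.result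
    rw [Subgroup.mem_centralizer_iff]
    intro f hf
    have := key x hx hf
    rw [Subgroup.mem_centralizer_singleton_iff] at this
    exact this
  have := key y hy hxF
  rw [Subgroup.mem_centralizer_singleton_iff] at this
  exact this

theorem cp_exists_abelian_complement {p : ℕ} (hp : p.Prime) {G : Type u} [Group G] [Finite G]
    (h : CP p G) :
    ∃ H : Subgroup G, IsMulCommutative H ∧ ¬ p ∣ Nat.card H ∧ ∃ k : ℕ, H.index = p ^ k := by
  have : Fact p.Prime := ⟨hp⟩
  have hs : Group.IsSolvable G := cp_solvable hp h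
  obtain ⟨a, m, hm, hGm⟩ :=
    Nat.exists_eq_pow_mul_and_not_dvd (Nat.card_pos (α := G)).ne' p hp.ne_one
  have hmp : m.Coprime p := ((Nat.Prime.coprime_iff_not_dvd hp).mpr hm).symm
  have hcop : m.Coprime (p ^ a) := Nat.Coprime.pow_right a hmp
  obtain ⟨⟨H, hH⟩, -, -⟩ := hallProp (G := G) m (p ^ a) (by rw [hGm, mul_comm]) hcop
  have hmpos : 0 < m := by
    rcases Nat.eq_zero_or_pos m with h0 | h0
    · exfalso; rw [h0] at hm; exact hm (dvd_zero p)
    · exact h0
  refine ⟨H, ?_, ?_, a, ?_⟩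
  · set N := Cfsg.pCore p G with hN
    have hNn : N.Normal := Cfsg.Agent.Lib.Helper01.pCore_normal (G := G) p
    have hNp : IsPGroup p N := Cfsg.Agent.Lib.Helper01.pCore_isPGroup (G := G) p
    have hQcp : CP p (G ⧸ N) := cp_quotient hp h N
    have hQO : Cfsg.pCore p (G ⧸ N) = ⊥ := by
      rw [Cfsg.Agent.Lib.Helper53.pCore_quot_eq_bot_iff]
      intro D hD hpow
      apply le_pCore hD
      intro d
      obtain ⟨k, hk⟩ := hpow d d.2
      obtain ⟨j, hj⟩ := hNp ⟨(d : G) ^ (p ^ k), hk⟩
      refine ⟨k + j, ?_⟩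
      apply Subtype.ext
      have := congrArg Subtype.val hj
      simp only [Subgroup.coe_pow, Subgroup.coe_one] at this ⊢
      rw [pow_add, pow_mul]; exact this
    have hord : ∀ c : G, c ∈ H → (orderOf (QuotientGroup.mk c : G ⧸ N)).Coprime p := by
      intro c hc
      have h1 : orderOf (QuotientGroup.mk c : G ⧸ N) ∣ orderOf c :=
        orderOf_map_dvd (QuotientGroup.mk' N) c
      have h2 : orderOf c ∣ m := hH ▸ Subgroup.orderOf_dvd_natCard H hc
      exact Nat.Coprime.coprime_dvd_left (h1.trans h2) hmp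
    refine ⟨⟨fun a b => ?_⟩⟩
    have hcomm := cp_comm_of_pCore_eq_bot hp hQcp hQO _ _ (hord a a.2) (hord b b.2)
    set c : G := (a : G) * b * ((b : G) * a)⁻¹ with hc
    have hcH : c ∈ H := H.mul_mem (H.mul_mem a.2 b.2) (H.inv_mem (H.mul_mem b.2 a.2))
    have hcN : c ∈ N := by
      rw [← QuotientGroup.eq_one_iff, hc, QuotientGroup.mk_mul, QuotientGroup.mk_inv,
        QuotientGroup.mk_mul, QuotientGroup.mk_mul, hcomm, mul_inv_cancel]
    have h1 : orderOf c ∣ m := hH ▸ Subgroup.orderOf_dvd_natCard H hcH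
    obtain ⟨k, hk⟩ := hNp ⟨c, hcN⟩
    have h2 : orderOf c ∣ p ^ k := by
      apply orderOf_dvd_of_pow_eq_one
      have := congrArg Subtype.val hk
      simpa using this
    have h3 : orderOf c = 1 := Nat.eq_one_of_dvd_coprimes (Nat.Coprime.pow_right k hmp) h1 h2
    have h4 : c = 1 := orderOf_eq_one_iff.mp h3
    apply Subtype.ext
    rw [Subgroup.coe_mul, Subgroup.coe_mul]
    exact mul_inv_eq_one.mp h4
  · rw [hH]; exact hm
  · have h1 := H.card_mul_index
    rw [hH, hGm, mul_comm] at h1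
    exact Nat.eq_of_mul_eq_mul_right hmpos h1

theorem cp_of_abelian_complement {p : ℕ} (hp : p.Prime) {G : Type u} [Group G] [Finite G]
    (H : Subgroup G) (hHc : IsMulCommutative H) (hHp : ¬ p ∣ Nat.card H) (k : ℕ)
    (hk : H.index = p ^ k) : CP p G := by
  have hab : ∀ a ∈ H, ∀ b ∈ H, a * b = b * a := by
    intro a ha b hb
    have := hHc.is_comm.comm (⟨a, ha⟩ : H) ⟨b, hb⟩
    exact congrArg Subtype.val this
  have hs : Group.IsSolvable G :=
    Cfsg.Agent.Lib.Helper65.isSolvable_of_abelian_primePow_index hp H hab ⟨k, hk⟩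
  intro x hx
  set m := Nat.card H with hm
  have hG : Nat.card G = m * p ^ k := by rw [← hk, hm, H.card_mul_index]
  have hmp : m.Coprime p := ((Nat.Prime.coprime_iff_not_dvd hp).mpr hHp).symm
  have hcop : m.Coprime (p ^ k) := Nat.Coprime.pow_right k hmp
  have hmpos : 0 < m := Nat.card_pos
  obtain ⟨-, hconj, hdom⟩ := hallProp (G := G) m (p ^ k) hG hcop
  obtain ⟨H₁, hH₁, hxH₁⟩ := hdom (Subgroup.zpowers x)
    (by rw [Nat.card_zpowers]; exact Nat.Coprime.pow_right k hx)
  obtain ⟨g, hg⟩ := hconj H H₁ rfl hH₁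
  have hab₁ : ∀ a ∈ H₁, ∀ b ∈ H₁, a * b = b * a := by
    intro a ha b hb
    rw [← hg, Subgroup.mem_pointwise_smul_iff_inv_smul_mem] at ha hb
    have h1 := hab _ ha _ hb
    simp only [MulAut.smul_def, MulAut.inv_apply, MulAut.conj_symm_apply] at h1
    have h2 := congrArg (fun t => g * t * g⁻¹) h1
    simpa [mul_assoc] using h2
  have hx₁ : x ∈ H₁ := hxH₁ (Subgroup.mem_zpowers x)
  have hle : H₁ ≤ Subgroup.centralizer ({x} : Set G) := by
    intro b hb
    rw [Subgroup.mem_centralizer_singleton_iff]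
    exact hab₁ b hb x hx₁
  have hidx : H₁.index = p ^ k := by
    have h1 := H₁.card_mul_index
    rw [hH₁, hG] at h1
    exact Nat.eq_of_mul_eq_mul_left hmpos h1
  have h1 : (Subgroup.centralizer ({x} : Set G)).index ∣ p ^ k := by
    rw [← hidx]; exact Subgroup.index_dvd_of_le hle
  obtain ⟨j, _, hj⟩ := (Nat.dvd_prime_pow hp).1 h1
  exact ⟨j, hj⟩

end Cfsg.Agent.Lib.Helper72
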