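import Mathlib
import Cfsg.Agent.Lib.Helper72.Basic

set_option autoImplicit false

namespace Cfsg.Agent.Lib.Helper72

/-- the `π`-elements of `G` form a subgroup -/
def PiClosed (π : Set ℕ) (G : Type*) [Group G] : Prop :=
  ∃ K : Subgroup G, ∀ x : G, x ∈ K ↔ ∀ p : ℕ, p.Prime → p ∣ orderOf x → p ∈ π

theorem PiClosed.of_mulEquiv {π : Set ℕ} {G H : Type*} [Group G] [Group H] (e : G ≃* H)
    (h : PiClosed π G) : PiClosed π H := by
  obtain ⟨K, hK⟩ := h
  refine ⟨K.map e.toMonoidHom, fun x => ?_⟩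
  constructor
  · rintro ⟨y, hy, rfl⟩
    have := (hK y).mp hy
    simpa [MulEquiv.orderOf_eq] using this
  · intro hx
    refine ⟨e.symm x, ?_, by simp⟩
    rw [SetLike.mem_coe, hK]
    simpa [MulEquiv.orderOf_eq] using hx

theorem piClosed_of_pi_card {π : Set ℕ} {G : Type*} [Group G] [Finite G]
    (h : ∀ p : ℕ, p.Prime → p ∣ Nat.card G → p ∈ π) : PiClosed π G :=
  ⟨⊤, fun x => ⟨fun _ p hp hpx => h p hp (hpx.trans (orderOf_dvd_natCard x)),
    fun _ => Subgroup.mem_top x⟩⟩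

theorem piClosed_of_pi'_card {π : Set ℕ} {G : Type*} [Group G] [Finite G]
    (h : ∀ p : ℕ, p.Prime → p ∣ Nat.card G → p ∉ π) : PiClosed π G := by
  refine ⟨⊥, fun x => ⟨?_, ?_⟩⟩
  · intro hx
    rw [Subgroup.mem_bot] at hx
    subst hx
    intro p hp hpx
    rw [orderOf_one] at hpx
    exact absurd (Nat.dvd_one.mp hpx) hp.one_lt.ne'
  · intro hx
    rw [Subgroup.mem_bot]
    by_contra hne
    have h1 : orderOf x ≠ 1 := fun h1 => hne (orderOf_eq_one_iff.mp h1)
    obtain ⟨p, hp, hpx⟩ := Nat.exists_prime_and_dvd h1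
    exact h p hp (hpx.trans (orderOf_dvd_natCard x)) (hx p hp hpx)

section

variable {π : Set ℕ} {G : Type*} [Group G] (T : Subgroup G)
  (hT : ∀ x : G, x ∈ T ↔ ∀ p : ℕ, p.Prime → p ∣ orderOf x → p ∈ π)

include hT

theorem piSubgroup_normal : T.Normal := by
  constructor
  intro n hn g
  rw [hT] at hn ⊢
  have : orderOf (g * n * g⁻¹) = orderOf n := by
    have := (MulAut.conj g).orderOf_eq n
    rwa [MulAut.conj_apply] at this
  rw [this]; exact hn

theorem piSubgroup_card [Finite G] : ∀ p : ℕ, p.Prime → p ∣ Nat.card T → p ∈ π := by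
  intro p hp hpT
  have : Fact p.Prime := ⟨hp⟩
  obtain ⟨x, hx⟩ := exists_prime_orderOf_dvd_card' p hpT
  have h1 := (hT x).mp x.2
  have h2 : orderOf (x : G) = p := by rw [Subgroup.orderOf_coe, hx]
  exact h1 p hp (by rw [h2])

theorem piSubgroup_index [Finite G] : ∀ p : ℕ, p.Prime → p ∈ π → ¬ p ∣ T.index := by
  intro p hp hpπ hdvd
  have : Fact p.Prime := ⟨hp⟩
  have hn : T.Normal := piSubgroup_normal T hT
  rw [Subgroup.index_eq_card] at hdvd
  obtain ⟨ybar, hy⟩ := exists_prime_orderOf_dvd_card' p hdvd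
  obtain ⟨y, rfl⟩ := QuotientGroup.mk_surjective ybar
  obtain ⟨w, v, hdec, hw, hv, hcop, k, hk⟩ := exists_coprime_part_decomp p y
  have hvT : v ∈ T := by
    rw [hT]
    intro r hr hrv
    have : r ∣ p ^ k := hrv.trans (orderOf_dvd_of_pow_eq_one hk)
    rw [(Nat.prime_dvd_prime_iff_eq hr hp).mp (hr.dvd_of_dvd_pow this)]
    exact hpπ
  have h1 : (QuotientGroup.mk y : G ⧸ T) = QuotientGroup.mk w := by
    rw [hdec, QuotientGroup.mk_mul, (QuotientGroup.eq_one_iff v).mpr hvT, mul_one]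
  rw [h1] at hy
  have h2 : orderOf (QuotientGroup.mk w : G ⧸ T) ∣ orderOf w :=
    orderOf_map_dvd (QuotientGroup.mk' T) w
  rw [hy] at h2
  have := Nat.Coprime.eq_one_of_dvd hcop.symm h2
  exact hp.one_lt.ne' this

end

end Cfsg.Agent.Lib.Helper72
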