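import Mathlib
import Cfsg.Agent.Lib.Helper72.PiClosed
import Cfsg.Agent.Lib.Helper72.HomStar

set_option autoImplicit false

namespace Cfsg.Agent.Lib.Helper72

open Cfsg.Agent.Lib.Helper01
open scoped Pointwise

/-- `q`-elements (`q ∈ π`) centralize a normal `π'`-subgroup -/
theorem centralizes_normal_pi' {π : Set ℕ} {G : Type*} [Group G] [Finite G] (hG : HomStar π G)
    (K : Subgroup G) [hKn : K.Normal] (hK : ∀ p : ℕ, p.Prime → p ∣ Nat.card K → p ∉ π)
    (q : ℕ) (hq : q.Prime) (hqπ : q ∈ π) (x : G) (k : ℕ) (hxk : x ^ q ^ k = 1) :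
    ∀ y ∈ K, x * y = y * x := by
  have : Fact q.Prime := ⟨hq⟩
  have hqK : ¬ q ∣ Nat.card K := fun h => hK q hq h hqπ
  -- the centralizer of x inside K
  set C : Subgroup K := (Subgroup.centralizer ({x} : Set G)).subgroupOf K with hC
  have hdvd : Nat.card K ∣ Nat.card C := by
    rw [Nat.dvd_iff_prime_pow_dvd_dvd]
    intro s j hs hsj
    have : Fact s.Prime := ⟨hs⟩
    rcases Nat.eq_zero_or_pos j with h0 | hjpos
    · rw [h0, pow_zero]; exact one_dvd _
    have hsK : s ∣ Nat.card K := (dvd_pow_self s hjpos.ne').trans hsj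
    have hsπ : s ∉ π := hK s hs hsK
    -- the q-group generated by conjugation by x acting on Sylow s K
    let c : MulAut K := MulAut.conjNormal x
    have hZ : IsPGroup q (Subgroup.zpowers c) := by
      rintro ⟨z, hz⟩
      obtain ⟨i, rfl⟩ := Subgroup.mem_zpowers_iff.mp hz
      refine ⟨k, Subtype.ext ?_⟩
      have hc : c ^ q ^ k = 1 := by
        change (MulAut.conjNormal x : MulAut K) ^ q ^ k = 1
        rw [← map_pow, hxk, map_one]
      change (c ^ i) ^ q ^ k = 1
      rw [← zpow_natCast, ← zpow_mul, mul_comm, zpow_mul, zpow_natCast, hc, one_zpow]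
    have hcardS : ¬ q ∣ Nat.card (Sylow s K) := by
      intro h
      let P₀ : Sylow s K := default
      have h1 := h.trans (P₀.card_dvd_index)
      have h2 := h1.trans (Subgroup.index_dvd_card (P₀ : Subgroup K))
      exact hqK h2
    obtain ⟨P, hP⟩ := hZ.nonempty_fixed_point_of_prime_not_dvd_card (Sylow s K) hcardS
    have hcP : c • P = P := hP ⟨c, Subgroup.mem_zpowers c⟩
    set P' : Subgroup G := (P : Subgroup K).map K.subtype with hP'
    have hxN : x ∈ Subgroup.normalizer (P' : Set G) := by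
      apply mem_normalizer_of_conj_mem
      rintro v ⟨u, hu, rfl⟩
      have h1 : c u ∈ ((c • P : Sylow s K) : Subgroup K) := by
        rw [Sylow.pointwise_smul_def]
        exact Subgroup.smul_mem_pointwise_smul _ _ _ hu
      rw [hcP] at h1
      exact ⟨c u, h1, by simp [c, MulAut.conjNormal_apply]⟩
    have hcent := hG q s hq hqπ hs hsπ x P' ⟨k, hxk⟩ (P.isPGroup'.map _) hxN
    have hPC : (P : Subgroup K) ≤ C := by
      intro u hu
      rw [hC, Subgroup.mem_subgroupOf, Subgroup.mem_centralizer_singleton_iff]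
      exact (hcent (u : G) ⟨u, hu, rfl⟩).symm
    exact (P.pow_dvd_card_of_pow_dvd_card hsj).trans (Subgroup.card_dvd_of_le hPC)
  have hCtop : C = ⊤ := by
    apply Subgroup.eq_top_of_card_eq
    exact Nat.dvd_antisymm (Subgroup.card_subgroup_dvd_card C) hdvd
  intro y hy
  have : (⟨y, hy⟩ : K) ∈ C := by rw [hCtop]; exact Subgroup.mem_top _
  rw [hC, Subgroup.mem_subgroupOf, Subgroup.mem_centralizer_singleton_iff] at this
  exact this.symm

/-- a `π`-element lies in a normal subgroup containing all `q`-elements, `q ∈ π` -/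
theorem pi_elt_mem_normal_of_prime_parts {π : Set ℕ} {G : Type*} [Group G] [Finite G]
    (D : Subgroup G) [D.Normal]
    (hD : ∀ q : ℕ, q.Prime → q ∈ π → ∀ x : G, (∃ k : ℕ, x ^ q ^ k = 1) → x ∈ D)
    (x : G) (hx : ∀ p : ℕ, p.Prime → p ∣ orderOf x → p ∈ π) : x ∈ D := by
  by_contra hxD
  have h1 : (QuotientGroup.mk x : G ⧸ D) ≠ 1 := fun h => hxD ((QuotientGroup.eq_one_iff x).mp h)
  have h2 : orderOf (QuotientGroup.mk x : G ⧸ D) ≠ 1 := fun h => h1 (orderOf_eq_one_iff.mp h)
  obtain ⟨r, hr, hrx⟩ := Nat.exists_prime_and_dvd h2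
  have : Fact r.Prime := ⟨hr⟩
  have hrπ : r ∈ π := hx r hr (hrx.trans (orderOf_map_dvd (QuotientGroup.mk' D) x))
  obtain ⟨w, v, hdec, hw, hv, hcop, k, hk⟩ := exists_coprime_part_decomp r x
  have hvD : v ∈ D := hD r hr hrπ v ⟨k, hk⟩
  have h3 : (QuotientGroup.mk x : G ⧸ D) = QuotientGroup.mk w := by
    rw [hdec, QuotientGroup.mk_mul, (QuotientGroup.eq_one_iff v).mpr hvD, mul_one]
  rw [h3] at hrx
  have h4 := hrx.trans (orderOf_map_dvd (QuotientGroup.mk' D) w)
  exact hr.one_lt.ne' (Nat.Coprime.eq_one_of_dvd hcop.symm h4)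

/-- base case: a normal `π'`-subgroup with `π`-closed quotient -/
theorem piClosed_of_normal_pi' {π : Set ℕ} {G : Type*} [Group G] [Finite G] (hG : HomStar π G)
    (K : Subgroup G) [hKn : K.Normal] (hK : ∀ p : ℕ, p.Prime → p ∣ Nat.card K → p ∉ π)
    (hQ : PiClosed π (G ⧸ K)) : PiClosed π G := by
  obtain ⟨Rbar, hRbar⟩ := hQ
  set R : Subgroup G := Rbar.comap (QuotientGroup.mk' K) with hR
  set D : Subgroup G := Subgroup.centralizer (K : Set G) with hD
  set C₁ : Subgroup G := D ⊓ R with hC₁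
  -- π-elements lie in C₁
  have hpiC₁ : ∀ x : G, (∀ p : ℕ, p.Prime → p ∣ orderOf x → p ∈ π) → x ∈ C₁ := by
    intro x hx
    refine Subgroup.mem_inf.mpr ⟨?_, ?_⟩
    · apply pi_elt_mem_normal_of_prime_parts D _ x hx
      intro q hq hqπ z ⟨k, hk⟩
      rw [hD, Subgroup.mem_centralizer_iff]
      intro y hy
      exact (centralizes_normal_pi' hG K hK q hq hqπ z k hk y hy).symm
    · rw [hR, Subgroup.mem_comap, hRbar]
      intro p hp hpx
      exact hx p hp (hpx.trans (orderOf_map_dvd _ x))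
  -- the central subgroup Z' of C₁
  set Z' : Subgroup C₁ := K.subgroupOf C₁ with hZ'
  have hZcent : ∀ z ∈ Z', ∀ c : C₁, z * c = c * z := by
    intro z hz c
    have hzK : (z : G) ∈ K := Subgroup.mem_subgroupOf.mp hz
    have hcD : (c : G) ∈ D := (Subgroup.mem_inf.mp c.2).1
    rw [hD, Subgroup.mem_centralizer_iff] at hcD
    exact Subtype.ext (hcD _ hzK)
  have hZn : Z'.Normal := by
    constructor
    intro z hz c
    rw [← hZcent z hz c, mul_inv_cancel_right]
    exact hz
  have hZcard : ∀ p : ℕ, p.Prime → p ∣ Nat.card Z' → p ∉ π := by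
    intro p hp hpZ
    apply hK p hp
    rw [hZ', card_subgroupOf_eq_card_inf] at hpZ
    exact hpZ.trans (Subgroup.card_dvd_of_le inf_le_left)
  have hZidx : ∀ p : ℕ, p.Prime → p ∣ Z'.index → p ∈ π := by
    intro p hp hpZ
    have h1 := card_map_mul_card_inf_ker (QuotientGroup.mk' K) C₁
    rw [QuotientGroup.ker_mk'] at h1
    have h2 := Z'.card_mul_index
    rw [hZ', card_subgroupOf_eq_card_inf] at h2
    have h3 : (K.subgroupOf C₁).index = Nat.card (C₁.map (QuotientGroup.mk' K)) := by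
      have hpos : 0 < Nat.card (K ⊓ C₁ : Subgroup G) := Nat.card_pos
      apply Nat.eq_of_mul_eq_mul_left hpos
      rw [h2, ← h1, mul_comm]
    rw [hZ', h3] at hpZ
    have hle : C₁.map (QuotientGroup.mk' K) ≤ Rbar := by
      rw [Subgroup.map_le_iff_le_comap]
      exact inf_le_right
    exact piSubgroup_card Rbar hRbar p hp (hpZ.trans (Subgroup.card_dvd_of_le hle))
  have hcop : (Nat.card Z').Coprime Z'.index := by
    apply Nat.Coprime.symm
    apply Nat.coprime_of_dvd
    intro p hp hp1 hp2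
    exact hZcard p hp hp2 (hZidx p hp hp1)
  obtain ⟨T₀, hT₀⟩ := Subgroup.exists_right_complement'_of_coprime hcop
  have hT₀card : Nat.card T₀ = Z'.index := card_eq_index_of_isComplement' hT₀
  refine ⟨T₀.map C₁.subtype, fun x => ⟨?_, ?_⟩⟩
  · rintro ⟨t, ht, rfl⟩ p hp hpx
    apply hZidx p hp
    rw [← hT₀card]
    have h1 : orderOf ((C₁.subtype t : G)) = orderOf (⟨t, ht⟩ : T₀) := by
      rw [Subgroup.orderOf_mk]; exact Subgroup.orderOf_coe t
    rw [h1] at hpx
    exact hpx.trans (orderOf_dvd_natCard _)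
  · intro hx
    have hxC := hpiC₁ x hx
    obtain ⟨⟨z, t⟩, hzt⟩ := hT₀.surjective ⟨x, hxC⟩
    simp only at hzt
    have hzc : Commute (z : C₁) (t : C₁) := hZcent z z.2 t
    set m := Nat.card T₀ with hm
    have htm : (t : C₁) ^ m = 1 := by
      have : t ^ m = 1 := pow_card_eq_one'
      have := congrArg Subtype.val this
      simpa using this
    have hxm : (⟨x, hxC⟩ : C₁) ^ m = (z : C₁) ^ m := by
      rw [← hzt, hzc.mul_pow, htm, mul_one]
    -- order of z^m
    have ho1 : ∀ p : ℕ, p.Prime → p ∣ orderOf ((z : C₁) ^ m) → p ∈ π := by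
      intro p hp hpz
      rw [← hxm] at hpz
      have h1 : orderOf ((⟨x, hxC⟩ : C₁) ^ m) ∣ orderOf x := by
        rw [← Subgroup.orderOf_mk x hxC]; exact orderOf_pow_dvd m
      exact hx p hp (hpz.trans h1)
    have ho2 : orderOf ((z : C₁) ^ m) ∣ Nat.card Z' := by
      have h1 : orderOf ((z : C₁) ^ m) ∣ orderOf (z : C₁) := orderOf_pow_dvd m
      rw [Subgroup.orderOf_coe] at h1
      exact h1.trans (orderOf_dvd_natCard z)
    have hzm1 : (z : C₁) ^ m = 1 := by
      by_contra hne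
      have h1 : orderOf ((z : C₁) ^ m) ≠ 1 := fun h => hne (orderOf_eq_one_iff.mp h)
      obtain ⟨p, hp, hpz⟩ := Nat.exists_prime_and_dvd h1
      exact hZcard p hp (hpz.trans ho2) (ho1 p hp hpz)
    have hz1 : (z : C₁) = 1 := by
      have h1 : orderOf (z : C₁) ∣ m := orderOf_dvd_of_pow_eq_one hzm1
      have h2 : orderOf (z : C₁) ∣ Nat.card Z' := by
        rw [Subgroup.orderOf_coe]; exact orderOf_dvd_natCard z
      rw [hT₀card] at h1
      exact orderOf_eq_one_iff.mp (Nat.eq_one_of_dvd_coprimes hcop h2 h1)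
    rw [hz1, one_mul] at hzt
    refine ⟨t, t.2, ?_⟩
    rw [hzt]
    rfl

/-- a normal `π`-subgroup with `π`-closed quotient -/
theorem piClosed_of_normal_pi {π : Set ℕ} {G : Type*} [Group G] [Finite G] (L : Subgroup G)
    [L.Normal] (hL : ∀ p : ℕ, p.Prime → p ∣ Nat.card L → p ∈ π)
    (hQ : PiClosed π (G ⧸ L)) : PiClosed π G := by
  obtain ⟨Tbar, hTbar⟩ := hQ
  refine ⟨Tbar.comap (QuotientGroup.mk' L), fun x => ⟨?_, ?_⟩⟩
  · intro hx p hp hpx
    have h1 : p ∣ Nat.card (Tbar.comap (QuotientGroup.mk' L)) := by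
      have h2 : orderOf x = orderOf (⟨x, hx⟩ : Tbar.comap (QuotientGroup.mk' L)) :=
        (Subgroup.orderOf_mk x hx).symm
      rw [h2] at hpx
      exact hpx.trans (orderOf_dvd_natCard _)
    rw [card_comap_of_surjective _ (QuotientGroup.mk'_surjective L), QuotientGroup.ker_mk'] at h1
    rcases (Nat.Prime.dvd_mul hp).mp h1 with h | h
    · exact piSubgroup_card Tbar hTbar p hp h
    · exact hL p hp h
  · intro hx
    rw [Subgroup.mem_comap, hTbar]
    intro p hp hpx
    exact hx p hp (hpx.trans (orderOf_map_dvd _ x))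

/-- extension theorem: `K` normal, `K` and `G ⧸ K` both `π`-closed, `G` homogeneous -/
theorem piClosed_of_normal_ext {π : Set ℕ} {G : Type*} [Group G] [Finite G] (hG : HomStar π G)
    (K : Subgroup G) [hKn : K.Normal] (hK : PiClosed π K) (hQ : PiClosed π (G ⧸ K)) :
    PiClosed π G := by
  obtain ⟨L₀, hL₀⟩ := hK
  set L : Subgroup G := L₀.map K.subtype with hL
  have hLK : L ≤ K := Subgroup.map_subtype_le _
  have hLn : L.Normal := by
    constructor
    rintro n ⟨l, hl, rfl⟩ g
    have hmem : g * (l : G) * g⁻¹ ∈ K := hKn.conj_mem _ l.2 g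
    refine ⟨⟨g * (l : G) * g⁻¹, hmem⟩, ?_, rfl⟩
    rw [SetLike.mem_coe, hL₀]
    have h1 : orderOf (⟨g * (l : G) * g⁻¹, hmem⟩ : K) = orderOf l := by
      rw [Subgroup.orderOf_mk, ← Subgroup.orderOf_coe l]
      have := (MulAut.conj g).orderOf_eq (l : G)
      rwa [MulAut.conj_apply] at this
    rw [h1]
    exact (hL₀ l).mp hl
  have hLcard : ∀ p : ℕ, p.Prime → p ∣ Nat.card L → p ∈ π := by
    intro p hp hpL
    rw [hL, Subgroup.card_map_of_injective K.subtype_injective] at hpL
    exact piSubgroup_card L₀ hL₀ p hp hpL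
  have hQL : HomStar π (G ⧸ L) := homStar_quotient hG L hLcard
  set Kbar : Subgroup (G ⧸ L) := K.map (QuotientGroup.mk' L) with hKbar
  have hKbarn : Kbar.Normal := Subgroup.Normal.map hKn _ (QuotientGroup.mk'_surjective L)
  have hKbarcard : ∀ p : ℕ, p.Prime → p ∣ Nat.card Kbar → p ∉ π := by
    intro p hp hpK hpπ
    have h1 := card_map_mul_card_ker_of_le (QuotientGroup.mk' L) K
      (by rw [QuotientGroup.ker_mk']; exact hLK)
    rw [QuotientGroup.ker_mk'] at h1
    have h2 := L₀.card_mul_index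
    have h3 : Nat.card L = Nat.card L₀ := by
      rw [hL, Subgroup.card_map_of_injective K.subtype_injective]
    have h4 : Nat.card Kbar = L₀.index := by
      have hpos : 0 < Nat.card L₀ := Nat.card_pos
      apply Nat.eq_of_mul_eq_mul_left hpos
      rw [h2, ← h1, h3, mul_comm]
    rw [h4] at hpK
    exact piSubgroup_index L₀ hL₀ p hp hpπ hpK
  have hQQ : PiClosed π ((G ⧸ L) ⧸ Kbar) :=
    PiClosed.of_mulEquiv (QuotientGroup.quotientQuotientEquivQuotient L K hLK).symm hQ
  have h5 : PiClosed π (G ⧸ L) := piClosed_of_normal_pi' hQL Kbar hKbarcard hQQ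
  exact piClosed_of_normal_pi L hLcard h5

end Cfsg.Agent.Lib.Helper72
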