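import Mathlib
import Cfsg.Agent.Lib.Helper72.Basic

set_option autoImplicit false

namespace Cfsg.Agent.Lib.Helper72

/-- A real element (conjugate to its inverse) centralizing a Sylow 2-subgroup has square one. -/
theorem sq_eq_one_of_real_of_sylow_le_centralizer {G : Type*} [Group G] [Finite G]
    (S : Sylow 2 G) (x : G) (hS : ∀ s ∈ (S : Subgroup G), s * x = x * s)
    (hconj : IsConj x x⁻¹) : x ^ 2 = 1 := by
  classical
  have : Fact (Nat.Prime 2) := ⟨Nat.prime_two⟩
  set K : Set G := (ConjClasses.mk x).carrier with hK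
  have hmemK : ∀ y : G, y ∈ K ↔ IsConj y x := by
    intro y
    rw [hK, ConjClasses.mem_carrier_iff_mk_eq, ConjClasses.mk_eq_mk_iff_isConj]
  have hodd : ¬ 2 ∣ K.ncard := by
    rw [hK, ncard_carrier_eq_index_centralizer]
    have hle : (S : Subgroup G) ≤ Subgroup.centralizer ({x} : Set G) := by
      intro s hs
      rw [Subgroup.mem_centralizer_singleton_iff]
      exact hS s hs
    intro h
    exact S.not_dvd_index (h.trans (Subgroup.index_dvd_of_le hle))
  have hinvK : ∀ y : G, y ∈ K → y⁻¹ ∈ K := by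
    intro y hy
    rw [hmemK] at hy ⊢
    obtain ⟨c, hc⟩ := isConj_iff.mp hy
    have h1 : IsConj y⁻¹ x⁻¹ := isConj_iff.mpr ⟨c, by rw [← conj_inv, hc]⟩
    exact h1.trans hconj.symm
  let σ : Equiv.Perm K :=
    { toFun := fun y => ⟨(y : G)⁻¹, hinvK y y.2⟩
      invFun := fun y => ⟨(y : G)⁻¹, hinvK y y.2⟩
      left_inv := fun y => Subtype.ext (inv_inv _)
      right_inv := fun y => Subtype.ext (inv_inv _) }
  have hσ : σ ^ 2 ^ 1 = 1 := by
    ext y
    simp [σ, pow_succ]
  have : Fintype K := Fintype.ofFinite K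
  have hcard : ¬ 2 ∣ Fintype.card K := by
    rwa [← Nat.card_eq_fintype_card, Nat.card_coe_set_eq]
  obtain ⟨⟨y, hyK⟩, hy⟩ := Equiv.Perm.exists_fixed_point_of_prime hcard hσ
  have hy' : y⁻¹ = y := congrArg Subtype.val hy
  obtain ⟨c, hc⟩ := isConj_iff.mp ((hmemK y).mp hyK)
  have hxx : x⁻¹ = x := by
    rw [← hc, conj_inv, hy']
  rw [pow_two]
  nth_rewrite 1 [← hxx]
  exact inv_mul_cancel x

end Cfsg.Agent.Lib.Helper72
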