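import Mathlib
import Cfsg.Agent.S0799
import Cfsg.Agent.S4065
import Cfsg.Agent.Lib.Helper72.SNCDefs
import Cfsg.Agent.Lib.Helper85.SNC1
import Cfsg.Agent.Lib.Helper29.SNC2
import Cfsg.Agent.Lib.Helper63.SNC3
import Cfsg.Agent.Lib.Helper63.SNC4
import Cfsg.Agent.Lib.Helper63.SNC5
import Cfsg.Agent.Lib.Helper63.SNC6
import Cfsg.Agent.Lib.Helper66.SNC7
import Cfsg.Agent.Lib.Helper61.SNC8
import Cfsg.Agent.Lib.Helper19.SNC9
import Cfsg.Agent.Lib.Helper21.SNCSylComm
import Cfsg.Agent.Lib.Helper13.SNCArith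
import Cfsg.Agent.Lib.Helper26.SNC12
import Cfsg.Agent.Lib.Helper68.SNC13

/-!
# Converse half of S4073 (pack K-SNC, architect helper72)

Leaves by helper85, helper29, helper63, helper66, helper61, helper19, helper21, helper13, helper26, helper68;
uses Dickson's theorem S0799 (helper48) and the CA property of `PSL₂` in characteristic 2 (S4065).

In `PSL₂(F)`, `|F| = 2ⁿ`, `2ⁿ - 1` prime, every non-abelian subgroup is self-normalizing.
-/

set_option autoImplicit false

namespace Cfsg.Agent.Lib.Helper72.SNC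

open Cfsg.Agent.Lib.Helper85.SNC (nnt_of_equiv)
open Cfsg.Agent.Lib.Helper29.SNC (normalizer_eq_of_nnt)
open Cfsg.Agent.Lib.Helper63.SNC (nnt_of_comm nnt_of_isSimpleGroup nnt_dihedral nnt_alternating_four
  nnt_of_card_six)
open Cfsg.Agent.Lib.Helper66.SNC (not_equiv_perm_four)
open Cfsg.Agent.Lib.Helper61.SNC (nnt_of_abelian_normal_prime_index)
open Cfsg.Agent.Lib.Helper19.SNC (index_subgroupOf_sylow_dvd)
open Cfsg.Agent.Lib.Helper21.SNC (sylow_comm_of_ct)
open Cfsg.Agent.Lib.Helper13.SNC (odd_of_dvd_dickson prime_of_mersenne card_eq_two_or)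
open Cfsg.Agent.Lib.Helper26.SNC (card_six_of_card_two card_eq_of_card_eq)
open Cfsg.Agent.Lib.Helper68.SNC (sn_of_equiv)

universe u

/-- the CA property of `PSL₂(F)` in characteristic 2, in the form used by the leaves -/
theorem ct_psl2 {F : Type} [Field F] [CharP F 2] :
    ∀ a b c : Matrix.ProjectiveSpecialLinearGroup (Fin 2) F, a ≠ 1 → a * b = b * a → a * c = c * a →
      b * c = c * b :=
  fun a b c ha hb hc => Cfsg.Agent.S4065.ca_property a b c ha hb hc

/-- the CA property passes to subgroups -/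
theorem ct_subgroup {X : Type u} [Group X]
    (hCT : ∀ a b c : X, a ≠ 1 → a * b = b * a → a * c = c * a → b * c = c * b) (K : Subgroup X) :
    ∀ a b c : ↥K, a ≠ 1 → a * b = b * a → a * c = c * a → b * c = c * b := by
  intro a b c ha hb hc
  apply Subtype.ext
  have ha' : (a : X) ≠ 1 := fun h => ha (Subtype.ext h)
  have hb' : (a : X) * b = b * a := congrArg Subtype.val hb
  have hc' : (a : X) * c = c * a := congrArg Subtype.val hc
  exact hCT a b c ha' hb' hc'

/-- every subgroup of `PSL₂(F)` that normalizes... : the main case analysis -/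
theorem nnt_normalizer {F : Type} [Field F] [Fintype F] [CharP F 2] (n : ℕ) (hn : 2 ≤ n)
    (hF : Fintype.card F = 2 ^ n) (hp : (2 ^ n - 1).Prime)
    (hsimple : IsSimpleGroup (Matrix.ProjectiveSpecialLinearGroup (Fin 2) F))
    (M : Subgroup (Matrix.ProjectiveSpecialLinearGroup (Fin 2) F)) : NNT ↥M := by
  have hn1 : 1 ≤ n := by omega
  have hnp : n.Prime := prime_of_mersenne n hp
  have hCT := ct_psl2 (F := F)
  haveI : Fact (Nat.Prime 2) := ⟨Nat.prime_two⟩
  rcases Cfsg.Agent.S0799.result hF 2 M with ⟨k, hk, h | ⟨⟨e⟩⟩⟩ | ⟨P, K, hK, ⟨e⟩⟩ | ⟨⟨e⟩⟩ | ⟨⟨e⟩⟩ | ⟨⟨e⟩⟩ |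
    ⟨K, iK, iK', m, hKm, ⟨⟨e⟩⟩ | ⟨⟨e⟩⟩⟩
  · -- cyclic
    obtain ⟨hcyc, -⟩ := h
    apply nnt_of_comm
    exact hcyc.commutative
  · -- dihedral
    exact nnt_of_equiv e (nnt_dihedral k (odd_of_dvd_dickson n k hn1 hk))
  · -- inside a Sylow normalizer
    apply nnt_of_equiv e
    haveI : (((P : Subgroup (Matrix.ProjectiveSpecialLinearGroup (Fin 2) F))).subgroupOf K).Normal :=
      Subgroup.normal_subgroupOf_of_le_normalizer hK
    have hPc : IsMulCommutative ↥(P : Subgroup (Matrix.ProjectiveSpecialLinearGroup (Fin 2) F)) :=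
      sylow_comm_of_ct hCT 2 P
    have hV : IsMulCommutative
        ↥(((P : Subgroup (Matrix.ProjectiveSpecialLinearGroup (Fin 2) F))).subgroupOf K) := by
      haveI := hPc
      exact Subgroup.subgroupOf_isMulCommutative _ _
    have hidx := index_subgroupOf_sylow_dvd P K hK
    rw [hF] at hidx
    exact nnt_of_abelian_normal_prime_index (ct_subgroup hCT K) _ hV (2 ^ n - 1) hp hidx
  · -- A4
    exact nnt_of_equiv e nnt_alternating_four
  · -- S4
    exact absurd ⟨e⟩ (not_equiv_perm_four hCT M)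
  · -- A5
    haveI := alternatingGroup.isSimpleGroup_five
    exact nnt_of_equiv e nnt_of_isSimpleGroup
  · -- PSL2(K)
    letI := iK
    letI := iK'
    have hK2 : 2 ≤ Fintype.card K := Fintype.one_lt_card
    rcases card_eq_two_or n hnp (Fintype.card K) m hK2 hKm with h2 | h2
    · apply nnt_of_card_six
      rw [Nat.card_congr e.toEquiv]
      exact (card_six_of_card_two h2).1
    · have hcard : Nat.card ↥M = Nat.card (Matrix.ProjectiveSpecialLinearGroup (Fin 2) F) := by
        rw [Nat.card_congr e.toEquiv]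
        exact (card_eq_of_card_eq n hn1 hF h2).1
      have hMtop : M = ⊤ := Subgroup.card_eq_iff_eq_top M |>.mp hcard
      haveI := hsimple
      exact nnt_of_equiv ((MulEquiv.subgroupCongr hMtop).trans Subgroup.topEquiv) nnt_of_isSimpleGroup
  · -- PGL2(K)
    letI := iK
    letI := iK'
    have hK2 : 2 ≤ Fintype.card K := Fintype.one_lt_card
    rcases card_eq_two_or n hnp (Fintype.card K) m hK2 hKm with h2 | h2
    · apply nnt_of_card_six
      rw [Nat.card_congr e.toEquiv]
      exact (card_six_of_card_two h2).2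
    · have hcard : Nat.card ↥M = Nat.card (Matrix.ProjectiveSpecialLinearGroup (Fin 2) F) := by
        rw [Nat.card_congr e.toEquiv]
        exact (card_eq_of_card_eq n hn1 hF h2).2
      have hMtop : M = ⊤ := Subgroup.card_eq_iff_eq_top M |>.mp hcard
      haveI := hsimple
      exact nnt_of_equiv ((MulEquiv.subgroupCongr hMtop).trans Subgroup.topEquiv) nnt_of_isSimpleGroup

/-- `PSL₂(F)`, `|F| = 2ⁿ`, `2ⁿ - 1` prime: non-abelian subgroups are self-normalizing. -/
theorem sn_psl2 {F : Type} [Field F] [Fintype F] [CharP F 2] (n : ℕ) (hn : 2 ≤ n)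
    (hF : Fintype.card F = 2 ^ n) (hp : (2 ^ n - 1).Prime)
    (hsimple : IsSimpleGroup (Matrix.ProjectiveSpecialLinearGroup (Fin 2) F)) :
    ∀ H : Subgroup (Matrix.ProjectiveSpecialLinearGroup (Fin 2) F), ¬ IsMulCommutative ↥H →
      Subgroup.normalizer (H : Set (Matrix.ProjectiveSpecialLinearGroup (Fin 2) F)) = H :=
  fun H hH => normalizer_eq_of_nnt H hH (nnt_normalizer n hn hF hp hsimple _)

/-- The converse half of S4073. -/
theorem converse {G : Type u} [Group G] [Finite G] [IsSimpleGroup G] (n : ℕ) (hn : 2 ≤ n)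
    (hp : (2 ^ n - 1).Prime)
    (e : G ≃* Matrix.ProjectiveSpecialLinearGroup (Fin 2) (GaloisField 2 n)) :
    ∀ H : Subgroup G, ¬ IsMulCommutative ↥H → Subgroup.normalizer (H : Set G) = H := by
  haveI : Fact (Nat.Prime 2) := ⟨Nat.prime_two⟩
  have hn0 : n ≠ 0 := by omega
  letI : Fintype (GaloisField 2 n) := Fintype.ofFinite _
  have hF : Fintype.card (GaloisField 2 n) = 2 ^ n := by
    rw [← Nat.card_eq_fintype_card]
    exact GaloisField.card 2 n hn0
  have hsimple : IsSimpleGroup (Matrix.ProjectiveSpecialLinearGroup (Fin 2) (GaloisField 2 n)) :=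
    e.symm.isSimpleGroup
  exact sn_of_equiv e (sn_psl2 n hn hF hp hsimple)

end Cfsg.Agent.Lib.Helper72.SNC
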