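import Mathlib
import Cfsg.Agent.Lib.Helper73.SPCDefs
import Cfsg.Agent.Lib.Helper50.MatType

/-!
# K-SPC-C14 (keystone 267623, pack of helper73 for S2676): nondegenerate symmetric matrices over a finite field of
odd characteristic fall into exactly two congruence classes (one for the empty index type)
-/

set_option autoImplicit false
set_option linter.style.haveILetI false

namespace Cfsg.Agent.Lib.Helper72.SPC

open Matrix Cfsg.Agent.Lib.Helper73.SPC

variable {F : Type*} [Field F]

/-- congruent matrices have determinants in the same square class -/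
theorem c14_isSquare_det_congr {κ : Type*} [Fintype κ] [DecidableEq κ] {T T' : Matrix κ κ F}
    (h : CongRel (1 : Matrix κ κ F) T T') : IsSquare T.det ↔ IsSquare T'.det := by
  obtain ⟨x, hx, -, rfl⟩ := h
  have hx0 : x.det ≠ 0 := hx.ne_zero
  rw [Matrix.det_mul, Matrix.det_mul, Matrix.det_transpose]
  constructor
  · rintro ⟨r, hr⟩
    exact ⟨x.det * r, by rw [hr]; ring⟩
  · rintro ⟨r, hr⟩
    refine ⟨r / x.det, ?_⟩
    field_simp
    linear_combination hr

/-- in a finite field of odd characteristic the product of two non-squares is a square -/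
theorem c14_isSquare_mul [Fintype F] [DecidableEq F] (h2 : (2 : F) ≠ 0) {a b : F} (ha : a ≠ 0) (hb : b ≠ 0)
    (h : IsSquare a ↔ IsSquare b) : IsSquare (a * b) := by
  have hchar : ringChar F ≠ 2 := by
    intro hc
    apply h2
    have : ((2 : ℕ) : F) = 0 := by rw [← hc]; exact ringChar.Nat.cast_ringChar
    exact_mod_cast this
  by_cases hsa : IsSquare a
  · exact hsa.mul (h.mp hsa)
  · have hsb : ¬ IsSquare b := fun hb' => hsa (h.mpr hb')
    have h1 := (quadraticChar_neg_one_iff_not_isSquare (F := F) (a := a)).mpr hsa
    have h3 := (quadraticChar_neg_one_iff_not_isSquare (F := F) (a := b)).mpr hsb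
    have h4 : quadraticChar F (a * b) = 1 := by
      rw [map_mul, h1, h3]; norm_num
    exact (quadraticChar_one_iff_isSquare (mul_ne_zero ha hb)).mp h4

/-- two symmetric invertible matrices with determinants in the same square class are congruent -/
theorem c14_congRel_of_det [Fintype F] (h2 : (2 : F) ≠ 0) {κ : Type*} [Fintype κ] [DecidableEq κ]
    {T T' : Matrix κ κ F} (hT : Tᵀ = T) (hT' : T'ᵀ = T') (hd : IsUnit T.det) (hd' : IsUnit T'.det)
    (h : IsSquare T.det ↔ IsSquare T'.det) : CongRel (1 : Matrix κ κ F) T T' := by
  classical
  let e : κ ≃ Fin (Fintype.card κ) := Fintype.equivFin κ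
  let M := Matrix.reindex e e T
  let M' := Matrix.reindex e e T'
  have hM : Mᵀ = M := by
    show (Matrix.reindex e e T)ᵀ = Matrix.reindex e e T
    rw [Matrix.transpose_reindex, hT]
  have hM' : M'ᵀ = M' := by
    show (Matrix.reindex e e T')ᵀ = Matrix.reindex e e T'
    rw [Matrix.transpose_reindex, hT']
  have hdM : M.det = T.det := Matrix.det_reindex_self e T
  have hdM' : M'.det = T'.det := Matrix.det_reindex_self e T'
  have hsq : IsSquare (M'.det * M.det) := by
    rw [hdM, hdM']
    exact c14_isSquare_mul h2 hd'.ne_zero hd.ne_zero h.symm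
  obtain ⟨P, hP⟩ := Cfsg.Agent.Lib.Helper50.congr_of_det h2 hM' hM (by rw [hdM']; exact hd'.ne_zero)
    (by rw [hdM]; exact hd.ne_zero) hsq
  -- `Pᵀ * M * P = M'`
  refine ⟨Matrix.reindex e.symm e.symm P.val, ?_, by rw [mul_one, one_mul], ?_⟩
  · rw [Matrix.det_reindex_self]
    exact (Matrix.isUnit_iff_isUnit_det _).mp P.isUnit
  · have h5 : T' = Matrix.reindex e.symm e.symm M' := by
      show T' = Matrix.reindex e.symm e.symm (Matrix.reindex e e T')
      ext a b
      simp
    have h6 : T = Matrix.reindex e.symm e.symm M := by
      show T = Matrix.reindex e.symm e.symm (Matrix.reindex e e T)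
      ext a b
      simp
    rw [h5, ← hP, h6]
    ext a b
    simp only [Matrix.mul_apply, Matrix.reindex_apply, Matrix.submatrix_apply, Matrix.transpose_apply,
      Equiv.symm_symm]
    rw [← Equiv.sum_comp e (fun j => (∑ j_1, P.val j_1 (e a) * M j_1 j) * P.val j (e b))]
    apply Finset.sum_congr rfl
    intro j _
    congr 1
    exact Equiv.sum_comp e (fun j_1 => P.val j_1 (e a) * M j_1 (e j))

/-- **K-SPC-C14** (267623). -/
theorem orbCount_symND_even [Fintype F] (h2 : (2 : F) ≠ 0) (κ : Type*) [Fintype κ] [DecidableEq κ]
    (i : ℕ) (hi : Even i) :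
    orbCount (1 : Matrix κ κ F) (SymND κ i) = if Fintype.card κ = 0 then 1 else 2 := by
  classical
  have hpow : ((-1 : F)) ^ i = 1 := hi.neg_one_pow
  have hmem : ∀ T : Matrix κ κ F, T ∈ SymND κ i ↔ Tᵀ = T ∧ IsUnit T.det := by
    intro T
    show (Tᵀ = (-1 : F) ^ i • T ∧ IsUnit T.det) ↔ _
    rw [hpow, one_smul]
  let s : Setoid ↥(SymND (F := F) κ i) :=
    (congSetoid (1 : Matrix κ κ F)).comap (Subtype.val : ↥(SymND (F := F) κ i) → Matrix κ κ F)
  show Nat.card (Quotient s) = _
  have hone : (1 : Matrix κ κ F) ∈ SymND κ i := by
    rw [hmem]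
    exact ⟨Matrix.transpose_one, by rw [Matrix.det_one]; exact isUnit_one⟩
  by_cases hκ : Fintype.card κ = 0
  · rw [if_pos hκ]
    haveI : IsEmpty κ := Fintype.card_eq_zero_iff.mp hκ
    haveI : Subsingleton (Quotient s) := by
      constructor
      intro a b
      induction a using Quotient.inductionOn with
      | _ a =>
        induction b using Quotient.inductionOn with
        | _ b =>
          have : a = b := by
            apply Subtype.ext
            ext x
            exact isEmptyElim x
          rw [this]
    haveI : Nonempty (Quotient s) := ⟨Quotient.mk s ⟨1, hone⟩⟩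
    exact Nat.card_unique
  · rw [if_neg hκ]
    haveI : Nonempty κ := by
      rcases isEmpty_or_nonempty κ with h | h
      · exact absurd (Fintype.card_eq_zero_iff.mpr h) hκ
      · exact h
    -- the invariant
    let f : Quotient s → Bool := Quotient.lift (fun T : ↥(SymND (F := F) κ i) => decide (IsSquare T.1.det)) (by
      intro a b hab
      have h1 : CongRel (1 : Matrix κ κ F) a.1 b.1 := hab
      have := c14_isSquare_det_congr h1
      simp only [decide_eq_decide]
      exact this)
    have hf : Function.Bijective f := by
      constructor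
      · intro a b
        induction a using Quotient.inductionOn with
        | _ a =>
          induction b using Quotient.inductionOn with
          | _ b =>
            intro hab
            have hab' : decide (IsSquare a.1.det) = decide (IsSquare b.1.det) := hab
            simp only [decide_eq_decide] at hab'
            apply Quotient.sound
            have ha := (hmem a.1).mp a.2
            have hb := (hmem b.1).mp b.2
            exact c14_congRel_of_det h2 ha.1 hb.1 ha.2 hb.2 hab'
      · intro b
        have hchar : ringChar F ≠ 2 := by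
          intro hc
          apply h2
          have : ((2 : ℕ) : F) = 0 := by rw [← hc]; exact ringChar.Nat.cast_ringChar
          exact_mod_cast this
        obtain ⟨ν, hν⟩ := FiniteField.exists_nonsquare hchar
        have hν0 : ν ≠ 0 := by
          rintro rfl
          exact hν ⟨0, by ring⟩
        obtain ⟨k₀⟩ := ‹Nonempty κ›
        let D : Matrix κ κ F := Matrix.diagonal (fun k => if k = k₀ then ν else 1)
        have hDdet : D.det = ν := by
          show (Matrix.diagonal (fun k => if k = k₀ then ν else 1)).det = ν
          rw [Matrix.det_diagonal, Finset.prod_ite_eq' Finset.univ k₀ (fun _ => ν)]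
          simp
        have hD : D ∈ SymND κ i := by
          rw [hmem]
          refine ⟨Matrix.diagonal_transpose _, ?_⟩
          rw [hDdet]
          exact isUnit_iff_ne_zero.mpr hν0
        cases b with
        | true =>
          refine ⟨Quotient.mk s ⟨1, hone⟩, ?_⟩
          show decide (IsSquare (1 : Matrix κ κ F).det) = true
          rw [Matrix.det_one]
          simp
        | false =>
          refine ⟨Quotient.mk s ⟨D, hD⟩, ?_⟩
          show decide (IsSquare D.det) = false
          rw [hDdet]
          simpa using hν
    rw [Nat.card_congr (Equiv.ofBijective f hf), Nat.card_eq_fintype_card, Fintype.card_bool]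

end Cfsg.Agent.Lib.Helper72.SPC
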