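import Mathlib
import Cfsg.Prelude.Def_KGroupFacts
import Cfsg.Agent.Lib.Helper07.SchurRed
import Cfsg.Agent.Lib.Helper70.StemExt
import Cfsg.Agent.Lib.Helper70.SchurBasic
import Cfsg.Agent.Lib.Helper06.NormalRankTwo

set_option autoImplicit false

namespace Cfsg.Agent.Lib.Helper72.SchurM11

open Subgroup
open scoped commutatorElement
open Cfsg.Agent.Lib.Helper70 Cfsg.Agent.Lib.Helper07

/-- Lifts of two commuting elements `x`, `y` with `x ^ 3 = 1` along a central extension commute,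
if some element inverts `x` and centralizes `y`. -/
theorem lift_comm_of_inverted {Γ G : Type*} [Group Γ] [Group G] (σ : Γ →* G)
    (hcen : σ.ker ≤ center Γ) (xt yt gt : Γ) (hx3 : σ xt ^ 3 = 1)
    (hxy : σ xt * σ yt = σ yt * σ xt)
    (hgx : σ gt * σ xt * (σ gt)⁻¹ = (σ xt)⁻¹) (hgy : σ gt * σ yt * (σ gt)⁻¹ = σ yt) :
    xt * yt = yt * xt := by
  obtain ⟨c, hc⟩ : ∃ c : Γ, c = ⁅xt, yt⁆ := ⟨_, rfl⟩
  have hck : c ∈ σ.ker := by
    rw [MonoidHom.mem_ker, hc, map_commutatorElement, commutatorElement_def, hxy]; group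
  have hcz : c ∈ center Γ := hcen hck
  have hcc : ∀ w, w * c = c * w := fun w => mem_center_iff.mp hcz w
  have h1 : xt * yt = c * yt * xt := by rw [hc, commutatorElement_def]; group
  have hpow : ∀ n : ℕ, xt ^ n * yt = c ^ n * yt * xt ^ n := by
    intro n
    induction n with
    | zero => simp
    | succ n ih =>
      calc xt ^ (n + 1) * yt = xt ^ n * (xt * yt) := by rw [pow_succ, mul_assoc]
        _ = xt ^ n * (c * yt * xt) := by rw [h1]
        _ = (xt ^ n * c) * yt * xt := by group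
        _ = (c * xt ^ n) * yt * xt := by rw [hcc]
        _ = c * (xt ^ n * yt) * xt := by group
        _ = c * (c ^ n * yt * xt ^ n) * xt := by rw [ih]
        _ = c ^ (n + 1) * yt * xt ^ (n + 1) := by rw [pow_succ, pow_succ]; group
  have hx3k : xt ^ 3 ∈ center Γ := hcen (by rw [MonoidHom.mem_ker, map_pow, hx3])
  have hc3 : c ^ 3 = 1 := by
    have h2 := hpow 3
    have h3 : yt * xt ^ 3 = xt ^ 3 * yt := mem_center_iff.mp hx3k yt
    have h4 : c ^ 3 * (yt * xt ^ 3) = 1 * (yt * xt ^ 3) := by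
      rw [one_mul, ← mul_assoc, ← h2, h3]
    exact mul_right_cancel h4
  obtain ⟨k1, hk1d⟩ : ∃ k1 : Γ, k1 = gt * xt * gt⁻¹ * xt := ⟨_, rfl⟩
  obtain ⟨k2, hk2d⟩ : ∃ k2 : Γ, k2 = gt * yt * gt⁻¹ * yt⁻¹ := ⟨_, rfl⟩
  have hk1z : k1 ∈ center Γ := hcen (by
    rw [MonoidHom.mem_ker, hk1d]; simp only [map_mul, map_inv]; rw [hgx]; group)
  have hk2z : k2 ∈ center Γ := hcen (by
    rw [MonoidHom.mem_ker, hk2d]; simp only [map_mul, map_inv]; rw [hgy]; group)
  have e1 : gt * xt * gt⁻¹ = k1 * xt⁻¹ := by rw [hk1d]; group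
  have e2 : gt * yt * gt⁻¹ = k2 * yt := by rw [hk2d]; group
  have h4 : gt * c * gt⁻¹ = ⁅k1 * xt⁻¹, k2 * yt⁆ := by
    rw [← e1, ← e2, hc, commutatorElement_def, commutatorElement_def]; group
  rw [commutatorElement_central_mul hk1z hk2z] at h4
  have h5 : gt * c * gt⁻¹ = c := by rw [hcc gt]; group
  have h6 : ⁅xt⁻¹, yt⁆ = c⁻¹ := by
    have h7 : ⁅xt⁻¹, yt⁆ = xt⁻¹ * c⁻¹ * xt := by
      rw [hc, commutatorElement_def, commutatorElement_def]; group
    rw [h7]
    have hci : xt⁻¹ * c⁻¹ = c⁻¹ * xt⁻¹ := mem_center_iff.mp ((center Γ).inv_mem hcz) xt⁻¹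
    rw [hci]; group
  have hc2 : c = c⁻¹ := by
    calc c = gt * c * gt⁻¹ := h5.symm
      _ = ⁅xt⁻¹, yt⁆ := h4
      _ = c⁻¹ := h6
  have hc1 : c = 1 := by
    have h8 : c ^ 2 = 1 := by
      rw [sq]
      calc c * c = c * c⁻¹ := by rw [← hc2]
        _ = 1 := mul_inv_cancel c
    calc c = c ^ 3 * (c ^ 2)⁻¹ := by group
      _ = 1 := by rw [hc3, h8]; group
  rw [h1, hc1]
  group

/-- The preimage of `⟨x, y⟩` under a stem extension is commutative, for commuting `x`, `y` with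
`x ^ 3 = 1` and an element inverting `x` and centralizing `y`. -/
theorem comap_comm_of_inverted {Γ G : Type*} [Group Γ] [Group G] (σ : Γ →* G)
    (hσ : Cfsg.IsStemExtension σ) (x y g : G) (hx3 : x ^ 3 = 1) (hxy : x * y = y * x)
    (hgx : g * x * g⁻¹ = x⁻¹) (hgy : g * y * g⁻¹ = y) :
    ∀ a b : Γ, σ a ∈ closure ({x, y} : Set G) → σ b ∈ closure ({x, y} : Set G) →
      a * b = b * a := by
  obtain ⟨hsurj, hcen, -⟩ := hσ
  obtain ⟨xt, rfl⟩ := hsurj x
  obtain ⟨yt, rfl⟩ := hsurj y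
  obtain ⟨gt, rfl⟩ := hsurj g
  have hcomm := lift_comm_of_inverted σ hcen xt yt gt hx3 hxy hgx hgy
  let s : Set Γ := {xt, yt} ∪ (σ.ker : Set Γ)
  have hs : s ⊆ centralizer s := by
    intro u hu
    rw [SetLike.mem_coe, mem_centralizer_iff]
    intro v hv
    by_cases huk : u ∈ σ.ker
    · exact (mem_center_iff.mp (hcen huk) v)
    by_cases hvk : v ∈ σ.ker
    · exact (mem_center_iff.mp (hcen hvk) u).symm
    have hu' : u = xt ∨ u = yt := by
      rcases hu with hu | hu
      · simpa using hu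
      · exact absurd hu huk
    have hv' : v = xt ∨ v = yt := by
      rcases hv with hv | hv
      · simpa using hv
      · exact absurd hv hvk
    rcases hu' with rfl | rfl <;> rcases hv' with rfl | rfl
    · rfl
    · exact hcomm.symm
    · exact hcomm
    · rfl
  have hA : closure s ≤ centralizer (closure s : Set Γ) := by
    rw [centralizer_closure]; exact (closure_le _).mpr hs
  have hle : (closure ({σ xt, σ yt} : Set G)).comap σ ≤ closure s := by
    have h1 : closure ({σ xt, σ yt} : Set G) = (closure ({xt, yt} : Set Γ)).map σ := by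
      rw [MonoidHom.map_closure]; congr 1; simp [Set.image_pair]
    rw [h1, comap_map_eq]
    apply sup_le
    · exact closure_mono Set.subset_union_left
    · intro k hk
      exact subset_closure (Or.inr hk)
  intro a b ha hb
  have h2 := hA (hle ha)
  rw [mem_centralizer_iff] at h2
  exact (h2 b (hle hb)).symm

/-- A stem extension of a semidihedral group of order sixteen is injective. -/
theorem ker_eq_bot_sd16 {Γ Q : Type*} [Group Γ] [Group Q] (σ : Γ →* Q)
    (hσ : Cfsg.IsStemExtension σ) (a b : Q) (ha : orderOf a = 8) (hb : b ^ 2 = 1)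
    (hab : b * a * b⁻¹ = a ^ 3) (hnorm : (zpowers a).Normal)
    (hgen : zpowers a ⊔ zpowers b = ⊤) : σ.ker = ⊥ := by
  obtain ⟨hsurj, hcen, hcomm⟩ := hσ
  obtain ⟨at', hat⟩ := hsurj a
  obtain ⟨bt, hbt⟩ := hsurj b
  let N : Subgroup Γ := (zpowers a).comap σ
  have hNn : N.Normal := hnorm.comap σ
  have hkN : σ.ker ≤ N := by
    intro g hg
    show σ g ∈ zpowers a
    rw [MonoidHom.mem_ker.mp hg]; exact one_mem _
  have hNb : N ⊔ zpowers bt = ⊤ := by
    have h1 : (N ⊔ zpowers bt).map σ = ⊤ := by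
      rw [Subgroup.map_sup, Subgroup.map_comap_eq_self_of_surjective hsurj, MonoidHom.map_zpowers,
        hbt, hgen]
    have h2 : σ.ker ≤ N ⊔ zpowers bt := hkN.trans le_sup_left
    rw [← Subgroup.comap_map_eq_self h2, h1, Subgroup.comap_top]
  have hNab := comap_zpowers_comm σ hcen a at' hat
  obtain ⟨k, hk⟩ : ∃ k : Γ, k = bt * at' * bt⁻¹ * (at' ^ 3)⁻¹ := ⟨_, rfl⟩
  have hkk : k ∈ σ.ker := by
    rw [MonoidHom.mem_ker, hk]; simp only [map_mul, map_inv, map_pow, hat, hbt]; rw [hab]; group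
  have hkc : k ∈ center Γ := hcen hkk
  have hkz : ∀ w, w * k = k * w := mem_center_iff.mp hkc
  have e1 : bt * at' * bt⁻¹ = k * at' ^ 3 := by rw [hk]; group
  have hcomk : Commute k (at' ^ 3) := (hkz (at' ^ 3)).symm
  have hb2 : bt ^ 2 ∈ center Γ := hcen (by rw [MonoidHom.mem_ker, map_pow, hbt, hb])
  have hkey : k ^ 4 * at' ^ 8 = 1 := by
    have h1 : bt ^ 2 * at' * (bt ^ 2)⁻¹ = at' := by
      have h0 := mem_center_iff.mp hb2 at'
      rw [← h0]; group
    have h2 : bt ^ 2 * at' * (bt ^ 2)⁻¹ = bt * (bt * at' * bt⁻¹) * bt⁻¹ := by rw [sq]; group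
    rw [h2, e1] at h1
    have h3 : bt * (k * at' ^ 3) * bt⁻¹ = k * (bt * at' * bt⁻¹) ^ 3 := by
      rw [conj_pow, ← mul_assoc bt k, hkz bt]; group
    rw [h3, e1, hcomk.mul_pow] at h1
    have h4 : k * (k ^ 3 * (at' ^ 3) ^ 3) = (k ^ 4 * at' ^ 8) * at' := by
      rw [← pow_mul]; group
    rw [h4] at h1
    exact mul_right_cancel (h1.trans (one_mul at').symm)
  rw [eq_bot_iff]
  intro z hz
  rw [mem_bot]
  obtain ⟨u, hu, hzu⟩ := commutator_abelian_by_cyclic N hNab bt hNb z (hcomm hz)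
  have hu' : σ u ∈ zpowers a := hu
  rw [Subgroup.mem_zpowers_iff] at hu'
  obtain ⟨i, hi⟩ := hu'
  obtain ⟨k', hk'⟩ : ∃ k' : Γ, k' = u * (at' ^ i)⁻¹ := ⟨_, rfl⟩
  have hk'k : k' ∈ center Γ := hcen (by
    rw [MonoidHom.mem_ker, hk', map_mul, map_inv, map_zpow, hat, ← hi]; group)
  have hu2 : u = k' * at' ^ i := by rw [hk']; group
  have hz1 : z = ⁅(1 : Γ) * bt, k' * at' ^ i⁆ := by
    rw [hzu, hu2, commutatorElement_def, one_mul]
  rw [commutatorElement_central_mul (one_mem _) hk'k] at hz1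
  have hz2 : z = k ^ i * at' ^ (2 * i) := by
    rw [hz1, commutatorElement_def]
    calc bt * at' ^ i * bt⁻¹ * (at' ^ i)⁻¹ = (bt * at' * bt⁻¹) ^ i * (at' ^ i)⁻¹ := by
          rw [conj_zpow]
      _ = k ^ i * (at' ^ 3) ^ i * (at' ^ i)⁻¹ := by rw [e1, hcomk.mul_zpow]
      _ = k ^ i * at' ^ (2 * i) := by
          rw [← zpow_natCast at' 3, ← zpow_mul, mul_assoc, ← zpow_neg, ← zpow_add]
          congr 2; push_cast; ring
  have hz3 : σ z = 1 := MonoidHom.mem_ker.mp hz
  rw [hz2, map_mul, map_zpow, map_zpow, MonoidHom.mem_ker.mp hkk, one_zpow, one_mul, hat,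
    ← orderOf_dvd_iff_zpow_eq_one, ha] at hz3
  have h4i : (4 : ℤ) ∣ i := by
    obtain ⟨m, hm⟩ := hz3
    exact ⟨m, by push_cast at hm; omega⟩
  obtain ⟨j, rfl⟩ := h4i
  rw [hz2]
  have hcomk8 : Commute (k ^ 4) (at' ^ 8) := by
    have : Commute k (at' ^ 8) := (hkz (at' ^ 8)).symm
    exact this.pow_left 4
  calc k ^ (4 * j) * at' ^ (2 * (4 * j)) = (k ^ 4) ^ j * (at' ^ 8) ^ j := by
        rw [← zpow_natCast k 4, ← zpow_natCast at' 8, ← zpow_mul, ← zpow_mul]
        congr 2; push_cast; ring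
    _ = (k ^ 4 * at' ^ 8) ^ j := (hcomk8.mul_zpow j).symm
    _ = 1 := by rw [hkey, one_zpow]

/-- A group of order sixteen with the semidihedral relations has trivial multiplier. -/
theorem trivMult_sd16 {Q : Type} [Group Q] (hcard : Nat.card Q = 16) (a b : Q)
    (ha : orderOf a = 8) (hb : b ^ 2 = 1) (hab : b * a * b⁻¹ = a ^ 3) : TrivMult Q := by
  have hfin : Finite Q := Nat.finite_of_card_ne_zero (by rw [hcard]; norm_num)
  have hza : Nat.card (zpowers a) = 8 := by rw [Nat.card_zpowers, ha]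
  have hidx : (zpowers a).index = 2 := by
    have h1 := (zpowers a).card_mul_index
    rw [hza, hcard] at h1
    omega
  have hnorm : (zpowers a).Normal := Subgroup.normal_of_index_eq_two hidx
  have hbn : b ∉ zpowers a := by
    intro hbm
    rw [mem_zpowers_iff] at hbm
    obtain ⟨i, rfl⟩ := hbm
    have h1 : a ^ i * a * (a ^ i)⁻¹ = a := by
      rw [← zpow_add_one, ← zpow_neg, ← zpow_add]; simp
    rw [h1] at hab
    have h2 : a ^ 2 = 1 := by
      have h3 : a * 1 = a * a ^ 2 := by rw [mul_one, ← pow_succ']; exact hab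
      exact (mul_left_cancel h3).symm
    have h4 := orderOf_dvd_of_pow_eq_one h2
    rw [ha] at h4
    omega
  have hgen : zpowers a ⊔ zpowers b = ⊤ := by
    rw [← Subgroup.card_eq_iff_eq_top, hcard]
    have h1 : Nat.card (zpowers a) ∣ Nat.card (zpowers a ⊔ zpowers b : Subgroup Q) :=
      Subgroup.card_dvd_of_le le_sup_left
    have h2 : Nat.card (zpowers a ⊔ zpowers b : Subgroup Q) ∣ 16 := by
      rw [← hcard]; exact Subgroup.card_subgroup_dvd_card _
    have h3 : Nat.card (zpowers a ⊔ zpowers b : Subgroup Q) ≠ 8 := by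
      intro h8
      have h4 : zpowers a = zpowers a ⊔ zpowers b :=
        Subgroup.eq_of_le_of_card_ge le_sup_left (by rw [h8, hza])
      apply hbn
      rw [h4]
      exact le_sup_right (a := zpowers a) (mem_zpowers b)
    rw [hza] at h1
    obtain ⟨m, hm⟩ := h1
    have h5 : 0 < Nat.card (zpowers a ⊔ zpowers b : Subgroup Q) := Nat.card_pos
    rw [hm] at h2 h3 h5 ⊢
    have hm2 : m ∣ 2 := by
      have : 8 * m ∣ 8 * 2 := h2
      exact Nat.dvd_of_mul_dvd_mul_left (by norm_num) this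
    have hmle : m ≤ 2 := Nat.le_of_dvd (by norm_num) hm2
    interval_cases m <;> simp_all
  intro Γ' _ _ τ hτ
  exact ker_eq_bot_sd16 τ hτ a b ha hb hab hnorm hgen

/-- the version of `comap_comm_of_inverted` for the join of the cyclic subgroups. -/
theorem comap_comm_of_inverted' {Γ G : Type*} [Group Γ] [Group G] (σ : Γ →* G)
    (hσ : Cfsg.IsStemExtension σ) (x y g : G) (hx3 : x ^ 3 = 1) (hxy : x * y = y * x)
    (hgx : g * x * g⁻¹ = x⁻¹) (hgy : g * y * g⁻¹ = y) :
    ∀ a b : Γ, σ a ∈ zpowers x ⊔ zpowers y → σ b ∈ zpowers x ⊔ zpowers y → a * b = b * a := by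
  have h : zpowers x ⊔ zpowers y = closure ({x, y} : Set G) := by
    rw [zpowers_eq_closure, zpowers_eq_closure, ← Subgroup.closure_union]
    rfl
  rw [h]
  exact comap_comm_of_inverted σ hσ x y g hx3 hxy hgx hgy

/-- the join of two distinct commuting subgroups of order three has order nine. -/
theorem card_sup_zpowers_three {G : Type*} [Group G] (x y : G) (hx : orderOf x = 3)
    (hy : orderOf y = 3) (hxy : x * y = y * x) (hne : x ∉ zpowers y) :
    Nat.card (zpowers x ⊔ zpowers y : Subgroup G) = 9 := by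
  have hzx : Nat.card (zpowers x) = 3 := by rw [Nat.card_zpowers, hx]
  have hzy : Nat.card (zpowers y) = 3 := by rw [Nat.card_zpowers, hy]
  have hfx : Finite (zpowers x) := Nat.finite_of_card_ne_zero (by rw [hzx]; norm_num)
  have hd : zpowers x ⊓ zpowers y = ⊥ := by
    have h1 : Nat.card (zpowers x ⊓ zpowers y : Subgroup G) ∣ 3 := by
      rw [← hzx]; exact Subgroup.card_dvd_of_le inf_le_left
    rcases (Nat.dvd_prime Nat.prime_three).mp h1 with h | h
    · exact Subgroup.card_eq_one.mp h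
    · exfalso
      apply hne
      have h2 : zpowers x ⊓ zpowers y = zpowers x :=
        Subgroup.eq_of_le_of_card_ge inf_le_left (by rw [h, hzx])
      have h3 : zpowers x ≤ zpowers y := by rw [← h2]; exact inf_le_right
      exact h3 (mem_zpowers x)
  have hc : ∀ h ∈ zpowers x, ∀ k ∈ zpowers y, h * k = k * h := by
    intro h hh k hk
    rw [mem_zpowers_iff] at hh hk
    obtain ⟨i, rfl⟩ := hh
    obtain ⟨j, rfl⟩ := hk
    have : Commute x y := hxy
    exact (this.zpow_zpow i j)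
  rw [Cfsg.Agent.Lib.Helper06.card_sup_of_commute_of_disjoint _ _ hc hd, hzx, hzy]

end Cfsg.Agent.Lib.Helper72.SchurM11
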