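import Mathlib
import Cfsg.Agent.Lib.Helper03.PGroupFrattini
import Cfsg.Agent.Lib.Helper72.Sp64

/-!
A group of order `320` whose derived subgroup has order `64` with Klein four centre: the derived
subgroup together with conjugation by an element of order `5` satisfies `Sp64.Hyp`.
-/

set_option autoImplicit false
set_option linter.unusedSectionVars false

open scoped commutatorElement

namespace Cfsg.Agent.Lib.Helper72.Sp64G

/-- a compatibility condition for `SemidirectProduct.lift`, checked on a generator -/
theorem cond_of_gen {N G H : Type*} [Group N] [Group G] [Group H] (φ : G →* MulAut N)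
    (fn : N →* H) (fg : G →* H) (g₀ : G) (hgen : ∀ g : G, ∃ k : ℕ, g = g₀ ^ k)
    (h0 : ∀ n, fn (φ g₀ n) = fg g₀ * fn n * (fg g₀)⁻¹) (g : G) :
    fn.comp (φ g).toMonoidHom = (MulAut.conj (fg g)).toMonoidHom.comp fn := by
  obtain ⟨k, rfl⟩ := hgen g
  ext n
  simp only [MonoidHom.comp_apply, MulEquiv.coe_toMonoidHom, MulAut.conj_apply]
  induction k generalizing n with
  | zero => simp
  | succ k ih =>
    rw [pow_succ, map_mul, map_mul, MulAut.mul_apply, ih, h0]
    group

variable {G : Type*} [Group G]

/-- conjugation action of a subgroup on a normal subgroup -/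
def conjAct (D K : Subgroup G) [D.Normal] : ↥K →* MulAut ↥D := (MulAut.conjNormal).comp K.subtype

theorem conjAct_coe (D K : Subgroup G) [D.Normal] (k : ↥K) (d : ↥D) :
    ((conjAct D K k d : ↥D) : G) = k * d * (k : G)⁻¹ := rfl

/-- the semidirect decomposition attached to a normal subgroup with a complement -/
noncomputable def semiEquiv (D K : Subgroup G) [D.Normal] (h : D.IsComplement' K) :
    ↥D ⋊[conjAct D K] ↥K ≃* G :=
  MulEquiv.ofBijective (SemidirectProduct.lift D.subtype K.subtype (by
      intro k; ext d; simp [conjAct]))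
    ((SemidirectProduct.equivProd.bijective_comp _).mpr h)

theorem semiEquiv_apply (D K : Subgroup G) [D.Normal] (h : D.IsComplement' K)
    (p : ↥D ⋊[conjAct D K] ↥K) : semiEquiv D K h p = (p.left : G) * (p.right : G) := rfl

theorem semiEquiv_symm_coe (D K : Subgroup G) [D.Normal] (h : D.IsComplement' K) (d : ↥D) :
    (semiEquiv D K h).symm (d : G) = SemidirectProduct.inl d := by
  rw [MulEquiv.symm_apply_eq, semiEquiv_apply]
  simp

theorem zpowers_gen (x : G) [Finite G] (g : ↥(Subgroup.zpowers x)) :
    ∃ k : ℕ, g = (⟨x, Subgroup.mem_zpowers x⟩ : ↥(Subgroup.zpowers x)) ^ k := by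
  have h1 : (g : G) ∈ Submonoid.powers x := (mem_powers_iff_mem_zpowers).mpr g.2
  obtain ⟨k, hk⟩ := (Submonoid.mem_powers_iff _ _).mp h1
  exact ⟨k, Subtype.ext (by rw [Subgroup.coe_pow]; exact hk.symm)⟩

theorem exists_order_five [Finite G] (hG : Nat.card G = 320)
    (hD : Nat.card (commutator G) = 64) :
    ∃ x : G, orderOf x = 5 ∧ (commutator G).IsComplement' (Subgroup.zpowers x) := by
  have : Fact (Nat.Prime 5) := ⟨by norm_num⟩
  obtain ⟨x, hx⟩ := exists_prime_orderOf_dvd_card' (G := G) 5 (by rw [hG]; norm_num)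
  refine ⟨x, hx, ?_⟩
  apply Subgroup.isComplement'_of_coprime
  · rw [hD, Nat.card_zpowers, hx, hG]
  · rw [hD, Nat.card_zpowers, hx]; norm_num

theorem hyp_of [Finite G] (hD : Nat.card (commutator G) = 64)
    (hZ : IsKleinFour (Subgroup.center (commutator G))) (x : G) (hx : orderOf x = 5)
    (hc : (commutator G).IsComplement' (Subgroup.zpowers x)) :
    Sp64.Hyp (conjAct (commutator G) (Subgroup.zpowers x) ⟨x, Subgroup.mem_zpowers x⟩) where
  card := hD
  pow5 := by
    rw [← map_pow]
    have : (⟨x, Subgroup.mem_zpowers x⟩ : ↥(Subgroup.zpowers x)) ^ 5 = 1 := by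
      apply Subtype.ext
      rw [Subgroup.coe_pow, Subgroup.coe_one, ← hx]
      exact pow_orderOf_eq_one x
    rw [this, map_one]
  cardZ := hZ.card_four
  expZ := by
    intro z hz
    have h1 : (⟨z, hz⟩ : ↥(Subgroup.center ↥(commutator G))) ^ 2 = 1 := by
      rw [← hZ.exponent_two]
      exact Monoid.pow_exponent_eq_one _
    have h2 := congrArg Subtype.val h1
    rw [pow_two] at h2
    exact h2
  gen := by
    by_contra hne
    obtain ⟨M, hM, hLM⟩ := (eq_top_or_exists_le_coatom _).resolve_left hne
    have : Fact (Nat.Prime 2) := ⟨Nat.prime_two⟩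
    have hPD : IsPGroup 2 ↥(commutator G) := IsPGroup.of_card (n := 6) (by rw [hD]; norm_num)
    have hMn : M.Normal := Cfsg.Agent.Lib.Helper03.normal_of_isCoatom_of_isPGroup hPD hM
    have hidx : M.index = 2 := Cfsg.Agent.Lib.Helper03.index_of_isCoatom_of_isPGroup hPD hM
    have hcardQ : Nat.card (↥(commutator G) ⧸ M) = 2 := by
      rw [← Subgroup.index_eq_card]; exact hidx
    have hcyc : IsCyclic (↥(commutator G) ⧸ M) := isCyclic_of_prime_card hcardQ
    have hcomm : ∀ a b : ↥(commutator G) ⧸ M, a * b = b * a := fun a b =>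
      (IsCyclic.commGroup (α := ↥(commutator G) ⧸ M)).mul_comm a b
    have cond := cond_of_gen (conjAct (commutator G) (Subgroup.zpowers x))
      (QuotientGroup.mk' M) (1 : ↥(Subgroup.zpowers x) →* ↥(commutator G) ⧸ M)
      ⟨x, Subgroup.mem_zpowers x⟩ (zpowers_gen x) (by
        intro n
        rw [MonoidHom.one_apply, one_mul, inv_one, mul_one]
        symm
        change (QuotientGroup.mk n : ↥(commutator G) ⧸ M) = QuotientGroup.mk _
        rw [QuotientGroup.eq]
        exact hLM (Subgroup.subset_closure ⟨n, rfl⟩))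
    have hker : commutator G ≤ ((SemidirectProduct.lift _ _ cond).comp
        (semiEquiv (commutator G) (Subgroup.zpowers x) hc).symm.toMonoidHom).ker := by
      refine (commutator_def G).le.trans (Subgroup.commutator_le.mpr ?_)
      intro a _ b _
      rw [MonoidHom.mem_ker, map_commutatorElement, commutatorElement_eq_one_iff_mul_comm]
      exact hcomm _ _
    have hall : ∀ d : ↥(commutator G), d ∈ M := by
      intro d
      have h1 := hker d.2
      rw [MonoidHom.mem_ker, MonoidHom.comp_apply] at h1
      change SemidirectProduct.lift _ _ cond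
        ((semiEquiv (commutator G) (Subgroup.zpowers x) hc).symm (d : G)) = 1 at h1
      rw [semiEquiv_symm_coe, SemidirectProduct.lift_inl] at h1
      exact (QuotientGroup.eq_one_iff d).mp h1
    exact hM.1 (eq_top_iff.mpr fun d _ => hall d)

end Cfsg.Agent.Lib.Helper72.Sp64G
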