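import Mathlib
import Cfsg.Agent.Lib.Helper72.Sp64

/-!
Homomorphisms out of a group of order `64` satisfying `Sp64.Hyp`, determined by the images of the
orbit `u, α u, α² u, α³ u` of a suitable non-central element.
-/

set_option autoImplicit false
set_option linter.unusedSectionVars false

open scoped commutatorElement

namespace Cfsg.Agent.Lib.Helper72.Sp64

theorem zpow_invol {G : Type*} [Group G] {c : G} (hc : c * c = 1) (m : ℤ) :
    c ^ m = 1 ∨ c ^ m = c := by
  rcases Int.even_or_odd' m with ⟨k, rfl | rfl⟩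
  · left; rw [zpow_mul, zpow_two, hc, one_zpow]
  · right; rw [zpow_add, zpow_mul, zpow_two, hc, one_zpow, one_mul, zpow_one]

theorem closure_pair_cases {G : Type*} [Group G] {a b : G} (ha : a * a = 1) (hb : b * b = 1)
    (hab : a * b = b * a) {z : G} (hz : z ∈ Subgroup.closure {a, b}) :
    z = 1 ∨ z = a ∨ z = b ∨ z = a * b := by
  have t1 : ∀ y : G, a * (a * y) = y := fun y => by rw [← mul_assoc, ha, one_mul]
  have t3 : ∀ y : G, b * (a * y) = a * (b * y) := fun y => by
    rw [← mul_assoc, ← hab, mul_assoc]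
  have ia : a⁻¹ = a := inv_eq_of_mul_eq_one_left ha
  have ib : b⁻¹ = b := inv_eq_of_mul_eq_one_left hb
  induction hz using Subgroup.closure_induction with
  | mem x hx =>
    rcases hx with rfl | hx
    · right; left; rfl
    · rw [Set.mem_singleton_iff] at hx
      right; right; left; exact hx
  | one => left; rfl
  | mul x y _ _ ihx ihy =>
    rcases ihx with rfl | rfl | rfl | rfl <;> rcases ihy with rfl | rfl | rfl | rfl <;>
      simp only [mul_assoc, t1, t3, ha, hb, hab.symm, one_mul, mul_one, true_or, or_true]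
  | inv x _ ih =>
    rcases ih with rfl | rfl | rfl | rfl
    · left; exact inv_one
    · right; left; exact ia
    · right; right; left; exact ib
    · right; right; right; rw [mul_inv_rev, ia, ib, hab]

variable {D : Type*} [Group D]

namespace Hyp

variable [Finite D] {α : MulAut D} (h : Hyp α)
include h

/-- the centre is generated by the two basic commutators -/
theorem center_le_closure {u : D} (hu : u ∉ Subgroup.center D) (hnu : nu α u = 1) :
    Subgroup.center D ≤
      Subgroup.closure {⁅us α u 1, us α u 0⁆, ⁅us α u 2, us α u 0⁆} := by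
  rw [← h.commutator_eq_center]
  have hc1 : ⁅us α u 1, us α u 0⁆ ∈
      Subgroup.closure {⁅us α u 1, us α u 0⁆, ⁅us α u 2, us α u 0⁆} :=
    Subgroup.subset_closure (Set.mem_insert _ _)
  have hc2 : ⁅us α u 2, us α u 0⁆ ∈
      Subgroup.closure {⁅us α u 1, us α u 0⁆, ⁅us α u 2, us α u 0⁆} :=
    Subgroup.subset_closure (Set.mem_insert_of_mem _ rfl)
  have hlt : ∀ k < 4, ∀ i < k, ⁅us α u k, us α u i⁆ ∈
      Subgroup.closure {⁅us α u 1, us α u 0⁆, ⁅us α u 2, us α u 0⁆} := by
    intro k hk i hi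
    interval_cases k <;> interval_cases i
    · exact hc1
    · exact hc2
    · rw [h.c21]; exact hc1
    · rw [h.c30]; exact hc2
    · rw [h.c31]; exact hc2
    · rw [h.c32]; exact hc1
  have hall : ∀ k < 4, ∀ i < 4, ⁅us α u k, us α u i⁆ ∈
      Subgroup.closure {⁅us α u 1, us α u 0⁆, ⁅us α u 2, us α u 0⁆} := by
    intro k hk i hi
    rcases lt_trichotomy i k with hik | hik | hik
    · exact hlt k hk i hik
    · rw [hik, commutatorElement_self]; exact Subgroup.one_mem _
    · rw [h.comm_symm (us α u k) (us α u i)]; exact hlt i hi k hik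
  apply commutator_le_of_generators h.comm_mem _ _ (h.orbit_top hu hnu)
  rintro x (hx | ⟨k, hk, rfl⟩) y hy
  · have h1 : ⁅x, y⁆ = 1 := by
      rw [commutatorElement_eq_one_iff_mul_comm]
      exact ((Subgroup.mem_center_iff.mp hx) y).symm
    rw [h1]; exact Subgroup.one_mem _
  · rcases hy with hy | ⟨i, hi, rfl⟩
    · have h1 : ⁅us α u k, y⁆ = 1 := by
        rw [commutatorElement_eq_one_iff_mul_comm]
        exact (Subgroup.mem_center_iff.mp hy) _
      rw [h1]; exact Subgroup.one_mem _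
    · exact hall k hk i hi

/-- the same inside the centre -/
theorem center_closure_top {u : D} (hu : u ∉ Subgroup.center D) (hnu : nu α u = 1) :
    Subgroup.closure {(⟨⁅us α u 1, us α u 0⁆, h.comm_mem _ _⟩ : ↥(Subgroup.center D)),
      ⟨⁅us α u 2, us α u 0⁆, h.comm_mem _ _⟩} = ⊤ := by
  rw [eq_top_iff]
  intro w _
  have h1 : Subgroup.closure {⁅us α u 1, us α u 0⁆, ⁅us α u 2, us α u 0⁆} ≤
      (Subgroup.closure {(⟨⁅us α u 1, us α u 0⁆, h.comm_mem _ _⟩ : ↥(Subgroup.center D)),
      ⟨⁅us α u 2, us α u 0⁆, h.comm_mem _ _⟩}).map (Subgroup.center D).subtype := by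
    rw [Subgroup.closure_le]
    rintro x (rfl | hx)
    · exact ⟨_, Subgroup.subset_closure (Set.mem_insert _ _), rfl⟩
    · rw [Set.mem_singleton_iff] at hx
      subst hx
      exact ⟨_, Subgroup.subset_closure (Set.mem_insert_of_mem _ rfl), rfl⟩
  obtain ⟨w', hw', hw⟩ := h1 (h.center_le_closure hu hnu w.2)
  have h2 : w' = w := Subtype.ext hw
  rw [← h2]; exact hw'

/-- the four elements of the centre -/
theorem center_cases {u : D} (hu : u ∉ Subgroup.center D) (hnu : nu α u = 1) {z : D}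
    (hz : z ∈ Subgroup.center D) :
    z = 1 ∨ z = ⁅us α u 1, us α u 0⁆ ∨ z = ⁅us α u 2, us α u 0⁆ ∨
      z = ⁅us α u 1, us α u 0⁆ * ⁅us α u 2, us α u 0⁆ := by
  apply closure_pair_cases (h.expZ _ (h.comm_mem _ _)) (h.expZ _ (h.comm_mem _ _))
  · exact (Subgroup.mem_center_iff.mp (h.comm_mem (us α u 2) (us α u 0))) _
  · exact h.center_le_closure hu hnu hz

/-- a homomorphism on the centre with prescribed values on the two basic commutators -/
theorem exists_center_hom {u : D} (hu : u ∉ Subgroup.center D) (hnu : nu α u = 1)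
    {P : Type*} [Group P] (z1 z2 : P) (hz1 : ∀ y : P, y * z1 = z1 * y)
    (hz2 : ∀ y : P, y * z2 = z2 * y) (h11 : z1 * z1 = 1) (h22 : z2 * z2 = 1) :
    ∃ ι₀ : ↥(Subgroup.center D) →* P,
      ι₀ ⟨⁅us α u 1, us α u 0⁆, h.comm_mem _ _⟩ = z1 ∧
      ι₀ ⟨⁅us α u 2, us α u 0⁆, h.comm_mem _ _⟩ = z2 ∧
      ∀ (w : ↥(Subgroup.center D)) (y : P), y * ι₀ w = ι₀ w * y := by
  classical
  let C1 : ↥(Subgroup.center D) := ⟨⁅us α u 1, us α u 0⁆, h.comm_mem _ _⟩
  let C2 : ↥(Subgroup.center D) := ⟨⁅us α u 2, us α u 0⁆, h.comm_mem _ _⟩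
  let v : ℕ → ↥(Subgroup.center D) := fun k => if k = 0 then C1 else C2
  let v' : ℕ → P := fun k => if k = 0 then z1 else z2
  have hx : ∀ x : ↥(Subgroup.center D), x * x = 1 := fun x => Subtype.ext (h.expZ x.1 x.2)
  have hcomm : ∀ a b : ↥(Subgroup.center D), a * b = b * a := fun a b =>
    Subtype.ext ((Subgroup.mem_center_iff.mp b.2) a.1)
  have htop : ExtTwo.Qk (⊥ : Subgroup ↥(Subgroup.center D)) v 2 = ⊤ := by
    rw [eq_top_iff, ← h.center_closure_top hu hnu, Subgroup.closure_le]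
    rintro x (rfl | hx')
    · exact ExtTwo.u_mem_Qk ⊥ v (show 0 < 2 by norm_num)
    · rw [Set.mem_singleton_iff] at hx'
      subst hx'
      exact ExtTwo.u_mem_Qk ⊥ v (show 1 < 2 by norm_num)
  have hcard : Nat.card ↥(Subgroup.center D) =
      2 ^ 2 * Nat.card ↥(⊥ : Subgroup ↥(Subgroup.center D)) := by
    rw [Subgroup.card_bot, h.cardZ]; norm_num
  obtain ⟨f, -, hf⟩ := ExtTwo.exists_hom (Z := (⊥ : Subgroup ↥(Subgroup.center D))) (u := v)
    (fun a b => by
      rw [Subgroup.mem_bot, commutatorElement_eq_one_iff_mul_comm]; exact hcomm a b)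
    (fun z _ y => hcomm y z)
    (fun k => by rw [hx]; exact Subgroup.one_mem _)
    htop hcard (fun _ => (1 : P)) (fun a _ b _ => (mul_one 1).symm)
    (fun z _ y => by rw [mul_one, one_mul]) v'
    (by
      intro k hk
      interval_cases k
      · exact h11.symm
      · exact h22.symm)
    (by
      intro k hk i hi
      interval_cases k
      · omega
      · interval_cases i
        symm
        rw [commutatorElement_eq_one_iff_mul_comm]
        exact hz1 z2)
  have hf0 : f C1 = z1 := hf 0 (by norm_num)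
  have hf1 : f C2 = z2 := hf 1 (by norm_num)
  refine ⟨f, hf0, hf1, ?_⟩
  intro w y
  have hw : w ∈ Subgroup.closure {C1, C2} := by
    rw [h.center_closure_top hu hnu]; exact Subgroup.mem_top _
  induction hw using Subgroup.closure_induction with
  | mem x hx' =>
    rcases hx' with rfl | hx'
    · rw [hf0]; exact hz1 y
    · rw [Set.mem_singleton_iff] at hx'
      rw [hx', hf1]; exact hz2 y
  | one => rw [map_one, mul_one, one_mul]
  | mul a b _ _ iha ihb =>
    rw [map_mul, ← mul_assoc, iha, mul_assoc, ihb, mul_assoc]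
  | inv a _ iha =>
    rw [map_inv]
    have : y * (f a)⁻¹ = (f a)⁻¹ * (f a * y) * (f a)⁻¹ := by group
    rw [this, ← iha]; group

/-- the recognition homomorphism -/
theorem exists_hom {u : D} (hu : u ∉ Subgroup.center D) (hnu : nu α u = 1)
    {P : Type*} [Group P] (m : ℕ → P) (z1 z2 : P) (hz1 : ∀ y : P, y * z1 = z1 * y)
    (hz2 : ∀ y : P, y * z2 = z2 * y) (h11 : z1 * z1 = 1) (h22 : z2 * z2 = 1)
    (hm : ∀ k < 4, m k * m k = z1 * z2)
    (h10 : ⁅m 1, m 0⁆ = z1) (h20 : ⁅m 2, m 0⁆ = z2) (h21 : ⁅m 2, m 1⁆ = z1)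
    (h30 : ⁅m 3, m 0⁆ = z2) (h31 : ⁅m 3, m 1⁆ = z2) (h32 : ⁅m 3, m 2⁆ = z1) :
    ∃ f : D →* P, ∀ i < 4, f (us α u i) = m i := by
  classical
  obtain ⟨ι₀, hι1, hι2, hιcen⟩ := h.exists_center_hom hu hnu z1 z2 hz1 hz2 h11 h22
  let ι : D → P := fun d => if hd : d ∈ Subgroup.center D then ι₀ ⟨d, hd⟩ else 1
  have hιZ : ∀ (d : D) (hd : d ∈ Subgroup.center D), ι d = ι₀ ⟨d, hd⟩ := fun d hd => dif_pos hd
  have hι : ExtTwo.MulOn ι (Subgroup.center D) := by
    intro a ha b hb
    rw [hιZ a ha, hιZ b hb, hιZ (a * b) (Subgroup.mul_mem _ ha hb), ← map_mul]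
    rfl
  have hιc : ∀ z ∈ Subgroup.center D, ∀ y : P, y * ι z = ι z * y := by
    intro z hz y
    rw [hιZ z hz]; exact hιcen _ y
  have hc1 : ι ⁅us α u 1, us α u 0⁆ = z1 := by rw [hιZ _ (h.comm_mem _ _)]; exact hι1
  have hc2 : ι ⁅us α u 2, us α u 0⁆ = z2 := by rw [hιZ _ (h.comm_mem _ _)]; exact hι2
  have hcard : Nat.card D = 2 ^ 4 * Nat.card ↥(Subgroup.center D) := by
    rw [h.cardZ, h.card]; norm_num
  obtain ⟨f, -, hf⟩ := ExtTwo.exists_hom (Z := Subgroup.center D) (u := us α u)
    h.comm_mem (fun z hz y => (Subgroup.mem_center_iff.mp hz) y)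
    (fun k => h.sq_mem _) (h.orbit_top hu hnu) hcard ι hι hιc m
    (by
      intro k hk
      rw [h.us_sq, h.sq_eq hnu, hι _ (h.comm_mem _ _) _ (h.comm_mem _ _), hc1, hc2]
      exact (hm k hk).symm)
    (by
      intro k hk i hi
      interval_cases k <;> interval_cases i
      · rw [hc1, h10]
      · rw [hc2, h20]
      · rw [h.c21, hc1, h21]
      · rw [h.c30, hc2, h30]
      · rw [h.c31, hc2, h31]
      · rw [h.c32, hc1, h32])
  exact ⟨f, hf⟩

/-- injectivity criterion -/
theorem injective_of {u : D} (hu : u ∉ Subgroup.center D) (hnu : nu α u = 1)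
    {P : Type*} [Group P] (f : D →* P) (hne1 : f ⁅us α u 1, us α u 0⁆ ≠ 1)
    (hne2 : f ⁅us α u 2, us α u 0⁆ ≠ 1)
    (hne : f ⁅us α u 1, us α u 0⁆ ≠ f ⁅us α u 2, us α u 0⁆) : Function.Injective f := by
  have hZ : ∀ z ∈ Subgroup.center D, f z = 1 → z = 1 := by
    intro z hz hfz
    rcases h.center_cases hu hnu hz with rfl | rfl | rfl | rfl
    · rfl
    · exact absurd hfz hne1
    · exact absurd hfz hne2
    · exfalso
      apply hne
      rw [map_mul] at hfz
      have h1 := eq_inv_of_mul_eq_one_left hfz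
      rw [h1, ← map_inv, h.inv_eq_self (h.comm_mem _ _)]
  rw [injective_iff_map_eq_one]
  intro x hx
  have hxc : x ∈ Subgroup.center D := by
    rw [Subgroup.mem_center_iff]
    intro y
    have h1 : f ⁅y, x⁆ = 1 := by
      rw [map_commutatorElement, hx, commutatorElement_one_right]
    have h2 := hZ _ (h.comm_mem y x) h1
    exact commutatorElement_eq_one_iff_mul_comm.mp h2
  exact hZ x hxc hx

/-- equivariance criterion -/
theorem equivariant {u : D} (hu : u ∉ Subgroup.center D) (hnu : nu α u = 1)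
    {P : Type*} [Group P] (f : D →* P) (β : P →* P)
    (hβ : ∀ i < 4, β (f (us α u i)) = f (us α u (i + 1)))
    (hβ1 : β (f ⁅us α u 1, us α u 0⁆) = f ⁅us α u 1, us α u 0⁆)
    (hβ2 : β (f ⁅us α u 2, us α u 0⁆) = f ⁅us α u 2, us α u 0⁆) (d : D) :
    f (α d) = β (f d) := by
  have h1 : f.comp α.toMonoidHom = β.comp f := by
    apply MonoidHom.eq_of_eqOn_dense (h.orbit_top hu hnu)
    rintro x (hx | ⟨i, hi, rfl⟩)
    · change f (α x) = β (f x)
      rw [h.center_fixed hx]
      rcases h.center_cases hu hnu hx with rfl | rfl | rfl | rfl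
      · rw [map_one, map_one]
      · exact hβ1.symm
      · exact hβ2.symm
      · rw [map_mul, map_mul, hβ1, hβ2]
    · change f (α (us α u i)) = β (f (us α u i))
      rw [← us_succ, hβ i hi]
  exact DFunLike.congr_fun h1 d

end Hyp

end Cfsg.Agent.Lib.Helper72.Sp64
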