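import Mathlib
import Cfsg.Agent.Lib.Helper72.Sp64Hom
import Cfsg.Agent.Lib.Helper72.Sp64Model

/-!
A group of order `64` satisfying `Sp64.Hyp` is equivariantly isomorphic to the Sylow `2`-subgroup
model of `U₃(4)` with its scaling automorphism of order `5`.
-/

set_option autoImplicit false
set_option linter.unusedSectionVars false

open scoped commutatorElement

namespace Cfsg.Agent.Lib.Helper72.Sp64

open Cfsg.Agent.Lib.Helper72.U3q Cfsg.Agent.Lib.Helper72.Sp64M

variable {F : Type*} [Field F] [Fintype F]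

theorem exists_equiv {D : Type*} [Group D] [Finite D] {α : MulAut D} (h : Hyp α)
    (I : Inv2 F 2) (ζu : Fˣ) (hζ : (ζu : F) ^ 4 + (ζu : F) ^ 3 + (ζu : F) ^ 2 + (ζu : F) + 1 = 0) :
    ∃ e : D ≃* Model I, ∀ d, e (α d) = Model.scale ζu (e d) := by
  obtain ⟨u, hu, hnu⟩ := h.exists_u
  obtain ⟨f, hf⟩ := h.exists_hom hu hnu (mm I (ζu : F) hζ) (z1 I (ζu : F) hζ) (z2 I (ζu : F) hζ)
    (z1_central I _ hζ) (z2_central I _ hζ) (z1_sq I _ hζ) (z2_sq I _ hζ)
    (fun k _ => mm_sq I _ hζ k) (c10 I _ hζ) (c20 I _ hζ) (c21 I _ hζ) (c30 I _ hζ)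
    (c31 I _ hζ) (c32 I _ hζ)
  have hf1 : f ⁅us α u 1, us α u 0⁆ = z1 I (ζu : F) hζ := by
    rw [map_commutatorElement, hf 1 (by norm_num), hf 0 (by norm_num), c10]
  have hf2 : f ⁅us α u 2, us α u 0⁆ = z2 I (ζu : F) hζ := by
    rw [map_commutatorElement, hf 2 (by norm_num), hf 0 (by norm_num), c20]
  have hinj : Function.Injective f := by
    apply h.injective_of hu hnu f
    · rw [hf1]; exact z1_ne_one I _ hζ
    · rw [hf2]; exact z2_ne_one I _ hζ
    · rw [hf1, hf2]; exact z1_ne_z2 I _ hζ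
  have hbij : Function.Bijective f := by
    apply hinj.bijective_of_nat_card_le
    rw [Model.card_model, h.card]; norm_num
  have hf4 : f (us α u 4) = mm I (ζu : F) hζ 4 := by
    rw [us_four α hnu, map_inv, map_mul, map_mul, map_mul, hf 0 (by norm_num), hf 1 (by norm_num),
      hf 2 (by norm_num), hf 3 (by norm_num), mm_four]
  refine ⟨MulEquiv.ofBijective f hbij, ?_⟩
  intro d
  change f (α d) = (Model.scale ζu).toMonoidHom (f d)
  apply h.equivariant hu hnu f (Model.scale ζu).toMonoidHom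
  · intro i hi
    change Model.scale ζu (f (us α u i)) = _
    rw [hf i hi, Model.scale_apply, scaleFun_mm]
    by_cases h3 : i + 1 < 4
    · rw [hf (i + 1) h3]
    · have h4 : i + 1 = 4 := by omega
      rw [h4, hf4]
  · change Model.scale ζu (f _) = _
    rw [hf1, Model.scale_apply]
    exact scaleFun_cen I _ hζ _
  · change Model.scale ζu (f _) = _
    rw [hf2, Model.scale_apply]
    exact scaleFun_cen I _ hζ _

end Cfsg.Agent.Lib.Helper72.Sp64
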