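import Mathlib
import Cfsg.Agent.Lib.Helper72.U3qCenter
import Cfsg.Agent.Lib.Helper72.Sp64Model

/-!
The centralizer of a central involution of a Sylow `2`-subgroup in `SU₃(4)`.
-/

set_option autoImplicit false
set_option linter.unusedSectionVars false

namespace Cfsg.Agent.Lib.Helper72.Sp64SU

open Cfsg.Agent.Lib.Helper72.U3q Cfsg.Agent.Lib.Helper72.Sp64M Matrix

variable {F : Type*} [Field F] [Fintype F]

/-- the diagonal matrix `diag(t², t², t)` -/
def dmat (t : F) : Matrix (Fin 3) (Fin 3) F := !![t ^ 2, 0, 0; 0, t ^ 2, 0; 0, 0, t]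

theorem dmat_det (t : F) (ht : t ^ 5 = 1) : (dmat t).det = 1 := by
  rw [Matrix.det_fin_three]
  simp [dmat]
  linear_combination ht

theorem dmat_mul (s t : F) : dmat (s * t) = dmat s * dmat t := by
  ext i j
  fin_cases i <;> fin_cases j <;> simp [dmat, Matrix.mul_apply, Fin.sum_univ_three] <;> ring

theorem dmat_one : dmat (1 : F) = 1 := by
  ext i j
  fin_cases i <;> fin_cases j <;> simp [dmat]

theorem dmat_mulVec (t : F) (u : Fin 3 → F) :
    dmat t *ᵥ u = ![t ^ 2 * u 0, t ^ 2 * u 1, t * u 2] := by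
  ext i
  fin_cases i <;> simp [dmat, Matrix.mulVec, dotProduct, Fin.sum_univ_three]

variable (I : Inv2 F 2)
include I

theorem dmat_herm (t : F) (ht : t ^ 5 = 1) (u v : Fin 3 → F) :
    Cfsg.hermForm 3 F (2 ^ 2) (dmat t *ᵥ u) (dmat t *ᵥ v) = Cfsg.hermForm 3 F (2 ^ 2) u v := by
  rw [herm3 I, herm3 I, dmat_mulVec, dmat_mulVec]
  simp only [Matrix.cons_val_zero, Matrix.cons_val_one, Matrix.cons_val_two, Matrix.head_cons,
    Matrix.tail_cons, phi_eq]
  linear_combination ((t ^ 5 + 1) * (u 0 * (v 0) ^ 4 + u 1 * (v 1) ^ 4) + u 2 * (v 2) ^ 4) * ht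

/-- the diagonal element of `SU₃(4)` -/
noncomputable def dSU (t : F) (ht : t ^ 5 = 1) : Cfsg.SU 3 F (2 ^ 2) :=
  ⟨⟨dmat t, dmat_det t ht⟩, (Cfsg.Agent.Lib.Helper08.mem_SU_iff _).mpr (dmat_herm I t ht)⟩

theorem dSU_mul (s t : F) (hs : s ^ 5 = 1) (ht : t ^ 5 = 1) :
    dSU I (s * t) (by rw [mul_pow, hs, ht, one_mul]) = dSU I s hs * dSU I t ht := by
  apply Subtype.ext
  apply Subtype.ext
  exact dmat_mul s t

theorem dSU_one : dSU I (1 : F) (one_pow 5) = 1 := by
  apply Subtype.ext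
  apply Subtype.ext
  exact dmat_one

theorem dSU_eq_one_iff (t : F) (ht : t ^ 5 = 1) : dSU I t ht = 1 ↔ t = 1 := by
  constructor
  · intro h
    have h1 : dmat t = 1 := congrArg (fun g : Cfsg.SU 3 F (2 ^ 2) =>
      ((g : Matrix.SpecialLinearGroup (Fin 3) F) : Matrix (Fin 3) (Fin 3) F)) h
    have h2 := congrFun (congrFun h1 2) 2
    simpa [dmat] using h2
  · intro h
    subst h
    exact dSU_one I

theorem dmat_qmat (t a b : F) (ht : t ^ 5 = 1) :
    dmat t * qmat I a b = qmat I (t * a) b * dmat t := by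
  ext i j
  fin_cases i <;> fin_cases j <;>
    simp [dmat, qmat, Matrix.mul_apply, Fin.sum_univ_three, phi_eq] <;>
    first
    | ring1
    | linear_combination (-(t * a ^ 4)) * ht

theorem qmat_dmat (a b t : F) : qmat I a b * dmat t =
    !![(1 + b) * t ^ 2, b * t ^ 2, a * t; b * t ^ 2, (1 + b) * t ^ 2, a * t;
      I.φ a * t ^ 2, I.φ a * t ^ 2, t] := by
  ext i j
  fin_cases i <;> fin_cases j <;>
    simp [dmat, qmat, Matrix.mul_apply, Fin.sum_univ_three]

theorem dSU_toSU (t : F) (ht : t ^ 5 = 1) (x : Model I) :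
    dSU I t ht * toSU I x = toSU I (Model.scaleFun t x) * dSU I t ht := by
  apply Subtype.ext
  apply Subtype.ext
  change dmat t * qmat I x.1.1 x.1.2 = qmat I (t * x.1.1) (t * I.φ t * x.1.2) * dmat t
  have h1 : t * I.φ t = 1 := by rw [phi_eq]; linear_combination ht
  rw [h1, one_mul]
  exact dmat_qmat I t _ _ ht

/-- the algebra behind the centralizer computation -/
theorem key_algebra (x r y z w : F)
    (h00 : x * I.φ x + r * I.φ r + z * I.φ z = 1)
    (h01 : x * I.φ r + r * I.φ x + z * I.φ z = 0)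
    (h02 : x * I.φ y + r * I.φ y + z * I.φ w = 0)
    (h22 : y * I.φ y + y * I.φ y + w * I.φ w = 1)
    (hdet : (x + r) ^ 2 * w = 1) :
    w ^ 5 = 1 ∧ x = (1 + r * w ^ 3) * w ^ 2 ∧ r = (r * w ^ 3) * w ^ 2 ∧ y = (y * I.φ w) * w ∧
      z = I.φ (y * I.φ w) * w ^ 2 ∧
      I.φ (r * w ^ 3) + r * w ^ 3 = (y * I.φ w) * I.φ (y * I.φ w) := by
  have hw : w * I.φ w = 1 := by linear_combination h22 - (y * I.φ y) * I.two
  have hw5 : w ^ 5 = 1 := by
    have := hw
    rw [phi_eq] at this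
    linear_combination this
  have ha : (x + r) * I.φ (x + r) = 1 := by
    rw [map_add]
    linear_combination h00 + h01 - (z * I.φ z) * I.two
  have ha5 : (x + r) ^ 5 = 1 := by
    have := ha
    rw [phi_eq] at this
    linear_combination this
  have haw : x + r = w ^ 2 := by
    linear_combination w ^ 2 * ((x + r) ^ 4 * w ^ 2 + (x + r) ^ 2 * w + 1) * hdet -
      w ^ 2 * (x + r) * w ^ 3 * ha5 - (x + r) * hw5
  have hW3 : (I.φ w) ^ 3 = w ^ 2 := by
    rw [phi_eq]; linear_combination w ^ 2 * (w ^ 5 + 1) * hw5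
  have hW2 : (I.φ w) ^ 2 = w ^ 3 := by
    rw [phi_eq]; linear_combination w ^ 3 * hw5
  have hz : z = w ^ 3 * I.φ y := by
    linear_combination w * h02 - w * I.φ y * haw - z * hw - (w ^ 3 * I.φ y) * I.two
  have hφz : I.φ z = w ^ 2 * y := by
    rw [hz, map_mul, map_pow, I.invol, hW3]
  have hzz : z * I.φ z = y * I.φ y := by
    rw [hφz]
    linear_combination (w ^ 2 * y) * hz + (y * I.φ y) * hw5
  have hφa : I.φ x + I.φ r = w ^ 3 := by
    have := congrArg I.φ haw
    rw [map_add, map_pow, hW2] at this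
    exact this
  have hxr : w ^ 2 * I.φ r + r * w ^ 3 = y * I.φ y := by
    linear_combination h01 - hzz - (y * I.φ y) * I.two + (r * I.φ r) * I.two - I.φ r * haw -
      r * hφa
  refine ⟨hw5, ?_, ?_, ?_, ?_, ?_⟩
  · linear_combination haw - r * hw5 - r * I.two
  · linear_combination (-r) * hw5
  · linear_combination (-y) * hw
  · rw [map_mul, I.invol]
    linear_combination hz
  · rw [map_mul, map_pow, map_mul, I.invol, hW3]
    linear_combination hxr - (y * I.φ y) * hw

theorem col_rel (g : Cfsg.SU 3 F (2 ^ 2)) (i j : Fin 3) :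
    ((g : Matrix.SpecialLinearGroup (Fin 3) F) : Matrix (Fin 3) (Fin 3) F) 0 i *
        I.φ (((g : Matrix.SpecialLinearGroup (Fin 3) F) : Matrix (Fin 3) (Fin 3) F) 0 j) +
      ((g : Matrix.SpecialLinearGroup (Fin 3) F) : Matrix (Fin 3) (Fin 3) F) 1 i *
        I.φ (((g : Matrix.SpecialLinearGroup (Fin 3) F) : Matrix (Fin 3) (Fin 3) F) 1 j) +
      ((g : Matrix.SpecialLinearGroup (Fin 3) F) : Matrix (Fin 3) (Fin 3) F) 2 i *
        I.φ (((g : Matrix.SpecialLinearGroup (Fin 3) F) : Matrix (Fin 3) (Fin 3) F) 2 j) =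
      if i = j then 1 else 0 := by
  have h := (Cfsg.Agent.Lib.Helper08.mem_SU_iff g.1).mp g.2 (Pi.single i 1) (Pi.single j 1)
  rw [herm3 I, herm3 I] at h
  simp only [Matrix.mulVec_single_one] at h
  refine Eq.trans h ?_
  fin_cases i <;> fin_cases j <;> simp

/-- the central involution `(0, 1)` of the model, inside `SU₃(4)` -/
noncomputable def T0 : Cfsg.SU 3 F (2 ^ 2) := toSU I (Model.cen 1 (map_one _))

theorem T0_mat : ((T0 I : Matrix.SpecialLinearGroup (Fin 3) F) : Matrix (Fin 3) (Fin 3) F) =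
    !![0, 1, 0; 1, 0, 0; 0, 0, 1] := by
  change qmat I 0 1 = _
  have h11 : (1 : F) + 1 = 0 := by rw [one_add_one_eq_two]; exact I.two
  ext i j
  fin_cases i <;> fin_cases j <;> simp [qmat, h11]

/-- every element of `SU₃(4)` commuting with `T0` is a product of an element of the Sylow
`2`-subgroup and a diagonal element -/
theorem centralizer_decomp (g : Cfsg.SU 3 F (2 ^ 2)) (hg : g * T0 I = T0 I * g) :
    ∃ (y' : Model I) (t : F) (ht : t ^ 5 = 1), g = toSU I y' * dSU I t ht := by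
  have hcomm : ((g : Matrix.SpecialLinearGroup (Fin 3) F) : Matrix (Fin 3) (Fin 3) F) *
      !![0, 1, 0; 1, 0, 0; 0, 0, 1] = !![0, 1, 0; 1, 0, 0; 0, 0, 1] *
      ((g : Matrix.SpecialLinearGroup (Fin 3) F) : Matrix (Fin 3) (Fin 3) F) := by
    rw [← T0_mat I]
    exact congrArg (fun g : Cfsg.SU 3 F (2 ^ 2) =>
      ((g : Matrix.SpecialLinearGroup (Fin 3) F) : Matrix (Fin 3) (Fin 3) F)) hg
  have hdetM : ((g : Matrix.SpecialLinearGroup (Fin 3) F) : Matrix (Fin 3) (Fin 3) F).det = 1 :=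
    g.1.2
  have c00 := col_rel I g 0 0
  have c01 := col_rel I g 0 1
  have c02 := col_rel I g 0 2
  have c22 := col_rel I g 2 2
  rw [if_pos rfl] at c00 c22
  rw [if_neg (by decide)] at c01 c02
  set M := ((g : Matrix.SpecialLinearGroup (Fin 3) F) : Matrix (Fin 3) (Fin 3) F) with hM
  have e10 : M 1 0 = M 0 1 := by
    have := congrFun (congrFun hcomm 0) 0
    simp [Matrix.mul_apply, Fin.sum_univ_three] at this
    exact this.symm
  have e11 : M 1 1 = M 0 0 := by
    have := congrFun (congrFun hcomm 0) 1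
    simp [Matrix.mul_apply, Fin.sum_univ_three] at this
    exact this.symm
  have e12 : M 1 2 = M 0 2 := by
    have := congrFun (congrFun hcomm 0) 2
    simp [Matrix.mul_apply, Fin.sum_univ_three] at this
    exact this.symm
  have e21 : M 2 1 = M 2 0 := by
    have := congrFun (congrFun hcomm 2) 0
    simp [Matrix.mul_apply, Fin.sum_univ_three] at this
    exact this
  rw [Matrix.det_fin_three] at hdetM
  simp only [e10, e11, e12, e21] at c00 c01 c02 c22 hdetM
  have hdet : (M 0 0 + M 0 1) ^ 2 * M 2 2 = 1 := by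
    linear_combination hdetM + (M 0 0 * M 0 1 * M 2 2 + M 0 1 ^ 2 * M 2 2 + M 0 0 * M 0 2 * M 2 0 -
      M 0 1 * M 0 2 * M 2 0) * I.two
  obtain ⟨hw5, E00, E01, E02, E20, E2⟩ :=
    key_algebra I (M 0 0) (M 0 1) (M 0 2) (M 2 0) (M 2 2) c00 c01 c02 c22 hdet
  refine ⟨⟨(M 0 2 * I.φ (M 2 2), M 0 1 * M 2 2 ^ 3), E2⟩, M 2 2, hw5, ?_⟩
  apply Subtype.ext
  apply Subtype.ext
  change M = qmat I (M 0 2 * I.φ (M 2 2)) (M 0 1 * M 2 2 ^ 3) * dmat (M 2 2)
  rw [qmat_dmat]
  ext i j
  fin_cases i <;> fin_cases j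
  · exact E00
  · exact E01
  · exact E02
  · exact e10.trans E01
  · exact e11.trans E00
  · exact e12.trans E02
  · exact E20
  · exact e21.trans E20
  · rfl

theorem dSU_pow (t : F) (ht : t ^ 5 = 1) (k : ℕ) :
    (dSU I t ht) ^ k = dSU I (t ^ k) (by rw [← pow_mul, mul_comm, pow_mul, ht, one_pow]) := by
  induction k with
  | zero =>
    rw [pow_zero]
    symm
    rw [dSU_eq_one_iff, pow_zero]
  | succ k ih =>
    rw [pow_succ (dSU I t ht) k, ih, ← dSU_mul]
    apply Subtype.ext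
    apply Subtype.ext
    change dmat (t ^ k * t) = dmat (t ^ (k + 1))
    rw [pow_succ t k]

theorem dSU_pow_five (t : F) (ht : t ^ 5 = 1) : (dSU I t ht) ^ 5 = 1 := by
  rw [dSU_pow, dSU_eq_one_iff, ht]

theorem scaleFun_cen' (t : F) (ht : t ^ 5 = 1) {s : F} (hs : I.φ s = s) :
    Model.scaleFun t (Model.cen (I := I) s hs) = Model.cen s hs := by
  have h1 : t * I.φ t = 1 := by rw [phi_eq]; linear_combination ht
  apply Model.ext
  · rw [Model.scaleFun_fst, Model.cen_fst, mul_zero]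
  · rw [Model.scaleFun_snd, Model.cen_snd, h1, one_mul]

theorem T0_comm_toSU (y : Model I) : toSU I y * T0 I = T0 I * toSU I y := by
  unfold T0
  rw [← map_mul, ← map_mul, cen_central]

theorem T0_comm_dSU (t : F) (ht : t ^ 5 = 1) : dSU I t ht * T0 I = T0 I * dSU I t ht := by
  unfold T0
  rw [dSU_toSU, scaleFun_cen' I t ht]

theorem T0_sq : T0 I * T0 I = 1 := by
  unfold T0
  rw [← map_mul, Model.cen_mul_self, map_one]

theorem T0_ne_one : T0 I ≠ 1 := by
  unfold T0
  intro h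
  have h1 : Model.cen (I := I) 1 (map_one _) = 1 := by
    apply toSU_injective I
    rw [h, map_one]
  rw [cen_eq_one_iff] at h1
  exact one_ne_zero h1

end Cfsg.Agent.Lib.Helper72.Sp64SU
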