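import Mathlib
import Cfsg.Agent.Lib.Helper72.Sp64SU

/-!
The homomorphism from a semidirect product `N ⋊ K` (with `N` isomorphic to the Sylow `2`-subgroup
model of `U₃(4)` and `K` cyclic of order `5` acting by scaling) into `SU₃(4)`: it is injective
with image the centralizer of the central involution.
-/

set_option autoImplicit false
set_option linter.unusedSectionVars false

namespace Cfsg.Agent.Lib.Helper72.Sp64L

open Cfsg.Agent.Lib.Helper72.U3q Cfsg.Agent.Lib.Helper72.Sp64M Cfsg.Agent.Lib.Helper72.Sp64SU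

variable {F : Type*} [Field F] [Fintype F] (I : Inv2 F 2) {ζ : F} (h5 : ζ ^ 5 = 1)
  (hordζ : orderOf ζ = 5)
  {N K : Type*} [Group N] [Group K] (φ : K →* MulAut N) (e : N ≃* Model I)
  (fg : K →* Cfsg.SU 3 F (2 ^ 2))
  (gen : K) (hgen : ∀ g : K, ∃ k : ℕ, g = gen ^ k) (hgen5 : gen ^ 5 = 1)
  (hfg : fg gen = dSU I ζ h5)
  (cond : ∀ g, ((toSU I).comp e.toMonoidHom).comp (φ g).toMonoidHom =
    (MulAut.conj (fg g)).toMonoidHom.comp ((toSU I).comp e.toMonoidHom))
include hordζ hgen hgen5 hfg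

theorem fg_pow (k : ℕ) : fg (gen ^ k) = dSU I (ζ ^ k)
    (by rw [← pow_mul, mul_comm, pow_mul, h5, one_pow]) := by
  rw [map_pow, hfg, dSU_pow]

theorem fg_injective : ∀ g : K, fg g = 1 → g = 1 := by
  intro g hg
  obtain ⟨k, rfl⟩ := hgen g
  rw [fg_pow I h5 hordζ fg gen hgen hgen5 hfg, dSU_eq_one_iff] at hg
  have h1 : 5 ∣ k := by
    rw [← hordζ]; exact orderOf_dvd_of_pow_eq_one hg
  obtain ⟨j, rfl⟩ := h1
  rw [pow_mul, hgen5, one_pow]

theorem lift_injective :
    Function.Injective (SemidirectProduct.lift ((toSU I).comp e.toMonoidHom) fg cond) := by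
  rw [injective_iff_map_eq_one]
  intro p hp
  have h1 : toSU I (e p.left) * fg p.right = 1 := hp
  have ha : (toSU I (e p.left)) ^ 64 = 1 := by
    rw [← map_pow]
    have : (e p.left) ^ 64 = 1 := by
      have h2 : Nat.card (Model I) = 64 := by rw [Model.card_model]; norm_num
      rw [← h2]; exact pow_card_eq_one'
    rw [this, map_one]
  have hb : (fg p.right) ^ 5 = 1 := by
    obtain ⟨k, hk⟩ := hgen p.right
    rw [← map_pow, hk, ← pow_mul, mul_comm, pow_mul, hgen5, one_pow, map_one]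
  have hb' : fg p.right = (toSU I (e p.left))⁻¹ := eq_inv_of_mul_eq_one_right h1
  have hb64 : (fg p.right) ^ 64 = 1 := by rw [hb', inv_pow, ha, inv_one]
  have hb65 : (fg p.right) ^ 65 = 1 := by
    have : (65 : ℕ) = 5 * 13 := by norm_num
    rw [this, pow_mul, hb, one_pow]
  have hb1 : fg p.right = 1 := by
    have : fg p.right = (fg p.right) ^ 65 * ((fg p.right) ^ 64)⁻¹ := by
      rw [pow_succ (fg p.right) 64]; group
    rw [this, hb64, hb65, inv_one, mul_one]
  have ha1 : toSU I (e p.left) = 1 := by rw [hb1, mul_one] at h1; exact h1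
  have hl : p.left = 1 := by
    have h2 : e p.left = 1 := by
      apply toSU_injective I
      rw [ha1, map_one]
    exact (MulEquiv.map_eq_one_iff e).mp h2
  have hr : p.right = 1 := fg_injective I h5 hordζ fg gen hgen hgen5 hfg _ hb1
  ext
  · exact hl
  · exact hr

theorem lift_range :
    (SemidirectProduct.lift ((toSU I).comp e.toMonoidHom) fg cond).range =
      Subgroup.centralizer {T0 I} := by
  ext g
  rw [Subgroup.mem_centralizer_iff, MonoidHom.mem_range]
  constructor
  · rintro ⟨p, rfl⟩ t ht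
    rw [Set.mem_singleton_iff] at ht
    subst ht
    change T0 I * (toSU I (e p.left) * fg p.right) = (toSU I (e p.left) * fg p.right) * T0 I
    obtain ⟨k, hk⟩ := hgen p.right
    rw [hk, fg_pow I h5 hordζ fg gen hgen hgen5 hfg, mul_assoc, T0_comm_dSU, ← mul_assoc,
      ← mul_assoc, T0_comm_toSU]
  · intro hg
    have h1 : g * T0 I = T0 I * g := (hg (T0 I) rfl).symm
    obtain ⟨y', t, ht, rfl⟩ := centralizer_decomp I g h1
    have hprim : IsPrimitiveRoot ζ 5 := by
      rw [← hordζ]; exact IsPrimitiveRoot.orderOf ζ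
    obtain ⟨i, -, hi⟩ := hprim.eq_pow_of_pow_eq_one ht
    refine ⟨⟨e.symm y', gen ^ i⟩, ?_⟩
    change toSU I (e (e.symm y')) * fg (gen ^ i) = _
    rw [MulEquiv.apply_symm_apply, fg_pow I h5 hordζ fg gen hgen hgen5 hfg]
    congr 1
    apply Subtype.ext
    apply Subtype.ext
    change dmat (ζ ^ i) = dmat t
    rw [hi]

end Cfsg.Agent.Lib.Helper72.Sp64L
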