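import Mathlib
import Cfsg.Agent.Lib.Helper72.Sp64Iso
import Cfsg.Agent.Lib.Helper72.Sp64SU
import Cfsg.Agent.Lib.Helper72.Sp64Group
import Cfsg.Agent.Lib.Helper72.Sp64Lift

/-!
A group of order `320` whose derived subgroup has order `64` and Klein four centre is the
centralizer of an involution of `PSU₃(4)`.
-/

set_option autoImplicit false
set_option linter.unusedSectionVars false
set_option maxHeartbeats 1000000

namespace Cfsg.Agent.Lib.Helper72.Sp64F

open Cfsg.Agent.Lib.Helper72.U3q Cfsg.Agent.Lib.Helper72.Sp64M Cfsg.Agent.Lib.Helper72.Sp64SU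
  Cfsg.Agent.Lib.Helper72.Sp64G

theorem center_SU_eq_bot {F : Type*} [Field F] [Fintype F] (I : Inv2 F 2) :
    Subgroup.center (Cfsg.SU 3 F (2 ^ 2)) = ⊥ := by
  have hc : Nat.card (Subgroup.center (Cfsg.SU 3 F (2 ^ 2))) = Nat.gcd 3 (2 ^ 2 + 1) :=
    Cfsg.Agent.S0279.result I.card 3 le_rfl
  have h1 : Nat.gcd 3 (2 ^ 2 + 1) = 1 := by norm_num
  rw [h1] at hc
  exact Subgroup.card_eq_one.mp hc

theorem main {G : Type*} [Group G] [Finite G] (hG : Nat.card G = 320)
    (hD : Nat.card (commutator G) = 64)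
    (hZ : IsKleinFour (Subgroup.center (commutator G)))
    {F : Type*} [Field F] [Fintype F] (hF : Fintype.card F = 16) :
    ∃ t : Cfsg.PSU 3 F (2 ^ 2), orderOf t = 2 ∧
      Nonempty (G ≃* Subgroup.centralizer ({t} : Set (Cfsg.PSU 3 F (2 ^ 2)))) := by
  classical
  have hF' : Fintype.card F = (2 ^ 2) ^ 2 := by rw [hF]; norm_num
  let I : Inv2 F 2 := Inv2.ofCard hF'
  obtain ⟨ζ, hζ⟩ := exists_zeta hF
  have h5 : ζ ^ 5 = 1 := zeta_pow_five I ζ hζ
  have hζ0 : ζ ≠ 0 := by
    rintro rfl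
    norm_num at h5
  have hζ1 : ζ ≠ 1 := by
    rintro rfl
    have h1 : (1 : F) = 0 := by linear_combination hζ - 2 * I.two
    exact one_ne_zero h1
  have : Fact (Nat.Prime 5) := ⟨by norm_num⟩
  have hordζ : orderOf ζ = 5 := orderOf_eq_prime h5 hζ1
  obtain ⟨x, hx, hc⟩ := exists_order_five hG hD
  have hyp := hyp_of hD hZ x hx hc
  obtain ⟨e, he⟩ := Sp64.exists_equiv hyp I (Units.mk0 ζ hζ0) hζ
  have he' : ∀ d, e (conjAct (commutator G) (Subgroup.zpowers x) ⟨x, Subgroup.mem_zpowers x⟩ d) =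
      Model.scaleFun ζ (e d) := he
  -- the two homomorphisms
  have hgenK : ∀ y : ↥(Subgroup.zpowers x),
      y ∈ Subgroup.zpowers (⟨x, Subgroup.mem_zpowers x⟩ : ↥(Subgroup.zpowers x)) := by
    intro y
    obtain ⟨k, hk⟩ := zpowers_gen x y
    rw [hk]
    exact Subgroup.pow_mem _ (Subgroup.mem_zpowers _) k
  have hordgen : orderOf (⟨x, Subgroup.mem_zpowers x⟩ : ↥(Subgroup.zpowers x)) = 5 := by
    rw [Subgroup.orderOf_mk, hx]
  have hord : orderOf (dSU I ζ h5) ∣
      orderOf (⟨x, Subgroup.mem_zpowers x⟩ : ↥(Subgroup.zpowers x)) := by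
    rw [hordgen]
    exact orderOf_dvd_of_pow_eq_one (dSU_pow_five I ζ h5)
  have hfg : monoidHomOfForallMemZpowers hgenK hord ⟨x, Subgroup.mem_zpowers x⟩ = dSU I ζ h5 :=
    monoidHomOfForallMemZpowers_apply_gen hgenK hord
  have cond := cond_of_gen (conjAct (commutator G) (Subgroup.zpowers x))
    ((toSU I).comp e.toMonoidHom) (monoidHomOfForallMemZpowers hgenK hord)
    ⟨x, Subgroup.mem_zpowers x⟩ (zpowers_gen x) (by
      intro n
      rw [hfg]
      change toSU I (e (conjAct (commutator G) (Subgroup.zpowers x) _ n)) =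
        dSU I ζ h5 * toSU I (e n) * (dSU I ζ h5)⁻¹
      rw [he', eq_mul_inv_iff_mul_eq, dSU_toSU])
  have hgen5 : (⟨x, Subgroup.mem_zpowers x⟩ : ↥(Subgroup.zpowers x)) ^ 5 = 1 := by
    rw [← hordgen]; exact pow_orderOf_eq_one _
  have hinj := Sp64L.lift_injective I h5 hordζ (conjAct (commutator G) (Subgroup.zpowers x)) e
    (monoidHomOfForallMemZpowers hgenK hord) ⟨x, Subgroup.mem_zpowers x⟩ (zpowers_gen x) hgen5
    hfg cond
  have hrange := Sp64L.lift_range I h5 hordζ (conjAct (commutator G) (Subgroup.zpowers x)) e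
    (monoidHomOfForallMemZpowers hgenK hord) ⟨x, Subgroup.mem_zpowers x⟩ (zpowers_gen x) hgen5
    hfg cond
  generalize SemidirectProduct.lift ((toSU I).comp e.toMonoidHom)
    (monoidHomOfForallMemZpowers hgenK hord) cond = Ψ at hinj hrange
  -- pass to the projective group
  have hcen := center_SU_eq_bot I
  have hπinj : Function.Injective
      (QuotientGroup.mk' (Subgroup.center (Cfsg.SU 3 F (2 ^ 2)))) := by
    rw [← MonoidHom.ker_eq_bot_iff, QuotientGroup.ker_mk', hcen]
  refine ⟨QuotientGroup.mk' (Subgroup.center (Cfsg.SU 3 F (2 ^ 2))) (T0 I), ?_, ?_⟩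
  · have : Fact (Nat.Prime 2) := ⟨Nat.prime_two⟩
    apply orderOf_eq_prime
    · rw [← map_pow, pow_two (T0 I), T0_sq, map_one]
    · intro h
      apply T0_ne_one I
      apply hπinj
      rw [h, map_one]
  · have hinj' : Function.Injective
        ((QuotientGroup.mk' (Subgroup.center (Cfsg.SU 3 F (2 ^ 2)))).comp Ψ) :=
      hπinj.comp hinj
    have hr : ((QuotientGroup.mk' (Subgroup.center (Cfsg.SU 3 F (2 ^ 2)))).comp Ψ).range =
        Subgroup.centralizer
          {QuotientGroup.mk' (Subgroup.center (Cfsg.SU 3 F (2 ^ 2))) (T0 I)} := by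
      ext y
      rw [Subgroup.mem_centralizer_iff, MonoidHom.mem_range]
      constructor
      · rintro ⟨p, rfl⟩ t ht
        rw [Set.mem_singleton_iff] at ht
        subst ht
        have h1 : Ψ p ∈ Subgroup.centralizer {T0 I} := by
          rw [← hrange]; exact ⟨p, rfl⟩
        have h2 := (Subgroup.mem_centralizer_iff.mp h1) (T0 I) rfl
        rw [MonoidHom.comp_apply, ← map_mul, ← map_mul, h2]
      · intro hy
        obtain ⟨g, rfl⟩ := QuotientGroup.mk'_surjective _ y
        have h1 := hy _ rfl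
        rw [← map_mul, ← map_mul] at h1
        have h2 := hπinj h1
        have h3 : g ∈ Ψ.range := by
          rw [hrange, Subgroup.mem_centralizer_iff]
          intro t ht
          rw [Set.mem_singleton_iff] at ht
          subst ht
          exact h2
        obtain ⟨p, hp⟩ := h3
        exact ⟨p, by rw [MonoidHom.comp_apply, hp]⟩
    exact ⟨(semiEquiv _ _ hc).symm.trans
      ((MonoidHom.ofInjective hinj').trans (MulEquiv.subgroupCongr hr))⟩

end Cfsg.Agent.Lib.Helper72.Sp64F
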