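import Mathlib

/-!
# K-SpU2 pack (S2676, architect helper72): shared definitions

Pairs `(B, n)`: `B` a nondegenerate alternating bilinear form on `V`, `n` a nilpotent endomorphism, skew for `B`
(the Cayley transform of a unipotent isometry).  Their isometry classes are described by the kernel dimensions of
the powers of `n` and, for every even `k`, the discriminant of the symmetric form `(u, v) ↦ B u (n^(k-1) v)` on
`ker n^k` modulo its radical.
-/

set_option autoImplicit false

namespace Cfsg.Agent.Lib.Helper72.SpU2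

open Module

variable {F : Type*} [Field F] {V : Type*} [AddCommGroup V] [Module F V]
  {V' : Type*} [AddCommGroup V'] [Module F V']

/-- `B` alternating nondegenerate, `n` nilpotent and skew for `B` -/
structure IsSkewPair (B : LinearMap.BilinForm F V) (n : V →ₗ[F] V) : Prop where
  alt : ∀ v, B v v = 0
  nondeg : B.Nondegenerate
  skew : ∀ u v, B (n u) v = - B u (n v)
  nil : ∃ k : ℕ, n ^ k = 0

/-- `dim ker n^l` -/
noncomputable def kdim (n : V →ₗ[F] V) (l : ℕ) : ℕ := finrank F (LinearMap.ker (n ^ l))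

/-- an isometry intertwining `n` and `n'` -/
def PairIso (B : LinearMap.BilinForm F V) (n : V →ₗ[F] V) (B' : LinearMap.BilinForm F V') (n' : V' →ₗ[F] V') : Prop :=
  ∃ φ : V ≃ₗ[F] V', (∀ u v, B' (φ u) (φ v) = B u v) ∧ ∀ v, φ (n v) = n' (φ v)

/-- the radical of `(u, v) ↦ B u (n^(k-1) v)` on `ker n^k` -/
def radK (B : LinearMap.BilinForm F V) (n : V →ₗ[F] V) (k : ℕ) : Submodule F V where
  carrier := {v | (n ^ k) v = 0 ∧ ∀ u, (n ^ k) u = 0 → B u ((n ^ (k - 1)) v) = 0}
  add_mem' := by
    rintro a b ⟨ha, ha'⟩ ⟨hb, hb'⟩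
    refine ⟨by rw [map_add, ha, hb, add_zero], fun u hu => ?_⟩
    rw [map_add, map_add, ha' u hu, hb' u hu, add_zero]
  zero_mem' := ⟨map_zero _, fun u _ => by rw [map_zero, map_zero]⟩
  smul_mem' := by
    rintro c a ⟨ha, ha'⟩
    refine ⟨by rw [map_smul, ha, smul_zero], fun u hu => ?_⟩
    rw [map_smul, map_smul, ha' u hu, smul_zero]

/-- `δ` is a discriminant of the form `(u, v) ↦ B u (n^(k-1) v)` on `ker n^k` modulo its radical: an orthogonal
family `w` with nonzero norms `c` spanning `ker n^k` modulo `radK`, `δ = ∏ c` -/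
def HasDisc (B : LinearMap.BilinForm F V) (n : V →ₗ[F] V) (k : ℕ) (δ : F) : Prop :=
  ∃ (a : ℕ) (w : Fin a → V) (c : Fin a → F),
    (∀ s, (n ^ k) (w s) = 0) ∧ (∀ s, c s ≠ 0) ∧
    (∀ s t, B (w s) ((n ^ (k - 1)) (w t)) = if s = t then c s else 0) ∧
    (∀ v, (n ^ k) v = 0 → ∃ x : Fin a → F, v - ∑ s, x s • w s ∈ radK B n k) ∧
    δ = ∏ s, c s

end Cfsg.Agent.Lib.Helper72.SpU2
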