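import Mathlib
import Cfsg.Agent.S5082
import Cfsg.Agent.Lib.Helper90.FusionExt
import Cfsg.Agent.Lib.Helper03.FusEss2

/-!
A `2`-group `S` of class two in which the elements of order at most two form the centre is
normal in every saturated fusion system over it (so Suzuki `2`-groups are resistant).
-/

set_option autoImplicit false

namespace Cfsg.Agent.Lib.Helper72.SuzResist

open Cfsg Cfsg.FusionSystem Cfsg.Agent.Lib.Helper90

theorem isNormal_of_class_two {Ω : Type*} [Group Ω] {S : Subgroup Ω} [Finite S]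
    (hS : IsPGroup 2 S) (F : Cfsg.FusionSystem S) (hF : F.IsSaturated 2)
    (hinv : ∀ x : ↥S, x * x = 1 → x ∈ Subgroup.center ↥S)
    (hcsq : ∀ z ∈ Subgroup.center ↥S, z * z = 1)
    (hcl2 : ∀ x y : ↥S, x⁻¹ * y⁻¹ * x * y ∈ Subgroup.center ↥S) : F.IsNormal S := by
  have : Fact (Nat.Prime 2) := ⟨Nat.prime_two⟩
  have hess : ∀ P : Subgroup Ω, F.IsEssential 2 P → P = S := by
    intro P hP
    have hPS : P ≤ S := hP.1.1
    have hcen : centralizerIn S P ≤ P :=
      Cfsg.Agent.Lib.Helper03.FusEss.centralizerIn_le_of_isEssential F hP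
    set K : Subgroup Ω := (Subgroup.center ↥S).map S.subtype with hK
    have hmemK : ∀ y : Ω, y ∈ K ↔ ∃ hy : y ∈ S, (⟨y, hy⟩ : ↥S) ∈ Subgroup.center ↥S := by
      intro y
      constructor
      · rintro ⟨z, hz, rfl⟩
        exact ⟨z.2, hz⟩
      · rintro ⟨hy, hz⟩
        exact ⟨⟨y, hy⟩, hz, rfl⟩
    have hKS : K ≤ S := by
      intro y hy
      obtain ⟨hy', -⟩ := (hmemK y).mp hy
      exact hy'
    have hKcomm : ∀ y ∈ K, ∀ g ∈ S, g * y = y * g := by
      intro y hy g hg
      obtain ⟨hy', hz⟩ := (hmemK y).mp hy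
      have := Subgroup.mem_center_iff.mp hz ⟨g, hg⟩
      exact congrArg Subtype.val this
    have hKP : K ≤ P := by
      intro y hy
      apply hcen
      refine ⟨hKS hy, ?_⟩
      apply Subgroup.mem_centralizer_iff.mpr
      intro u hu
      exact hKcomm y hy u (hPS hu)
    have hcommK : ∀ a ∈ S, ∀ b ∈ S, a⁻¹ * b⁻¹ * a * b ∈ K := by
      intro a ha b hb
      rw [hmemK]
      refine ⟨S.mul_mem (S.mul_mem (S.mul_mem (S.inv_mem ha) (S.inv_mem hb)) ha) hb, ?_⟩
      exact hcl2 ⟨a, ha⟩ ⟨b, hb⟩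
    have hconj : ∀ g ∈ S, ∀ u ∈ P, g * u * g⁻¹ ∈ P := by
      intro g hg u hu
      have h1 : g * u * g⁻¹ = ((g⁻¹)⁻¹ * (u⁻¹)⁻¹ * g⁻¹ * u⁻¹) * u := by group
      rw [h1]
      exact P.mul_mem (hKP (hcommK _ (S.inv_mem hg) _ (S.inv_mem (hPS hu)))) hu
    have hnorm : ∀ g ∈ S, g ∈ Subgroup.normalizer (P : Set Ω) := by
      intro g hg
      apply Subgroup.mem_normalizer_iff.mpr
      intro u
      constructor
      · exact hconj g hg u
      · intro hu
        have := hconj g⁻¹ (S.inv_mem hg) _ hu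
        have h2 : g⁻¹ * (g * u * g⁻¹) * g⁻¹⁻¹ = u := by group
        rwa [h2] at this
    have hinvK : ∀ α ∈ F.autGroup P, ∀ y : P, (y : Ω) ∈ K → ((α y : P) : Ω) ∈ K := by
      intro α _ y hy
      obtain ⟨hy', hz⟩ := (hmemK _).mp hy
      have h1 : (y : Ω) * (y : Ω) = 1 := congrArg Subtype.val (hcsq _ hz)
      have h2 : y * y = 1 := Subtype.ext h1
      have h3 : α y * α y = 1 := by rw [← map_mul, h2, map_one]
      have h4 : ((α y : P) : Ω) * ((α y : P) : Ω) = 1 := congrArg Subtype.val h3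
      rw [hmemK]
      refine ⟨hPS (α y).2, ?_⟩
      apply hinv
      exact Subtype.ext h4
    apply le_antisymm hPS
    intro g hg
    apply Cfsg.Agent.Lib.Helper03.FusEss.mem_of_stab_two hS F hP K hinvK hg (hnorm g hg)
    · intro y hy _
      rw [hKcomm y hy g hg, mul_inv_cancel_right]
    · intro u hu
      have h1 : u⁻¹ * (g * u * g⁻¹) = u⁻¹ * (g⁻¹)⁻¹ * u * g⁻¹ := by group
      rw [h1]
      exact hcommK u (hPS hu) g⁻¹ (S.inv_mem hg)
  have hle : F ≤ extSystem F := by
    apply Cfsg.Agent.S5082.result 2 hS F hF (extSystem F)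
    rintro P (rfl | hP)
    · exact autGroup_top_le_extSystem F
    · have := hess P hP
      subst this
      exact autGroup_top_le_extSystem F
  exact isNormal_top_of_le_extSystem F hle

end Cfsg.Agent.Lib.Helper72.SuzResist
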