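import Mathlib

/-!
Abstract "core" description of a group of order 64 whose centre is a four-group equal to
the set of involutions, to the derived subgroup and to the set of squares-containing subgroup
(the shape of a Sylow 2-subgroup of `U₃(4)`), and its consequences.
-/

set_option autoImplicit false
open scoped commutatorElement

namespace Cfsg.Agent.Lib.Helper72.U34

/-- core properties of a Sylow 2-subgroup of `U₃(4)` relative to a subgroup `Z` (its centre) -/
structure Core (T : Type*) [Group T] (Z : Subgroup T) : Prop where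
  cardT : Nat.card T = 64
  cardZ : Nat.card Z = 4
  central : ∀ z ∈ Z, ∀ g : T, g * z = z * g
  center_le : ∀ g : T, (∀ h : T, h * g = g * h) → g ∈ Z
  sq_mem : ∀ g : T, g ^ 2 ∈ Z
  invol_mem : ∀ g : T, g ^ 2 = 1 → g ∈ Z
  sq_one : ∀ z ∈ Z, z ^ 2 = 1
  comm : ∀ z ∈ Z, ∃ g h : T, z = ⁅g, h⁆

theorem Core.transfer {T T' : Type*} [Group T] [Group T'] {Z : Subgroup T} (h : Core T Z)
    (e : T ≃* T') : Core T' (Z.map e.toMonoidHom) where
  cardT := by rw [← h.cardT]; exact (Nat.card_congr e.toEquiv).symm
  cardZ := by
    rw [← h.cardZ]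
    exact (Nat.card_congr (Z.equivMapOfInjective e.toMonoidHom e.injective).toEquiv).symm
  central := by
    rintro _ ⟨z, hz, rfl⟩ g
    obtain ⟨g, rfl⟩ := e.surjective g
    have := h.central z hz g
    change e g * e z = e z * e g
    rw [← map_mul, ← map_mul, this]
  center_le := by
    intro g hg
    obtain ⟨g, rfl⟩ := e.surjective g
    refine ⟨g, h.center_le g ?_, rfl⟩
    intro k
    apply e.injective
    rw [map_mul, map_mul]
    exact hg (e k)
  sq_mem := by
    intro g
    obtain ⟨g, rfl⟩ := e.surjective g
    exact ⟨g ^ 2, h.sq_mem g, by simp⟩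
  invol_mem := by
    intro g hg
    obtain ⟨g, rfl⟩ := e.surjective g
    refine ⟨g, h.invol_mem g ?_, rfl⟩
    apply e.injective
    rw [map_pow, map_one]
    exact hg
  sq_one := by
    rintro _ ⟨z, hz, rfl⟩
    change e z ^ 2 = 1
    rw [← map_pow, h.sq_one z hz, map_one]
  comm := by
    rintro _ ⟨z, hz, rfl⟩
    obtain ⟨g, k, hgk⟩ := h.comm z hz
    refine ⟨e g, e k, ?_⟩
    change e z = _
    rw [hgk, map_commutatorElement]

theorem Core.center_eq {T : Type*} [Group T] {Z : Subgroup T} (h : Core T Z) :
    Subgroup.center T = Z := by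
  apply le_antisymm
  · intro g hg
    exact h.center_le g (fun k => (Subgroup.mem_center_iff.mp hg k))
  · intro z hz
    rw [Subgroup.mem_center_iff]
    exact fun g => h.central z hz g

theorem Core.result {T : Type*} [Group T] {Z : Subgroup T} (h : Core T Z) :
    Nat.card T = 64 ∧ IsKleinFour (Subgroup.center T) ∧
      Subgroup.center T = Subgroup.closure {x : T | orderOf x = 2} ∧
      Subgroup.center T = commutator T ∧
      Nat.card (T ⧸ Subgroup.center T) = 16 ∧ ∀ x : T ⧸ Subgroup.center T, x ^ 2 = 1 := by
  have hc := h.center_eq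
  have hfin : Finite T := Nat.finite_of_card_ne_zero (by rw [h.cardT]; norm_num)
  refine ⟨h.cardT, ?_, ?_, ?_, ?_, ?_⟩
  · -- Klein four
    rw [hc]
    refine ⟨h.cardZ, ?_⟩
    have hdvd : Monoid.exponent Z ∣ 2 := by
      apply Monoid.exponent_dvd_of_forall_pow_eq_one
      intro z
      apply Subtype.ext
      simpa using h.sq_one z z.2
    have hne : Monoid.exponent Z ≠ 1 := by
      intro h1
      have : Subsingleton Z := Monoid.exp_eq_one_iff.mp h1
      have := Nat.card_eq_one_iff_unique.mpr ⟨this, ⟨1⟩⟩
      rw [h.cardZ] at this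
      norm_num at this
    rcases (Nat.dvd_prime Nat.prime_two).mp hdvd with h1 | h2
    · exact absurd h1 hne
    · exact h2
  · -- closure of involutions
    rw [hc]
    apply le_antisymm
    · intro z hz
      by_cases h1 : z = 1
      · rw [h1]; exact Subgroup.one_mem _
      · apply Subgroup.subset_closure
        exact orderOf_eq_prime (h.sq_one z hz) h1
    · rw [Subgroup.closure_le]
      intro x hx
      have hx' : orderOf x = 2 := hx
      apply h.invol_mem
      rw [← hx']
      exact pow_orderOf_eq_one x
  · -- commutator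
    rw [hc]
    apply le_antisymm
    · intro z hz
      obtain ⟨g, k, hgk⟩ := h.comm z hz
      rw [hgk]
      exact Subgroup.commutator_mem_commutator (Subgroup.mem_top g) (Subgroup.mem_top k)
    · have : Z.Normal := by rw [← hc]; infer_instance
      rw [commutator_def, Subgroup.commutator_le]
      intro g _ k _
      -- T/Z has exponent 2 so is abelian
      have key : ∀ x : T ⧸ Z, x * x = 1 := by
        intro x
        obtain ⟨x, rfl⟩ := QuotientGroup.mk_surjective x
        rw [← QuotientGroup.mk_mul, ← pow_two]
        exact (QuotientGroup.eq_one_iff _).mpr (h.sq_mem x)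
      have hcomm : ∀ x y : T ⧸ Z, x * y = y * x := by
        intro x y
        have hx : x⁻¹ = x := inv_eq_of_mul_eq_one_left (key x)
        have hy : y⁻¹ = y := inv_eq_of_mul_eq_one_left (key y)
        have hxy : (x * y)⁻¹ = x * y := inv_eq_of_mul_eq_one_left (key (x * y))
        rw [mul_inv_rev, hx, hy] at hxy
        exact hxy.symm
      rw [← QuotientGroup.eq_one_iff]
      rw [commutatorElement_def]
      simp only [QuotientGroup.mk_mul, QuotientGroup.mk_inv]
      rw [hcomm (g : T ⧸ Z) k]
      group
  · have h1 := Subgroup.card_eq_card_quotient_mul_card_subgroup (Subgroup.center T)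
    rw [h.cardT] at h1
    rw [hc] at h1 ⊢
    rw [h.cardZ] at h1
    omega
  · intro x
    obtain ⟨x, rfl⟩ := QuotientGroup.mk_surjective x
    rw [← QuotientGroup.mk_pow]
    refine (QuotientGroup.eq_one_iff _).mpr ?_
    rw [hc]
    exact h.sq_mem x

end Cfsg.Agent.Lib.Helper72.U34
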