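import Mathlib

/-!
Facts on a field with 16 elements: characteristic 2, the additive map `x ↦ x ^ 4 + x`,
whose kernel (the subfield with 4 elements) has 4 elements and equals its range.
-/

set_option autoImplicit false

namespace Cfsg.Agent.Lib.Helper72.U34

variable {F : Type*} [Field F] [Fintype F]

theorem two_eq_zero_of_card (hF : Fintype.card F = 16) : (2 : F) = 0 := by
  have h : ((Fintype.card F : ℕ) : F) = 0 := Nat.cast_card_eq_zero F
  rw [hF] at h
  have h' : (2 : F) ^ 4 = 0 := by
    have : ((16 : ℕ) : F) = (2 : F) ^ 4 := by norm_num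
    rw [← this]; exact h
  exact pow_eq_zero_iff (by norm_num) |>.mp h'

theorem pow16 (hF : Fintype.card F = 16) (a : F) : a ^ 16 = a := by
  have := FiniteField.pow_card a
  rwa [hF] at this

theorem add_pow4 (hF : Fintype.card F = 16) (x y : F) : (x + y) ^ 4 = x ^ 4 + y ^ 4 := by
  have h2 := two_eq_zero_of_card hF
  linear_combination (2 * x ^ 3 * y + 3 * x ^ 2 * y ^ 2 + 2 * x * y ^ 3) * h2

theorem add_self' (hF : Fintype.card F = 16) (x : F) : x + x = 0 := by
  have h2 := two_eq_zero_of_card hF
  linear_combination x * h2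

/-- the additive map `x ↦ x ^ 4 + x` -/
def tr4 (hF : Fintype.card F = 16) : F →+ F where
  toFun x := x ^ 4 + x
  map_zero' := by simp
  map_add' x y := by rw [add_pow4 hF]; ring

@[simp] theorem tr4_apply (hF : Fintype.card F = 16) (x : F) : tr4 hF x = x ^ 4 + x := rfl

theorem tr4_tr4 (hF : Fintype.card F = 16) (x : F) : tr4 hF (tr4 hF x) = 0 := by
  simp only [tr4_apply]
  rw [add_pow4 hF, ← pow_mul, pow16 hF]
  have h2 := two_eq_zero_of_card hF
  linear_combination (x ^ 4 + x) * h2

theorem range_le_ker (hF : Fintype.card F = 16) : (tr4 hF).range ≤ (tr4 hF).ker := by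
  rintro _ ⟨x, rfl⟩
  exact tr4_tr4 hF x

theorem card_ker_le (hF : Fintype.card F = 16) : Nat.card (tr4 hF).ker ≤ 4 := by
  classical
  let p : Polynomial F := Polynomial.X ^ 4 + Polynomial.X
  have hp : p ≠ 0 := by
    intro h0
    have : p.natDegree = 4 := by
      simp only [p]
      compute_degree!
    rw [h0] at this
    simp at this
  have hdeg : p.natDegree = 4 := by
    simp only [p]
    compute_degree!
  have hsub : ∀ x : (tr4 hF).ker, (x : F) ∈ p.roots.toFinset := by
    intro x
    rw [Multiset.mem_toFinset, Polynomial.mem_roots hp]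
    simp only [p, Polynomial.IsRoot, Polynomial.eval_add, Polynomial.eval_pow, Polynomial.eval_X]
    exact x.2
  have h1 : Nat.card (tr4 hF).ker ≤ p.roots.toFinset.card := by
    rw [Nat.card_eq_fintype_card]
    have : Function.Injective (fun x : (tr4 hF).ker => (⟨(x : F), hsub x⟩ : p.roots.toFinset)) := by
      intro x y hxy
      apply Subtype.ext
      exact congrArg (fun z : p.roots.toFinset => (z : F)) hxy
    have h3 := Fintype.card_le_of_injective _ this
    rw [Fintype.card_coe] at h3
    exact h3
  calc Nat.card (tr4 hF).ker ≤ p.roots.toFinset.card := h1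
    _ ≤ Multiset.card p.roots := Multiset.toFinset_card_le _
    _ ≤ p.natDegree := Polynomial.card_roots' p
    _ = 4 := hdeg

theorem card_ker_mul_card_range (hF : Fintype.card F = 16) :
    Nat.card (tr4 hF).ker * Nat.card (tr4 hF).range = 16 := by
  have h1 := AddSubgroup.card_eq_card_quotient_mul_card_addSubgroup (tr4 hF).ker
  have h2 : Nat.card (F ⧸ (tr4 hF).ker) = Nat.card (tr4 hF).range :=
    Nat.card_congr (QuotientAddGroup.quotientKerEquivRange (tr4 hF)).toEquiv
  rw [h2, Nat.card_eq_fintype_card, hF] at h1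
  rw [mul_comm]; exact h1.symm

theorem card_ker (hF : Fintype.card F = 16) : Nat.card (tr4 hF).ker = 4 := by
  have h1 := card_ker_le hF
  have h2 := card_ker_mul_card_range hF
  have h3 : Nat.card (tr4 hF).range ≤ Nat.card (tr4 hF).ker :=
    Nat.card_le_card_of_injective _ (AddSubgroup.inclusion_injective (range_le_ker hF))
  interval_cases hk : Nat.card (tr4 hF).ker <;> interval_cases hr : Nat.card (tr4 hF).range <;> omega

theorem card_range (hF : Fintype.card F = 16) : Nat.card (tr4 hF).range = 4 := by
  have h2 := card_ker_mul_card_range hF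
  rw [card_ker hF] at h2
  omega

theorem range_eq_ker (hF : Fintype.card F = 16) : (tr4 hF).range = (tr4 hF).ker := by
  apply AddSubgroup.eq_of_le_of_card_ge (range_le_ker hF)
  rw [card_ker hF, card_range hF]

theorem mem_ker_iff (hF : Fintype.card F = 16) (x : F) : x ∈ (tr4 hF).ker ↔ x ^ 4 + x = 0 :=
  Iff.rfl

theorem exists_tr4_eq (hF : Fintype.card F = 16) {t : F} (ht : t ^ 4 + t = 0) :
    ∃ c : F, c ^ 4 + c = t := by
  have : t ∈ (tr4 hF).range := by rw [range_eq_ker hF]; exact ht
  obtain ⟨c, hc⟩ := this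
  exact ⟨c, hc⟩

theorem exists_alpha (hF : Fintype.card F = 16) : ∃ α : F, α ^ 4 + α = 1 := by
  apply exists_tr4_eq hF
  have h2 := two_eq_zero_of_card hF
  linear_combination h2

theorem pow5_mem (hF : Fintype.card F = 16) (a : F) : (a ^ 5) ^ 4 + a ^ 5 = 0 := by
  have h16 := pow16 hF a
  have h2 := two_eq_zero_of_card hF
  linear_combination a ^ 4 * h16 + a ^ 5 * h2

end Cfsg.Agent.Lib.Helper72.U34
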