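import Mathlib
import Cfsg.Prelude.Def_Classical
import Cfsg.Agent.Lib.Helper72.U34Field

/-!
The explicit matrices `[[1+b, b, a], [b, 1+b, a], [a^4, a^4, 1]]` over a field with 16 elements
(`b ^ 4 + b = a ^ 5`): they form a Sylow 2-subgroup of `SU₃(4)` for the standard Hermitian form.
-/

set_option autoImplicit false

namespace Cfsg.Agent.Lib.Helper72.U34

open Matrix

variable {F : Type*} [Field F] [Fintype F]

/-- the matrix `[[1+b, b, a], [b, 1+b, a], [a^4, a^4, 1]]` -/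
def qmat (a b : F) : Matrix (Fin 3) (Fin 3) F :=
  !![1 + b, b, a; b, 1 + b, a; a ^ 4, a ^ 4, 1]

omit [Fintype F] in
theorem qmat_zero : qmat (0 : F) 0 = 1 := by
  ext i j
  fin_cases i <;> fin_cases j <;> simp [qmat]

omit [Fintype F] in
theorem qmat_inj {a b c d : F} (h : qmat a b = qmat c d) : a = c ∧ b = d := by
  have h1 := congrFun (congrFun h 0) 2
  have h2 := congrFun (congrFun h 0) 1
  simp [qmat] at h1 h2
  exact ⟨h1, h2⟩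

theorem qmat_mul (hF : Fintype.card F = 16) (a b c d : F) :
    qmat a b * qmat c d = qmat (a + c) (b + d + a * c ^ 4) := by
  have h2 := two_eq_zero_of_card hF
  ext i j
  fin_cases i <;> fin_cases j <;>
    simp [qmat, Matrix.mul_apply, Fin.sum_univ_three] <;>
    first
    | linear_combination (b * d) * h2
    | linear_combination (b * c) * h2
    | linear_combination (a ^ 4 * d - 2 * a ^ 3 * c - 3 * a ^ 2 * c ^ 2 - 2 * a * c ^ 3) * h2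
    | linear_combination (a ^ 4 * c) * h2

theorem qmat_det (hF : Fintype.card F = 16) (a b : F) : (qmat a b).det = 1 := by
  have h2 := two_eq_zero_of_card hF
  rw [Matrix.det_fin_three]
  simp [qmat]
  linear_combination (b - a * a ^ 4) * h2

omit [Fintype F] in
theorem herm3 (u v : Fin 3 → F) :
    Cfsg.hermForm 3 F 4 u v = u 0 * v 0 ^ 4 + u 1 * v 1 ^ 4 + u 2 * v 2 ^ 4 := by
  simp [Cfsg.hermForm, Fin.sum_univ_three]

omit [Fintype F] in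
theorem qmat_mulVec (a b : F) (u : Fin 3 → F) :
    qmat a b *ᵥ u = ![(1 + b) * u 0 + b * u 1 + a * u 2, b * u 0 + (1 + b) * u 1 + a * u 2,
      a ^ 4 * u 0 + a ^ 4 * u 1 + u 2] := by
  ext i
  fin_cases i <;> simp [qmat, Matrix.mulVec, dotProduct, Fin.sum_univ_three]

theorem qmat_herm (hF : Fintype.card F = 16) (a b : F) (hab : b ^ 4 + b = a ^ 5)
    (u v : Fin 3 → F) :
    Cfsg.hermForm 3 F 4 (qmat a b *ᵥ u) (qmat a b *ᵥ v) = Cfsg.hermForm 3 F 4 u v := by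
  have h2 := two_eq_zero_of_card hF
  rw [herm3, herm3, qmat_mulVec, qmat_mulVec]
  simp only [Matrix.cons_val_zero, Matrix.cons_val_one, Matrix.cons_val_two, Matrix.head_cons,
    Matrix.tail_cons]
  have e0 : ((1 + b) * v 0 + b * v 1 + a * v 2) ^ 4 =
      (1 + b ^ 4) * v 0 ^ 4 + b ^ 4 * v 1 ^ 4 + a ^ 4 * v 2 ^ 4 := by
    rw [add_pow4 hF, add_pow4 hF, mul_pow, mul_pow, mul_pow, add_pow4 hF, one_pow]
  have e1 : (b * v 0 + (1 + b) * v 1 + a * v 2) ^ 4 =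
      b ^ 4 * v 0 ^ 4 + (1 + b ^ 4) * v 1 ^ 4 + a ^ 4 * v 2 ^ 4 := by
    rw [add_pow4 hF, add_pow4 hF, mul_pow, mul_pow, mul_pow, add_pow4 hF, one_pow]
  have e2 : (a ^ 4 * v 0 + a ^ 4 * v 1 + v 2) ^ 4 = a * v 0 ^ 4 + a * v 1 ^ 4 + v 2 ^ 4 := by
    rw [add_pow4 hF, add_pow4 hF, mul_pow, mul_pow, ← pow_mul]
    norm_num
    rw [pow16 hF]
  rw [e0, e1, e2]
  have hB : b ^ 4 = b + a * a ^ 4 := by linear_combination hab - b * h2
  linear_combination ((2)*a*(u 2)*(v 0^4) + (2)*a*(u 2)*(v 1^4) + (2)*b*(u 0)*(v 0^4) + (2)*b*(u 0)*(v 1^4) + (2)*b*(u 1)*(v 0^4) + (2)*b*(u 1)*(v 1^4) + (u 0)*(v 0^4) + (u 0)*(v 1^4) + (u 1)*(v 0^4) + (u 1)*(v 1^4)) * hB + ((a^4)*a*b*(u 0)*(v 0^4) + (a^4)*a*b*(u 0)*(v 1^4) + (a^4)*a*b*(u 1)*(v 0^4) + (a^4)*a*b*(u 1)*(v 1^4) + (a^4)*a*(u 0)*(v 0^4) + (a^4)*a*(u 0)*(v 1^4) + (a^4)*a*(u 1)*(v 0^4) + (a^4)*a*(u 1)*(v 1^4) + (a^4)*a*(u 2)*(v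 2^4) + (a^4)*a^2*(u 2)*(v 0^4) + (a^4)*a^2*(u 2)*(v 1^4) + (a^4)*b*(u 0)*(v 2^4) + (a^4)*b*(u 1)*(v 2^4) + (a^4)*(u 0)*(v 2^4) + (a^4)*(u 1)*(v 2^4) + a*b*(u 2)*(v 0^4) + a*b*(u 2)*(v 1^4) + a*(u 2)*(v 0^4) + a*(u 2)*(v 1^4) + b*(u 0)*(v 0^4) + b*(u 0)*(v 1^4) + b*(u 1)*(v 0^4) + b*(u 1)*(v 1^4) + b^2*(u 0)*(v 0^4) + b^2*(u 0)*(v 1^4) + b^2*(u 1)*(v 0^4) + b^2*(u 1)*(v 1^4)) * h2

/-- closure of the defining relation under the multiplication law -/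
theorem rel_mul (hF : Fintype.card F = 16) {a b c d : F} (hab : b ^ 4 + b = a ^ 5)
    (hcd : d ^ 4 + d = c ^ 5) :
    (b + d + a * c ^ 4) ^ 4 + (b + d + a * c ^ 4) = (a + c) ^ 5 := by
  have h2 := two_eq_zero_of_card hF
  have h16 := pow16 hF c
  rw [add_pow4 hF, add_pow4 hF, mul_pow, ← pow_mul]
  norm_num
  rw [h16]
  linear_combination hab + hcd - (2 * a ^ 4 * c + 5 * a ^ 3 * c ^ 2 + 5 * a ^ 2 * c ^ 3 + 2 * a * c ^ 4) * h2

end Cfsg.Agent.Lib.Helper72.U34
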