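import Mathlib
import Cfsg.Prelude.Def_Classical
import Cfsg.Agent.Lib.Helper72.U34Field
import Cfsg.Agent.Lib.Helper72.U34Mat
import Cfsg.Agent.Lib.Helper72.U34Core

/-!
The model group of pairs `(a, b)` over the field with 16 elements with `b ^ 4 + b = a ^ 5` and
multiplication `(a, b) (c, d) = (a + c, b + d + a c ^ 4)`: a Sylow 2-subgroup of `SU₃(4)`.
-/

set_option autoImplicit false
open scoped commutatorElement

namespace Cfsg.Agent.Lib.Helper72.U34

variable {F : Type*} [Field F] [Fintype F]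

/-- the model: pairs `(a, b)` with `b ^ 4 + b = a ^ 5` -/
def Model (F : Type*) [Field F] : Type _ := {p : F × F // p.2 ^ 4 + p.2 = p.1 ^ 5}

namespace Model

variable [hF : Fact (Fintype.card F = 16)]

omit [Fintype F] hF in
@[ext] theorem ext {x y : Model F} (h1 : x.1.1 = y.1.1) (h2 : x.1.2 = y.1.2) : x = y :=
  Subtype.ext (Prod.ext h1 h2)

theorem rel_inv {a b : F} (hab : b ^ 4 + b = a ^ 5) : (b + a ^ 5) ^ 4 + (b + a ^ 5) = a ^ 5 := by
  rw [add_pow4 hF.out]
  linear_combination hab + pow5_mem hF.out a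

noncomputable instance : Group (Model F) where
  mul x y := ⟨(x.1.1 + y.1.1, x.1.2 + y.1.2 + x.1.1 * y.1.1 ^ 4), rel_mul hF.out x.2 y.2⟩
  one := ⟨(0, 0), by simp⟩
  inv x := ⟨(x.1.1, x.1.2 + x.1.1 ^ 5), rel_inv x.2⟩
  mul_assoc x y z := by
    apply Model.ext
    · change x.1.1 + y.1.1 + z.1.1 = x.1.1 + (y.1.1 + z.1.1)
      ring
    · change x.1.2 + y.1.2 + x.1.1 * y.1.1 ^ 4 + z.1.2 + (x.1.1 + y.1.1) * z.1.1 ^ 4 =
        x.1.2 + (y.1.2 + z.1.2 + y.1.1 * z.1.1 ^ 4) + x.1.1 * (y.1.1 + z.1.1) ^ 4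
      rw [add_pow4 hF.out]
      ring
  one_mul x := by
    apply Model.ext
    · change 0 + x.1.1 = x.1.1
      ring
    · change 0 + x.1.2 + 0 * x.1.1 ^ 4 = x.1.2
      ring
  mul_one x := by
    apply Model.ext
    · change x.1.1 + 0 = x.1.1
      ring
    · change x.1.2 + 0 + x.1.1 * 0 ^ 4 = x.1.2
      ring
  inv_mul_cancel x := by
    have h2 := two_eq_zero_of_card hF.out
    apply Model.ext
    · change x.1.1 + x.1.1 = 0
      linear_combination x.1.1 * h2
    · change x.1.2 + x.1.1 ^ 5 + x.1.2 + x.1.1 * x.1.1 ^ 4 = 0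
      linear_combination (x.1.2 + x.1.1 ^ 5) * h2

theorem mul_fst (x y : Model F) : (x * y).1.1 = x.1.1 + y.1.1 := rfl
theorem mul_snd (x y : Model F) : (x * y).1.2 = x.1.2 + y.1.2 + x.1.1 * y.1.1 ^ 4 := rfl
theorem one_fst : (1 : Model F).1.1 = 0 := rfl
theorem one_snd : (1 : Model F).1.2 = 0 := rfl

/-- a chosen solution of `α ^ 4 + α = 1` -/
noncomputable def alpha : F := (exists_alpha (F := F) hF.out).choose

theorem alpha_spec : (alpha : F) ^ 4 + alpha = 1 := (exists_alpha (F := F) hF.out).choose_spec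

/-- an element of the model with prescribed first coordinate -/
noncomputable def lift (c : F) : Model F :=
  ⟨(c, alpha * c ^ 5), by
    have h16 := pow16 hF.out c
    have hα := alpha_spec (F := F)
    change (alpha * c ^ 5) ^ 4 + alpha * c ^ 5 = c ^ 5
    linear_combination c ^ 5 * hα + (alpha : F) ^ 4 * c ^ 4 * h16⟩

theorem lift_fst (c : F) : (lift c).1.1 = c := rfl
theorem lift_snd (c : F) : (lift c).1.2 = alpha * c ^ 5 := rfl

/-- the centre of the model -/
def Zm : Subgroup (Model F) where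
  carrier := {x | x.1.1 = 0}
  mul_mem' {x y} hx hy := by
    change (x * y).1.1 = 0
    rw [mul_fst, hx, hy, add_zero]
  one_mem' := rfl
  inv_mem' {x} hx := hx

theorem mem_Zm {x : Model F} : x ∈ Zm ↔ x.1.1 = 0 := Iff.rfl

/-- the centre corresponds to the kernel of `x ↦ x ^ 4 + x` -/
noncomputable def zmEquiv : (Zm : Subgroup (Model F)) ≃ (tr4 hF.out).ker where
  toFun x := ⟨x.1.1.2, by
    have h := x.1.2
    have h0 : x.1.1.1 = 0 := x.2
    rw [h0] at h
    change x.1.1.2 ^ 4 + x.1.1.2 = 0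
    rw [h]; ring⟩
  invFun t := ⟨⟨(0, t.1), by
    have : t.1 ^ 4 + t.1 = 0 := t.2
    change t.1 ^ 4 + t.1 = 0 ^ 5
    rw [this]; ring⟩, rfl⟩
  left_inv x := by
    apply Subtype.ext
    apply Model.ext
    · exact (x.2 : x.1.1.1 = 0).symm
    · rfl
  right_inv t := rfl

theorem card_Zm : Nat.card (Zm : Subgroup (Model F)) = 4 := by
  rw [Nat.card_congr zmEquiv, card_ker hF.out]

/-- parametrisation of the model by `F × ker` -/
noncomputable def modelEquiv : F × (tr4 hF.out).ker ≃ Model F where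
  toFun p := ⟨(p.1, alpha * p.1 ^ 5 + p.2.1), by
    have h16 := pow16 hF.out p.1
    have hα := alpha_spec (F := F)
    have hz : p.2.1 ^ 4 + p.2.1 = 0 := p.2.2
    change (alpha * p.1 ^ 5 + p.2.1) ^ 4 + (alpha * p.1 ^ 5 + p.2.1) = p.1 ^ 5
    rw [add_pow4 hF.out]
    linear_combination p.1 ^ 5 * hα + (alpha : F) ^ 4 * p.1 ^ 4 * h16 + hz⟩
  invFun x := (x.1.1, ⟨x.1.2 - alpha * x.1.1 ^ 5, by
    have h16 := pow16 hF.out x.1.1
    have hα := alpha_spec (F := F)
    have h2 := two_eq_zero_of_card hF.out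
    have hx := x.2
    change (x.1.2 - alpha * x.1.1 ^ 5) ^ 4 + (x.1.2 - alpha * x.1.1 ^ 5) = 0
    have e : x.1.2 - alpha * x.1.1 ^ 5 = x.1.2 + alpha * x.1.1 ^ 5 := by
      linear_combination (-(alpha : F) * x.1.1 ^ 5) * h2
    rw [e, add_pow4 hF.out]
    linear_combination hx + x.1.1 ^ 5 * hα + (alpha : F) ^ 4 * x.1.1 ^ 4 * h16 + x.1.1 ^ 5 * h2⟩)
  left_inv p := by
    apply Prod.ext
    · rfl
    · apply Subtype.ext
      change alpha * p.1 ^ 5 + p.2.1 - alpha * p.1 ^ 5 = p.2.1
      ring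
  right_inv x := by
    apply Model.ext
    · rfl
    · change alpha * x.1.1 ^ 5 + (x.1.2 - alpha * x.1.1 ^ 5) = x.1.2
      ring

theorem card_model : Nat.card (Model F) = 64 := by
  rw [← Nat.card_congr modelEquiv, Nat.card_prod, card_ker hF.out, Nat.card_eq_fintype_card,
    hF.out]

theorem core : Core (Model F) Zm where
  cardT := card_model
  cardZ := card_Zm
  central := by
    intro z hz g
    have hz0 : z.1.1 = 0 := hz
    apply Model.ext
    · rw [mul_fst, mul_fst]; ring
    · rw [mul_snd, mul_snd, hz0]; ring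
  center_le := by
    intro g hg
    have h2 := two_eq_zero_of_card hF.out
    have hα := alpha_spec (F := F)
    have h1 := congrArg (fun x : Model F => x.1.2) (hg (lift 1))
    have h3 := congrArg (fun x : Model F => x.1.2) (hg (lift alpha))
    simp only [mul_snd, lift_fst, lift_snd] at h1 h3
    -- h1 : α*1^5 + b + 1 * a^4 = b + α*1^5 + a * 1^4
    -- h3 : α*α^5 + b + α * a^4 = b + α*α^5 + a * α^4
    have ha4 : g.1.1 ^ 4 = g.1.1 := by linear_combination h1
    rw [mem_Zm]
    linear_combination (-g.1.1) * hα - h3 + alpha * ha4 + (g.1.1 * alpha) * h2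
  sq_mem := by
    intro g
    have h2 := two_eq_zero_of_card hF.out
    rw [pow_two, mem_Zm, mul_fst]
    linear_combination g.1.1 * h2
  invol_mem := by
    intro g hg
    have h2 := two_eq_zero_of_card hF.out
    rw [pow_two] at hg
    have h1 := congrArg (fun x : Model F => x.1.2) hg
    simp only [mul_snd, one_snd] at h1
    rw [mem_Zm]
    have : g.1.1 ^ 5 = 0 := by linear_combination h1 - g.1.2 * h2
    exact pow_eq_zero_iff (by norm_num) |>.mp this
  sq_one := by
    intro z hz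
    have hz0 : z.1.1 = 0 := hz
    have h2 := two_eq_zero_of_card hF.out
    rw [pow_two]
    apply Model.ext
    · rw [mul_fst, hz0, one_fst]; ring
    · rw [mul_snd, hz0, one_snd]
      linear_combination z.1.2 * h2
  comm := by
    intro z hz
    have hz0 : z.1.1 = 0 := hz
    have h2 := two_eq_zero_of_card hF.out
    have hzr := z.2
    rw [hz0] at hzr
    have hzr' : z.1.2 ^ 4 + z.1.2 = 0 := by rw [hzr]; ring
    obtain ⟨c, hc⟩ := exists_tr4_eq hF.out hzr'
    refine ⟨lift c, lift 1, ?_⟩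
    rw [commutatorElement_def, mul_assoc, ← mul_inv_rev]
    apply eq_mul_inv_of_mul_eq
    apply Model.ext
    · rw [mul_fst, mul_fst, mul_fst, hz0, lift_fst, lift_fst]; ring
    · rw [mul_snd, mul_snd, mul_snd, mul_fst, hz0, lift_fst, lift_fst, lift_snd, lift_snd]
      linear_combination (-1 : F) * hc + c ^ 4 * h2

end Model

end Cfsg.Agent.Lib.Helper72.U34
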