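import Mathlib
import Cfsg.Prelude.Def_Classical
import Cfsg.Agent.Lib.Helper72.U34Model
import Cfsg.Agent.Lib.Helper08.SUCard
import Cfsg.Agent.S0279
import Cfsg.Agent.S0280

/-!
A Sylow 2-subgroup of `PSU₃(4)` satisfies the core properties of `U34Core`.
-/

set_option autoImplicit false

namespace Cfsg.Agent.Lib.Helper72.U34

variable {F : Type*} [Field F] [Fintype F] [hF : Fact (Fintype.card F = 16)]

/-- the embedding of the model group into `SU₃(4)` -/
noncomputable def toSU : Model F →* Cfsg.SU 3 F 4 :=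
  MonoidHom.mk'
    (fun x => ⟨⟨qmat x.1.1 x.1.2, qmat_det hF.out _ _⟩,
      (Cfsg.Agent.Lib.Helper08.mem_SU_iff _).mpr (qmat_herm hF.out _ _ x.2)⟩)
    (by
      intro x y
      apply Subtype.ext
      apply Subtype.ext
      exact (qmat_mul hF.out _ _ _ _).symm)

theorem toSU_injective : Function.Injective (toSU (F := F)) := by
  intro x y h
  have h1 : qmat x.1.1 x.1.2 = qmat y.1.1 y.1.2 :=
    congrArg (fun g : Cfsg.SU 3 F 4 => ((g : Matrix.SpecialLinearGroup (Fin 3) F) :
      Matrix (Fin 3) (Fin 3) F)) h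
  obtain ⟨h2, h3⟩ := qmat_inj h1
  exact Model.ext h2 h3

omit [Field F] in
theorem card_sq : Fintype.card F = 4 ^ 2 := by rw [hF.out]; norm_num

theorem center_SU_eq_bot : Subgroup.center (Cfsg.SU 3 F 4) = ⊥ := by
  apply Subgroup.eq_bot_of_card_eq
  rw [Cfsg.Agent.S0279.result (card_sq (F := F)) 3 le_rfl]
  norm_num

theorem card_PSU : Nat.card (Cfsg.PSU 3 F 4) = 62400 := by
  have h := Cfsg.Agent.S0280.result (card_sq (F := F)) 3 (by norm_num)
  norm_num [Finset.prod_range_succ] at h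
  omega

/-- the embedding of the model group into `PSU₃(4)` -/
noncomputable def toPSU : Model F →* Cfsg.PSU 3 F 4 :=
  (QuotientGroup.mk' (Subgroup.center (Cfsg.SU 3 F 4))).comp toSU

theorem toPSU_injective : Function.Injective (toPSU (F := F)) := by
  rw [injective_iff_map_eq_one]
  intro x hx
  have h1 : toSU x ∈ Subgroup.center (Cfsg.SU 3 F 4) := by
    rw [← QuotientGroup.ker_mk' (Subgroup.center (Cfsg.SU 3 F 4))]
    exact hx
  rw [center_SU_eq_bot, Subgroup.mem_bot] at h1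
  exact (injective_iff_map_eq_one _).mp toSU_injective x h1

theorem sylow_core (S : Sylow 2 (Cfsg.PSU 3 F 4)) :
    ∃ Z : Subgroup ↥(S : Subgroup (Cfsg.PSU 3 F 4)), Core ↥(S : Subgroup (Cfsg.PSU 3 F 4)) Z := by
  classical
  have : Finite (Cfsg.PSU 3 F 4) := Nat.finite_of_card_ne_zero (by rw [card_PSU]; norm_num)
  let Q : Subgroup (Cfsg.PSU 3 F 4) := (toPSU (F := F)).range
  let e1 : Model F ≃* Q := MonoidHom.ofInjective toPSU_injective
  have hcore1 : Core Q _ := Model.core.transfer e1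
  have hcardQ : Nat.card Q = 64 := hcore1.cardT
  have hQ : IsPGroup 2 Q := IsPGroup.of_card (n := 6) (by rw [hcardQ]; norm_num)
  have hidx : ¬ 2 ∣ Q.index := by
    have h1 := Q.card_mul_index
    rw [hcardQ, card_PSU] at h1
    have : Q.index = 975 := by omega
    rw [this]; norm_num
  let P : Sylow 2 (Cfsg.PSU 3 F 4) := hQ.toSylow hidx
  let e2 : ↥(P : Subgroup (Cfsg.PSU 3 F 4)) ≃* ↥(S : Subgroup (Cfsg.PSU 3 F 4)) := Sylow.equiv P S
  have hcore2 : Core ↥(P : Subgroup (Cfsg.PSU 3 F 4)) _ := hcore1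
  exact ⟨_, hcore2.transfer e2⟩

end Cfsg.Agent.Lib.Helper72.U34
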