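import Mathlib
import Cfsg.Prelude.Def_Classical
import Cfsg.Agent.Lib.Helper72.U34Main

/-!
The automorphism group of a Sylow 2-subgroup of `U₃(4)` contains no copy of `S₃`.
-/

set_option autoImplicit false

namespace Cfsg.Agent.Lib.Helper72.U34

variable {F : Type*} [Field F] [Fintype F] [hF : Fact (Fintype.card F = 16)]

/-- key lemma: no 2-dimensional `𝔽₂`-subspace of `𝔽₁₆` lies in a single fibre of the norm -/
theorem key_lemma {a a' : F} (ha : a ≠ 0) (h1 : a ^ 5 = a' ^ 5) (h2 : (a + a') ^ 5 = a ^ 5) :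
    False := by
  have h20 := two_eq_zero_of_card hF.out
  have ha5 : a ^ 5 ≠ 0 := pow_ne_zero _ ha
  set t : F := a' / a with ht
  have e1 : t ^ 5 = 1 := by rw [ht, div_pow, ← h1, div_self ha5]
  have e2 : (1 + t) ^ 5 = 1 := by
    have : 1 + t = (a + a') / a := by rw [ht]; field_simp
    rw [this, div_pow, h2, div_self ha5]
  have E1 : t ^ 4 + t + 1 = 0 := by
    linear_combination e2 - e1 - (2 * t + 5 * t ^ 2 + 5 * t ^ 3 + 2 * t ^ 4) * h20
  have E2 : t ^ 2 + t + 1 = 0 := by linear_combination t * E1 - e1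
  have : (1 : F) = 0 := by linear_combination E1 - (t ^ 2 - t) * E2 - t * h20
  exact one_ne_zero this

namespace Model

instance : Finite (Model F) := inferInstanceAs (Finite {p : F × F // p.2 ^ 4 + p.2 = p.1 ^ 5})

theorem inv_fst (x : Model F) : (x⁻¹).1.1 = x.1.1 := rfl

theorem sq_fst (x : Model F) : (x ^ 2).1.1 = 0 := by
  have h2 := two_eq_zero_of_card hF.out
  rw [pow_two, mul_fst]
  linear_combination x.1.1 * h2

theorem sq_snd (x : Model F) : (x ^ 2).1.2 = x.1.1 ^ 5 := by
  have h2 := two_eq_zero_of_card hF.out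
  rw [pow_two, mul_snd]
  linear_combination x.1.2 * h2

theorem mem_Zm_iff_sq {x : Model F} : x ∈ Zm ↔ x ^ 2 = 1 := by
  constructor
  · exact fun h => core.sq_one x h
  · exact fun h => core.invol_mem x h

theorem aut_mem_Zm (φ : MulAut (Model F)) {z : Model F} (hz : z ∈ Zm) : φ z ∈ Zm := by
  rw [mem_Zm_iff_sq] at hz ⊢
  rw [← map_pow, hz, map_one]

/-- the additive map induced on `Model / Zm ≅ F` -/
noncomputable def Ab (φ : MulAut (Model F)) (a : F) : F := (φ (lift a)).1.1

theorem fst_aut (φ : MulAut (Model F)) (x : Model F) : (φ x).1.1 = Ab φ x.1.1 := by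
  have h2 := two_eq_zero_of_card hF.out
  have hz : (lift x.1.1)⁻¹ * x ∈ Zm := by
    rw [mem_Zm, mul_fst, inv_fst, lift_fst]
    linear_combination x.1.1 * h2
  have hx : x = lift x.1.1 * ((lift x.1.1)⁻¹ * x) := by group
  have h3 := aut_mem_Zm φ hz
  rw [mem_Zm] at h3
  conv_lhs => rw [hx]
  rw [map_mul, mul_fst, h3, add_zero]
  rfl

theorem Ab_add (φ : MulAut (Model F)) (a c : F) : Ab φ (a + c) = Ab φ a + Ab φ c := by
  have h1 : (lift a * lift c : Model F).1.1 = a + c := by rw [mul_fst, lift_fst, lift_fst]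
  rw [← h1, ← fst_aut, map_mul, mul_fst]
  rfl

theorem Ab_zero (φ : MulAut (Model F)) : Ab φ 0 = 0 := by
  have := Ab_add φ 0 0
  rw [add_zero] at this
  exact left_eq_add.mp this

theorem Ab_mul (φ ψ : MulAut (Model F)) (a : F) : Ab (φ * ψ) a = Ab φ (Ab ψ a) := by
  change (φ (ψ (lift a))).1.1 = _
  rw [fst_aut]
  rfl

theorem Ab_one (a : F) : Ab (1 : MulAut (Model F)) a = a := rfl

/-- `Ab` as an additive homomorphism -/
noncomputable def AbHom (φ : MulAut (Model F)) : F →+ F where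
  toFun := Ab φ
  map_zero' := Ab_zero φ
  map_add' := Ab_add φ

/-- the square of an element with first coordinate `a` -/
def zsq (a : F) : Model F := ⟨(0, a ^ 5), by
  change (a ^ 5) ^ 4 + a ^ 5 = 0 ^ 5
  rw [pow5_mem hF.out]; ring⟩

theorem sq_eq_zsq (x : Model F) : x ^ 2 = zsq x.1.1 :=
  Model.ext (sq_fst x) (sq_snd x)

theorem aut_zsq (φ : MulAut (Model F)) (a : F) : φ (zsq a) = zsq (Ab φ a) := by
  have h1 : zsq a = (lift a) ^ 2 := by rw [sq_eq_zsq, lift_fst]
  rw [h1, map_pow, sq_eq_zsq, fst_aut, lift_fst]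

theorem zsq_eq_iff {a c : F} : zsq a = zsq c ↔ a ^ 5 = c ^ 5 := by
  constructor
  · intro h
    exact congrArg (fun x : Model F => x.1.2) h
  · intro h
    exact Model.ext rfl h

theorem zsq_eq_one_iff {a : F} : zsq a = 1 ↔ a = 0 := by
  constructor
  · intro h
    have : a ^ 5 = 0 := congrArg (fun x : Model F => x.1.2) h
    exact pow_eq_zero_iff (by norm_num) |>.mp this
  · intro h
    subst h
    exact Model.ext rfl (by change (0 : F) ^ 5 = 0; ring)

theorem zsq_mem (a : F) : zsq a ∈ (Zm : Subgroup (Model F)) := rfl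

/-- an automorphism trivial on `Zm` and with `Ab = id` squares to the identity -/
theorem sq_eq_one_of_trivial (φ : MulAut (Model F)) (hZ : ∀ z ∈ Zm, φ z = z)
    (hA : ∀ a, Ab φ a = a) : φ ^ 2 = 1 := by
  have h2 := two_eq_zero_of_card hF.out
  ext1 x
  have hz : x⁻¹ * φ x ∈ Zm := by
    rw [mem_Zm, mul_fst, inv_fst, fst_aut, hA]
    linear_combination x.1.1 * h2
  have hφx : φ x = x * (x⁻¹ * φ x) := by group
  have hzz : φ (x⁻¹ * φ x) = x⁻¹ * φ x := hZ _ hz
  have hsq : (x⁻¹ * φ x) * (x⁻¹ * φ x) = 1 := by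
    rw [← pow_two]; exact core.sq_one _ hz
  change φ (φ x) = x
  calc φ (φ x) = φ (x * (x⁻¹ * φ x)) := by rw [← hφx]
    _ = φ x * (x⁻¹ * φ x) := by rw [map_mul, hzz]
    _ = x * ((x⁻¹ * φ x) * (x⁻¹ * φ x)) := by group
    _ = x := by rw [hsq, mul_one]

/-- an additive endomorphism of `F` with square zero has kernel of order at least 4 -/
theorem four_le_card_ker (D : F →+ F) (hD : ∀ a, D (D a) = 0) : 4 ≤ Nat.card D.ker := by
  have h1 := AddSubgroup.card_eq_card_quotient_mul_card_addSubgroup D.ker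
  have h2 : Nat.card (F ⧸ D.ker) = Nat.card D.range :=
    Nat.card_congr (QuotientAddGroup.quotientKerEquivRange D).toEquiv
  rw [h2, Nat.card_eq_fintype_card, hF.out] at h1
  have hle : D.range ≤ D.ker := by
    rintro _ ⟨x, rfl⟩
    exact hD x
  have h3 : Nat.card D.range ≤ Nat.card D.ker :=
    Nat.card_le_card_of_injective _ (AddSubgroup.inclusion_injective hle)
  by_contra hlt
  push Not at hlt
  have : Nat.card D.range * Nat.card D.ker ≤ 3 * 3 := Nat.mul_le_mul (by omega) (by omega)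
  omega

theorem no_rho_tau (ρ τ : MulAut (Model F)) (h3 : ρ ^ 3 = 1) (hρ : ρ ≠ 1) (hτ : τ ^ 2 = 1)
    (hinv : τ * ρ * τ⁻¹ = ρ⁻¹) : False := by
  have h2 := two_eq_zero_of_card hF.out
  by_cases hZ : ∀ z ∈ (Zm : Subgroup (Model F)), ρ z = z
  · -- ρ is trivial on the centre
    have hN : ∀ a, (Ab ρ a) ^ 5 = a ^ 5 := by
      intro a
      have := aut_zsq ρ a
      rw [hZ _ (zsq_mem a)] at this
      exact (zsq_eq_iff.mp this).symm
    have hA3 : ∀ a, Ab ρ (Ab ρ (Ab ρ a)) = a := by
      intro a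
      rw [← Ab_mul, ← Ab_mul]
      have : ρ * ρ * ρ = 1 := by rw [← pow_two, ← pow_succ]; exact h3
      rw [this, Ab_one]
    have hA : ∀ a, Ab ρ a = a := by
      intro w
      by_contra hw
      have hv : Ab ρ w + w ≠ 0 := by
        intro h0
        apply hw
        linear_combination h0 - w * h2
      have hAAv : Ab ρ (Ab ρ (Ab ρ w + w)) = Ab ρ (Ab ρ w + w) + (Ab ρ w + w) := by
        simp only [Ab_add, hA3]
        linear_combination (-Ab ρ w) * h2
      apply key_lemma (a := Ab ρ w + w) (a' := Ab ρ (Ab ρ w + w)) hv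
      · exact (hN _).symm
      · have : Ab ρ w + w + Ab ρ (Ab ρ w + w) = Ab ρ (Ab ρ (Ab ρ w + w)) := by
          rw [hAAv]; ring
        rw [this, hN, hN]
    have hsq := sq_eq_one_of_trivial ρ hZ hA
    apply hρ
    calc ρ = ρ ^ 3 * (ρ ^ 2)⁻¹ := by group
      _ = 1 := by rw [h3, hsq]; simp
  · -- ρ is non-trivial on the centre: so is τ
    have hτZ : ¬ ∀ z ∈ (Zm : Subgroup (Model F)), τ z = z := by
      intro hτZ
      apply hZ
      intro z hz
      have hτinv : τ⁻¹ z = z := by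
        have := hτZ z hz
        calc τ⁻¹ z = τ⁻¹ (τ z) := by rw [this]
          _ = z := by simp
      have h1 : ρ⁻¹ z = ρ z := by
        have h4 := congrArg (fun f : MulAut (Model F) => f z) hinv
        simp only [MulAut.mul_apply] at h4
        rw [hτinv, hτZ _ (aut_mem_Zm ρ hz)] at h4
        exact h4.symm
      have h5 : ρ⁻¹ = ρ * ρ := by
        apply inv_eq_of_mul_eq_one_right
        rw [← pow_two, ← pow_succ']
        exact h3
      rw [h5, MulAut.mul_apply] at h1
      exact (ρ.injective h1).symm ▸ rfl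
    -- the fixed points of τ on the centre
    let Fx : Subgroup (Model F) :=
      { carrier := {z | z ∈ Zm ∧ τ z = z}
        mul_mem' := by
          rintro x y ⟨hx1, hx2⟩ ⟨hy1, hy2⟩
          exact ⟨Zm.mul_mem hx1 hy1, by rw [map_mul, hx2, hy2]⟩
        one_mem' := ⟨Zm.one_mem, map_one τ⟩
        inv_mem' := by
          rintro x ⟨hx1, hx2⟩
          exact ⟨Zm.inv_mem hx1, by rw [map_inv, hx2]⟩ }
    have hFxle : Fx ≤ Zm := fun z hz => hz.1
    have hcard : Nat.card Fx ∣ 4 := by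
      rw [← card_Zm (F := F)]; exact Subgroup.card_dvd_of_le hFxle
    have hne : Nat.card Fx ≠ 4 := by
      intro h
      apply hτZ
      have := Subgroup.eq_of_le_of_card_ge hFxle (by rw [card_Zm, h])
      intro z hz
      have hz' : z ∈ Fx := this ▸ hz
      exact hz'.2
    have hle2 : Nat.card Fx ≤ 2 := by
      have := Nat.le_of_dvd (by norm_num) hcard
      interval_cases h : Nat.card Fx
      · omega
      · omega
      · omega
      · norm_num at hcard
      · exact absurd rfl hne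
    have hFx : ∀ z1 z2 : Model F, z1 ∈ Fx → z2 ∈ Fx → z1 ≠ 1 → z2 ≠ 1 → z1 = z2 := by
      intro z1 z2 hz1 hz2 h1 h2'
      by_contra hne12
      have : Fintype Fx := Fintype.ofFinite _
      have : 2 < Fintype.card Fx := by
        rw [Fintype.two_lt_card_iff]
        refine ⟨⟨1, Fx.one_mem⟩, ⟨z1, hz1⟩, ⟨z2, hz2⟩, ?_, ?_, ?_⟩
        · intro h; exact h1 (congrArg Subtype.val h).symm
        · intro h; exact h2' (congrArg Subtype.val h).symm
        · intro h; exact hne12 (congrArg Subtype.val h)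
      rw [← Nat.card_eq_fintype_card] at this
      omega
    -- the fixed points of the induced map
    let D : F →+ F := AbHom τ + AddMonoidHom.id F
    have hDapp : ∀ a, D a = Ab τ a + a := fun a => rfl
    have hAA : ∀ a, Ab τ (Ab τ a) = a := by
      intro a
      rw [← Ab_mul, ← pow_two, hτ, Ab_one]
    have hDD : ∀ a, D (D a) = 0 := by
      intro a
      rw [hDapp, hDapp, Ab_add, hAA]
      linear_combination (a + Ab τ a) * h2
    have hker := four_le_card_ker D hDD
    have hfix : ∀ a, a ∈ D.ker → Ab τ a = a := by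
      intro a ha
      have : Ab τ a + a = 0 := ha
      linear_combination this - a * h2
    have hzfix : ∀ a, a ∈ D.ker → zsq a ∈ Fx := by
      intro a ha
      refine ⟨zsq_mem a, ?_⟩
      rw [aut_zsq, hfix a ha]
    obtain ⟨a, a', ha, ha', ha0, ha'0, hne'⟩ : ∃ a a' : F, a ∈ D.ker ∧ a' ∈ D.ker ∧ a ≠ 0 ∧
        a' ≠ 0 ∧ a ≠ a' := by
      have : Fintype D.ker := Fintype.ofFinite _
      have : 2 < Fintype.card D.ker := by
        rw [← Nat.card_eq_fintype_card]; omega
      rw [Fintype.two_lt_card_iff] at this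
      obtain ⟨x, y, z, hxy, hxz, hyz⟩ := this
      have hxy' : (x : F) ≠ y := fun h => hxy (Subtype.ext h)
      have hxz' : (x : F) ≠ z := fun h => hxz (Subtype.ext h)
      have hyz' : (y : F) ≠ z := fun h => hyz (Subtype.ext h)
      by_cases hx0 : (x : F) = 0
      · refine ⟨y, z, y.2, z.2, ?_, ?_, hyz'⟩
        · intro h; exact hxy' (hx0.trans h.symm)
        · intro h; exact hxz' (hx0.trans h.symm)
      · by_cases hy0 : (y : F) = 0
        · refine ⟨x, z, x.2, z.2, hx0, ?_, hxz'⟩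
          intro h; exact hyz' (hy0.trans h.symm)
        · exact ⟨x, y, x.2, y.2, hx0, hy0, hxy'⟩
    have hsum : a + a' ∈ D.ker := D.ker.add_mem ha ha'
    have hsum0 : a + a' ≠ 0 := by
      intro h0
      apply hne'
      linear_combination h0 - a' * h2
    have e1 : zsq a = zsq a' := hFx _ _ (hzfix a ha) (hzfix a' ha')
      (fun h => ha0 (zsq_eq_one_iff.mp h)) (fun h => ha'0 (zsq_eq_one_iff.mp h))
    have e2 : zsq (a + a') = zsq a := hFx _ _ (hzfix _ hsum) (hzfix a ha)
      (fun h => hsum0 (zsq_eq_one_iff.mp h)) (fun h => ha0 (zsq_eq_one_iff.mp h))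
    exact key_lemma ha0 (zsq_eq_iff.mp e1) (zsq_eq_iff.mp e2)

theorem no_S3 (H : Subgroup (MulAut (Model F))) : ¬ Nonempty (↥H ≃* Equiv.Perm (Fin 3)) := by
  rintro ⟨e⟩
  let c : Equiv.Perm (Fin 3) := finRotate 3
  let s : Equiv.Perm (Fin 3) := Equiv.swap 0 1
  have hc3 : c ^ 3 = 1 := by decide
  have hc1 : c ≠ 1 := by decide
  have hs2 : s ^ 2 = 1 := by decide
  have hsc : s * c * s⁻¹ = c⁻¹ := by decide
  refine no_rho_tau ((e.symm c : H) : MulAut (Model F)) ((e.symm s : H) : MulAut (Model F))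
    ?_ ?_ ?_ ?_
  · rw [← Subgroup.coe_pow, ← map_pow, hc3, map_one, Subgroup.coe_one]
  · intro h
    apply hc1
    have : e.symm c = 1 := Subtype.ext h
    exact (MulEquiv.map_eq_one_iff e.symm).mp this
  · rw [← Subgroup.coe_pow, ← map_pow, hs2, map_one, Subgroup.coe_one]
  · rw [← Subgroup.coe_inv, ← Subgroup.coe_mul, ← Subgroup.coe_mul, ← Subgroup.coe_inv,
      ← map_inv, ← map_mul, ← map_mul, hsc, map_inv]

end Model

theorem no_S3_of_equiv {T : Type*} [Group T] (e : T ≃* Model F) (H : Subgroup (MulAut T)) :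
    ¬ Nonempty (↥H ≃* Equiv.Perm (Fin 3)) := by
  rintro ⟨f⟩
  let E : MulAut T ≃* MulAut (Model F) := MulAut.congr e
  let e' : H ≃* H.map E.toMonoidHom := H.equivMapOfInjective E.toMonoidHom E.injective
  exact Model.no_S3 (H.map E.toMonoidHom) ⟨e'.symm.trans f⟩

theorem sylow_equiv_model (S : Sylow 2 (Cfsg.PSU 3 F 4)) :
    Nonempty (↥(S : Subgroup (Cfsg.PSU 3 F 4)) ≃* Model F) := by
  classical
  have : Finite (Cfsg.PSU 3 F 4) := Nat.finite_of_card_ne_zero (by rw [card_PSU]; norm_num)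
  let Q : Subgroup (Cfsg.PSU 3 F 4) := (toPSU (F := F)).range
  let e1 : Model F ≃* Q := MonoidHom.ofInjective toPSU_injective
  have hcardQ : Nat.card Q = 64 := by
    rw [← Nat.card_congr e1.toEquiv, Model.card_model]
  have hQ : IsPGroup 2 Q := IsPGroup.of_card (n := 6) (by rw [hcardQ]; norm_num)
  have hidx : ¬ 2 ∣ Q.index := by
    have h1 := Q.card_mul_index
    rw [hcardQ, card_PSU] at h1
    have : Q.index = 975 := by omega
    rw [this]; norm_num
  let P : Sylow 2 (Cfsg.PSU 3 F 4) := hQ.toSylow hidx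
  let e2 : ↥(S : Subgroup (Cfsg.PSU 3 F 4)) ≃* ↥(P : Subgroup (Cfsg.PSU 3 F 4)) := Sylow.equiv S P
  let e3 : ↥(P : Subgroup (Cfsg.PSU 3 F 4)) ≃* Model F := e1.symm
  exact ⟨e2.trans e3⟩

end Cfsg.Agent.Lib.Helper72.U34
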